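import Mathlib
import Cfsg.Agent.H17.AutPSL2

set_option autoImplicit false

/-! Automorphisms of `PSL n F`, `n ≥ 3`: maximal transvection subgroups (points and hyperplanes). -/

open scoped MatrixGroups Matrix

namespace Cfsg.Agent.H17

open Cfsg.Agent.H12 Matrix

section sub

variable {F : Type*} [Field F] {n : ℕ}

/-- transvections with centre `v`. -/
def XP (v : Fin n → F) : Subgroup (Matrix.ProjectiveSpecialLinearGroup (Fin n) F) where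
  carrier := {x | ∃ f : Fin n → F, f ⬝ᵥ v = 0 ∧ x = mkP (tS v f)}
  one_mem' := ⟨0, by simp, by rw [tS_zero, map_one]⟩
  mul_mem' := by
    rintro _ _ ⟨f, hf, rfl⟩ ⟨g, hg, rfl⟩
    exact ⟨f + g, by rw [add_dotProduct, hf, hg, add_zero], by rw [← map_mul, tS_mul hf hg]⟩
  inv_mem' := by
    rintro _ ⟨f, hf, rfl⟩
    exact ⟨-f, by rw [neg_dotProduct, hf, neg_zero], by rw [← map_inv, tS_inv hf]⟩

/-- transvections with axis `f`. -/
def XH (f : Fin n → F) : Subgroup (Matrix.ProjectiveSpecialLinearGroup (Fin n) F) where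
  carrier := {x | ∃ v : Fin n → F, f ⬝ᵥ v = 0 ∧ x = mkP (tS v f)}
  one_mem' := ⟨0, by simp, by rw [tS_zero_left, map_one]⟩
  mul_mem' := by
    rintro _ _ ⟨v, hv, rfl⟩ ⟨w, hw, rfl⟩
    exact ⟨v + w, by rw [dotProduct_add, hv, hw, add_zero], by rw [← map_mul, tS_mul' hv hw]⟩
  inv_mem' := by
    rintro _ ⟨v, hv, rfl⟩
    refine ⟨-v, by rw [dotProduct_neg, hv, neg_zero], ?_⟩
    have h1 : tS (-v) f = tS v (-f) := by
      have := tS_smul hv (-1)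
      simpa using this
    rw [← map_inv, tS_inv hv, h1]

theorem mem_XP {v : Fin n → F} {x : Matrix.ProjectiveSpecialLinearGroup (Fin n) F} :
    x ∈ XP v ↔ ∃ f : Fin n → F, f ⬝ᵥ v = 0 ∧ x = mkP (tS v f) := Iff.rfl

theorem mem_XH {f : Fin n → F} {x : Matrix.ProjectiveSpecialLinearGroup (Fin n) F} :
    x ∈ XH f ↔ ∃ v : Fin n → F, f ⬝ᵥ v = 0 ∧ x = mkP (tS v f) := Iff.rfl

/-- all nonidentity elements are transvections. -/
def TrSub (A : Subgroup (Matrix.ProjectiveSpecialLinearGroup (Fin n) F)) : Prop := ∀ x ∈ A, x ≠ 1 → IsTr x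

theorem trSub_XP (v : Fin n → F) : TrSub (XP v) := by
  rintro _ ⟨f, hf, rfl⟩ h1
  refine ⟨v, f, ?_, ?_, hf, rfl⟩
  · rintro rfl
    exact h1 (by rw [tS_zero_left, map_one])
  · rintro rfl
    exact h1 (by rw [tS_zero, map_one])

theorem trSub_XH (f : Fin n → F) : TrSub (XH f) := by
  rintro _ ⟨v, hv, rfl⟩ h1
  refine ⟨v, f, ?_, ?_, hv, rfl⟩
  · rintro rfl
    exact h1 (by rw [tS_zero_left, map_one])
  · rintro rfl
    exact h1 (by rw [tS_zero, map_one])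

theorem mem_XP_of_smul {v w g : Fin n → F} (hg : g ⬝ᵥ w = 0) {c : F} (hw : w = c • v) :
    mkP (tS w g) ∈ XP v := by
  by_cases hc : c = 0
  · rw [hw, hc, zero_smul, tS_zero_left, map_one]
    exact one_mem _
  · have hgv : g ⬝ᵥ v = 0 := by
      rw [hw, dotProduct_smul, smul_eq_mul] at hg
      exact (mul_eq_zero.mp hg).resolve_left hc
    exact ⟨c • g, by rw [smul_dotProduct, hgv, smul_zero], by rw [hw, tS_smul hgv]⟩

theorem mem_XH_of_smul {v w g : Fin n → F} (hg : g ⬝ᵥ w = 0) {c : F} (hw : g = c • v) :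
    mkP (tS w g) ∈ XH v := by
  by_cases hc : c = 0
  · rw [hw, hc, zero_smul, tS_zero, map_one]
    exact one_mem _
  · have hgv : v ⬝ᵥ w = 0 := by
      rw [hw, smul_dotProduct, smul_eq_mul] at hg
      exact (mul_eq_zero.mp hg).resolve_left hc
    exact ⟨c • w, by rw [dotProduct_smul, hgv, smul_zero], by rw [hw, tS_smul hgv]⟩

theorem pair_lemma (hn : 3 ≤ n) {v f w g : Fin n → F} (hv : v ≠ 0) (hf : f ≠ 0) (hfv : f ⬝ᵥ v = 0)
    (hw : w ≠ 0) (hg : g ≠ 0) (hgw : g ⬝ᵥ w = 0)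
    (h : mkP (tS v f) * mkP (tS w g) = 1 ∨ IsTr (mkP (tS v f) * mkP (tS w g))) :
    (∃ c : F, w = c • v) ∨ (∃ c : F, g = c • f) := by
  by_contra hcon
  push Not at hcon
  obtain ⟨hwv, hgf⟩ := hcon
  obtain ⟨u, k, hku, huk⟩ : ∃ u k : Fin n → F, k ⬝ᵥ u = 0 ∧ mkP (tS v f * tS w g) = mkP (tS u k) := by
    rcases h with h | ⟨u, k, _, _, hku, h⟩
    · exact ⟨0, 0, by simp, by rw [map_mul, h, tS_zero, map_one]⟩
    · exact ⟨u, k, hku, by rw [map_mul, h]⟩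
  have hz : (tS u k)⁻¹ * (tS v f * tS w g) ∈ Subgroup.center (Matrix.SpecialLinearGroup (Fin n) F) := by
    rw [← mkP_eq_one_iff, map_mul mkP, huk, map_inv, inv_mul_cancel]
  obtain ⟨c, hc⟩ := mem_center_sl.mp hz
  have hx : ∀ x, x + (g ⬝ᵥ x) • w + (f ⬝ᵥ x + (g ⬝ᵥ x) * (f ⬝ᵥ w)) • v = c • (x + (k ⬝ᵥ x) • u) := by
    intro x
    have h1 := hc x
    have h2 : ((tS u k : Matrix.SpecialLinearGroup (Fin n) F) : Matrix (Fin n) (Fin n) F) *ᵥ
        ((((tS u k)⁻¹ * (tS v f * tS w g) : Matrix.SpecialLinearGroup (Fin n) F) : Matrix (Fin n) (Fin n) F) *ᵥ x) =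
        ((tS u k : Matrix.SpecialLinearGroup (Fin n) F) : Matrix (Fin n) (Fin n) F) *ᵥ (c • x) := by rw [h1]
    rw [← sl_mul_mulVec, mul_inv_cancel_left, sl_mul_mulVec, tS_mulVec hgw, tS_mulVec hfv, mulVec_smul,
      tS_mulVec hku, dotProduct_add, dotProduct_smul, smul_eq_mul] at h2
    exact h2
  obtain ⟨y, hy0, hfy, hgy⟩ := exists_ne_zero_dot_dot hn f g
  have hc1 : c = 1 := by
    by_contra hc1
    have h1 := hx y
    rw [hfy, hgy, zero_smul, add_zero, zero_mul, add_zero, zero_smul, add_zero] at h1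
    have h2 : k ⬝ᵥ y = c * (k ⬝ᵥ y) := by
      have := congrArg (fun z => k ⬝ᵥ z) h1
      simpa [dotProduct_smul, dotProduct_add, hku] using this
    have h3 : (1 - c) * (k ⬝ᵥ y) = 0 := by linear_combination h2
    have h4 : k ⬝ᵥ y = 0 := (mul_eq_zero.mp h3).resolve_left (sub_ne_zero.mpr (Ne.symm hc1))
    rw [h4, zero_smul, add_zero] at h1
    have h5 : (1 - c) • y = 0 := by rw [sub_smul, one_smul, ← h1, sub_self]
    exact hy0 ((smul_eq_zero.mp h5).resolve_left (sub_ne_zero.mpr (Ne.symm hc1)))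
  rw [hc1] at hx
  have hx' : ∀ x, (g ⬝ᵥ x) • w + (f ⬝ᵥ x + (g ⬝ᵥ x) * (f ⬝ᵥ w)) • v = (k ⬝ᵥ x) • u := by
    intro x
    have := hx x
    rw [one_smul, add_assoc] at this
    exact add_left_cancel this
  obtain ⟨x1, hx1g, hx1f⟩ : ∃ x, g ⬝ᵥ x = 0 ∧ f ⬝ᵥ x ≠ 0 := by
    by_contra hcon
    push Not at hcon
    obtain ⟨c, hc⟩ := exists_smul_of_perp' hg hcon
    have hc0 : c ≠ 0 := by
      rintro rfl
      rw [zero_smul] at hc
      exact hf hc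
    exact hgf c⁻¹ (by rw [hc, smul_smul, inv_mul_cancel₀ hc0, one_smul])
  obtain ⟨x2, hx2f, hx2g⟩ : ∃ x, f ⬝ᵥ x = 0 ∧ g ⬝ᵥ x ≠ 0 := by
    by_contra hcon
    push Not at hcon
    obtain ⟨c, hc⟩ := exists_smul_of_perp' hf hcon
    exact hgf c hc
  have e1 := hx' x1
  have e2 := hx' x2
  rw [hx1g, zero_smul, zero_add, zero_mul, add_zero] at e1
  rw [hx2f, zero_add] at e2
  have hk1 : k ⬝ᵥ x1 ≠ 0 := by
    intro h0
    rw [h0, zero_smul] at e1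
    exact hv ((smul_eq_zero.mp e1).resolve_left hx1f)
  apply hwv ((g ⬝ᵥ x2)⁻¹ * ((k ⬝ᵥ x2) * ((k ⬝ᵥ x1)⁻¹ * (f ⬝ᵥ x1)) - (g ⬝ᵥ x2) * (f ⬝ᵥ w)))
  have hu : u = ((k ⬝ᵥ x1)⁻¹ * (f ⬝ᵥ x1)) • v := by
    rw [mul_smul, e1, smul_smul, inv_mul_cancel₀ hk1, one_smul]
  rw [hu] at e2
  have e3 : (g ⬝ᵥ x2) • w = ((k ⬝ᵥ x2) * ((k ⬝ᵥ x1)⁻¹ * (f ⬝ᵥ x1)) - (g ⬝ᵥ x2) * (f ⬝ᵥ w)) • v := by
    rw [sub_smul, mul_smul (k ⬝ᵥ x2), ← e2]
    abel
  rw [mul_smul, ← e3, smul_smul, inv_mul_cancel₀ hx2g, one_smul]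

theorem trSub_le (hn : 3 ≤ n) (A : Subgroup (Matrix.ProjectiveSpecialLinearGroup (Fin n) F)) (hA : TrSub A) :
    (∃ v : Fin n → F, v ≠ 0 ∧ A ≤ XP v) ∨ (∃ f : Fin n → F, f ≠ 0 ∧ A ≤ XH f) := by
  by_cases hA1 : ∀ x ∈ A, x = 1
  · left
    refine ⟨Pi.single ⟨0, by omega⟩ 1, ?_, ?_⟩
    · intro h
      have := congrFun h ⟨0, by omega⟩
      simp at this
    · intro x hx
      rw [hA1 x hx]
      exact one_mem _
  · push Not at hA1
    obtain ⟨x1, hx1, hx11⟩ := hA1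
    obtain ⟨v1, f1, hv1, hf1, hfv1, rfl⟩ := hA x1 hx1 hx11
    by_cases hall : A ≤ XP v1
    · exact Or.inl ⟨v1, hv1, hall⟩
    · right
      refine ⟨f1, hf1, ?_⟩
      rw [SetLike.not_le_iff_exists] at hall
      obtain ⟨x2, hx2, hx2n⟩ := hall
      have hx21 : x2 ≠ 1 := by
        rintro rfl
        exact hx2n (one_mem _)
      obtain ⟨v2, f2, hv2, hf2, hfv2, rfl⟩ := hA x2 hx2 hx21
      have hpair : ∀ (v f w g : Fin n → F), v ≠ 0 → f ≠ 0 → f ⬝ᵥ v = 0 → w ≠ 0 → g ≠ 0 → g ⬝ᵥ w = 0 →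
          mkP (tS v f) ∈ A → mkP (tS w g) ∈ A → (∃ c : F, w = c • v) ∨ (∃ c : F, g = c • f) := by
        intro v f w g hv hf hfv hw hg hgw h1 h2
        apply pair_lemma hn hv hf hfv hw hg hgw
        by_cases h3 : mkP (tS v f) * mkP (tS w g) = 1
        · exact Or.inl h3
        · exact Or.inr (hA _ (mul_mem h1 h2) h3)
      have hv12 : ¬ ∃ c : F, v2 = c • v1 := fun ⟨c, hc⟩ => hx2n (mem_XP_of_smul hfv2 hc)
      obtain ⟨c, hc⟩ := (hpair v1 f1 v2 f2 hv1 hf1 hfv1 hv2 hf2 hfv2 hx1 hx2).resolve_left hv12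
      intro y hy
      by_cases hy1 : y = 1
      · rw [hy1]; exact one_mem _
      obtain ⟨v3, f3, hv3, hf3, hfv3, rfl⟩ := hA y hy hy1
      rcases hpair v1 f1 v3 f3 hv1 hf1 hfv1 hv3 hf3 hfv3 hx1 hy with ⟨d, hd⟩ | ⟨d, hd⟩
      · rcases hpair v2 f2 v3 f3 hv2 hf2 hfv2 hv3 hf3 hfv3 hx2 hy with ⟨d', hd'⟩ | ⟨d', hd'⟩
        · exfalso
          apply hv12
          have hd0 : d' ≠ 0 := by
            rintro rfl
            rw [zero_smul] at hd'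
            exact hv3 hd'
          refine ⟨d'⁻¹ * d, ?_⟩
          rw [mul_smul, ← hd, hd', smul_smul, inv_mul_cancel₀ hd0, one_smul]
        · exact mem_XH_of_smul hfv3 (c := d' * c) (by rw [hd', hc, smul_smul])
      · exact mem_XH_of_smul hfv3 hd

end sub

section max

variable {F : Type*} [Field F] [Finite F] {n : ℕ}

theorem smul_of_XP_mem {v w f : Fin n → F} (hv : v ≠ 0) (hf : f ≠ 0) (hfv : f ⬝ᵥ v = 0)
    (h : mkP (tS v f) ∈ XP w) : ∃ c : F, c ≠ 0 ∧ w = c • v := by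
  obtain ⟨g, hg, he⟩ := h
  obtain ⟨c, hc, h1, _⟩ := mkP_tS_eq hv hf hfv hg he
  exact ⟨c, hc, h1⟩

theorem smul_of_XH_mem {v g f : Fin n → F} (hv : v ≠ 0) (hf : f ≠ 0) (hfv : f ⬝ᵥ v = 0)
    (h : mkP (tS v f) ∈ XH g) : ∃ c : F, c ≠ 0 ∧ f = c • g := by
  obtain ⟨w, hg, he⟩ := h
  obtain ⟨c, hc, _, h1⟩ := mkP_tS_eq hv hf hfv hg he
  exact ⟨c, hc, h1⟩

theorem XP_smul {v : Fin n → F} {c : F} (hc : c ≠ 0) : XP (c • v) = XP v := by
  apply le_antisymm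
  · rintro _ ⟨f, hf, rfl⟩
    exact mem_XP_of_smul hf rfl
  · rintro _ ⟨f, hf, rfl⟩
    exact mem_XP_of_smul (v := c • v) hf (c := c⁻¹) (by rw [smul_smul, inv_mul_cancel₀ hc, one_smul])

theorem XH_smul {f : Fin n → F} {c : F} (hc : c ≠ 0) : XH (c • f) = XH f := by
  apply le_antisymm
  · rintro _ ⟨v, hv, rfl⟩
    exact mem_XH_of_smul hv rfl
  · rintro _ ⟨v, hv, rfl⟩
    exact mem_XH_of_smul (v := c • f) hv (c := c⁻¹) (by rw [smul_smul, inv_mul_cancel₀ hc, one_smul])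

theorem not_XP_le_XH (hn : 3 ≤ n) {v g : Fin n → F} (hv : v ≠ 0) (hg : g ≠ 0) : ¬ XP v ≤ XH g := by
  intro h
  obtain ⟨y, hy⟩ := exists_dot_eq_one' hg
  obtain ⟨f, hf0, hfv, hfy⟩ := exists_ne_zero_dot_dot hn v y
  rw [dotProduct_comm] at hfv hfy
  obtain ⟨c, hc, h1⟩ := smul_of_XH_mem hv hf0 hfv (h ⟨f, hfv, rfl⟩)
  rw [h1, smul_dotProduct, hy, smul_eq_mul, mul_one] at hfy
  exact hc hfy

theorem not_XH_le_XP (hn : 3 ≤ n) {f w : Fin n → F} (hf : f ≠ 0) (hw : w ≠ 0) : ¬ XH f ≤ XP w := by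
  intro h
  obtain ⟨y, hy⟩ := exists_dot_eq_one hw
  obtain ⟨v, hv0, hfv, hyv⟩ := exists_ne_zero_dot_dot hn f y
  obtain ⟨c, hc, h1⟩ := smul_of_XP_mem hv0 hf hfv (h ⟨v, hfv, rfl⟩)
  rw [h1, dotProduct_smul, hyv, smul_zero] at hy
  exact zero_ne_one hy

theorem exists_mem_XP (hn : 2 ≤ n) (v : Fin n → F) : ∃ f : Fin n → F, f ≠ 0 ∧ f ⬝ᵥ v = 0 := by
  obtain ⟨f, hf, h⟩ := exists_ne_zero_dot hn v
  exact ⟨f, hf, by rw [dotProduct_comm]; exact h⟩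

theorem XP_maximal (hn : 3 ≤ n) {v : Fin n → F} (hv : v ≠ 0)
    {A : Subgroup (Matrix.ProjectiveSpecialLinearGroup (Fin n) F)} (hA : TrSub A) (h : XP v ≤ A) : A = XP v := by
  obtain ⟨f, hf, hfv⟩ := exists_mem_XP (by omega) v
  rcases trSub_le hn A hA with ⟨w, hw, hAw⟩ | ⟨g, hg, hAg⟩
  · obtain ⟨c, hc, h1⟩ := smul_of_XP_mem hv hf hfv (hAw (h ⟨f, hfv, rfl⟩))
    rw [h1, XP_smul hc] at hAw
    exact le_antisymm hAw h
  · exact absurd (h.trans hAg) (not_XP_le_XH hn hv hg)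

theorem XH_maximal (hn : 3 ≤ n) {f : Fin n → F} (hf : f ≠ 0)
    {A : Subgroup (Matrix.ProjectiveSpecialLinearGroup (Fin n) F)} (hA : TrSub A) (h : XH f ≤ A) : A = XH f := by
  obtain ⟨v, hv, hfv⟩ := exists_ne_zero_dot (F := F) (by omega : 2 ≤ n) f
  rcases trSub_le hn A hA with ⟨w, hw, hAw⟩ | ⟨g, hg, hAg⟩
  · exact absurd (h.trans hAw) (not_XH_le_XP hn hf hw)
  · obtain ⟨c, hc, h1⟩ := smul_of_XH_mem hv hf hfv (hAg (h ⟨v, hfv, rfl⟩))
    rw [h1, XH_smul hc]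
    rw [h1, XH_smul hc] at h
    exact le_antisymm hAg h

/-- image of a subgroup under an automorphism -/
abbrev im (α : MulAut (Matrix.ProjectiveSpecialLinearGroup (Fin n) F))
    (A : Subgroup (Matrix.ProjectiveSpecialLinearGroup (Fin n) F)) :
    Subgroup (Matrix.ProjectiveSpecialLinearGroup (Fin n) F) := A.map (α : Matrix.ProjectiveSpecialLinearGroup (Fin n) F ≃* _).toMonoidHom

theorem mem_im {α : MulAut (Matrix.ProjectiveSpecialLinearGroup (Fin n) F)}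
    {A : Subgroup (Matrix.ProjectiveSpecialLinearGroup (Fin n) F)} {x : Matrix.ProjectiveSpecialLinearGroup (Fin n) F} :
    x ∈ im α A ↔ ∃ a ∈ A, α a = x := Iff.rfl

theorem im_im (α β : MulAut (Matrix.ProjectiveSpecialLinearGroup (Fin n) F))
    (A : Subgroup (Matrix.ProjectiveSpecialLinearGroup (Fin n) F)) : im α (im β A) = im (α * β) A := by
  ext x
  rw [mem_im, mem_im]
  constructor
  · rintro ⟨_, ⟨a, ha, rfl⟩, rfl⟩
    exact ⟨a, ha, rfl⟩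
  · rintro ⟨a, ha, rfl⟩
    exact ⟨_, ⟨a, ha, rfl⟩, rfl⟩

theorem im_one (A : Subgroup (Matrix.ProjectiveSpecialLinearGroup (Fin n) F)) : im 1 A = A := by
  ext x
  rw [mem_im]
  constructor
  · rintro ⟨a, ha, rfl⟩
    exact ha
  · intro h
    exact ⟨x, h, rfl⟩

theorem im_inv_im (α : MulAut (Matrix.ProjectiveSpecialLinearGroup (Fin n) F))
    (A : Subgroup (Matrix.ProjectiveSpecialLinearGroup (Fin n) F)) : im α⁻¹ (im α A) = A := by
  rw [im_im, inv_mul_cancel, im_one]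

theorem im_im_inv (α : MulAut (Matrix.ProjectiveSpecialLinearGroup (Fin n) F))
    (A : Subgroup (Matrix.ProjectiveSpecialLinearGroup (Fin n) F)) : im α (im α⁻¹ A) = A := by
  rw [im_im, mul_inv_cancel, im_one]

theorem im_mono (α : MulAut (Matrix.ProjectiveSpecialLinearGroup (Fin n) F))
    {A B : Subgroup (Matrix.ProjectiveSpecialLinearGroup (Fin n) F)} (h : A ≤ B) : im α A ≤ im α B :=
  Subgroup.map_mono h

theorem im_inf (α : MulAut (Matrix.ProjectiveSpecialLinearGroup (Fin n) F))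
    (A B : Subgroup (Matrix.ProjectiveSpecialLinearGroup (Fin n) F)) : im α (A ⊓ B) = im α A ⊓ im α B :=
  Subgroup.map_inf _ _ _ (MulEquiv.injective _)

theorem im_eq_bot (α : MulAut (Matrix.ProjectiveSpecialLinearGroup (Fin n) F))
    (A : Subgroup (Matrix.ProjectiveSpecialLinearGroup (Fin n) F)) : im α A = ⊥ ↔ A = ⊥ :=
  Subgroup.map_eq_bot_iff_of_injective _ (MulEquiv.injective _)

theorem trSub_im (hn : 2 ≤ n) (α : MulAut (Matrix.ProjectiveSpecialLinearGroup (Fin n) F))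
    {A : Subgroup (Matrix.ProjectiveSpecialLinearGroup (Fin n) F)} (hA : TrSub A) : TrSub (im α A) := by
  rintro _ ⟨a, ha, rfl⟩ h1
  change IsTr (α a)
  rw [isTr_aut hn α]
  apply hA a ha
  rintro rfl
  exact h1 (map_one _)

theorem exists_mem_ne_one {G : Type*} [Group G] {A : Subgroup G} (h : A ≠ ⊥) : ∃ x ∈ A, x ≠ 1 := by
  by_contra hcon
  push Not at hcon
  exact h ((Subgroup.eq_bot_iff_forall _).mpr hcon)

def IsPt (A : Subgroup (Matrix.ProjectiveSpecialLinearGroup (Fin n) F)) : Prop := ∃ v : Fin n → F, v ≠ 0 ∧ A = XP v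

def IsHy (A : Subgroup (Matrix.ProjectiveSpecialLinearGroup (Fin n) F)) : Prop := ∃ f : Fin n → F, f ≠ 0 ∧ A = XH f

theorem im_isMax (hn : 3 ≤ n) (α : MulAut (Matrix.ProjectiveSpecialLinearGroup (Fin n) F))
    {A : Subgroup (Matrix.ProjectiveSpecialLinearGroup (Fin n) F)} (hA : IsPt A ∨ IsHy A) :
    IsPt (im α A) ∨ IsHy (im α A) := by
  have hAtr : TrSub A := by
    rcases hA with ⟨v, hv, rfl⟩ | ⟨f, hf, rfl⟩
    · exact trSub_XP v
    · exact trSub_XH f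
  have hAmax : ∀ B, TrSub B → A ≤ B → B = A := by
    intro B hB hAB
    rcases hA with ⟨v, hv, rfl⟩ | ⟨f, hf, rfl⟩
    · exact XP_maximal hn hv hB hAB
    · exact XH_maximal hn hf hB hAB
  have key : ∀ Y, TrSub Y → im α A ≤ Y → im α A = Y := by
    intro Y hY h
    have h1 : A ≤ im α⁻¹ Y := by
      have := im_mono α⁻¹ h
      rwa [im_inv_im] at this
    have h2 := hAmax _ (trSub_im (by omega) α⁻¹ hY) h1
    rw [← h2, im_im_inv]
  rcases trSub_le hn (im α A) (trSub_im (by omega) α hAtr) with ⟨w, hw, h⟩ | ⟨g, hg, h⟩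
  · exact Or.inl ⟨w, hw, key _ (trSub_XP w) h⟩
  · exact Or.inr ⟨g, hg, key _ (trSub_XH g) h⟩

theorem not_isPt_isHy (hn : 3 ≤ n) {A : Subgroup (Matrix.ProjectiveSpecialLinearGroup (Fin n) F)} (h1 : IsPt A)
    (h2 : IsHy A) : False := by
  obtain ⟨v, hv, rfl⟩ := h1
  obtain ⟨f, hf, h⟩ := h2
  exact not_XP_le_XH hn hv hf h.le

theorem isPt_eq {A B : Subgroup (Matrix.ProjectiveSpecialLinearGroup (Fin n) F)} (h1 : IsPt A) (h2 : IsPt B)
    (h : A ⊓ B ≠ ⊥) : A = B := by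
  obtain ⟨v, hv, rfl⟩ := h1
  obtain ⟨w, hw, rfl⟩ := h2
  obtain ⟨x, hx, hx1⟩ := exists_mem_ne_one h
  obtain ⟨v', f, hv', hf, hfv, rfl⟩ := trSub_XP v x hx.1 hx1
  obtain ⟨c, hc, e1⟩ := smul_of_XP_mem hv' hf hfv hx.1
  obtain ⟨d, hd, e2⟩ := smul_of_XP_mem hv' hf hfv hx.2
  rw [e1, e2, XP_smul hc, XP_smul hd]

theorem isHy_eq {A B : Subgroup (Matrix.ProjectiveSpecialLinearGroup (Fin n) F)} (h1 : IsHy A) (h2 : IsHy B)
    (h : A ⊓ B ≠ ⊥) : A = B := by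
  obtain ⟨f, hf, rfl⟩ := h1
  obtain ⟨g, hg, rfl⟩ := h2
  obtain ⟨x, hx, hx1⟩ := exists_mem_ne_one h
  obtain ⟨v', f', hv', hf', hfv, rfl⟩ := trSub_XH f x hx.1 hx1
  obtain ⟨c, hc, e1⟩ := smul_of_XH_mem hv' hf' hfv hx.1
  obtain ⟨d, hd, e2⟩ := smul_of_XH_mem hv' hf' hfv hx.2
  have h3 : XH f' = XH f := by rw [e1, XH_smul hc]
  have h4 : XH f' = XH g := by rw [e2, XH_smul hd]
  rw [← h3, h4]

theorem XP_inf_XH {v f : Fin n → F} (hv : v ≠ 0) (hf : f ≠ 0) : XP v ⊓ XH f ≠ ⊥ ↔ f ⬝ᵥ v = 0 := by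
  constructor
  · intro h
    obtain ⟨x, hx, hx1⟩ := exists_mem_ne_one h
    obtain ⟨v', f', hv', hf', hfv, rfl⟩ := trSub_XP v x hx.1 hx1
    obtain ⟨c, hc, e1⟩ := smul_of_XP_mem hv' hf' hfv hx.1
    obtain ⟨d, hd, e2⟩ := smul_of_XH_mem hv' hf' hfv hx.2
    rw [e1, dotProduct_smul, smul_eq_mul]
    rw [e2, smul_dotProduct, smul_eq_mul] at hfv
    rw [(mul_eq_zero.mp hfv).resolve_left hd, mul_zero]
  · intro h h0
    have h1 : mkP (tS v f) ∈ XP v ⊓ XH f := ⟨⟨f, h, rfl⟩, ⟨v, h, rfl⟩⟩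
    rw [h0, Subgroup.mem_bot, mkP_tS_eq_one_iff h] at h1
    rcases h1 with h1 | h1
    · exact hv h1
    · exact hf h1

/-- coherence of types -/
theorem type_coherent (hn : 3 ≤ n) (α : MulAut (Matrix.ProjectiveSpecialLinearGroup (Fin n) F)) {v₀ : Fin n → F}
    (hv₀ : v₀ ≠ 0) (h₀ : IsPt (im α (XP v₀))) :
    (∀ v : Fin n → F, v ≠ 0 → IsPt (im α (XP v))) ∧ (∀ f : Fin n → F, f ≠ 0 → IsHy (im α (XH f))) := by
  have hinf : ∀ {v f : Fin n → F}, v ≠ 0 → f ≠ 0 → f ⬝ᵥ v = 0 → im α (XP v) ⊓ im α (XH f) ≠ ⊥ := by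
    intro v f hv hf hfv
    rw [← im_inf, Ne, im_eq_bot]
    exact (XP_inf_XH hv hf).mpr hfv
  have hne : ∀ {v f : Fin n → F}, v ≠ 0 → f ≠ 0 → im α (XP v) ≠ im α (XH f) := by
    intro v f hv hf h
    have h1 : XP v = XH f := by rw [← im_inv_im α (XP v), h, im_inv_im]
    exact not_XP_le_XH hn hv hf h1.le
  have hP : ∀ v : Fin n → F, v ≠ 0 → IsPt (im α (XP v)) := by
    intro v hv
    rcases im_isMax hn α (Or.inl ⟨v, hv, rfl⟩) with h1 | h1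
    · exact h1
    · exfalso
      obtain ⟨f, hf, hf1, hf2⟩ := exists_ne_zero_dot_dot hn v₀ v
      rw [dotProduct_comm] at hf1 hf2
      rcases im_isMax hn α (Or.inr ⟨f, hf, rfl⟩) with h2 | h2
      · exact hne hv₀ hf (isPt_eq h₀ h2 (hinf hv₀ hf hf1))
      · exact hne hv hf (isHy_eq h1 h2 (hinf hv hf hf2))
  refine ⟨hP, fun f hf => ?_⟩
  obtain ⟨v, hv, hfv⟩ := exists_ne_zero_dot (F := F) (by omega : 2 ≤ n) f
  rcases im_isMax hn α (Or.inr ⟨f, hf, rfl⟩) with h2 | h2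
  · exact absurd (isPt_eq (hP v hv) h2 (hinf hv hf hfv)) (hne hv hf)
  · exact h2

end max

end Cfsg.Agent.H17
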