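import Mathlib
import Cfsg.Agent.H17.AutPSL3
import Cfsg.Agent.H16.SLGen

set_option autoImplicit false

/-! Automorphisms of `PSL n F`, `n ≥ 3`: coordinates. -/

open scoped MatrixGroups Matrix

namespace Cfsg.Agent.H17

open Cfsg.Agent.H12 Matrix

section xe

variable {F : Type*} [Field F] {n : ℕ}

/-- elementary transvection `1 + t E_{ij}`. -/
noncomputable def xE (i j : Fin n) (t : F) : Matrix.SpecialLinearGroup (Fin n) F :=
  tS (Pi.single i t) (Pi.single j 1)

theorem single_dot_single {i j : Fin n} (hij : i ≠ j) (t c : F) :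
    (Pi.single j c : Fin n → F) ⬝ᵥ (Pi.single i t : Fin n → F) = 0 := by
  rw [single_dotProduct, Pi.single_eq_of_ne hij.symm, mul_zero]

theorem xE_mulVec {i j : Fin n} (hij : i ≠ j) (t : F) (y : Fin n → F) :
    ((xE i j t : Matrix.SpecialLinearGroup (Fin n) F) : Matrix (Fin n) (Fin n) F) *ᵥ y = y + Pi.single i (t * y j) := by
  rw [xE, tS_mulVec (single_dot_single hij _ _), single_dotProduct, one_mul, ← Pi.single_smul, smul_eq_mul, mul_comm]

theorem xE_zero (i j : Fin n) : xE i j (0 : F) = 1 := by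
  rw [xE, Pi.single_zero, tS_zero_left]

theorem xE_add {i j : Fin n} (hij : i ≠ j) (s t : F) : xE i j (s + t) = xE i j s * xE i j t := by
  rw [xE, xE, xE, tS_mul' (single_dot_single hij _ _) (single_dot_single hij _ _), Pi.single_add]

theorem xE_neg {i j : Fin n} (hij : i ≠ j) (t : F) : xE i j (-t) = (xE i j t)⁻¹ := by
  rw [eq_inv_iff_mul_eq_one, ← xE_add hij, neg_add_cancel, xE_zero]

theorem xE_comm {i j k : Fin n} (hij : i ≠ j) (hjk : j ≠ k) (hik : i ≠ k) (s t : F) :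
    xE i j s * xE j k t = xE i k (s * t) * xE j k t * xE i j s := by
  apply sl_ext_mulVec
  intro y
  rw [sl_mul_mulVec, sl_mul_mulVec, sl_mul_mulVec, xE_mulVec hij, xE_mulVec hjk, xE_mulVec hij, xE_mulVec hjk,
    xE_mulVec hik]
  funext l
  simp only [Pi.add_apply, Pi.single_apply]
  split_ifs <;> simp_all
  all_goals ring

theorem xE_comm' {i j k l : Fin n} (hij : i ≠ j) (hkl : k ≠ l) (hjk : j ≠ k) (hli : l ≠ i) (s t : F) :
    Commute (xE i j s) (xE k l t) := by
  apply sl_ext_mulVec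
  intro y
  rw [sl_mul_mulVec, sl_mul_mulVec, xE_mulVec hij, xE_mulVec hkl, xE_mulVec hij, xE_mulVec hkl]
  funext m
  simp only [Pi.add_apply, Pi.single_apply]
  split_ifs <;> simp_all
  all_goals ring

theorem xE_eq_transvection {i j : Fin n} (hij : i ≠ j) (t : F) :
    xE i j t = Matrix.SpecialLinearGroup.transvection hij t := by
  apply Subtype.ext
  rw [xE, coe_tS (single_dot_single hij _ _), tvm_single]
  rfl

theorem eq_top_of_xE_mem (H : Subgroup (Matrix.SpecialLinearGroup (Fin n) F))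
    (h : ∀ (i j : Fin n), i ≠ j → ∀ t : F, xE i j t ∈ H) : H = ⊤ := by
  apply Cfsg.Agent.H16.eq_top_of_transvection_mem
  intro i j hij c
  rw [← xE_eq_transvection hij]
  exact h i j hij c

theorem fieldSL_xE {i j : Fin n} (hij : i ≠ j) (σ : F ≃+* F) (t : F) : fieldSL σ (xE i j t) = xE i j (σ t) := by
  rw [xE_eq_transvection hij, xE_eq_transvection hij]
  apply Subtype.ext
  rw [coe_fieldSL]
  ext a b
  change σ ((Matrix.transvection i j t) a b) = (Matrix.transvection i j (σ t)) a b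
  simp only [Matrix.transvection, Matrix.add_apply, Matrix.single_apply, Matrix.one_apply, map_add]
  split_ifs <;> simp

/-- diagonal element of `GL`. -/
noncomputable def dGL (d : Fin n → Fˣ) : GL (Fin n) F :=
  ⟨Matrix.diagonal fun i => (d i : F), Matrix.diagonal fun i => ((d i)⁻¹ : Fˣ),
    by rw [Matrix.diagonal_mul_diagonal]; simp, by rw [Matrix.diagonal_mul_diagonal]; simp⟩

theorem dGL_mulVec (d : Fin n → Fˣ) (y : Fin n → F) (i : Fin n) :
    ((dGL d : Matrix (Fin n) (Fin n) F) *ᵥ y) i = (d i : F) * y i := Matrix.mulVec_diagonal _ _ _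

theorem dGL_inv_mulVec (d : Fin n → Fˣ) (y : Fin n → F) (i : Fin n) :
    ((((dGL d)⁻¹ : GL (Fin n) F) : Matrix (Fin n) (Fin n) F) *ᵥ y) i = ((d i)⁻¹ : Fˣ) * y i :=
  Matrix.mulVec_diagonal _ _ _

theorem conjSL_dGL_xE {i j : Fin n} (hij : i ≠ j) (d : Fin n → Fˣ) (t : F) :
    conjSL (dGL d) (xE i j t) = xE i j (d i * t * ((d j)⁻¹ : Fˣ)) := by
  apply sl_ext_mulVec
  intro y
  rw [coe_conjSL, ← mulVec_mulVec, ← mulVec_mulVec, xE_mulVec hij, xE_mulVec hij, mulVec_add, gl_mulVec_inv_mulVec]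
  congr 1
  funext m
  rw [dGL_mulVec, dGL_inv_mulVec]
  by_cases h : m = i
  · subst h
    simp only [Pi.single_eq_same]
    ring
  · rw [Pi.single_eq_of_ne h, Pi.single_eq_of_ne h, mul_zero]

end xe

section coord

variable {F : Type*} [Field F] [Finite F] {n : ℕ}

theorem mkP_xE_injective {i j : Fin n} (hij : i ≠ j) {s t : F} (h : mkP (xE i j s) = mkP (xE i j t)) : s = t := by
  have h1 : mkP (xE i j (s - t)) = 1 := by
    rw [sub_eq_add_neg, xE_add hij, xE_neg hij, map_mul, map_inv, h, mul_inv_cancel]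
  rw [xE, mkP_tS_eq_one_iff (single_dot_single hij _ _)] at h1
  rcases h1 with h1 | h1
  · have := congrFun h1 i
    rw [Pi.single_eq_same, Pi.zero_apply] at this
    exact sub_eq_zero.mp this
  · have := congrFun h1 j
    rw [Pi.single_eq_same, Pi.zero_apply] at this
    exact absurd this one_ne_zero

/-- coordinates: an automorphism preserving all root subgroups `X_{ij}` -/
theorem coord_mul {α : MulAut (Matrix.ProjectiveSpecialLinearGroup (Fin n) F)} {σ : Fin n → Fin n → F → F}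
    (hσ : ∀ i j, i ≠ j → ∀ t, α (mkP (xE i j t)) = mkP (xE i j (σ i j t))) {i j k : Fin n} (hij : i ≠ j)
    (hjk : j ≠ k) (hik : i ≠ k) (s t : F) : σ i k (s * t) = σ i j s * σ j k t := by
  have h1 := congrArg (fun x => α (mkP x)) (xE_comm hij hjk hik s t)
  simp only [map_mul] at h1
  rw [hσ i j hij, hσ j k hjk, hσ i k hik] at h1
  have h2 := congrArg mkP (xE_comm hij hjk hik (σ i j s) (σ j k t))
  simp only [map_mul] at h2
  rw [h1] at h2
  exact mkP_xE_injective hik (mul_right_cancel (mul_right_cancel h2))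

theorem coord_add {α : MulAut (Matrix.ProjectiveSpecialLinearGroup (Fin n) F)} {σ : Fin n → Fin n → F → F}
    (hσ : ∀ i j, i ≠ j → ∀ t, α (mkP (xE i j t)) = mkP (xE i j (σ i j t))) {i j : Fin n} (hij : i ≠ j)
    (s t : F) : σ i j (s + t) = σ i j s + σ i j t := by
  apply mkP_xE_injective hij
  rw [← hσ i j hij, xE_add hij, xE_add hij, map_mul, map_mul, map_mul, hσ i j hij, hσ i j hij]

theorem coord_inj {α : MulAut (Matrix.ProjectiveSpecialLinearGroup (Fin n) F)} {σ : Fin n → Fin n → F → F}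
    (hσ : ∀ i j, i ≠ j → ∀ t, α (mkP (xE i j t)) = mkP (xE i j (σ i j t))) {i j : Fin n} (hij : i ≠ j)
    {s t : F} (h : σ i j s = σ i j t) : s = t := by
  apply mkP_xE_injective hij
  apply α.injective
  rw [hσ i j hij, hσ i j hij, h]

theorem im_conj_XP (g : GL (Fin n) F) (v : Fin n → F) :
    im (congrP (conjSL g)) (XP v) = XP ((g : Matrix (Fin n) (Fin n) F) *ᵥ v) := by
  ext x
  rw [mem_im]
  constructor
  · rintro ⟨_, ⟨f, hf, rfl⟩, rfl⟩
    rw [congrP_mkP, conjSL_tS g hf]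
    exact ⟨_, by rw [vecMul_inv_dot_self, hf], rfl⟩
  · rintro ⟨f, hf, rfl⟩
    refine ⟨mkP (tS v (f ᵥ* (g : Matrix (Fin n) (Fin n) F))), ⟨_, ?_, rfl⟩, ?_⟩
    · rw [← dotProduct_mulVec, hf]
    · rw [congrP_mkP, conjSL_tS g (by rw [← dotProduct_mulVec, hf]), vecMul_vecMul, ← Units.val_mul,
        mul_inv_cancel, Units.val_one, vecMul_one]

theorem im_conj_XH (g : GL (Fin n) F) (f : Fin n → F) :
    im (congrP (conjSL g)) (XH f) = XH (f ᵥ* ((g⁻¹ : GL (Fin n) F) : Matrix (Fin n) (Fin n) F)) := by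
  ext x
  rw [mem_im]
  constructor
  · rintro ⟨_, ⟨v, hf, rfl⟩, rfl⟩
    rw [congrP_mkP, conjSL_tS g hf]
    exact ⟨_, by rw [vecMul_inv_dot_self, hf], rfl⟩
  · rintro ⟨v, hf, rfl⟩
    rw [vecMul_inv_dot] at hf
    refine ⟨mkP (tS (((g⁻¹ : GL (Fin n) F) : Matrix (Fin n) (Fin n) F) *ᵥ v) f), ⟨_, hf, rfl⟩, ?_⟩
    rw [congrP_mkP, conjSL_tS g hf, gl_mulVec_inv_mulVec]

theorem single_ne_zero' (i : Fin n) : (Pi.single i (1 : F) : Fin n → F) ≠ 0 := by
  intro h
  have := congrFun h i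
  rw [Pi.single_eq_same, Pi.zero_apply] at this
  exact one_ne_zero this

theorem exists_coord_of_mem {i j : Fin n} (hij : i ≠ j) {x : Matrix.ProjectiveSpecialLinearGroup (Fin n) F}
    (h1 : x ∈ XP (Pi.single i (1 : F))) (h2 : x ∈ XH (Pi.single j (1 : F))) : ∃ t : F, x = mkP (xE i j t) := by
  by_cases hx : x = 1
  · exact ⟨0, by rw [hx, xE_zero, map_one]⟩
  obtain ⟨v, f, hv, hf, hfv, rfl⟩ := trSub_XP _ x h1 hx
  obtain ⟨c, hc, e1⟩ := smul_of_XP_mem hv hf hfv h1
  obtain ⟨d, hd, e2⟩ := smul_of_XH_mem hv hf hfv h2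
  refine ⟨c⁻¹ * d, ?_⟩
  have hv' : v = c⁻¹ • (Pi.single i (1 : F) : Fin n → F) := by rw [e1, smul_smul, inv_mul_cancel₀ hc, one_smul]
  rw [hv', e2, xE, ← tS_smul (by rw [dotProduct_smul, single_dot_single hij, smul_zero]), smul_smul, mul_comm d]
  congr 3
  rw [← Pi.single_smul, smul_eq_mul, mul_one]

/-- after an inner-diagonal automorphism, an automorphism of point type preserves all root subgroups. -/
theorem exists_gl_root (hn : 3 ≤ n) (α : MulAut (Matrix.ProjectiveSpecialLinearGroup (Fin n) F)) {v₀ : Fin n → F}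
    (hv₀ : v₀ ≠ 0) (h₀ : IsPt (im α (XP v₀))) :
    ∃ g : GL (Fin n) F, ∀ i j : Fin n, i ≠ j → ∀ t : F, ∃ t' : F,
      ((congrP (conjSL g))⁻¹ * α) (mkP (xE i j t)) = mkP (xE i j t') := by
  obtain ⟨hP, hH⟩ := type_coherent hn α hv₀ h₀
  choose! w hw0 hw using hP
  obtain ⟨W, hWdef⟩ : ∃ W : Matrix (Fin n) (Fin n) F, W = Matrix.of fun i j => w (Pi.single j 1) i := ⟨_, rfl⟩
  have hWe : ∀ j, W *ᵥ (Pi.single j 1) = w (Pi.single j 1) := by
    intro j
    rw [mulVec_single_one]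
    funext i
    rw [hWdef]
    rfl
  -- the inverse automorphism is also of point type
  have hPinv : IsPt (im α⁻¹ (XP (w v₀))) := by
    rw [← hw v₀ hv₀, im_inv_im]
    exact ⟨v₀, hv₀, rfl⟩
  obtain ⟨_, hHinv⟩ := type_coherent hn α⁻¹ (hw0 v₀ hv₀) hPinv
  have hdet : W.det ≠ 0 := by
    intro hdet
    obtain ⟨f, hf, hfW⟩ := Matrix.exists_vecMul_eq_zero_iff.mpr hdet
    obtain ⟨f', hf', hff'⟩ := hHinv f hf
    apply hf'
    funext i
    have h1 : f ⬝ᵥ w (Pi.single i 1) = 0 := by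
      rw [← hWe, dotProduct_mulVec, hfW, zero_dotProduct]
    have h2 : XP (w (Pi.single i 1)) ⊓ XH f ≠ ⊥ := (XP_inf_XH (hw0 _ (single_ne_zero' i)) hf).mpr h1
    have h3 : im α⁻¹ (XP (w (Pi.single i 1))) ⊓ im α⁻¹ (XH f) ≠ ⊥ := by
      rw [← im_inf, Ne, im_eq_bot]; exact h2
    rw [hff', ← hw _ (single_ne_zero' i), im_inv_im] at h3
    have h4 := (XP_inf_XH (single_ne_zero' i) hf').mp h3
    rwa [dotProduct_single, mul_one] at h4
  let g : GL (Fin n) F := Matrix.GeneralLinearGroup.mkOfDetNeZero W hdet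
  have hg : ∀ j, (g : Matrix (Fin n) (Fin n) F) *ᵥ (Pi.single j 1) = w (Pi.single j 1) := hWe
  obtain ⟨β, hβ⟩ : ∃ β, β = (congrP (conjSL g))⁻¹ * α := ⟨_, rfl⟩
  have hβP : ∀ i, im β (XP (Pi.single i (1 : F))) = XP (Pi.single i (1 : F)) := by
    intro i
    have h1 := im_conj_XP g (Pi.single i (1 : F))
    rw [hg] at h1
    rw [hβ, ← im_im, hw _ (single_ne_zero' i), ← h1, im_inv_im]
  have hβpt : IsPt (im β (XP (Pi.single (⟨0, by omega⟩ : Fin n) (1 : F)))) := by
    rw [hβP]; exact ⟨_, single_ne_zero' _, rfl⟩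
  obtain ⟨_, hHβ⟩ := type_coherent hn β (single_ne_zero' _) hβpt
  have hβH : ∀ j, im β (XH (Pi.single j (1 : F))) = XH (Pi.single j (1 : F)) := by
    intro j
    obtain ⟨f', hf', hff'⟩ := hHβ (Pi.single j 1) (single_ne_zero' j)
    have h1 : ∀ i, i ≠ j → f' i = 0 := by
      intro i hij
      have h2 : XP (Pi.single i (1 : F)) ⊓ XH (Pi.single j (1 : F)) ≠ ⊥ :=
        (XP_inf_XH (single_ne_zero' i) (single_ne_zero' j)).mpr (single_dot_single hij _ _)
      have h3 : im β (XP (Pi.single i (1 : F))) ⊓ im β (XH (Pi.single j (1 : F))) ≠ ⊥ := by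
        rw [← im_inf, Ne, im_eq_bot]; exact h2
      rw [hβP, hff'] at h3
      have h4 := (XP_inf_XH (single_ne_zero' i) hf').mp h3
      rwa [dotProduct_single, mul_one] at h4
    have h2 : f' = (f' j) • (Pi.single j (1 : F) : Fin n → F) := by
      funext i
      by_cases hij : i = j
      · subst hij; simp
      · rw [h1 i hij]; simp [hij]
    have h3 : f' j ≠ 0 := by
      intro h0
      rw [h0, zero_smul] at h2
      exact hf' h2
    rw [hff', h2, XH_smul h3]
  refine ⟨g, fun i j hij t => ?_⟩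
  rw [← hβ]
  apply exists_coord_of_mem hij
  · have : β (mkP (xE i j t)) ∈ im β (XP (Pi.single i (1 : F))) := by
      refine ⟨_, ?_, rfl⟩
      exact mem_XP_of_smul (single_dot_single hij _ _) (c := t) (by rw [← Pi.single_smul, smul_eq_mul, mul_one])
    rwa [hβP] at this
  · have : β (mkP (xE i j t)) ∈ im β (XH (Pi.single j (1 : F))) := ⟨_, ⟨_, single_dot_single hij _ _, rfl⟩, rfl⟩
    rwa [hβH] at this

/-- normalisation by a diagonal automorphism -/
theorem exists_diag_normal (hn : 3 ≤ n) (α : MulAut (Matrix.ProjectiveSpecialLinearGroup (Fin n) F))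
    (σ : Fin n → Fin n → F → F)
    (hσ : ∀ i j, i ≠ j → ∀ t, α (mkP (xE i j t)) = mkP (xE i j (σ i j t))) :
    ∃ (d : Fin n → Fˣ) (τ : Fin n → Fin n → F → F), (∀ i j, i ≠ j → τ i j 1 = 1) ∧
      (∀ i j, i ≠ j → ∀ t, (congrP (conjSL (dGL d)) * α) (mkP (xE i j t)) = mkP (xE i j (τ i j t))) := by
  have ha0 : ∀ i j, i ≠ j → σ i j 1 ≠ 0 := by
    intro i j hij h0
    have h1 : σ i j 0 = 0 := by
      have := coord_add hσ hij 0 0
      rw [add_zero] at this
      exact left_eq_add.mp this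
    exact one_ne_zero (coord_inj hσ hij (h0.trans h1.symm))
  let z : Fin n := ⟨0, by omega⟩
  classical
  let d : Fin n → Fˣ := fun j => if h : z = j then 1 else Units.mk0 (σ z j 1) (ha0 z j h)
  refine ⟨d, fun i j t => d i * σ i j t * ((d j)⁻¹ : Fˣ), ?_, ?_⟩
  · intro i j hij
    have hdz : d z = 1 := by simp [d]
    have hdj : ∀ j, z ≠ j → (d j : F) = σ z j 1 := by
      intro j hj
      simp [d, hj]
    have hmul : ∀ {i j k : Fin n}, i ≠ j → j ≠ k → i ≠ k → σ i k 1 = σ i j 1 * σ j k 1 := by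
      intro i j k hij hjk hik
      have := coord_mul hσ hij hjk hik 1 1
      rwa [one_mul] at this
    change (d i : F) * σ i j 1 * ((d j)⁻¹ : Fˣ) = 1
    rw [Units.mul_inv_eq_one]
    by_cases hi : z = i
    · subst hi
      rw [hdz, hdj j hij, Units.val_one, one_mul]
    · rw [hdj i hi]
      by_cases hj : z = j
      · subst hj
        rw [hdz, Units.val_one]
        obtain ⟨k, hk1, hk2⟩ : ∃ k : Fin n, z ≠ k ∧ i ≠ k := by
          have : ∃ k, k ∉ ({z, i} : Finset (Fin n)) := by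
            by_contra hcon
            push Not at hcon
            have h1 : (Finset.univ : Finset (Fin n)) ⊆ {z, i} := fun x _ => hcon x
            have h2 := Finset.card_le_card h1
            rw [Finset.card_univ, Fintype.card_fin] at h2
            have h3 : ({z, i} : Finset (Fin n)).card ≤ 2 := Finset.card_le_two
            omega
          obtain ⟨k, hk⟩ := this
          simp only [Finset.mem_insert, Finset.mem_singleton, not_or] at hk
          exact ⟨k, Ne.symm hk.1, Ne.symm hk.2⟩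
        have e1 := hmul hi hk2 hk1
        have e2 := hmul (Ne.symm hi) hk1 hk2
        rw [e2, ← mul_assoc] at e1
        have h5 := ha0 z k hk1
        exact (mul_eq_right₀ h5).mp e1.symm
      · rw [hdj j hj, ← hmul hi hij hj]
  · intro i j hij t
    rw [MulAut.mul_apply, hσ i j hij, congrP_mkP, conjSL_dGL_xE hij]

theorem coord_all_eq (hn : 3 ≤ n) {α : MulAut (Matrix.ProjectiveSpecialLinearGroup (Fin n) F)}
    {τ : Fin n → Fin n → F → F} (h1 : ∀ i j, i ≠ j → τ i j 1 = 1)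
    (hτ : ∀ i j, i ≠ j → ∀ t, α (mkP (xE i j t)) = mkP (xE i j (τ i j t))) :
    ∃ σ : F ≃+* F, α = congrP (fieldSL σ) := by
  let a : Fin n := ⟨0, by omega⟩
  let b : Fin n := ⟨1, by omega⟩
  let c : Fin n := ⟨2, by omega⟩
  have hab : a ≠ b := by simp [a, b, Fin.ext_iff]
  have hac : a ≠ c := by simp [a, c, Fin.ext_iff]
  have hbc : b ≠ c := by simp [b, c, Fin.ext_iff]
  have hrow : ∀ i j k, i ≠ j → i ≠ k → ∀ t, τ i j t = τ i k t := by
    intro i j k hij hik t
    by_cases hjk : j = k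
    · rw [hjk]
    · have := coord_mul hτ hij hjk hik t 1
      rw [mul_one, h1 j k hjk, mul_one] at this
      exact this.symm
  have hcol : ∀ i j k, i ≠ k → j ≠ k → ∀ t, τ i k t = τ j k t := by
    intro i j k hik hjk t
    by_cases hij : i = j
    · rw [hij]
    · have := coord_mul hτ hij hjk hik 1 t
      rw [one_mul, h1 i j hij, one_mul] at this
      exact this
  have hall : ∀ i j, i ≠ j → ∀ t, τ i j t = τ a b t := by
    intro i j hij t
    by_cases hib : i = b
    · subst hib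
      rw [hrow b j c hij hbc, hcol b a c hbc hac, hrow a c b hac hab]
    · rw [hrow i j b hij hib, hcol i a b hib hab]
  have hmul : ∀ s t, τ a b (s * t) = τ a b s * τ a b t := by
    intro s t
    have := coord_mul hτ hac (Ne.symm hbc) hab s t
    rw [this, hall a c hac, hall c b (Ne.symm hbc)]
  have hadd : ∀ s t, τ a b (s + t) = τ a b s + τ a b t := coord_add hτ hab
  have hzero : τ a b 0 = 0 := by
    have := hadd 0 0
    rw [add_zero] at this
    exact left_eq_add.mp this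
  let φ : F →+* F :=
    { toFun := τ a b
      map_one' := h1 a b hab
      map_mul' := hmul
      map_zero' := hzero
      map_add' := hadd }
  have hφ : Function.Bijective φ := (Finite.injective_iff_bijective).mp φ.injective
  let σ : F ≃+* F := RingEquiv.ofBijective φ hφ
  refine ⟨σ, ?_⟩
  have htop : (MonoidHom.eqLocus ((α : Matrix.ProjectiveSpecialLinearGroup (Fin n) F ≃* _).toMonoidHom.comp mkP)
      ((congrP (fieldSL σ) : Matrix.ProjectiveSpecialLinearGroup (Fin n) F ≃* _).toMonoidHom.comp mkP)) = ⊤ := by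
    apply eq_top_of_xE_mem
    intro i j hij t
    change α (mkP (xE i j t)) = congrP (fieldSL σ) (mkP (xE i j t))
    rw [hτ i j hij, congrP_mkP, fieldSL_xE hij, hall i j hij]
    rfl
  ext x : 1
  obtain ⟨s, rfl⟩ := mkP_surjective x
  have : s ∈ (⊤ : Subgroup (Matrix.SpecialLinearGroup (Fin n) F)) := Subgroup.mem_top s
  rw [← htop] at this
  exact this

theorem aut_of_point_type (hn : 3 ≤ n) (α : MulAut (Matrix.ProjectiveSpecialLinearGroup (Fin n) F)) {v₀ : Fin n → F}
    (hv₀ : v₀ ≠ 0) (h₀ : IsPt (im α (XP v₀))) :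
    ∃ (g : GL (Fin n) F) (σ : F ≃+* F), α = congrP (conjSL g) * congrP (fieldSL σ) := by
  obtain ⟨g, hg⟩ := exists_gl_root hn α hv₀ h₀
  choose! σ hσ using hg
  obtain ⟨d, τ, h1, hτ⟩ := exists_diag_normal hn _ σ hσ
  obtain ⟨φ, hφ⟩ := coord_all_eq hn h1 hτ
  refine ⟨g * (dGL d)⁻¹, φ, ?_⟩
  rw [← hφ, map_mul, map_mul, map_inv, map_inv]
  simp only [mul_assoc, inv_mul_cancel_left, mul_inv_cancel_left]

theorem im_invTr_XH (f : Fin n → F) : im (congrP invTrSL) (XH f) = XP f := by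
  ext x
  rw [mem_im]
  constructor
  · rintro ⟨_, ⟨v, hv, rfl⟩, rfl⟩
    rw [congrP_mkP, invTrSL_tS hv]
    exact ⟨_, by rw [neg_dotProduct, dotProduct_comm, hv, neg_zero], rfl⟩
  · rintro ⟨v, hv, rfl⟩
    have h1 : f ⬝ᵥ (-v) = 0 := by rw [dotProduct_neg, dotProduct_comm, hv, neg_zero]
    refine ⟨mkP (tS (-v) f), ⟨-v, h1, rfl⟩, ?_⟩
    rw [congrP_mkP, invTrSL_tS h1, neg_neg]

theorem invTrSL_mul_self : (invTrSL : MulAut (Matrix.SpecialLinearGroup (Fin n) F)) * invTrSL = 1 := by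
  ext s : 1
  exact invTrSL.left_inv s

/-- **Automorphisms of `PSL n F`, `n ≥ 3`**. -/
theorem aut_PSL_three (hn : 3 ≤ n) (α : MulAut (Matrix.ProjectiveSpecialLinearGroup (Fin n) F)) :
    ∃ (g : GL (Fin n) F) (σ : F ≃+* F), α = congrP (conjSL g) * congrP (fieldSL σ) ∨
      α = congrP (conjSL g) * congrP (fieldSL σ) * congrP invTrSL := by
  let v₀ : Fin n → F := Pi.single ⟨0, by omega⟩ 1
  have hv₀ : v₀ ≠ 0 := single_ne_zero' _
  have hsq : congrP (invTrSL : MulAut (Matrix.SpecialLinearGroup (Fin n) F)) * congrP invTrSL = 1 := by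
    rw [← map_mul, invTrSL_mul_self, map_one]
  rcases im_isMax hn α (Or.inl ⟨v₀, hv₀, rfl⟩) with h | ⟨f, hf, h⟩
  · obtain ⟨g, σ, h1⟩ := aut_of_point_type hn α hv₀ h
    exact ⟨g, σ, Or.inl h1⟩
  · have h2 : IsHy (im α (XP v₀)) := ⟨f, hf, h⟩
    obtain ⟨g, hg, hgv⟩ := exists_mem_XP (by omega) v₀
    have h3 : IsPt (im α (XH g)) := by
      rcases im_isMax hn α (Or.inr ⟨g, hg, rfl⟩) with h4 | h4
      · exact h4
      · exfalso
        have h5 : im α (XP v₀) ⊓ im α (XH g) ≠ ⊥ := by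
          rw [← im_inf, Ne, im_eq_bot]
          exact (XP_inf_XH hv₀ hg).mpr hgv
        have h6 := isHy_eq h2 h4 h5
        have h7 : XP v₀ = XH g := by rw [← im_inv_im α (XP v₀), h6, im_inv_im]
        exact not_XP_le_XH hn hv₀ hg h7.le
    have h4 : im (congrP invTrSL) (XP g) = XH g := by
      rw [← im_invTr_XH, im_im, hsq, im_one]
    have h5 : IsPt (im (α * congrP invTrSL) (XP g)) := by
      rw [← im_im, h4]; exact h3
    obtain ⟨g', σ, h1⟩ := aut_of_point_type hn _ hg h5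
    refine ⟨g', σ, Or.inr ?_⟩
    rw [← h1, mul_assoc, hsq, mul_one]

end coord

end Cfsg.Agent.H17
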