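import Mathlib
import Cfsg.Agent.H17.AutPSL4

set_option autoImplicit false

/-! Automorphisms of `PSL 2 F`. -/

open scoped MatrixGroups Matrix

namespace Cfsg.Agent.H17

open Cfsg.Agent.H12 Matrix

section two

variable {F : Type*} [Field F] [Finite F]

omit [Finite F] in
theorem perp_two {v f : Fin 2 → F} (hv : v ≠ 0) (h : f ⬝ᵥ v = 0) : ∃ c : F, f = c • ![v 1, -v 0] := by
  have hv2 : (![v 1, -v 0] : Fin 2 → F) ≠ 0 := by
    intro h0
    apply hv
    have h1 := congrFun h0 0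
    have h2 := congrFun h0 1
    simp only [cons_val_zero, cons_val_one, Pi.zero_apply, neg_eq_zero] at h1 h2
    funext i
    fin_cases i
    · exact h2
    · exact h1
  apply exists_smul_of_perp hv2
  intro g hg
  rw [dotProduct, Fin.sum_univ_two] at h hg ⊢
  simp only [cons_val_zero, cons_val_one] at hg
  by_cases h0 : v 0 = 0
  · have h1 : v 1 ≠ 0 := by
      intro h1
      apply hv
      funext i
      fin_cases i
      · exact h0
      · exact h1
    rw [h0] at h hg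
    have hf1 : f 1 = 0 := by
      have : f 1 * v 1 = 0 := by linear_combination h
      exact (mul_eq_zero.mp this).resolve_right h1
    have hg0 : g 0 = 0 := by
      have : g 0 * v 1 = 0 := by linear_combination hg
      exact (mul_eq_zero.mp this).resolve_right h1
    rw [hf1, hg0]; ring
  · have : v 0 * (g 0 * f 0 + g 1 * f 1) = 0 := by
      linear_combination g 0 * h - f 1 * hg
    exact (mul_eq_zero.mp this).resolve_left h0

theorem commute_two {v f w g : Fin 2 → F} (hv : v ≠ 0) (hf : f ≠ 0) (hfv : f ⬝ᵥ v = 0)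
    (hw : w ≠ 0) (hg : g ≠ 0) (hgw : g ⬝ᵥ w = 0) (h : Commute (mkP (tS v f)) (mkP (tS w g))) :
    ∃ c : F, w = c • v := by
  obtain ⟨p, hp⟩ := CharP.exists F
  haveI : Fact p.Prime := ⟨CharP.char_is_prime F p⟩
  have h1 : Commute (tS v f) (tS w g) := commute_of_mkP p (l := 1) (by rw [pow_one, tS_pow_char p hgw]) h
  have h2 : ∀ u, (g ⬝ᵥ u * (f ⬝ᵥ w)) • v = (f ⬝ᵥ u * (g ⬝ᵥ v)) • w := by
    intro u
    have h3 : ((tS v f * tS w g : Matrix.SpecialLinearGroup (Fin 2) F) : Matrix (Fin 2) (Fin 2) F) *ᵥ u =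
        ((tS w g * tS v f : Matrix.SpecialLinearGroup (Fin 2) F) : Matrix (Fin 2) (Fin 2) F) *ᵥ u := by rw [h1.eq]
    rw [sl_mul_mulVec, sl_mul_mulVec, tS_mulVec hgw, tS_mulVec hfv, tS_mulVec hfv, tS_mulVec hgw,
      dotProduct_add, dotProduct_add, dotProduct_smul, dotProduct_smul, add_smul, add_smul, smul_eq_mul,
      smul_eq_mul] at h3
    have h4 : u + (g ⬝ᵥ u) • w + ((f ⬝ᵥ u) • v + (g ⬝ᵥ u * (f ⬝ᵥ w)) • v) =
        u + (g ⬝ᵥ u) • w + ((f ⬝ᵥ u) • v + (f ⬝ᵥ u * (g ⬝ᵥ v)) • w) := by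
      rw [h3]; abel
    exact add_left_cancel (add_left_cancel h4)
  by_cases hfw : f ⬝ᵥ w = 0
  · -- both v, w are perpendicular to f
    apply exists_smul_of_perp hv
    intro h' hh'
    obtain ⟨c, hc⟩ := perp_two hv hh'
    obtain ⟨d, hd⟩ := perp_two hv hfv
    have hd0 : d ≠ 0 := by
      rintro rfl
      rw [zero_smul] at hd
      exact hf hd
    have : h' = (c * d⁻¹) • f := by rw [hd, smul_smul, mul_assoc, inv_mul_cancel₀ hd0, mul_one, hc]
    rw [this, smul_dotProduct, hfw, smul_zero]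
  · obtain ⟨u, hu⟩ := exists_dot_eq_one' hg
    have h3 := h2 u
    rw [hu, one_mul] at h3
    have h4 : f ⬝ᵥ u * (g ⬝ᵥ v) ≠ 0 := by
      intro h0
      rw [h0, zero_smul] at h3
      exact hv ((smul_eq_zero.mp h3).resolve_left hfw)
    refine ⟨(f ⬝ᵥ u * (g ⬝ᵥ v))⁻¹ * (f ⬝ᵥ w), ?_⟩
    rw [mul_smul, h3, smul_smul, inv_mul_cancel₀ h4, one_smul]

theorem XP_comm_two {v : Fin 2 → F} {x y : Matrix.ProjectiveSpecialLinearGroup (Fin 2) F} (hx : x ∈ XP v) (hy : y ∈ XP v) :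
    Commute x y := by
  obtain ⟨f, hf, rfl⟩ := hx
  obtain ⟨g, hg, rfl⟩ := hy
  change mkP (tS v f) * mkP (tS v g) = mkP (tS v g) * mkP (tS v f)
  rw [← map_mul, ← map_mul, tS_mul hf hg, tS_mul hg hf, add_comm]

/-- for `n = 2`, automorphisms permute the subgroups `XP v`. -/
theorem im_XP_two (α : MulAut (Matrix.ProjectiveSpecialLinearGroup (Fin 2) F)) {v : Fin 2 → F} (hv : v ≠ 0) :
    ∃ w : Fin 2 → F, w ≠ 0 ∧ im α (XP v) = XP w := by
  have key : ∀ (α : MulAut (Matrix.ProjectiveSpecialLinearGroup (Fin 2) F)) {v : Fin 2 → F} (hv : v ≠ 0),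
      ∃ w : Fin 2 → F, w ≠ 0 ∧ im α (XP v) ≤ XP w := by
    intro α v hv
    obtain ⟨f, hf, hfv⟩ := exists_mem_XP (le_refl 2) v
    have h1 : IsTr (α (mkP (tS v f))) := (isTr_aut le_rfl α _).mpr ⟨v, f, hv, hf, hfv, rfl⟩
    obtain ⟨w, g, hw, hg, hgw, hwg⟩ := h1
    refine ⟨w, hw, ?_⟩
    rintro _ ⟨x, hx, rfl⟩
    change α x ∈ XP w
    by_cases hx1 : x = 1
    · rw [hx1, map_one]; exact one_mem _
    have h2 : IsTr (α x) := (isTr_aut le_rfl α _).mpr (trSub_XP v x hx hx1)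
    obtain ⟨w', g', hw', hg', hgw', hwg'⟩ := h2
    have h3 : Commute (α (mkP (tS v f))) (α x) := (XP_comm_two ⟨f, hfv, rfl⟩ hx).map (α : Matrix.ProjectiveSpecialLinearGroup (Fin 2) F ≃* _)
    rw [hwg, hwg'] at h3
    obtain ⟨c, hc⟩ := commute_two hw hg hgw hw' hg' hgw' h3
    rw [hwg']
    exact mem_XP_of_smul hgw' hc
  obtain ⟨w, hw, h⟩ := key α hv
  refine ⟨w, hw, le_antisymm h ?_⟩
  obtain ⟨u, hu, h'⟩ := key α⁻¹ hw
  -- im α⁻¹ (XP w) ≤ XP u, and XP v ≤ im α⁻¹ (XP w) ≤ XP u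
  have h1 : XP v ≤ XP u := by
    have := im_mono α⁻¹ h
    rw [im_inv_im] at this
    exact this.trans h'
  obtain ⟨f, hf, hfv⟩ := exists_mem_XP (le_refl 2) v
  obtain ⟨c, hc, e⟩ := smul_of_XP_mem hv hf hfv (h1 ⟨f, hfv, rfl⟩)
  rw [e, XP_smul hc] at h'
  have := im_mono α h'
  rwa [im_im_inv] at this

theorem mem_XP_single_two {i j : Fin 2} (hij : i ≠ j) {x : Matrix.ProjectiveSpecialLinearGroup (Fin 2) F}
    (h : x ∈ XP (Pi.single i (1 : F))) : ∃ t : F, x = mkP (xE i j t) := by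
  obtain ⟨f, hf, rfl⟩ := h
  rw [dotProduct_single, mul_one] at hf
  refine ⟨f j, ?_⟩
  have h1 : f = (f j) • (Pi.single j (1 : F) : Fin 2 → F) := by
    funext k
    by_cases hk : k = j
    · subst hk; simp
    · have : k = i := by
        fin_cases i <;> fin_cases j <;> fin_cases k <;> simp_all
      rw [this, hf]
      simp [hij]
  rw [h1, xE, ← tS_smul (single_dot_single hij _ _), ← Pi.single_smul, smul_eq_mul, mul_one]
  simp

theorem exists_gl_root_two (α : MulAut (Matrix.ProjectiveSpecialLinearGroup (Fin 2) F)) :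
    ∃ g : GL (Fin 2) F, ∀ i j : Fin 2, i ≠ j → ∀ t : F, ∃ t' : F,
      ((congrP (conjSL g))⁻¹ * α) (mkP (xE i j t)) = mkP (xE i j t') := by
  have hP := fun (v : Fin 2 → F) (hv : v ≠ 0) => im_XP_two α hv
  choose! w hw0 hw using hP
  obtain ⟨W, hWdef⟩ : ∃ W : Matrix (Fin 2) (Fin 2) F, W = Matrix.of fun i j => w (Pi.single j 1) i := ⟨_, rfl⟩
  have hWe : ∀ j, W *ᵥ (Pi.single j 1) = w (Pi.single j 1) := by
    intro j
    rw [mulVec_single_one]
    funext i
    rw [hWdef]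
    rfl
  have hdet : W.det ≠ 0 := by
    intro hdet
    obtain ⟨f, hf, hfW⟩ := Matrix.exists_vecMul_eq_zero_iff.mpr hdet
    have h1 : ∀ i, f ⬝ᵥ w (Pi.single i 1) = 0 := by
      intro i
      rw [← hWe, dotProduct_mulVec, hfW, zero_dotProduct]
    have h2 : ∃ c : F, w (Pi.single 1 1) = c • w (Pi.single 0 1) := by
      apply exists_smul_of_perp (hw0 _ (single_ne_zero' 0))
      intro g hg
      obtain ⟨a, ha⟩ := perp_two (hw0 _ (single_ne_zero' 0)) hg
      obtain ⟨b, hb⟩ := perp_two (hw0 _ (single_ne_zero' 0)) (h1 0)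
      have hb0 : b ≠ 0 := by
        rintro rfl
        rw [zero_smul] at hb
        exact hf hb
      have : g = (a * b⁻¹) • f := by
        conv_rhs => rw [hb]
        rw [smul_smul, mul_assoc, inv_mul_cancel₀ hb0, mul_one, ha]
      rw [this, smul_dotProduct, h1 1, smul_zero]
    obtain ⟨c, hc⟩ := h2
    have hc0 : c ≠ 0 := by
      rintro rfl
      rw [zero_smul] at hc
      exact hw0 _ (single_ne_zero' 1) hc
    have h3 : im α (XP (Pi.single 1 (1 : F))) = im α (XP (Pi.single 0 (1 : F))) := by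
      rw [hw _ (single_ne_zero' 1), hw _ (single_ne_zero' 0), hc, XP_smul hc0]
    have h4 : XP (Pi.single 1 (1 : F)) = XP (Pi.single (0 : Fin 2) (1 : F)) := by
      rw [← im_inv_im α (XP (Pi.single 1 (1 : F))), h3, im_inv_im]
    have h5 : mkP (tS (Pi.single 1 (1 : F)) (Pi.single 0 (1 : F))) ∈ XP (Pi.single (0 : Fin 2) (1 : F)) := by
      rw [← h4]
      exact ⟨_, single_dot_single (by decide) _ _, rfl⟩
    obtain ⟨d, hd, e⟩ := smul_of_XP_mem (single_ne_zero' 1) (single_ne_zero' 0) (single_dot_single (by decide) _ _) h5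
    have := congrFun e 0
    simp at this
  let g : GL (Fin 2) F := Matrix.GeneralLinearGroup.mkOfDetNeZero W hdet
  have hg : ∀ j, (g : Matrix (Fin 2) (Fin 2) F) *ᵥ (Pi.single j 1) = w (Pi.single j 1) := hWe
  refine ⟨g, fun i j hij t => ?_⟩
  obtain ⟨β, hβ⟩ : ∃ β, β = (congrP (conjSL g))⁻¹ * α := ⟨_, rfl⟩
  have hβP : ∀ i, im β (XP (Pi.single i (1 : F))) = XP (Pi.single i (1 : F)) := by
    intro i
    have h1 := im_conj_XP g (Pi.single i (1 : F))
    rw [hg] at h1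
    rw [hβ, ← im_im, hw _ (single_ne_zero' i), ← h1, im_inv_im]
  rw [← hβ]
  apply mem_XP_single_two hij
  have : β (mkP (xE i j t)) ∈ im β (XP (Pi.single i (1 : F))) := by
    refine ⟨_, ?_, rfl⟩
    exact mem_XP_of_smul (single_dot_single hij _ _) (c := t) (by rw [← Pi.single_smul, smul_eq_mul, mul_one])
  rwa [hβP] at this

/-- the Weyl element `x₀₁(t) x₁₀(s) x₀₁(t)` -/
noncomputable def wE (t s : F) : Matrix.SpecialLinearGroup (Fin 2) F := xE 0 1 t * xE 1 0 s * xE 0 1 t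

omit [Finite F] in
theorem wE_mulVec (t s : F) (y : Fin 2 → F) :
    ((wE t s : Matrix.SpecialLinearGroup (Fin 2) F) : Matrix (Fin 2) (Fin 2) F) *ᵥ y =
      ![y 0 + t * y 1 + t * (y 1 + s * (y 0 + t * y 1)), y 1 + s * (y 0 + t * y 1)] := by
  rw [wE, sl_mul_mulVec, sl_mul_mulVec, xE_mulVec (by decide), xE_mulVec (by decide), xE_mulVec (by decide)]
  funext i
  fin_cases i <;> simp [Pi.single_apply]

omit [Finite F] in
theorem wE_conj {t : F} (ht : t ≠ 0) (r : F) :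
    wE t (-t⁻¹) * xE 0 1 r * (wE t (-t⁻¹))⁻¹ = xE 1 0 (-(r * (t⁻¹) ^ 2)) := by
  rw [mul_inv_eq_iff_eq_mul]
  apply sl_ext_mulVec
  intro y
  rw [sl_mul_mulVec, sl_mul_mulVec, wE_mulVec, wE_mulVec, xE_mulVec (by decide), xE_mulVec (by decide)]
  funext i
  fin_cases i
  · simp [Pi.single_apply]
    field_simp
    ring
  · simp [Pi.single_apply]
    field_simp
    ring

theorem coord_two {β : MulAut (Matrix.ProjectiveSpecialLinearGroup (Fin 2) F)}
    {τ : Fin 2 → Fin 2 → F → F} (h1 : τ 0 1 1 = 1)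
    (hτ : ∀ i j, i ≠ j → ∀ t, β (mkP (xE i j t)) = mkP (xE i j (τ i j t))) :
    ∃ σ : F ≃+* F, β = congrP (fieldSL σ) := by
  have h01 : (0 : Fin 2) ≠ 1 := by decide
  have h10 : (1 : Fin 2) ≠ 0 := by decide
  obtain ⟨σ, hσ⟩ : ∃ σ, σ = τ 0 1 := ⟨_, rfl⟩
  obtain ⟨σ', hσ'⟩ : ∃ σ', σ' = τ 1 0 := ⟨_, rfl⟩
  have hadd : ∀ s t, σ (s + t) = σ s + σ t := by rw [hσ]; exact coord_add hτ h01
  have hadd' : ∀ s t, σ' (s + t) = σ' s + σ' t := by rw [hσ']; exact coord_add hτ h10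
  have hzero : σ 0 = 0 := by
    have := hadd 0 0
    rw [add_zero] at this
    exact left_eq_add.mp this
  have hzero' : σ' 0 = 0 := by
    have := hadd' 0 0
    rw [add_zero] at this
    exact left_eq_add.mp this
  have hneg : ∀ t, σ (-t) = -σ t := by
    intro t
    have := hadd t (-t)
    rw [add_neg_cancel, hzero] at this
    exact eq_neg_of_add_eq_zero_right this.symm
  have hne : ∀ t, t ≠ 0 → σ t ≠ 0 := by
    intro t ht h0
    apply ht
    rw [hσ] at h0
    exact coord_inj hτ h01 (h0.trans (by rw [← hσ, hzero]))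
  have hβ01 : ∀ t, β (mkP (xE 0 1 t)) = mkP (xE 0 1 (σ t)) := by rw [hσ]; exact hτ 0 1 h01
  have hβ10 : ∀ t, β (mkP (xE 1 0 t)) = mkP (xE 1 0 (σ' t)) := by rw [hσ']; exact hτ 1 0 h10
  have hβw : ∀ t s, β (mkP (wE t s)) = mkP (wE (σ t) (σ' s)) := by
    intro t s
    rw [wE, wE, map_mul, map_mul, map_mul, map_mul, hβ01, hβ10, map_mul, map_mul]
  -- first relation: the image of e₀
  have hA : ∀ t, t ≠ 0 → σ' (-t⁻¹) = -(σ t)⁻¹ := by
    intro t ht
    have h2 := congrArg (fun x => β (mkP x)) (wE_conj ht 1)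
    simp only [map_mul, map_inv] at h2
    rw [hβw, hβ01, hβ10, hσ, h1, ← hσ, ← map_inv, ← map_mul, ← map_mul, xE, conj_tS _ (single_dot_single h01 _ _)] at h2
    have hc : σ' (-(1 * t⁻¹ ^ 2)) ≠ 0 := by
      intro h0
      rw [hσ'] at h0
      have := coord_inj hτ h10 (h0.trans (by rw [← hσ', hzero'] : (0 : F) = τ 1 0 0))
      rw [one_mul, neg_eq_zero] at this
      exact (pow_ne_zero 2 (inv_ne_zero ht)) this
    have hv : (Pi.single 1 (σ' (-(1 * t⁻¹ ^ 2))) : Fin 2 → F) ≠ 0 := by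
      intro h0
      have := congrFun h0 1
      rw [Pi.single_eq_same, Pi.zero_apply] at this
      exact hc this
    obtain ⟨c, hc', h3, _⟩ := mkP_tS_eq hv (single_ne_zero' 0) (single_dot_single h10 _ _) (by
      rw [← dotProduct_mulVec, sl_inv_mulVec_mulVec]; exact single_dot_single h01 _ _) h2.symm
    have h4 := congrFun h3 0
    rw [wE_mulVec] at h4
    simp at h4
    have h5 := hne t ht
    apply mul_left_cancel₀ h5
    rw [mul_neg, mul_inv_cancel₀ h5]
    linear_combination h4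
  have hB : ∀ t, t ≠ 0 → ∀ r, σ' (-(r * t⁻¹ ^ 2)) = -(σ r * (σ t)⁻¹ ^ 2) := by
    intro t ht r
    have h2 := congrArg (fun x => β (mkP x)) (wE_conj ht r)
    simp only [map_mul, map_inv] at h2
    rw [hβw, hβ01, hβ10, hA t ht, ← map_inv, ← map_mul, ← map_mul, wE_conj (hne t ht)] at h2
    exact (mkP_xE_injective h10 h2).symm
  have hC : ∀ t r, t ≠ 0 → r ≠ 0 → σ (t ^ 2 * r⁻¹) = (σ t) ^ 2 * (σ r)⁻¹ := by
    intro t r ht hr
    have hu : t ^ 2 * r⁻¹ ≠ 0 := mul_ne_zero (pow_ne_zero 2 ht) (inv_ne_zero hr)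
    have h2 := hA _ hu
    have h3 := hB t ht r
    have h4 : (t ^ 2 * r⁻¹)⁻¹ = r * t⁻¹ ^ 2 := by
      field_simp
    rw [h4, h3, neg_inj] at h2
    have h5 := hne t ht
    have h6 := hne r hr
    have h7 := hne _ hu
    rw [← inv_inv (σ (t ^ 2 * r⁻¹)), ← h2, mul_inv, inv_pow, inv_inv, mul_comm]
  have h1' : σ 1 = 1 := by rw [hσ, h1]
  have hinv : ∀ r, r ≠ 0 → σ r⁻¹ = (σ r)⁻¹ := by
    intro r hr
    have := hC 1 r one_ne_zero hr
    rwa [one_pow, one_mul, h1', one_pow, one_mul] at this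
  have hD : ∀ t r, σ (t ^ 2 * r) = (σ t) ^ 2 * σ r := by
    intro t r
    by_cases ht : t = 0
    · rw [ht, hzero]; simp [hzero]
    by_cases hr : r = 0
    · rw [hr, mul_zero, hzero, mul_zero]
    have := hC t r⁻¹ ht (inv_ne_zero hr)
    rwa [inv_inv, hinv r hr, inv_inv] at this
  have hsq : ∀ t, σ (t ^ 2) = (σ t) ^ 2 := by
    intro t
    have := hD t 1
    rwa [mul_one, h1', mul_one] at this
  have hmul : ∀ s t, σ (s * t) = σ s * σ t := by
    by_cases h2 : (2 : F) = 0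
    · have hchar : ringChar F = 2 := by
        have h3 : ringChar F ∣ 2 := (ringChar.spec F 2).mp (by exact_mod_cast h2)
        rcases (Nat.dvd_prime Nat.prime_two).mp h3 with h4 | h4
        · exact absurd h4 (CharP.ringChar_ne_one)
        · exact h4
      intro s t
      obtain ⟨a, rfl⟩ := FiniteField.isSquare_of_char_two hchar s
      rw [← pow_two, hD, hsq]
    · intro s t
      have h3 : σ ((s + t) ^ 2) = σ s ^ 2 + (σ (s * t) + σ (s * t)) + σ t ^ 2 := by
        rw [← hsq, ← hsq, ← hadd, ← hadd, ← hadd]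
        congr 1
        ring
      rw [hsq, hadd] at h3
      have h4 : 2 * (σ (s * t) - σ s * σ t) = 0 := by linear_combination -h3
      exact sub_eq_zero.mp ((mul_eq_zero.mp h4).resolve_left h2)
  let φ : F →+* F :=
    { toFun := σ
      map_one' := h1'
      map_mul' := hmul
      map_zero' := hzero
      map_add' := hadd }
  have hφ : Function.Bijective φ := (Finite.injective_iff_bijective).mp φ.injective
  let Sg : F ≃+* F := RingEquiv.ofBijective φ hφ
  have hσ'σ : ∀ u, σ' u = σ u := by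
    intro u
    by_cases hu : u = 0
    · rw [hu, hzero, hzero']
    · have := hA (-u⁻¹) (neg_ne_zero.mpr (inv_ne_zero hu))
      rw [inv_neg, inv_inv, neg_neg, hneg, hinv u hu, inv_neg, inv_inv, neg_neg] at this
      exact this
  refine ⟨Sg, ?_⟩
  have htop : (MonoidHom.eqLocus ((β : Matrix.ProjectiveSpecialLinearGroup (Fin 2) F ≃* _).toMonoidHom.comp mkP)
      ((congrP (fieldSL Sg) : Matrix.ProjectiveSpecialLinearGroup (Fin 2) F ≃* _).toMonoidHom.comp mkP)) = ⊤ := by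
    apply eq_top_of_xE_mem
    intro i j hij t
    change β (mkP (xE i j t)) = congrP (fieldSL Sg) (mkP (xE i j t))
    rw [hτ i j hij, congrP_mkP, fieldSL_xE hij]
    have : τ i j t = σ t := by
      fin_cases i <;> fin_cases j
      · exact absurd rfl hij
      · rw [hσ]; rfl
      · rw [← hσ'σ, hσ']; rfl
      · exact absurd rfl hij
    rw [this]
    rfl
  ext x : 1
  obtain ⟨s, rfl⟩ := mkP_surjective x
  have : s ∈ (⊤ : Subgroup (Matrix.SpecialLinearGroup (Fin 2) F)) := Subgroup.mem_top s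
  rw [← htop] at this
  exact this

/-- **Automorphisms of `PSL 2 F`**. -/
theorem aut_PSL_two (α : MulAut (Matrix.ProjectiveSpecialLinearGroup (Fin 2) F)) :
    ∃ (g : GL (Fin 2) F) (σ : F ≃+* F), α = congrP (conjSL g) * congrP (fieldSL σ) := by
  obtain ⟨g, hg⟩ := exists_gl_root_two α
  choose! σ hσ using hg
  have h01 : (0 : Fin 2) ≠ 1 := by decide
  have ha : σ 0 1 1 ≠ 0 := by
    intro h0
    have h1 : σ 0 1 0 = 0 := by
      have := coord_add hσ h01 0 0
      rw [add_zero] at this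
      exact left_eq_add.mp this
    exact one_ne_zero (coord_inj hσ h01 (h0.trans h1.symm))
  let d : Fin 2 → Fˣ := ![1, Units.mk0 _ ha]
  obtain ⟨φ, hφ⟩ := coord_two (β := congrP (conjSL (dGL d)) * ((congrP (conjSL g))⁻¹ * α))
    (τ := fun i j t => d i * σ i j t * ((d j)⁻¹ : Fˣ)) (by simp [d, ha]) (by
      intro i j hij t
      rw [MulAut.mul_apply, hσ i j hij, congrP_mkP, conjSL_dGL_xE hij])
  refine ⟨g * (dGL d)⁻¹, φ, ?_⟩
  rw [← hφ, map_mul, map_mul, map_inv, map_inv]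
  simp only [mul_assoc, inv_mul_cancel_left, mul_inv_cancel_left]

end two

end Cfsg.Agent.H17
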