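import Mathlib
import Cfsg.Prelude.Def_LieTypeDatum
import Cfsg.Agent.H17.AutPSL5

set_option autoImplicit false

/-! Automorphisms of `PSL n F`, `n ≥ 2`: link with the predicates of `Def_LieTypeDatum`. -/

open scoped MatrixGroups Matrix

namespace Cfsg.Agent.H17

open Cfsg.Agent.H12 Matrix

section pred

variable {F : Type*} [Field F] {n : ℕ}

/-- inner-diagonal automorphism attached to `g`. -/
def cP (g : GL (Fin n) F) : MulAut (Matrix.ProjectiveSpecialLinearGroup (Fin n) F) := congrP (conjSL g)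

/-- standard field automorphism attached to `σ`. -/
def fP (n : ℕ) (σ : F ≃+* F) : MulAut (Matrix.ProjectiveSpecialLinearGroup (Fin n) F) := congrP (fieldSL σ)

/-- inverse-transpose automorphism. -/
def iP (F : Type*) [Field F] (n : ℕ) : MulAut (Matrix.ProjectiveSpecialLinearGroup (Fin n) F) := congrP invTrSL

theorem cP_mul (g h : GL (Fin n) F) : cP (g * h) = cP g * cP h := by rw [cP, map_mul, map_mul]; rfl
theorem cP_one : cP (1 : GL (Fin n) F) = 1 := by rw [cP, map_one, map_one]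
theorem cP_inv (g : GL (Fin n) F) : cP g⁻¹ = (cP g)⁻¹ := by rw [cP, map_inv, map_inv]; rfl
theorem fP_mul (σ τ : F ≃+* F) : fP n (σ * τ) = fP n σ * fP n τ := by rw [fP, map_mul, map_mul]; rfl
theorem fP_one : fP n (1 : F ≃+* F) = 1 := by rw [fP, map_one, map_one]
theorem fP_inv (σ : F ≃+* F) : fP n σ⁻¹ = (fP n σ)⁻¹ := by rw [fP, map_inv, map_inv]; rfl
theorem iP_mul_self : iP F n * iP F n = 1 := by
  rw [iP, ← map_mul]
  have : (invTrSL : MulAut (Matrix.SpecialLinearGroup (Fin n) F)) * invTrSL = 1 := by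
    ext s : 1
    exact invTrSL.left_inv s
  rw [this, map_one]

theorem eq_of_mkP {α β : MulAut (Matrix.ProjectiveSpecialLinearGroup (Fin n) F)}
    (h : ∀ s : Matrix.SpecialLinearGroup (Fin n) F, α (mkP s) = β (mkP s)) : α = β := by
  ext x : 1
  obtain ⟨s, rfl⟩ := mkP_surjective x
  exact h s

theorem isInnerDiagonal_iff {β : MulAut (Matrix.ProjectiveSpecialLinearGroup (Fin n) F)} :
    IsInnerDiagonalAutPSL β ↔ ∃ g : GL (Fin n) F, β = cP g := by
  constructor
  · rintro ⟨g, hg⟩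
    refine ⟨g, eq_of_mkP fun s => ?_⟩
    exact hg s (conjSL g s) rfl
  · rintro ⟨g, rfl⟩
    refine ⟨g, fun s s' h => ?_⟩
    have h1 : s' = conjSL g s := Subtype.ext h
    rw [h1]
    rfl

theorem isStdField_iff {σ : F ≃+* F} {β : MulAut (Matrix.ProjectiveSpecialLinearGroup (Fin n) F)} :
    IsStdFieldAutPSL σ β ↔ β = fP n σ := by
  constructor
  · intro h
    exact eq_of_mkP fun s => h s (fieldSL σ s) rfl
  · rintro rfl s s' h
    have h1 : s' = fieldSL σ s := Subtype.ext h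
    rw [h1]
    rfl

theorem isInvTr_iff {β : MulAut (Matrix.ProjectiveSpecialLinearGroup (Fin n) F)} :
    IsInverseTransposeAutPSL β ↔ β = iP F n := by
  constructor
  · intro h
    exact eq_of_mkP fun s => h s (invTrSL s) rfl
  · rintro rfl s s' h
    have h1 : s' = invTrSL s := Subtype.ext h
    rw [h1]
    rfl

theorem isInducedBySemilinear_iff {g : GL (Fin n) F} {σ : F ≃+* F}
    {β : MulAut (Matrix.ProjectiveSpecialLinearGroup (Fin n) F)} :
    IsInducedBySemilinearPSL g σ β ↔ β = cP g * fP n σ := by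
  constructor
  · intro h
    exact eq_of_mkP fun s => h s (conjSL g (fieldSL σ s)) rfl
  · rintro rfl s s' h
    have h1 : s' = conjSL g (fieldSL σ s) := Subtype.ext h
    rw [h1]
    rfl

/-- the range of `cP` as a subgroup. -/
def cPrange (F : Type*) [Field F] (n : ℕ) : Subgroup (MulAut (Matrix.ProjectiveSpecialLinearGroup (Fin n) F)) :=
  (congrP.comp conjSL : GL (Fin n) F →* _).range

theorem mem_cPrange {β : MulAut (Matrix.ProjectiveSpecialLinearGroup (Fin n) F)} :
    β ∈ cPrange F n ↔ ∃ g : GL (Fin n) F, cP g = β := Iff.rfl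

theorem inndiag_eq {F : Type*} [Field F] {n : ℕ} : inndiagPSL n F = cPrange F n := by
  apply le_antisymm
  · rw [inndiagPSL, autSubgroupOf, Subgroup.closure_le]
    intro β hβ
    obtain ⟨g, hg⟩ := isInnerDiagonal_iff.mp hβ
    exact ⟨g, hg.symm⟩
  · rintro _ ⟨g, rfl⟩
    exact Subgroup.subset_closure (isInnerDiagonal_iff.mpr ⟨g, rfl⟩)

/-- relation: field automorphism conjugates `cP g` to `cP (σ g)`. -/
def glMap (σ : F ≃+* F) : GL (Fin n) F →* GL (Fin n) F := Matrix.GeneralLinearGroup.map (σ : F →+* F)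

theorem glMap_mul (σ τ : F ≃+* F) (g : GL (Fin n) F) : glMap (σ * τ) g = glMap σ (glMap τ g) := by
  apply Units.ext
  ext i j
  rfl

theorem glMap_one (g : GL (Fin n) F) : glMap (1 : F ≃+* F) g = g := by
  apply Units.ext
  ext i j
  rfl

theorem coe_glMap (σ : F ≃+* F) (g : GL (Fin n) F) :
    ((glMap σ g : GL (Fin n) F) : Matrix (Fin n) (Fin n) F) = (g : Matrix (Fin n) (Fin n) F).map σ := rfl

theorem fieldSL_conjSL (σ : F ≃+* F) (g : GL (Fin n) F) : fieldSL σ * conjSL g = conjSL (glMap σ g) * fieldSL σ := by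
  ext s : 1
  apply Subtype.ext
  rw [MulAut.mul_apply, MulAut.mul_apply, coe_fieldSL, coe_conjSL, coe_conjSL, coe_fieldSL, ← map_inv, coe_glMap,
    coe_glMap]
  have : ∀ A B : Matrix (Fin n) (Fin n) F, (A * B).map σ = A.map σ * B.map σ := fun A B =>
    Matrix.map_mul (f := (σ : F →+* F))
  rw [this, this]

theorem fP_cP (σ : F ≃+* F) (g : GL (Fin n) F) : fP n σ * cP g = cP (glMap σ g) * fP n σ := by
  rw [fP, cP, cP, ← map_mul, ← map_mul, fieldSL_conjSL]

/-- inverse transpose on `GL`. -/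
def invTrGL (g : GL (Fin n) F) : GL (Fin n) F :=
  ⟨((g⁻¹ : GL (Fin n) F) : Matrix (Fin n) (Fin n) F).transpose, (g : Matrix (Fin n) (Fin n) F).transpose,
    by rw [← Matrix.transpose_mul, ← Units.val_mul, mul_inv_cancel, Units.val_one, Matrix.transpose_one],
    by rw [← Matrix.transpose_mul, ← Units.val_mul, inv_mul_cancel, Units.val_one, Matrix.transpose_one]⟩

theorem coe_invTrGL (g : GL (Fin n) F) :
    ((invTrGL g : GL (Fin n) F) : Matrix (Fin n) (Fin n) F) =
      ((g⁻¹ : GL (Fin n) F) : Matrix (Fin n) (Fin n) F).transpose := rfl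

theorem coe_invTrGL_inv (g : GL (Fin n) F) :
    (((invTrGL g)⁻¹ : GL (Fin n) F) : Matrix (Fin n) (Fin n) F) = (g : Matrix (Fin n) (Fin n) F).transpose := rfl

theorem invTrSL_conjSL (g : GL (Fin n) F) : invTrSL * conjSL g = conjSL (invTrGL g) * invTrSL := by
  ext s : 1
  apply Subtype.ext
  rw [MulAut.mul_apply, MulAut.mul_apply, coe_invTrSL, coe_conjSL, coe_invTrSL, coe_invTrGL, coe_invTrGL_inv,
    ← map_inv, coe_conjSL, Matrix.transpose_mul, Matrix.transpose_mul, Matrix.mul_assoc]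

theorem iP_cP (g : GL (Fin n) F) : iP F n * cP g = cP (invTrGL g) * iP F n := by
  rw [iP, cP, cP, ← map_mul, ← map_mul, invTrSL_conjSL]

theorem invTrSL_fieldSL (σ : F ≃+* F) :
    (invTrSL : MulAut (Matrix.SpecialLinearGroup (Fin n) F)) * fieldSL σ = fieldSL σ * invTrSL := by
  ext s : 1
  apply Subtype.ext
  rw [MulAut.mul_apply, MulAut.mul_apply, coe_fieldSL, coe_invTrSL, coe_invTrSL, ← map_inv, coe_fieldSL]
  rfl

theorem iP_fP (σ : F ≃+* F) : iP F n * fP n σ = fP n σ * iP F n := by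
  rw [iP, fP, ← map_mul, ← map_mul, invTrSL_fieldSL]

end pred

section main

variable {F : Type*} [Field F] [Finite F] {n : ℕ}

/-- **Automorphisms of `PSL n F`, `n ≥ 2`**. -/
theorem aut_PSL (hn : 2 ≤ n) (α : MulAut (Matrix.ProjectiveSpecialLinearGroup (Fin n) F)) :
    ∃ (g : GL (Fin n) F) (σ : F ≃+* F), α = cP g * fP n σ ∨ (3 ≤ n ∧ α = cP g * fP n σ * iP F n) := by
  rcases Nat.lt_or_ge 2 n with h | h
  · obtain ⟨g, σ, h1 | h1⟩ := aut_PSL_three (by omega) α
    · exact ⟨g, σ, Or.inl h1⟩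
    · exact ⟨g, σ, Or.inr ⟨by omega, h1⟩⟩
  · obtain rfl : n = 2 := by omega
    obtain ⟨g, σ, h1⟩ := aut_PSL_two α
    exact ⟨g, σ, Or.inl h1⟩

/-- the inner-diagonal group is normal in the full automorphism group. -/
theorem cPrange_normal (hn : 2 ≤ n) : (cPrange F n).Normal := by
  constructor
  rintro _ ⟨g, rfl⟩ α
  obtain ⟨h, σ, hα⟩ := aut_PSL hn α
  have e1 : cP h * fP n σ * cP g * (cP h * fP n σ)⁻¹ = cP (h * glMap σ g * h⁻¹) := by
    rw [mul_assoc (cP h), fP_cP, cP_mul, cP_mul, cP_inv, _root_.mul_inv_rev]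
    simp only [mul_assoc, mul_inv_cancel_left]
  rcases hα with rfl | ⟨_, rfl⟩
  · exact ⟨_, e1.symm⟩
  · have e2 : iP F n * cP g * (iP F n)⁻¹ = cP (invTrGL g) := by
      rw [iP_cP, mul_inv_cancel_right]
    have e3 : cP h * fP n σ * iP F n * cP g * (cP h * fP n σ * iP F n)⁻¹ =
        cP (h * glMap σ (invTrGL g) * h⁻¹) := by
      rw [_root_.mul_inv_rev, mul_assoc (cP h * fP n σ) (iP F n) (cP g), iP_cP]
      have : cP h * fP n σ * (cP (invTrGL g) * iP F n) * ((iP F n)⁻¹ * (cP h * fP n σ)⁻¹) =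
          cP h * fP n σ * cP (invTrGL g) * (cP h * fP n σ)⁻¹ := by
        simp only [mul_assoc, mul_inv_cancel_left]
      rw [this, mul_assoc (cP h), fP_cP, cP_mul, cP_mul, cP_inv, _root_.mul_inv_rev]
      simp only [mul_assoc, mul_inv_cancel_left]
    exact ⟨_, e3.symm⟩

end main

end Cfsg.Agent.H17
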