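import Mathlib
import Cfsg.Agent.H17.AutPSL6

set_option autoImplicit false

/-! Outer automorphisms of `PSL n F`: uniqueness of the decomposition, inner-diagonal modulo inner. -/

open scoped MatrixGroups Matrix

namespace Cfsg.Agent.H17

open Cfsg.Agent.H12 Matrix

section uniq

variable {F : Type*} [Field F] {n : ℕ}

theorem fieldSL_tS (σ : F ≃+* F) {v f : Fin n → F} (h : f ⬝ᵥ v = 0) :
    fieldSL σ (tS v f) = tS (fun i => σ (v i)) (fun i => σ (f i)) := by
  have h' : (fun i => σ (f i)) ⬝ᵥ (fun i => σ (v i)) = 0 := by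
    rw [dotProduct] at h ⊢
    rw [← map_zero σ, ← h, map_sum]
    simp only [map_mul]
  apply Subtype.ext
  rw [coe_fieldSL, coe_tS h, coe_tS h']
  ext i j
  rw [Matrix.map_apply, tvm, tvm, Matrix.add_apply, Matrix.add_apply, map_add, Matrix.vecMulVec_apply,
    Matrix.vecMulVec_apply, map_mul]
  congr 1
  rw [Matrix.one_apply]
  split_ifs <;> simp

variable [Finite F]

theorem cP_fP_tS (g : GL (Fin n) F) (σ : F ≃+* F) {v f : Fin n → F} (h : f ⬝ᵥ v = 0) :
    ∃ f' : Fin n → F, f' ⬝ᵥ ((g : Matrix (Fin n) (Fin n) F) *ᵥ (fun i => σ (v i))) = 0 ∧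
    (cP g * fP n σ) (mkP (tS v f)) = mkP (tS ((g : Matrix (Fin n) (Fin n) F) *ᵥ (fun i => σ (v i))) f') := by
  have h' : (fun i => σ (f i)) ⬝ᵥ (fun i => σ (v i)) = 0 := by
    rw [dotProduct] at h ⊢
    rw [← map_zero σ, ← h, map_sum]
    simp only [map_mul]
  refine ⟨(fun i => σ (f i)) ᵥ* ((g⁻¹ : GL (Fin n) F) : Matrix (Fin n) (Fin n) F), ?_, ?_⟩
  · rw [vecMul_inv_dot_self, h']
  · rw [MulAut.mul_apply, fP, cP, congrP_mkP, fieldSL_tS σ h, congrP_mkP, conjSL_tS g h']

theorem im_cP_fP_XP (hn : 2 ≤ n) (g : GL (Fin n) F) (σ : F ≃+* F) {v : Fin n → F} (hv : v ≠ 0)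
    {w : Fin n → F} (hw : w ≠ 0) (h : im (cP g * fP n σ) (XP v) ≤ XP w) :
    ∃ c : F, c ≠ 0 ∧ (g : Matrix (Fin n) (Fin n) F) *ᵥ (fun i => σ (v i)) = c • w := by
  obtain ⟨f, hf, hfv⟩ := exists_mem_XP hn v
  obtain ⟨f', hf', he⟩ := cP_fP_tS g σ hfv
  have hgv : (g : Matrix (Fin n) (Fin n) F) *ᵥ (fun i => σ (v i)) ≠ 0 := by
    apply gl_mulVec_ne_zero
    intro h0
    apply hv
    funext i
    have := congrFun h0 i
    simpa using this
  have hf'0 : f' ≠ 0 := by
    rintro rfl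
    rw [tS_zero, map_one, ← map_one (cP g * fP n σ)] at he
    have := (MulEquiv.injective _) he
    rw [mkP_tS_eq_one_iff hfv] at this
    rcases this with h | h
    · exact hv h
    · exact hf h
  have h1 : (cP g * fP n σ) (mkP (tS v f)) ∈ XP w := h ⟨_, ⟨f, hfv, rfl⟩, rfl⟩
  rw [he] at h1
  obtain ⟨c, hc, e⟩ := smul_of_XP_mem hgv hf'0 hf' h1
  exact ⟨c⁻¹, inv_ne_zero hc, by rw [e, smul_smul, inv_mul_cancel₀ hc, one_smul]⟩

/-- if `cP g * fP σ = 1` then `σ = 1` and `g` is scalar. -/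
theorem cP_fP_eq_one (hn : 2 ≤ n) (g : GL (Fin n) F) (σ : F ≃+* F) (h : cP g * fP n σ = 1) :
    σ = 1 ∧ ∃ c : Fˣ, (g : Matrix (Fin n) (Fin n) F) = Matrix.scalar (Fin n) (c : F) := by
  have key : ∀ v : Fin n → F, v ≠ 0 → ∃ c : F, c ≠ 0 ∧
      (g : Matrix (Fin n) (Fin n) F) *ᵥ (fun i => σ (v i)) = c • v := by
    intro v hv
    apply im_cP_fP_XP hn g σ hv hv
    rw [h, im_one]
  have hσ1 : ∀ i : Fin n, (fun k => σ ((Pi.single i (1 : F) : Fin n → F) k)) = Pi.single i 1 := by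
    intro i
    funext k
    by_cases hk : k = i
    · subst hk; simp
    · simp [hk]
  choose! c hc0 hc using key
  have hce : ∀ i, (g : Matrix (Fin n) (Fin n) F) *ᵥ (Pi.single i 1) = c (Pi.single i 1) • Pi.single i 1 := by
    intro i
    have := hc _ (single_ne_zero' i)
    rwa [hσ1] at this
  -- for t and i ≠ j
  have key2 : ∀ i j, i ≠ j → ∀ t : F, c (Pi.single j 1) * σ t = c (Pi.single i 1) * t := by
    intro i j hij t
    have hne : (Pi.single i (1 : F) + t • Pi.single j (1 : F) : Fin n → F) ≠ 0 := by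
      intro h0
      have := congrFun h0 i
      simp [hij] at this
    have h1 := hc _ hne
    have h2 : (fun k => σ ((Pi.single i (1 : F) + t • Pi.single j (1 : F) : Fin n → F) k)) =
        Pi.single i 1 + σ t • Pi.single j 1 := by
      funext k
      simp only [Pi.add_apply, Pi.smul_apply, smul_eq_mul, map_add, map_mul]
      have e1 := congrFun (hσ1 i) k
      have e2 := congrFun (hσ1 j) k
      simp only at e1 e2
      rw [e1, e2]
    rw [h2, mulVec_add, mulVec_smul, hce, hce] at h1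
    have hi := congrFun h1 i
    have hj := congrFun h1 j
    simp [hij, hij.symm] at hi hj
    rw [← hi] at hj
    rw [mul_comm _ (σ t), hj]
  obtain ⟨i, j, hij⟩ : ∃ i j : Fin n, i ≠ j := ⟨⟨0, by omega⟩, ⟨1, by omega⟩, by simp [Fin.ext_iff]⟩
  have hcc : ∀ i j, c (Pi.single i 1) = c (Pi.single j 1) := by
    intro i j
    by_cases hij : i = j
    · rw [hij]
    · have := key2 i j hij 1
      rw [map_one, mul_one, mul_one] at this
      exact this.symm
  constructor
  · ext t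
    have h1 := key2 i j hij t
    rw [hcc i j] at h1
    exact mul_left_cancel₀ (hc0 _ (single_ne_zero' j)) h1
  · refine ⟨Units.mk0 _ (hc0 _ (single_ne_zero' i)), ?_⟩
    ext a b
    have h1 := congrFun (hce b) a
    rw [mulVec_single_one, Matrix.col_apply, hcc b i] at h1
    rw [h1]
    simp [Matrix.scalar_apply, Matrix.diagonal_apply, Pi.single_apply]

theorem cP_eq_one_iff (hn : 2 ≤ n) (g : GL (Fin n) F) :
    cP g = 1 ↔ ∃ c : Fˣ, (g : Matrix (Fin n) (Fin n) F) = Matrix.scalar (Fin n) (c : F) := by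
  constructor
  · intro h
    exact (cP_fP_eq_one hn g 1 (by rw [h, fP_one, mul_one])).2
  · rintro ⟨c, hc⟩
    apply eq_of_mkP
    intro s
    change mkP (conjSL g s) = mkP s
    congr 1
    apply Subtype.ext
    rw [coe_conjSL, hc]
    have h1 : Matrix.scalar (Fin n) (c : F) * (s : Matrix (Fin n) (Fin n) F) =
        (s : Matrix (Fin n) (Fin n) F) * Matrix.scalar (Fin n) (c : F) :=
      (Matrix.scalar_comm _ (fun r => Commute.all _ _) _)
    rw [h1, ← hc, mul_assoc, ← Units.val_mul, mul_inv_cancel, Units.val_one, mul_one]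

theorem im_cP_fP (g : GL (Fin n) F) (σ : F ≃+* F) (v : Fin n → F) :
    im (cP g * fP n σ) (XP v) = XP ((g : Matrix (Fin n) (Fin n) F) *ᵥ (fun i => σ (v i))) := by
  rw [← im_im]
  have h1 : im (fP n σ) (XP v) = XP (fun i => σ (v i)) := by
    ext x
    rw [mem_im]
    constructor
    · rintro ⟨_, ⟨f, hf, rfl⟩, rfl⟩
      rw [fP, congrP_mkP, fieldSL_tS σ hf]
      refine ⟨_, ?_, rfl⟩
      rw [dotProduct] at hf ⊢
      rw [← map_zero σ, ← hf, map_sum]
      simp only [map_mul]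
    · rintro ⟨f, hf, rfl⟩
      have hf' : (fun i => σ.symm (f i)) ⬝ᵥ v = 0 := by
        rw [dotProduct] at hf ⊢
        apply σ.injective
        rw [map_zero, ← hf, map_sum]
        simp only [map_mul, RingEquiv.apply_symm_apply]
      refine ⟨mkP (tS v (fun i => σ.symm (f i))), ⟨_, hf', rfl⟩, ?_⟩
      rw [fP, congrP_mkP, fieldSL_tS σ hf']
      simp
  rw [h1]
  exact im_conj_XP g _

/-- semilinear automorphisms are not graph automorphisms. -/
theorem cP_fP_iP_ne_one (hn : 3 ≤ n) (g : GL (Fin n) F) (σ : F ≃+* F) : cP g * fP n σ * iP F n ≠ 1 := by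
  intro h
  let v : Fin n → F := Pi.single ⟨0, by omega⟩ 1
  have hv : v ≠ 0 := single_ne_zero' _
  have h2 : cP g * fP n σ = iP F n := by
    rw [mul_eq_one_iff_eq_inv] at h
    rw [h, inv_eq_iff_mul_eq_one, iP_mul_self]
  have h3 := im_cP_fP g σ v
  have h4 : im (congrP invTrSL) (XP v) = XH v := by
    rw [← im_invTr_XH, im_im]
    have : congrP (invTrSL : MulAut (Matrix.SpecialLinearGroup (Fin n) F)) * congrP invTrSL = 1 := iP_mul_self
    rw [this, im_one]
  rw [h2] at h3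
  have h5 : XP ((g : Matrix (Fin n) (Fin n) F) *ᵥ (fun i => σ (v i))) = XH v := h3.symm.trans h4
  have hgv : (g : Matrix (Fin n) (Fin n) F) *ᵥ (fun i => σ (v i)) ≠ 0 := by
    apply gl_mulVec_ne_zero
    intro h0
    apply hv
    funext i
    have := congrFun h0 i
    simpa using this
  exact not_XP_le_XH hn hgv hv h5.le

end uniq

end Cfsg.Agent.H17
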