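import Mathlib
import Cfsg.Agent.H17.AutPSL7

set_option autoImplicit false

/-! Outer automorphisms of `PSL n F`. -/

open scoped MatrixGroups Matrix

namespace Cfsg.Agent.H17

open Cfsg.Agent.H12 Matrix

section fieldaut

/-- ring automorphisms of a finite field form a cyclic group of order `f`. -/
theorem ringAut_cyclic {F : Type*} [Field F] [Finite F] (p f : ℕ) [Fact p.Prime] (hf : f ≠ 0)
    (hF : Nat.card F = p ^ f) : IsCyclic (F ≃+* F) ∧ Nat.card (F ≃+* F) = f := by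
  haveI : Fintype F := Fintype.ofFinite F
  haveI : CharP F p := charP_of_card_eq_prime_pow (by rw [← Nat.card_eq_fintype_card, hF])
  letI : Algebra (ZMod p) F := ZMod.algebra F p
  let e : (F ≃ₐ[ZMod p] F) ≃* (F ≃+* F) :=
    { toFun := fun a => a.toRingEquiv
      invFun := fun σ => AlgEquiv.ofRingEquiv (f := σ) (fun r => by
        have : (σ : F →+* F).comp (algebraMap (ZMod p) F) = algebraMap (ZMod p) F := Subsingleton.elim _ _
        exact congrArg (fun g : ZMod p →+* F => g r) this)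
      left_inv := fun a => by ext x; rfl
      right_inv := fun a => by ext x; rfl
      map_mul' := fun a b => rfl }
  haveI : IsCyclic (F ≃ₐ[ZMod p] F) := inferInstance
  refine ⟨isCyclic_of_surjective e e.surjective, ?_⟩
  rw [← Nat.card_congr e.toEquiv, IsGalois.card_aut_eq_finrank]
  have h1 : Nat.card F = p ^ Module.finrank (ZMod p) F := by
    rw [Module.natCard_eq_pow_finrank (K := ZMod p) (V := F), Nat.card_zmod]
  rw [hF] at h1
  exact (Nat.pow_right_injective (Fact.out : p.Prime).two_le h1).symm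

end fieldaut

section out

variable {F : Type*} [Field F] {n : ℕ}

theorem conj_mkP (s : Matrix.SpecialLinearGroup (Fin n) F) : MulAut.conj (mkP s) = cP (Matrix.SpecialLinearGroup.toGL s) := by
  apply eq_of_mkP
  intro t
  change mkP s * mkP t * (mkP s)⁻¹ = mkP (conjSL (Matrix.SpecialLinearGroup.toGL s) t)
  rw [← map_inv, ← map_mul, ← map_mul]
  congr 1

theorem dGL_mul (d e : Fin n → Fˣ) : dGL (d * e) = dGL d * dGL e := by
  apply Units.ext
  rw [Units.val_mul]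
  change Matrix.diagonal _ = Matrix.diagonal _ * Matrix.diagonal _
  rw [Matrix.diagonal_mul_diagonal]
  rfl

theorem det_dGL (d : Fin n → Fˣ) : Matrix.GeneralLinearGroup.det (dGL d) = ∏ i, d i := by
  apply Units.ext
  rw [Matrix.GeneralLinearGroup.val_det_apply]
  change (Matrix.diagonal _).det = _
  rw [Matrix.det_diagonal, Units.coe_prod]

/-- section of the determinant -/
noncomputable def dSec (i : Fin n) : Fˣ →* GL (Fin n) F where
  toFun a := dGL (Pi.mulSingle i a)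
  map_one' := by
    rw [Pi.mulSingle_one]
    apply Units.ext
    change Matrix.diagonal _ = 1
    simp
  map_mul' a b := by rw [Pi.mulSingle_mul, dGL_mul]

theorem det_dSec (i : Fin n) (a : Fˣ) : Matrix.GeneralLinearGroup.det (dSec i a) = a := by
  change Matrix.GeneralLinearGroup.det (dGL (Pi.mulSingle i a)) = a
  rw [det_dGL, Finset.prod_pi_mulSingle']
  simp

variable [Finite F]

theorem cP_mem_Inn_iff (hn : 2 ≤ n) (g : GL (Fin n) F) :
    cP g ∈ Inn (Matrix.ProjectiveSpecialLinearGroup (Fin n) F) ↔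
      ∃ c : Fˣ, Matrix.GeneralLinearGroup.det g = c ^ n := by
  constructor
  · rintro ⟨x, hx⟩
    obtain ⟨s, rfl⟩ := mkP_surjective x
    rw [conj_mkP] at hx
    have h1 : cP ((Matrix.SpecialLinearGroup.toGL s)⁻¹ * g) = 1 := by
      rw [cP_mul, cP_inv, hx, inv_mul_cancel]
    obtain ⟨c, hc⟩ := (cP_eq_one_iff hn _).mp h1
    refine ⟨c, ?_⟩
    have h2 : Matrix.GeneralLinearGroup.det ((Matrix.SpecialLinearGroup.toGL s)⁻¹ * g) = c ^ n := by
      apply Units.ext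
      rw [Matrix.GeneralLinearGroup.val_det_apply, hc]
      simp [Matrix.det_diagonal]
    rw [map_mul, map_inv, Matrix.SpecialLinearGroup.coeToGL_det, inv_one, one_mul] at h2
    exact h2
  · rintro ⟨c, hc⟩
    let s : Matrix.SpecialLinearGroup (Fin n) F := ⟨((c⁻¹ : Fˣ) : F) • (g : Matrix (Fin n) (Fin n) F), by
      rw [Matrix.det_smul, Fintype.card_fin, ← Matrix.GeneralLinearGroup.val_det_apply, hc, ← Units.val_pow_eq_pow_val,
        ← Units.val_mul, ← mul_pow, inv_mul_cancel, one_pow, Units.val_one]⟩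
    refine ⟨mkP s, ?_⟩
    rw [conj_mkP]
    have h1 : cP (g * (Matrix.SpecialLinearGroup.toGL s)⁻¹) = 1 := by
      rw [cP_eq_one_iff hn]
      refine ⟨c, ?_⟩
      have h2 : (g : Matrix (Fin n) (Fin n) F) = Matrix.scalar (Fin n) (c : F) * (Matrix.SpecialLinearGroup.toGL s : GL (Fin n) F) := by
        change _ = Matrix.scalar (Fin n) (c : F) * (((c⁻¹ : Fˣ) : F) • (g : Matrix (Fin n) (Fin n) F))
        rw [Matrix.mul_smul, Matrix.scalar_apply, ← Matrix.smul_eq_diagonal_mul, smul_smul, ← Units.val_mul,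
          inv_mul_cancel, Units.val_one, one_smul]
      rw [Units.val_mul]
      conv_lhs => rw [h2]
      rw [mul_assoc, ← Units.val_mul, mul_inv_cancel, Units.val_one, mul_one]
    rw [cP_mul, cP_inv, mul_inv_eq_one] at h1
    exact h1.symm

/-- the subgroup of outer diagonal automorphisms. -/
def outDiag (F : Type*) [Field F] (n : ℕ) : Subgroup (Out (Matrix.ProjectiveSpecialLinearGroup (Fin n) F)) :=
  (cPrange F n).map (QuotientGroup.mk' (Inn (Matrix.ProjectiveSpecialLinearGroup (Fin n) F)))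

theorem outDiag_cyclic (hn : 2 ≤ n) : IsCyclic (outDiag F n) ∧ Nat.card (outDiag F n) = Nat.gcd n (Nat.card F - 1) := by
  classical
  haveI : Fintype F := Fintype.ofFinite F
  let i : Fin n := ⟨0, by omega⟩
  let δ₀ : Fˣ →* Out (Matrix.ProjectiveSpecialLinearGroup (Fin n) F) :=
    (QuotientGroup.mk' (Inn (Matrix.ProjectiveSpecialLinearGroup (Fin n) F))).comp
      ((congrP.comp conjSL).comp (dSec i))
  have hδ₀ : ∀ a, δ₀ a = QuotientGroup.mk' _ (cP (dSec i a)) := fun a => rfl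
  have hker : ∀ a, δ₀ a = 1 ↔ ∃ c : Fˣ, c ^ n = a := by
    intro a
    rw [hδ₀]
    have h1 : (QuotientGroup.mk' (Inn (Matrix.ProjectiveSpecialLinearGroup (Fin n) F)) (cP (dSec i a)) :
      Out (Matrix.ProjectiveSpecialLinearGroup (Fin n) F)) = 1 ↔ cP (dSec i a) ∈ Inn (Matrix.ProjectiveSpecialLinearGroup (Fin n) F) :=
      QuotientGroup.eq_one_iff _
    rw [h1, cP_mem_Inn_iff hn, det_dSec]
    exact ⟨fun ⟨c, hc⟩ => ⟨c, hc.symm⟩, fun ⟨c, hc⟩ => ⟨c, hc.symm⟩⟩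
  have hrange : δ₀.range = outDiag F n := by
    apply le_antisymm
    · rintro _ ⟨a, rfl⟩
      exact ⟨_, ⟨_, rfl⟩, rfl⟩
    · rintro _ ⟨_, ⟨g, rfl⟩, rfl⟩
      refine ⟨Matrix.GeneralLinearGroup.det g, ?_⟩
      rw [hδ₀]
      change (QuotientGroup.mk (cP (dSec i (Matrix.GeneralLinearGroup.det g))) : Out _) = QuotientGroup.mk (cP g)
      rw [QuotientGroup.eq, ← cP_inv, ← cP_mul, cP_mem_Inn_iff hn]
      exact ⟨1, by rw [map_mul, map_inv, det_dSec, inv_mul_cancel, one_pow]⟩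
  have hcyc : IsCyclic δ₀.range := isCyclic_of_surjective δ₀.rangeRestrict δ₀.rangeRestrict_surjective
  rw [← hrange]
  refine ⟨hcyc, ?_⟩
  have h1 : δ₀.ker = (powMonoidHom n : Fˣ →* Fˣ).range := by
    ext a
    rw [MonoidHom.mem_ker, hker, MonoidHom.mem_range]
    rfl
  have h2 : Nat.card δ₀.range = δ₀.ker.index := (Subgroup.index_ker δ₀).symm
  rw [h2, h1, IsCyclic.index_powMonoidHom_range, Nat.card_units, Nat.gcd_comm]

/-- powers of the inverse transpose -/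
noncomputable def iPow (F : Type*) [Field F] (n : ℕ) (ε : ZMod 2) :
    MulAut (Matrix.ProjectiveSpecialLinearGroup (Fin n) F) := if ε = 0 then 1 else iP F n

theorem zmod_two_cases (ε : ZMod 2) : ε = 0 ∨ ε = 1 := by
  revert ε; decide

omit [Finite F] in
theorem iPow_add (ε δ : ZMod 2) : iPow F n (ε + δ) = iPow F n ε * iPow F n δ := by
  rcases zmod_two_cases ε with rfl | rfl <;> rcases zmod_two_cases δ with rfl | rfl
  · simp [iPow]
  · simp [iPow]
  · simp [iPow]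
  · have : (1 : ZMod 2) + 1 = 0 := by decide
    rw [this]
    simp [iPow, iP_mul_self]

omit [Finite F] in
theorem iPow_cP (ε : ZMod 2) (g : GL (Fin n) F) : ∃ h : GL (Fin n) F, iPow F n ε * cP g = cP h * iPow F n ε := by
  rcases zmod_two_cases ε with rfl | rfl
  · exact ⟨g, by simp [iPow]⟩
  · exact ⟨invTrGL g, by simp [iPow, iP_cP]⟩

omit [Finite F] in
theorem iPow_fP (ε : ZMod 2) (σ : F ≃+* F) : iPow F n ε * fP n σ = fP n σ * iPow F n ε := by
  rcases zmod_two_cases ε with rfl | rfl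
  · simp [iPow]
  · simp [iPow, iP_fP]

omit [Finite F] in
theorem decomp_mul (g h : GL (Fin n) F) (σ τ : F ≃+* F) (ε δ : ZMod 2) :
    ∃ k : GL (Fin n) F, (cP g * fP n σ * iPow F n ε) * (cP h * fP n τ * iPow F n δ) =
      cP k * fP n (σ * τ) * iPow F n (ε + δ) := by
  obtain ⟨h', hh'⟩ := iPow_cP ε h
  refine ⟨g * glMap σ h', ?_⟩
  rw [iPow_add, fP_mul, cP_mul]
  calc (cP g * fP n σ * iPow F n ε) * (cP h * fP n τ * iPow F n δ)
      = cP g * fP n σ * (iPow F n ε * cP h) * fP n τ * iPow F n δ := by simp only [mul_assoc]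
    _ = cP g * (fP n σ * cP h') * (iPow F n ε * fP n τ) * iPow F n δ := by rw [hh']; simp only [mul_assoc]
    _ = cP g * cP (glMap σ h') * (fP n σ * fP n τ) * (iPow F n ε * iPow F n δ) := by
        rw [fP_cP, iPow_fP]; simp only [mul_assoc]

theorem decomp_unique (hn : 3 ≤ n) (g : GL (Fin n) F) (σ : F ≃+* F) (ε : ZMod 2)
    (h : cP g * fP n σ * iPow F n ε = 1) : σ = 1 ∧ ε = 0 := by
  rcases zmod_two_cases ε with rfl | rfl
  · refine ⟨?_, rfl⟩
    have h1 : cP g * fP n σ = 1 := by simpa [iPow] using h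
    exact (cP_fP_eq_one (by omega) g σ h1).1
  · exfalso
    apply cP_fP_iP_ne_one hn g σ
    simpa [iPow] using h

theorem decomp_inv (g : GL (Fin n) F) (σ : F ≃+* F) (ε : ZMod 2) :
    ∃ k : GL (Fin n) F, (cP g * fP n σ * iPow F n ε)⁻¹ = cP k * fP n σ⁻¹ * iPow F n (-ε) := by
  obtain ⟨h', hh'⟩ := iPow_cP (F := F) (n := n) (-ε) (glMap σ⁻¹ g⁻¹)
  refine ⟨h', ?_⟩
  rw [inv_eq_iff_mul_eq_one]
  have e1 : fP n σ * cP (glMap σ⁻¹ g⁻¹) = cP g⁻¹ * fP n σ := by
    rw [fP_cP, ← glMap_mul, mul_inv_cancel, glMap_one]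
  calc (cP g * fP n σ * iPow F n ε) * (cP h' * fP n σ⁻¹ * iPow F n (-ε))
      = cP g * fP n σ * iPow F n ε * cP h' * (fP n σ⁻¹ * iPow F n (-ε)) := by simp only [mul_assoc]
    _ = cP g * fP n σ * iPow F n ε * cP h' * (iPow F n (-ε) * fP n σ⁻¹) := by rw [iPow_fP]
    _ = cP g * fP n σ * iPow F n ε * (cP h' * iPow F n (-ε)) * fP n σ⁻¹ := by simp only [mul_assoc]
    _ = cP g * fP n σ * (iPow F n ε * iPow F n (-ε)) * cP (glMap σ⁻¹ g⁻¹) * fP n σ⁻¹ := by
        rw [← hh']; simp only [mul_assoc]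
    _ = cP g * (fP n σ * cP (glMap σ⁻¹ g⁻¹)) * fP n σ⁻¹ := by
        rw [← iPow_add, add_neg_cancel]; simp [iPow, mul_assoc]
    _ = 1 := by
        rw [e1, cP_inv, fP_inv]; simp [mul_assoc]

theorem aut_PSL_iPow (hn : 3 ≤ n) (α : MulAut (Matrix.ProjectiveSpecialLinearGroup (Fin n) F)) :
    ∃ (g : GL (Fin n) F) (σ : F ≃+* F) (ε : ZMod 2), α = cP g * fP n σ * iPow F n ε := by
  obtain ⟨g, σ, h | ⟨_, h⟩⟩ := aut_PSL (by omega : 2 ≤ n) α
  · exact ⟨g, σ, 0, by simp [iPow, h]⟩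
  · exact ⟨g, σ, 1, by simp [iPow, h]⟩

/-- the type homomorphism for `n ≥ 3` -/
theorem exists_typeHom (hn : 3 ≤ n) :
    ∃ Θ : MulAut (Matrix.ProjectiveSpecialLinearGroup (Fin n) F) →* (F ≃+* F) × Multiplicative (ZMod 2),
      (∀ g σ ε, Θ (cP g * fP n σ * iPow F n ε) = (σ, Multiplicative.ofAdd ε)) := by
  choose g σ ε h using aut_PSL_iPow (F := F) hn
  have huniq : ∀ (g₁ g₂ : GL (Fin n) F) (σ₁ σ₂ : F ≃+* F) (ε₁ ε₂ : ZMod 2),
      cP g₁ * fP n σ₁ * iPow F n ε₁ = cP g₂ * fP n σ₂ * iPow F n ε₂ → σ₁ = σ₂ ∧ ε₁ = ε₂ := by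
    intro g₁ g₂ σ₁ σ₂ ε₁ ε₂ he
    obtain ⟨k, hk⟩ := decomp_inv g₂ σ₂ ε₂
    obtain ⟨k', hk'⟩ := decomp_mul g₁ k σ₁ σ₂⁻¹ ε₁ (-ε₂)
    rw [← hk, he, mul_inv_cancel] at hk'
    obtain ⟨h1, h2⟩ := decomp_unique hn _ _ _ hk'.symm
    exact ⟨mul_inv_eq_one.mp h1, by rw [add_neg_eq_zero] at h2; exact h2⟩
  refine ⟨MonoidHom.mk' (fun α => (σ α, Multiplicative.ofAdd (ε α))) ?_, ?_⟩
  · intro α β
    obtain ⟨k, hk⟩ := decomp_mul (g α) (g β) (σ α) (σ β) (ε α) (ε β)
    rw [← h α, ← h β, h (α * β)] at hk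
    obtain ⟨h1, h2⟩ := huniq _ _ _ _ _ _ hk
    exact Prod.ext h1 (congrArg Multiplicative.ofAdd h2)
  · intro g' σ' ε'
    obtain ⟨h1, h2⟩ := huniq _ _ _ _ _ _ (h (cP g' * fP n σ' * iPow F n ε'))
    exact Prod.ext h1.symm (congrArg Multiplicative.ofAdd h2.symm)

/-- the field homomorphism for `n = 2` -/
theorem exists_typeHom_two :
    ∃ Θ : MulAut (Matrix.ProjectiveSpecialLinearGroup (Fin 2) F) →* (F ≃+* F),
      (∀ g σ, Θ (cP g * fP 2 σ) = σ) := by
  choose g σ h using aut_PSL_two (F := F)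
  have huniq : ∀ (g₁ g₂ : GL (Fin 2) F) (σ₁ σ₂ : F ≃+* F),
      cP g₁ * fP 2 σ₁ = cP g₂ * fP 2 σ₂ → σ₁ = σ₂ := by
    intro g₁ g₂ σ₁ σ₂ he
    have h1 : cP (glMap σ₂⁻¹ (g₂⁻¹ * g₁)) * fP 2 (σ₂⁻¹ * σ₁) = 1 := by
      rw [fP_mul, ← mul_assoc, ← fP_cP, cP_mul, cP_inv, mul_assoc, mul_assoc, he, fP_inv]
      group
    exact (inv_mul_eq_one.mp (cP_fP_eq_one le_rfl _ _ h1).1).symm
  refine ⟨MonoidHom.mk' σ ?_, ?_⟩
  · intro α β
    have h1 : cP (g α) * fP 2 (σ α) * (cP (g β) * fP 2 (σ β)) = cP (g α * glMap (σ α) (g β)) * fP 2 (σ α * σ β) := by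
      rw [cP_mul, fP_mul, mul_assoc, ← mul_assoc (fP 2 (σ α)), fP_cP]
      simp only [mul_assoc]
    have h2 : α = cP (g α) * fP 2 (σ α) := h α
    have h3 : β = cP (g β) * fP 2 (σ β) := h β
    have h4 : α * β = cP (g (α * β)) * fP 2 (σ (α * β)) := h (α * β)
    rw [← h2, ← h3, h4] at h1
    exact huniq _ _ _ _ h1
  · intro g' σ'
    have h4 : cP g' * fP 2 σ' = cP (g (cP g' * fP 2 σ')) * fP 2 (σ (cP g' * fP 2 σ')) := h _
    exact (huniq _ _ _ _ h4).symm

end out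

end Cfsg.Agent.H17
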