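import Mathlib
import Cfsg.Prelude.Def_Classical

set_option autoImplicit false

/-! Block diagonal isometries of an orthogonal direct sum. -/

namespace Cfsg.Agent.H17

open Matrix

theorem mem_isometryGroup {ι : Type} [Fintype ι] [DecidableEq ι] {F : Type*} [Field F] {Q : (ι → F) → F} {g : GL ι F} :
    g ∈ Cfsg.isometryGroup F Q ↔ ∀ v, Q ((g : Matrix ι ι F) *ᵥ v) = Q v :=
  ⟨fun h v => h v v, fun h u _ => h u⟩

/-- Block diagonal embedding `GL × GL → GL`. -/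
def blockGL {ι κ : Type} [Fintype ι] [DecidableEq ι] [Fintype κ] [DecidableEq κ] (F : Type*) [Field F] :
    GL ι F × GL κ F →* GL (ι ⊕ κ) F where
  toFun p := ⟨Matrix.fromBlocks p.1 0 0 p.2, Matrix.fromBlocks (p.1⁻¹ : GL ι F) 0 0 (p.2⁻¹ : GL κ F), by
      rw [Matrix.fromBlocks_multiply]; simp, by
      rw [Matrix.fromBlocks_multiply]; simp⟩
  map_one' := by apply Units.ext; simp
  map_mul' p q := by
    apply Units.ext
    show Matrix.fromBlocks _ _ _ _ = Matrix.fromBlocks _ _ _ _ * Matrix.fromBlocks _ _ _ _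
    rw [Matrix.fromBlocks_multiply]; simp

theorem blockGL_val {ι κ : Type} [Fintype ι] [DecidableEq ι] [Fintype κ] [DecidableEq κ] (F : Type*) [Field F]
    (p : GL ι F × GL κ F) : ((blockGL F p : GL (ι ⊕ κ) F) : Matrix (ι ⊕ κ) (ι ⊕ κ) F) = Matrix.fromBlocks p.1 0 0 p.2 := rfl

/-- Block diagonal isometries. -/
def blockIso {ι κ : Type} [Fintype ι] [DecidableEq ι] [Fintype κ] [DecidableEq κ] (F : Type*) [Field F]
    (Q₁ : (ι → F) → F) (Q₂ : (κ → F) → F) :
    Cfsg.isometryGroup F Q₁ × Cfsg.isometryGroup F Q₂ →* Cfsg.isometryGroup F (fun v : ι ⊕ κ → F => Q₁ (v ∘ Sum.inl) + Q₂ (v ∘ Sum.inr)) :=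
  MonoidHom.codRestrict ((blockGL F).comp (MonoidHom.prodMap (Cfsg.isometryGroup F Q₁).subtype (Cfsg.isometryGroup F Q₂).subtype))
    (Cfsg.isometryGroup F (fun v : ι ⊕ κ → F => Q₁ (v ∘ Sum.inl) + Q₂ (v ∘ Sum.inr))) (by
      intro p
      rw [mem_isometryGroup]
      intro v
      show (fun v : ι ⊕ κ → F => Q₁ (v ∘ Sum.inl) + Q₂ (v ∘ Sum.inr)) (Matrix.fromBlocks ((p.1 : GL ι F) : Matrix ι ι F) 0 0 ((p.2 : GL κ F) : Matrix κ κ F) *ᵥ v) = _
      rw [Matrix.fromBlocks_mulVec]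
      simp only [Matrix.zero_mulVec, add_zero, zero_add, Sum.elim_comp_inl, Sum.elim_comp_inr]
      rw [mem_isometryGroup.mp p.1.2, mem_isometryGroup.mp p.2.2])

theorem blockIso_val {ι κ : Type} [Fintype ι] [DecidableEq ι] [Fintype κ] [DecidableEq κ] (F : Type*) [Field F]
    (Q₁ : (ι → F) → F) (Q₂ : (κ → F) → F) (p : Cfsg.isometryGroup F Q₁ × Cfsg.isometryGroup F Q₂) :
    (((blockIso F Q₁ Q₂ p : Cfsg.isometryGroup F _) : GL (ι ⊕ κ) F) : Matrix (ι ⊕ κ) (ι ⊕ κ) F) =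
      Matrix.fromBlocks ((p.1 : GL ι F) : Matrix ι ι F) 0 0 ((p.2 : GL κ F) : Matrix κ κ F) := rfl

theorem map_mem_commutator {G H : Type*} [Group G] [Group H] (f : G →* H) {g : G} (hg : g ∈ commutator G) : f g ∈ commutator H := by
  have h1 : (commutator G).map f ≤ commutator H := by
    rw [commutator_def, commutator_def, Subgroup.map_commutator]
    exact Subgroup.commutator_mono le_top le_top
  exact h1 ⟨g, hg, rfl⟩

end Cfsg.Agent.H17
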