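import Mathlib

set_option autoImplicit false

/-! Finite commutative rings with an unramified involution: Hilbert 90 and surjectivity of norms; applications to
conjugacy of isometries. -/

namespace Cfsg.Agent.H17

section comm

theorem exists_idem_pow {R : Type*} [CommMonoid R] [Finite R] (a : R) : ∃ n : ℕ, 0 < n ∧ a ^ n * a ^ n = a ^ n := by
  obtain ⟨i, j, hij, h⟩ := Finite.exists_ne_map_eq_of_infinite (fun n : ℕ => a ^ (n + 1))
  wlog hlt : i < j generalizing i j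
  · exact this j i hij.symm h.symm (by omega)
  obtain ⟨k, rfl⟩ : ∃ k, j = i + k := ⟨j - i, by omega⟩
  have hk : 0 < k := by omega
  have h1 : ∀ t, i + 1 ≤ t → a ^ (t + k) = a ^ t := by
    intro t ht
    obtain ⟨s, rfl⟩ : ∃ s, t = s + (i + 1) := ⟨t - (i + 1), by omega⟩
    rw [show s + (i + 1) + k = s + (i + k + 1) by ring, pow_add, ← h, ← pow_add]
  have h2 : ∀ l t, i + 1 ≤ t → a ^ (t + l * k) = a ^ t := by
    intro l
    induction l with
    | zero => intro t _; rw [zero_mul, add_zero]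
    | succ l ih =>
      intro t ht
      rw [show t + (l + 1) * k = (t + l * k) + k by ring, h1 _ (by omega), ih t ht]
  refine ⟨(i + 1) * k, Nat.mul_pos (by omega) hk, ?_⟩
  rw [← pow_add]
  exact h2 (i + 1) ((i + 1) * k) (Nat.le_mul_of_pos_right _ hk)

variable {R : Type*} [CommRing R] [Finite R]

/-- Hilbert 90 -/
theorem ring_h90 (σ : R ≃+* R) (hσ : ∀ x, σ (σ x) = x) {z : R} (hz : IsUnit (z - σ z)) {θ : R} (hθ : θ * σ θ = 1) :
    ∃ η : R, IsUnit η ∧ θ * σ η = η := by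
  classical
  let E : R → R := fun y => y + θ * σ y
  have hE : ∀ y, θ * σ (E y) = E y := by
    intro y
    show θ * σ (y + θ * σ y) = y + θ * σ y
    rw [map_add, map_mul, hσ]
    linear_combination y * hθ
  let D : R → Set R := fun y => {r | ∃ k : ℕ, r * E y ^ k = 0}
  obtain ⟨y, -, hy⟩ := Set.exists_min_image (Set.univ : Set R) (fun y => Nat.card (D y)) Set.finite_univ ⟨0, trivial⟩
  have hy' : ∀ y', Nat.card (D y) ≤ Nat.card (D y') := fun y' => hy y' trivial
  obtain ⟨n, hn, hid⟩ := exists_idem_pow (E y)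
  obtain ⟨e, he⟩ : ∃ e : R, e = 1 - E y ^ n := ⟨_, rfl⟩
  have hee : e * e = e := by rw [he]; linear_combination hid
  have heE : e * E y ^ n = 0 := by rw [he]; linear_combination -hid
  have hDe : ∀ r, r ∈ D y → r * (1 - e) = 0 := by
    rintro r ⟨k, hk⟩
    have h1 : (1 - e) = (1 - e) ^ (k + 1) := by
      have : ∀ k : ℕ, (1 - e) ^ (k + 1) = 1 - e := by
        intro k
        induction k with
        | zero => rw [zero_add, pow_one]
        | succ k ih => rw [pow_succ, ih]; linear_combination hee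
      exact (this k).symm
    have h2 : (1 - e) = E y ^ n := by rw [he]; ring
    rw [h1, h2, ← pow_mul]
    have h3 : k ≤ n * (k + 1) := by nlinarith
    obtain ⟨s, hs⟩ := Nat.exists_eq_add_of_le h3
    rw [hs, pow_add, ← mul_assoc, hk, zero_mul]
  -- e is symmetric
  have hσθ : ∀ x : R, θ * x = 0 → x = 0 := by
    intro x hx
    have : σ θ * (θ * x) = x := by linear_combination x * hθ
    rw [← this, hx, mul_zero]
  have hσE : σ (E y) = σ θ * E y := by
    have := hE y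
    calc σ (E y) = (θ * σ θ) * σ (E y) := by rw [hθ, one_mul]
      _ = σ θ * (θ * σ (E y)) := by ring
      _ = _ := by rw [this]
  have hse : σ e ∈ D y := by
    refine ⟨n, ?_⟩
    have h1 := congrArg σ heE
    rw [map_mul, map_zero, map_pow, hσE, mul_pow] at h1
    have h2 : σ e * E y ^ n = θ ^ n * (σ e * (σ θ ^ n * E y ^ n)) := by
      have : θ ^ n * σ θ ^ n = 1 := by rw [← mul_pow, hθ, one_pow]
      linear_combination -(σ e * E y ^ n) * this
    rw [h2, h1, mul_zero]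
  have he1 : σ e * (1 - e) = 0 := hDe _ hse
  have he2 : σ e = e := by
    have h1 := congrArg σ he1
    rw [map_mul, map_sub, map_one, hσ, map_zero] at h1
    linear_combination he1 - h1
  -- minimality
  have hnil : ∀ z' : R, IsNilpotent (e * (z' + θ * σ z')) := by
    intro z'
    by_contra hcon
    have hE' : E ((1 - e) * y + e * z') = (1 - e) * E y + e * (z' + θ * σ z') := by
      show (1 - e) * y + e * z' + θ * σ ((1 - e) * y + e * z') = (1 - e) * (y + θ * σ y) + e * (z' + θ * σ z')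
      rw [map_add, map_mul, map_mul, map_sub, map_one, he2]
      ring
    have hpow : ∀ k : ℕ, ((1 - e) * E y + e * (z' + θ * σ z')) ^ k * (1 - e) = E y ^ k * (1 - e) ∧
        ((1 - e) * E y + e * (z' + θ * σ z')) ^ k * e = (z' + θ * σ z') ^ k * e := by
      intro k
      induction k with
      | zero => simp
      | succ k ih =>
        constructor
        · rw [pow_succ, pow_succ]
          have : ((1 - e) * E y + e * (z' + θ * σ z')) ^ k * ((1 - e) * E y + e * (z' + θ * σ z')) * (1 - e) =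
              (((1 - e) * E y + e * (z' + θ * σ z')) ^ k * (1 - e)) * E y := by
            linear_combination ((1 - e) * E y + e * (z' + θ * σ z')) ^ k * (E y * hee - (z' + θ * σ z') * hee)
          rw [this, ih.1]; ring
        · rw [pow_succ, pow_succ]
          have : ((1 - e) * E y + e * (z' + θ * σ z')) ^ k * ((1 - e) * E y + e * (z' + θ * σ z')) * e =
              (((1 - e) * E y + e * (z' + θ * σ z')) ^ k * e) * (z' + θ * σ z') := by
            linear_combination ((1 - e) * E y + e * (z' + θ * σ z')) ^ k * (-E y * hee + (z' + θ * σ z') * hee)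
          rw [this, ih.2]; ring
    have hsub : D ((1 - e) * y + e * z') ⊆ D y := by
      rintro r ⟨k, hk⟩
      rw [hE'] at hk
      have h1 : (r * (1 - e)) * E y ^ k = 0 := by
        calc (r * (1 - e)) * E y ^ k = r * (E y ^ k * (1 - e)) := by ring
          _ = r * (((1 - e) * E y + e * (z' + θ * σ z')) ^ k * (1 - e)) := by rw [(hpow k).1]
          _ = (r * ((1 - e) * E y + e * (z' + θ * σ z')) ^ k) * (1 - e) := by ring
          _ = 0 := by rw [hk, zero_mul]
      have h2 := hDe _ ⟨k, h1⟩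
      have h3 : r * (1 - e) = 0 := by linear_combination h2 - r * hee
      refine ⟨n, ?_⟩
      have h4 : r = r * e := by linear_combination h3
      rw [h4, mul_assoc, heE, mul_zero]
    have hne : e ∉ D ((1 - e) * y + e * z') := by
      rintro ⟨k, hk⟩
      apply hcon
      refine ⟨k + 1, ?_⟩
      rw [hE', mul_comm, (hpow k).2] at hk
      rw [mul_pow, pow_succ (z' + θ * σ z'), pow_succ e]
      linear_combination e ^ k * (z' + θ * σ z') * hk
    have heD : e ∈ D y := ⟨n, heE⟩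
    have hlt : D ((1 - e) * y + e * z') ⊂ D y := ⟨hsub, fun h => hne (h heD)⟩
    have := Set.ncard_lt_ncard hlt (Set.toFinite _)
    exact absurd (hy' ((1 - e) * y + e * z')) (not_le.mpr this)
  have h1 := hnil 1
  rw [map_one, mul_one] at h1
  have h2 := hnil z
  have h3 : IsNilpotent (e * (z - σ z)) := by
    have : e * (z - σ z) = e * (z + θ * σ z) - e * (1 + θ) * σ z := by ring
    rw [this]
    exact (Commute.all _ _).isNilpotent_sub h2 ((Commute.all _ _).isNilpotent_mul_right h1)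
  have h4 : IsNilpotent e := by
    obtain ⟨w, hw⟩ := hz.exists_right_inv
    have : e = (e * (z - σ z)) * w := by linear_combination -e * hw
    rw [this]
    exact (Commute.all _ _).isNilpotent_mul_right h3
  have h5 : e = 0 := by
    obtain ⟨k, hk⟩ := h4
    have : ∀ k : ℕ, e ^ (k + 1) = e := by
      intro k
      induction k with
      | zero => rw [zero_add, pow_one]
      | succ k ih => rw [pow_succ, ih, hee]
    rw [← this k, pow_succ, hk, zero_mul]
  refine ⟨E y, ?_, hE y⟩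
  have h6 : E y ^ n = 1 := by rw [he] at h5; linear_combination -h5
  obtain ⟨m, rfl⟩ : ∃ m, n = m + 1 := ⟨n - 1, by omega⟩
  exact IsUnit.of_mul_eq_one (E y ^ m) (by rw [← pow_succ']; exact h6)

/-- surjectivity of the norm -/
theorem ring_norm_surj (σ : R ≃+* R) (hσ : ∀ x, σ (σ x) = x) {z : R} (hz : IsUnit (z - σ z)) {c : R} (hc : IsUnit c) (hcσ : σ c = c) :
    ∃ x : R, IsUnit x ∧ σ x * x = c := by
  classical
  let s : Rˣ →* Rˣ := Units.map (σ : R →* R)
  have hs : ∀ x : Rˣ, ((s x : Rˣ) : R) = σ x := fun _ => rfl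
  have hss : ∀ x, s (s x) = x := fun x => Units.ext (hσ x)
  let N : Rˣ →* Rˣ := s * MonoidHom.id Rˣ
  let D : Rˣ →* Rˣ := MonoidHom.id Rˣ / s
  have hN : ∀ x, N x = s x * x := fun _ => rfl
  have hD : ∀ x, D x = x / s x := fun _ => rfl
  have h1 : N.ker ≤ D.range := by
    intro θ hθ
    rw [MonoidHom.mem_ker, hN] at hθ
    have h2 : (θ : R) * σ θ = 1 := by rw [mul_comm]; exact congrArg Units.val hθ
    obtain ⟨η, hη, h3⟩ := ring_h90 σ hσ hz h2
    refine ⟨hη.unit, ?_⟩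
    rw [hD, div_eq_iff_eq_mul]
    exact Units.ext h3.symm
  have h2 : N.range ≤ D.ker := by
    rintro _ ⟨x, rfl⟩
    rw [MonoidHom.mem_ker, hD, hN, map_mul, hss, div_eq_one, mul_comm]
  have c1 := Subgroup.card_mul_index N.ker
  have c2 := Subgroup.card_mul_index D.ker
  rw [Subgroup.index_ker] at c1 c2
  have c3 : Nat.card N.ker ≤ Nat.card D.range := Nat.card_le_card_of_injective (Subgroup.inclusion h1) (Subgroup.inclusion_injective h1)
  have c4 : Nat.card D.ker ≤ Nat.card N.range := by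
    by_contra hcon
    push Not at hcon
    have c5 : 0 < Nat.card N.ker := Nat.card_pos
    have c6 : 0 < Nat.card D.ker := Nat.card_pos
    have := Nat.mul_lt_mul_of_pos_left hcon c5
    have c7 := Nat.mul_le_mul_left (Nat.card D.ker) c3
    rw [c2, ← c1] at c7
    rw [mul_comm (Nat.card D.ker)] at c7
    omega
  have h3 : N.range = D.ker := Subgroup.eq_of_le_of_card_ge h2 c4
  have h4 : hc.unit ∈ D.ker := by
    rw [MonoidHom.mem_ker, hD, div_eq_one]
    exact Units.ext hcσ.symm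
  rw [← h3] at h4
  obtain ⟨x, hx⟩ := h4
  refine ⟨x, x.isUnit, ?_⟩
  exact congrArg Units.val hx

end comm

section ncomm

variable {M : Type*} [Ring M] [Finite M]

/-- commutation with a unit and its inverse -/
theorem comm_inv_iff (A : Mˣ) (x : M) : x * ((A⁻¹ : Mˣ) : M) = ((A⁻¹ : Mˣ) : M) * x ↔ x * (A : M) = (A : M) * x := by
  constructor
  · intro h
    calc x * (A : M) = ((A : M) * ((A⁻¹ : Mˣ) : M)) * x * (A : M) := by rw [Units.mul_inv, one_mul]
      _ = (A : M) * (((A⁻¹ : Mˣ) : M) * x) * (A : M) := by noncomm_ring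
      _ = (A : M) * (x * ((A⁻¹ : Mˣ) : M)) * (A : M) := by rw [h]
      _ = (A : M) * x * (((A⁻¹ : Mˣ) : M) * (A : M)) := by noncomm_ring
      _ = _ := by rw [Units.inv_mul, mul_one]
  · intro h
    calc x * ((A⁻¹ : Mˣ) : M) = (((A⁻¹ : Mˣ) : M) * (A : M)) * x * ((A⁻¹ : Mˣ) : M) := by rw [Units.inv_mul, one_mul]
      _ = ((A⁻¹ : Mˣ) : M) * ((A : M) * x) * ((A⁻¹ : Mˣ) : M) := by noncomm_ring
      _ = ((A⁻¹ : Mˣ) : M) * (x * (A : M)) * ((A⁻¹ : Mˣ) : M) := by rw [h]
      _ = ((A⁻¹ : Mˣ) : M) * x * ((A : M) * ((A⁻¹ : Mˣ) : M)) := by noncomm_ring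
      _ = _ := by rw [Units.mul_inv, mul_one]

/-- The basic set-up: an anti-involution `s`, an invariant form `P` and commuting elements. -/
structure AI (s : M → M) : Prop where
  add : ∀ x y, s (x + y) = s x + s y
  mul : ∀ x y, s (x * y) = s y * s x
  inv : ∀ x, s (s x) = x
  one : s 1 = 1

variable {s : M → M}

theorem AI.comm (H : AI s) {x y : M} (h : x * y = y * x) : s x * s y = s y * s x := by
  rw [← H.mul, ← H.mul, h]

theorem AI.comm_iff (H : AI s) {x y : M} : s x * s y = s y * s x ↔ x * y = y * x :=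
  ⟨fun h => by have := H.comm h; rwa [H.inv, H.inv] at this, H.comm⟩

/-- the image of a unit -/
def AI.u (H : AI s) (P : Mˣ) : Mˣ := ⟨s P, s ((P⁻¹ : Mˣ) : M), by rw [← H.mul, Units.inv_mul, H.one], by rw [← H.mul, Units.mul_inv, H.one]⟩

theorem AI.u_val (H : AI s) (P : Mˣ) : (H.u P : M) = s P := rfl

theorem AI.sum_main (H : AI s) (P A : Mˣ) (hA : s A * P * A = P) {c : M} (hcA : c * A = A * c)
    (hcT : c * (((P⁻¹ : Mˣ) : M) * s P) = (((P⁻¹ : Mˣ) : M) * s P) * c) (hcP : s c * P = P * c) {z : M}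
    (hz : ∀ y : M, y * A = A * y → y * c = c * y → y * (((P⁻¹ : Mˣ) : M) * s P) = (((P⁻¹ : Mˣ) : M) * s P) * y → z * y = y * z)
    (hzu : IsUnit (z - ((P⁻¹ : Mˣ) : M) * s z * P)) :
    (IsUnit c → ∃ x : Mˣ, (x : M) * A = A * x ∧ s x * P * x = P * c) ∧
    (∃ x : Mˣ, (x : M) * A = A * x ∧ s x * s P = P * x) := by
  classical
  set T : M := ((P⁻¹ : Mˣ) : M) * s P with hT
  set S : Set M := {(A : M), c, T} with hS
  set R : Subring M := Subring.centralizer (Set.centralizer S) with hR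
  have hmemC : ∀ y : M, y ∈ Set.centralizer S ↔ y * A = A * y ∧ y * c = c * y ∧ y * T = T * y := by
    intro y
    rw [Set.mem_centralizer_iff]
    constructor
    · intro h
      exact ⟨(h A (by simp [hS])).symm, (h c (by simp [hS])).symm, (h T (by simp [hS])).symm⟩
    · rintro ⟨h1, h2, h3⟩ m hm
      rcases hm with rfl | rfl | rfl
      · exact h1.symm
      · exact h2.symm
      · exact h3.symm
  have hmemR : ∀ x : M, x ∈ R ↔ ∀ y : M, y * A = A * y → y * c = c * y → y * T = T * y → x * y = y * x := by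
    intro x
    rw [hR, Subring.mem_centralizer_iff]
    constructor
    · intro h y h1 h2 h3
      exact (h y ((hmemC y).mpr ⟨h1, h2, h3⟩)).symm
    · intro h y hy
      obtain ⟨h1, h2, h3⟩ := (hmemC y).mp hy
      exact (h y h1 h2 h3).symm
  -- A commutes with T
  have hsA : s A * s P * A = s P := by
    have := congrArg s hA
    rw [H.mul, H.mul, H.inv, ← mul_assoc] at this
    exact this
  have hPA : s A * (P : M) = P * ((A⁻¹ : Mˣ) : M) := by
    rw [Units.eq_mul_inv_iff_mul_eq]; exact hA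
  have hsPA : s A * s P = s P * ((A⁻¹ : Mˣ) : M) := by
    rw [Units.eq_mul_inv_iff_mul_eq]; exact hsA
  have hPA' : ((P⁻¹ : Mˣ) : M) * s A = ((A⁻¹ : Mˣ) : M) * ((P⁻¹ : Mˣ) : M) := by
    rw [Units.eq_mul_inv_iff_mul_eq, mul_assoc, hPA, ← mul_assoc, Units.inv_mul, one_mul]
  have hTAi : T * ((A⁻¹ : Mˣ) : M) = ((A⁻¹ : Mˣ) : M) * T := by
    rw [hT, mul_assoc, ← hsPA, ← mul_assoc, hPA', mul_assoc]
  have hTA : T * (A : M) = A * T := (comm_inv_iff A T).mp hTAi
  have hAR : (A : M) ∈ R := (hmemR _).mpr fun y h1 _ _ => h1.symm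
  have hcR : c ∈ R := (hmemR _).mpr fun y _ h2 _ => h2.symm
  have hTR : T ∈ R := (hmemR _).mpr fun y _ _ h3 => h3.symm
  -- commutativity
  have hRcomm : ∀ x ∈ R, ∀ y ∈ R, x * y = y * x := by
    intro x hx y hy
    have h1 : ∀ w : M, w * A = A * w → w * c = c * w → w * T = T * w → y * w = w * y := (hmemR y).mp hy
    exact (hmemR x).mp hx y (h1 A rfl hcA.symm hTA.symm) (h1 c hcA rfl hcT) (h1 T hTA hcT.symm rfl)
  -- the involution
  let τ : M → M := fun x => ((P⁻¹ : Mˣ) : M) * s x * P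
  have hτmul : ∀ x y, τ (x * y) = τ y * τ x := by
    intro x y
    show ((P⁻¹ : Mˣ) : M) * s (x * y) * P = ((P⁻¹ : Mˣ) : M) * s y * P * (((P⁻¹ : Mˣ) : M) * s x * P)
    rw [H.mul]
    calc ((P⁻¹ : Mˣ) : M) * (s y * s x) * P = ((P⁻¹ : Mˣ) : M) * s y * 1 * s x * P := by noncomm_ring
      _ = ((P⁻¹ : Mˣ) : M) * s y * (P * ((P⁻¹ : Mˣ) : M)) * s x * P := by rw [Units.mul_inv]
      _ = _ := by noncomm_ring
  have hτadd : ∀ x y, τ (x + y) = τ x + τ y := by
    intro x y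
    show ((P⁻¹ : Mˣ) : M) * s (x + y) * P = ((P⁻¹ : Mˣ) : M) * s x * P + ((P⁻¹ : Mˣ) : M) * s y * P
    rw [H.add, mul_add, add_mul]
  have hτone : τ 1 = 1 := by
    show ((P⁻¹ : Mˣ) : M) * s 1 * P = 1
    rw [H.one, mul_one, Units.inv_mul]
  have hsPinv : s P * s ((P⁻¹ : Mˣ) : M) = 1 := by rw [← H.mul, Units.inv_mul, H.one]
  have hsPinv' : s ((P⁻¹ : Mˣ) : M) * s P = 1 := by rw [← H.mul, Units.mul_inv, H.one]
  have hττ : ∀ x, x * T = T * x → τ (τ x) = x := by
    intro x hx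
    show ((P⁻¹ : Mˣ) : M) * s (((P⁻¹ : Mˣ) : M) * s x * P) * P = x
    rw [H.mul, H.mul, H.inv]
    calc ((P⁻¹ : Mˣ) : M) * (s P * (x * s ((P⁻¹ : Mˣ) : M))) * P = (T * x) * s ((P⁻¹ : Mˣ) : M) * P := by rw [hT]; noncomm_ring
      _ = (x * T) * s ((P⁻¹ : Mˣ) : M) * P := by rw [hx]
      _ = x * ((P⁻¹ : Mˣ) : M) * (s P * s ((P⁻¹ : Mˣ) : M)) * P := by rw [hT]; noncomm_ring
      _ = x * (((P⁻¹ : Mˣ) : M) * P) := by rw [hsPinv]; noncomm_ring
      _ = x := by rw [Units.inv_mul, mul_one]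
  have hRT : ∀ x ∈ R, x * T = T * x := fun x hx => hRcomm x hx T hTR
  have hτR : ∀ x ∈ R, τ x ∈ R := by
    intro x hx
    rw [hmemR]
    intro y h1 h2 h3
    -- the conjugate of y
    set y' : M := s ((P⁻¹ : Mˣ) : M) * s y * s P with hy'
    have e1 : y' * A = A * y' := by
      have h4 : s y * s A = s A * s y := H.comm h1
      have h5 : s P * (A : M) = s ((A⁻¹ : Mˣ) : M) * s P := by
        have h6 : s ((A⁻¹ : Mˣ) : M) * s A = 1 := by rw [← H.mul, Units.mul_inv, H.one]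
        calc s P * (A : M) = (s ((A⁻¹ : Mˣ) : M) * s A) * s P * A := by rw [h6, one_mul]
          _ = s ((A⁻¹ : Mˣ) : M) * (s A * s P * A) := by noncomm_ring
          _ = _ := by rw [hsA]
      have h6 : (A : M) * s ((P⁻¹ : Mˣ) : M) = s ((P⁻¹ : Mˣ) : M) * s ((A⁻¹ : Mˣ) : M) := by
        calc (A : M) * s ((P⁻¹ : Mˣ) : M) = (s ((P⁻¹ : Mˣ) : M) * s P) * A * s ((P⁻¹ : Mˣ) : M) := by rw [hsPinv', one_mul]
          _ = s ((P⁻¹ : Mˣ) : M) * (s P * A) * s ((P⁻¹ : Mˣ) : M) := by noncomm_ring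
          _ = s ((P⁻¹ : Mˣ) : M) * s ((A⁻¹ : Mˣ) : M) * (s P * s ((P⁻¹ : Mˣ) : M)) := by rw [h5]; noncomm_ring
          _ = _ := by rw [hsPinv, mul_one]
      have h7 : s y * s ((A⁻¹ : Mˣ) : M) = s ((A⁻¹ : Mˣ) : M) * s y := H.comm ((comm_inv_iff A y).mpr h1)
      calc y' * A = s ((P⁻¹ : Mˣ) : M) * s y * (s P * A) := by rw [hy']; noncomm_ring
        _ = s ((P⁻¹ : Mˣ) : M) * (s y * s ((A⁻¹ : Mˣ) : M)) * s P := by rw [h5]; noncomm_ring
        _ = (s ((P⁻¹ : Mˣ) : M) * s ((A⁻¹ : Mˣ) : M)) * s y * s P := by rw [h7]; noncomm_ring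
        _ = A * y' := by rw [← h6, hy']; noncomm_ring
    have hsc : s P * c = s c * s P := by
      have := congrArg s hcP
      rw [H.mul, H.mul, H.inv] at this
      exact this
    have e2 : y' * c = c * y' := by
      have h4 : s y * s c = s c * s y := H.comm h2
      have h6 : c * s ((P⁻¹ : Mˣ) : M) = s ((P⁻¹ : Mˣ) : M) * s c := by
        calc c * s ((P⁻¹ : Mˣ) : M) = (s ((P⁻¹ : Mˣ) : M) * s P) * c * s ((P⁻¹ : Mˣ) : M) := by rw [hsPinv', one_mul]
          _ = s ((P⁻¹ : Mˣ) : M) * (s P * c) * s ((P⁻¹ : Mˣ) : M) := by noncomm_ring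
          _ = s ((P⁻¹ : Mˣ) : M) * s c * (s P * s ((P⁻¹ : Mˣ) : M)) := by rw [hsc]; noncomm_ring
          _ = _ := by rw [hsPinv, mul_one]
      calc y' * c = s ((P⁻¹ : Mˣ) : M) * s y * (s P * c) := by rw [hy']; noncomm_ring
        _ = s ((P⁻¹ : Mˣ) : M) * (s y * s c) * s P := by rw [hsc]; noncomm_ring
        _ = (s ((P⁻¹ : Mˣ) : M) * s c) * s y * s P := by rw [h4]; noncomm_ring
        _ = c * y' := by rw [← h6, hy']; noncomm_ring
    have e3 : y' * T = T * y' := by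
      -- s P * T = (s P * P⁻¹) * s P, and s y commutes with s P * P⁻¹ = s (T)⁻¹
      have h4 : s y * (P * s ((P⁻¹ : Mˣ) : M)) = (P * s ((P⁻¹ : Mˣ) : M)) * s y := by
        have := H.comm h3
        rw [hT, H.mul, H.inv] at this
        exact this
      have h5 : s y * (s P * ((P⁻¹ : Mˣ) : M)) = (s P * ((P⁻¹ : Mˣ) : M)) * s y := by
        have h6 : (s P * ((P⁻¹ : Mˣ) : M)) * (P * s ((P⁻¹ : Mˣ) : M)) = 1 := by
          calc (s P * ((P⁻¹ : Mˣ) : M)) * (P * s ((P⁻¹ : Mˣ) : M)) = s P * (((P⁻¹ : Mˣ) : M) * P) * s ((P⁻¹ : Mˣ) : M) := by noncomm_ring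
            _ = 1 := by rw [Units.inv_mul, mul_one, hsPinv]
        have h7 : (P * s ((P⁻¹ : Mˣ) : M)) * (s P * ((P⁻¹ : Mˣ) : M)) = 1 := by
          calc (P * s ((P⁻¹ : Mˣ) : M)) * (s P * ((P⁻¹ : Mˣ) : M)) = P * (s ((P⁻¹ : Mˣ) : M) * s P) * ((P⁻¹ : Mˣ) : M) := by noncomm_ring
            _ = 1 := by rw [hsPinv', mul_one, Units.mul_inv]
        calc s y * (s P * ((P⁻¹ : Mˣ) : M)) = ((s P * ((P⁻¹ : Mˣ) : M)) * (P * s ((P⁻¹ : Mˣ) : M))) * s y * (s P * ((P⁻¹ : Mˣ) : M)) := by rw [h6, one_mul]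
          _ = (s P * ((P⁻¹ : Mˣ) : M)) * ((P * s ((P⁻¹ : Mˣ) : M)) * s y) * (s P * ((P⁻¹ : Mˣ) : M)) := by noncomm_ring
          _ = (s P * ((P⁻¹ : Mˣ) : M)) * s y * ((P * s ((P⁻¹ : Mˣ) : M)) * (s P * ((P⁻¹ : Mˣ) : M))) := by rw [← h4]; noncomm_ring
          _ = _ := by rw [h7, mul_one]
      calc y' * T = s ((P⁻¹ : Mˣ) : M) * (s y * (s P * ((P⁻¹ : Mˣ) : M))) * s P := by rw [hy', hT]; noncomm_ring
        _ = s ((P⁻¹ : Mˣ) : M) * ((s P * ((P⁻¹ : Mˣ) : M)) * s y) * s P := by rw [h5]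
        _ = (s ((P⁻¹ : Mˣ) : M) * s P) * ((P⁻¹ : Mˣ) : M) * s y * s P := by noncomm_ring
        _ = ((P⁻¹ : Mˣ) : M) * (s P * s ((P⁻¹ : Mˣ) : M)) * s y * s P := by rw [hsPinv', hsPinv]; noncomm_ring
        _ = T * y' := by rw [hy', hT]; noncomm_ring
    have h4 : x * y' = y' * x := (hmemR x).mp hx y' e1 e2 e3
    have e4 : s y' = P * (y * ((P⁻¹ : Mˣ) : M)) := by rw [hy', H.mul, H.mul, H.inv, H.inv, H.inv]
    have h5 := congrArg s h4
    rw [H.mul x y', H.mul y' x, e4] at h5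
    -- P y P⁻¹ commutes with s x
    show ((P⁻¹ : Mˣ) : M) * s x * P * y = y * (((P⁻¹ : Mˣ) : M) * s x * P)
    calc ((P⁻¹ : Mˣ) : M) * s x * P * y = ((P⁻¹ : Mˣ) : M) * s x * P * y * (((P⁻¹ : Mˣ) : M) * P) := by rw [Units.inv_mul, mul_one]
      _ = ((P⁻¹ : Mˣ) : M) * (s x * (P * (y * ((P⁻¹ : Mˣ) : M)))) * P := by noncomm_ring
      _ = ((P⁻¹ : Mˣ) : M) * (P * (y * ((P⁻¹ : Mˣ) : M)) * s x) * P := by rw [← h5]
      _ = (((P⁻¹ : Mˣ) : M) * P) * y * (((P⁻¹ : Mˣ) : M) * s x * P) := by noncomm_ring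
      _ = _ := by rw [Units.inv_mul, one_mul]
  letI : CommRing R := { (inferInstance : Ring R) with mul_comm := fun a b => Subtype.ext (hRcomm a a.2 b b.2) }
  let σ : R ≃+* R :=
    { toFun := fun x => ⟨τ x, hτR x x.2⟩
      invFun := fun x => ⟨τ x, hτR x x.2⟩
      left_inv := fun x => Subtype.ext (hττ x (hRT x x.2))
      right_inv := fun x => Subtype.ext (hττ x (hRT x x.2))
      map_mul' := fun x y => by
        apply Subtype.ext
        show τ (x * y) = τ x * τ y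
        rw [hτmul]
        exact hRcomm _ (hτR y y.2) _ (hτR x x.2)
      map_add' := fun x y => Subtype.ext (hτadd x y) }
  have hσ : ∀ x, σ (σ x) = x := fun x => Subtype.ext (hττ x (hRT x x.2))
  -- units of R
  have hunit : ∀ x : R, IsUnit (x : M) → IsUnit x := by
    intro x hx
    obtain ⟨w, hw⟩ := hx
    have h1 : ((w⁻¹ : Mˣ) : M) ∈ R := by
      rw [hmemR]
      intro y h1 h2 h3
      have h4 := (hmemR x).mp x.2 y h1 h2 h3
      rw [← hw] at h4
      exact ((comm_inv_iff w y).mpr h4.symm).symm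
    refine IsUnit.of_mul_eq_one ⟨_, h1⟩ (Subtype.ext ?_)
    show (x : M) * ((w⁻¹ : Mˣ) : M) = 1
    rw [← hw, Units.mul_inv]
  have hunit' : ∀ x : R, IsUnit x → IsUnit (x : M) := fun x hx => hx.map R.subtype
  have hzR : z ∈ R := (hmemR z).mpr hz
  have hz' : IsUnit ((⟨z, hzR⟩ : R) - σ ⟨z, hzR⟩) := hunit _ hzu
  constructor
  · intro hcu
    obtain ⟨x, hx, hxc⟩ := ring_norm_surj σ hσ hz' (c := ⟨c, hcR⟩) (hunit _ hcu) (Subtype.ext (by
      show ((P⁻¹ : Mˣ) : M) * s c * P = c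
      rw [mul_assoc, hcP, ← mul_assoc, Units.inv_mul, one_mul]))
    have hx' := hunit' x hx
    refine ⟨hx'.unit, ?_, ?_⟩
    · exact hRcomm _ x.2 _ hAR
    · have h1 : ((P⁻¹ : Mˣ) : M) * s x * P * x = c := congrArg (fun r : R => (r : M)) hxc
      show s (x : M) * P * x = P * c
      rw [← h1]
      calc s (x : M) * P * x = 1 * (s (x : M) * P * x) := by rw [one_mul]
        _ = (P * ((P⁻¹ : Mˣ) : M)) * (s (x : M) * P * x) := by rw [Units.mul_inv]
        _ = _ := by noncomm_ring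
  · have hTT : (⟨T, hTR⟩ : R) * σ ⟨T, hTR⟩ = 1 := by
      apply Subtype.ext
      show T * (((P⁻¹ : Mˣ) : M) * s T * P) = 1
      have h1 : s T = P * s ((P⁻¹ : Mˣ) : M) := by rw [hT, H.mul, H.inv]
      rw [h1, hT]
      calc ((P⁻¹ : Mˣ) : M) * s P * (((P⁻¹ : Mˣ) : M) * (P * s ((P⁻¹ : Mˣ) : M)) * P) = ((P⁻¹ : Mˣ) : M) * s P * (((P⁻¹ : Mˣ) : M) * P) * s ((P⁻¹ : Mˣ) : M) * P := by noncomm_ring
        _ = ((P⁻¹ : Mˣ) : M) * (s P * s ((P⁻¹ : Mˣ) : M)) * P := by rw [Units.inv_mul]; noncomm_ring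
        _ = 1 := by rw [hsPinv, mul_one, Units.inv_mul]
    obtain ⟨x, hx, hxT⟩ := ring_h90 σ hσ hz' hTT
    have hx' := hunit' x hx
    refine ⟨hx'.unit, ?_, ?_⟩
    · exact hRcomm _ x.2 _ hAR
    · have h1 : T * (((P⁻¹ : Mˣ) : M) * s x * P) = x := congrArg (fun r : R => (r : M)) hxT
      have h2 : (((P⁻¹ : Mˣ) : M) * s x * P) * T = x := (hRcomm _ (hτR x x.2) _ hTR).trans h1
      show s (x : M) * s P = P * x
      have h3 : (P : M) * x = P * ((((P⁻¹ : Mˣ) : M) * s x * P) * T) := by rw [h2]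
      rw [h3, hT]
      calc s (x : M) * s P = 1 * s (x : M) * 1 * s P := by noncomm_ring
        _ = (P * ((P⁻¹ : Mˣ) : M)) * s (x : M) * (P * ((P⁻¹ : Mˣ) : M)) * s P := by rw [Units.mul_inv]
        _ = _ := by noncomm_ring

end ncomm

end Cfsg.Agent.H17
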