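import Mathlib
import Cfsg.Agent.H17.AutPSL8

set_option autoImplicit false

/-! Hilbert 90 for `GL_n` over a field with a cyclic group of automorphisms. -/

open scoped MatrixGroups Matrix

namespace Cfsg.Agent.H17

open Matrix

section tw

variable {F : Type*} [Field F] {n : ℕ}

/-- twisted norm `a σ(a) ⋯ σ^{i-1}(a)` -/
def tN (σ : F ≃+* F) (a : GL (Fin n) F) : ℕ → GL (Fin n) F
  | 0 => 1
  | i + 1 => a * glMap σ (tN σ a i)

theorem tN_zero (σ : F ≃+* F) (a : GL (Fin n) F) : tN σ a 0 = 1 := rfl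

theorem tN_succ (σ : F ≃+* F) (a : GL (Fin n) F) (i : ℕ) : tN σ a (i + 1) = a * glMap σ (tN σ a i) := rfl

theorem cP_fP_pow (σ : F ≃+* F) (a : GL (Fin n) F) (i : ℕ) :
    (cP a * fP n σ) ^ i = cP (tN σ a i) * fP n (σ ^ i) := by
  induction i with
  | zero => rw [pow_zero, pow_zero, tN_zero, cP_one, fP_one, one_mul]
  | succ i ih =>
    rw [pow_succ', ih, tN_succ, pow_succ', cP_mul, fP_mul]
    calc cP a * fP n σ * (cP (tN σ a i) * fP n (σ ^ i)) = cP a * (fP n σ * cP (tN σ a i)) * fP n (σ ^ i) := by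
          simp only [mul_assoc]
      _ = _ := by rw [fP_cP]; simp only [mul_assoc]

theorem glMap_pow_succ (σ : F ≃+* F) (i : ℕ) (a : GL (Fin n) F) : glMap (σ ^ (i + 1)) a = glMap σ (glMap (σ ^ i) a) := by
  rw [pow_succ', glMap_mul]

theorem tN_succ' (σ : F ≃+* F) (a : GL (Fin n) F) (i : ℕ) : tN σ a (i + 1) = tN σ a i * glMap (σ ^ i) a := by
  induction i with
  | zero => rw [tN_succ, tN_zero, map_one, mul_one, one_mul, pow_zero, glMap_one]
  | succ i ih =>
    rw [tN_succ, ih, map_mul, ← mul_assoc, ← tN_succ, ← glMap_pow_succ]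
    rw [ih]

/-- `σ`-semilinear action on vectors -/
def sV (σ : F ≃+* F) (v : Fin n → F) : Fin n → F := fun i => σ (v i)

theorem sV_mulVec (σ : F ≃+* F) (a : GL (Fin n) F) (v : Fin n → F) :
    sV σ ((a : Matrix (Fin n) (Fin n) F) *ᵥ v) = (glMap σ a : Matrix (Fin n) (Fin n) F) *ᵥ sV σ v := by
  ext i
  simp only [sV, Matrix.mulVec, dotProduct, map_sum, map_mul]
  rfl

theorem sV_sV (σ τ : F ≃+* F) (v : Fin n → F) : sV σ (sV τ v) = sV (σ * τ) v := rfl

theorem sV_one (v : Fin n → F) : sV (1 : F ≃+* F) v = v := rfl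

theorem sV_smul (σ : F ≃+* F) (c : F) (v : Fin n → F) : sV σ (c • v) = σ c • sV σ v := by
  ext i; simp [sV]

theorem sV_sum {ι : Type*} (σ : F ≃+* F) (s : Finset ι) (v : ι → Fin n → F) :
    sV σ (∑ i ∈ s, v i) = ∑ i ∈ s, sV σ (v i) := by
  ext i; simp [sV, Finset.sum_apply]

theorem hilbert90_gl (σ : F ≃+* F) {r : ℕ} (hr : orderOf σ = r) (hr0 : 0 < r) (a : GL (Fin n) F)
    (ha : tN σ a r = 1) : ∃ b : GL (Fin n) F, a * glMap σ b = b := by
  classical
  let B : (Fin n → F) → (Fin n → F) := fun v =>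
    ∑ i ∈ Finset.range r, (tN σ a i : Matrix (Fin n) (Fin n) F) *ᵥ sV (σ ^ i) v
  have hBfix : ∀ v, (a : Matrix (Fin n) (Fin n) F) *ᵥ sV σ (B v) = B v := by
    intro v
    have h1 : ∀ i, (a : Matrix (Fin n) (Fin n) F) *ᵥ sV σ ((tN σ a i : Matrix (Fin n) (Fin n) F) *ᵥ sV (σ ^ i) v) =
        (tN σ a (i + 1) : Matrix (Fin n) (Fin n) F) *ᵥ sV (σ ^ (i + 1)) v := by
      intro i
      rw [sV_mulVec, Matrix.mulVec_mulVec, sV_sV, ← pow_succ', tN_succ, Units.val_mul]
    simp only [B]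
    rw [sV_sum, Matrix.mulVec_sum, Finset.sum_congr rfl (fun i _ => h1 i)]
    have h2 := Finset.sum_range_succ' (fun i => (tN σ a i : Matrix (Fin n) (Fin n) F) *ᵥ sV (σ ^ i) v) r
    have h3 := Finset.sum_range_succ (fun i => (tN σ a i : Matrix (Fin n) (Fin n) F) *ᵥ sV (σ ^ i) v) r
    rw [h2] at h3
    have h4 : (tN σ a r : Matrix (Fin n) (Fin n) F) *ᵥ sV (σ ^ r) v =
        (tN σ a 0 : Matrix (Fin n) (Fin n) F) *ᵥ sV (σ ^ 0) v := by
      rw [ha, ← hr, pow_orderOf_eq_one, tN_zero, pow_zero]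
    rw [h4] at h3
    exact add_right_cancel h3
  have hspan : Submodule.span F (Set.range B) = ⊤ := by
    by_contra hne
    obtain ⟨u, hu0, hu⟩ := Submodule.exists_le_ker_of_lt_top _ (lt_top_iff_ne_top.mpr hne)
    apply hu0
    apply LinearMap.ext
    intro v
    have h1 : ∀ c : F, ∑ i ∈ Finset.range r, u ((tN σ a i : Matrix (Fin n) (Fin n) F) *ᵥ sV (σ ^ i) v) * (σ ^ i) c = 0 := by
      intro c
      have h2 : u (B (c • v)) = 0 := hu (Submodule.subset_span ⟨_, rfl⟩)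
      simp only [B] at h2
      rw [map_sum] at h2
      rw [← h2]
      apply Finset.sum_congr rfl
      intro i _
      rw [sV_smul, Matrix.mulVec_smul, map_smul, smul_eq_mul, mul_comm]
    have hli := (linearIndependent_monoidHom F F).comp
      (fun i : Fin r => (((σ ^ (i : ℕ) : F ≃+* F) : F →+* F) : F →* F)) (by
        intro i j hij
        have h2 : σ ^ (i : ℕ) = σ ^ (j : ℕ) := by
          apply RingEquiv.ext
          intro x
          exact congrArg (fun f : F →* F => f x) hij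
        have hi : (i : ℕ) < orderOf σ := i.2.trans_eq hr.symm
        have hj : (j : ℕ) < orderOf σ := j.2.trans_eq hr.symm
        exact Fin.ext (pow_injOn_Iio_orderOf hi hj h2))
    rw [Fintype.linearIndependent_iff] at hli
    have h3 := hli (fun i => u ((tN σ a i : Matrix (Fin n) (Fin n) F) *ᵥ sV (σ ^ (i : ℕ)) v)) (by
      funext c
      rw [Finset.sum_apply]
      have h4 := h1 c
      rw [Finset.sum_range] at h4
      exact h4) ⟨0, hr0⟩
    simp only [tN_zero, pow_zero, Units.val_one, Matrix.one_mulVec, sV_one] at h3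
    exact h3
  obtain ⟨f, hf1, hf2, hf3⟩ := Submodule.exists_fun_fin_finrank_span_eq F (Set.range B)
  have hfin : Module.finrank F (Submodule.span F (Set.range B)) = n := by
    rw [hspan, finrank_top, Module.finrank_fin_fun]
  obtain ⟨f', hf'⟩ : ∃ f' : Fin n → (Fin n → F), f' = fun i => f (Fin.cast hfin.symm i) := ⟨_, rfl⟩
  have hli' : LinearIndependent F f' := by
    rw [hf']
    exact hf3.comp _ (Fin.cast_injective _)
  have hunit : IsUnit (Matrix.of f')ᵀ := by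
    rw [Matrix.isUnit_transpose, ← Matrix.linearIndependent_rows_iff_isUnit]
    exact hli'
  obtain ⟨b, hb⟩ := hunit
  refine ⟨b, ?_⟩
  apply Units.ext
  rw [Units.val_mul, coe_glMap, hb]
  ext i j
  have h5 : f' j ∈ Set.range B := by rw [hf']; exact hf1 _
  obtain ⟨v, hv⟩ := h5
  have h6 := congrFun (hBfix v) i
  rw [hv] at h6
  rw [Matrix.mul_apply]
  rw [Matrix.mulVec, dotProduct] at h6
  exact h6

/-- scalar matrices -/
def sGL (n : ℕ) : Fˣ →* GL (Fin n) F := Matrix.GeneralLinearGroup.scalar (Fin n)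

theorem coe_sGL (c : Fˣ) : (sGL n c : Matrix (Fin n) (Fin n) F) = Matrix.scalar (Fin n) (c : F) := rfl

theorem det_sGL (c : Fˣ) : Matrix.GeneralLinearGroup.det (sGL n c) = c ^ n := by
  rw [sGL, Matrix.GeneralLinearGroup.det_scalar, Fintype.card_fin]

theorem det_glMap (σ : F ≃+* F) (g : GL (Fin n) F) :
    (Matrix.GeneralLinearGroup.det (glMap σ g) : F) = σ (Matrix.GeneralLinearGroup.det g : F) := by
  rw [Matrix.GeneralLinearGroup.val_det_apply, Matrix.GeneralLinearGroup.val_det_apply, coe_glMap]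
  exact ((σ : F →+* F).map_det _).symm

theorem sGL_comm (c : Fˣ) (g : GL (Fin n) F) : sGL n c * g = g * sGL n c :=
  Matrix.GeneralLinearGroup.scalar_commute _ _

/-- action on units -/
def uM (σ : F ≃+* F) : Fˣ →* Fˣ := Units.map (σ : F →* F)

theorem det_glMap' (σ : F ≃+* F) (g : GL (Fin n) F) :
    Matrix.GeneralLinearGroup.det (glMap σ g) = uM σ (Matrix.GeneralLinearGroup.det g) :=
  Units.ext (det_glMap σ g)

theorem coe_uM (σ : F ≃+* F) (c : Fˣ) : (uM σ c : F) = σ c := rfl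

theorem uM_mul (σ τ : F ≃+* F) (c : Fˣ) : uM (σ * τ) c = uM σ (uM τ c) := rfl

theorem uM_one (c : Fˣ) : uM (1 : F ≃+* F) c = c := rfl

theorem uM_pow_succ (σ : F ≃+* F) (i : ℕ) (c : Fˣ) : uM (σ ^ (i + 1)) c = uM σ (uM (σ ^ i) c) := by
  rw [pow_succ', uM_mul]

theorem glMap_sGL (σ : F ≃+* F) (c : Fˣ) : glMap σ (sGL n c) = sGL n (uM σ c) :=
  Matrix.GeneralLinearGroup.map_scalar _ _

theorem sGL_inj (hn : n ≠ 0) {c d : Fˣ} (h : sGL n c = sGL n d) : c = d := by
  haveI : NeZero n := ⟨hn⟩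
  apply Units.ext
  have h1 := congrArg (fun g : GL (Fin n) F => (g : Matrix (Fin n) (Fin n) F) 0 0) h
  simpa [coe_sGL, Matrix.scalar_apply] using h1

/-- the norm on units -/
def uN (σ : F ≃+* F) (c : Fˣ) : ℕ → Fˣ
  | 0 => 1
  | i + 1 => c * uM σ (uN σ c i)

theorem uN_zero (σ : F ≃+* F) (c : Fˣ) : uN σ c 0 = 1 := rfl
theorem uN_succ (σ : F ≃+* F) (c : Fˣ) (i : ℕ) : uN σ c (i + 1) = c * uM σ (uN σ c i) := rfl

theorem tN_sGL_mul (σ : F ≃+* F) (c : Fˣ) (a : GL (Fin n) F) (i : ℕ) :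
    tN σ (sGL n c * a) i = sGL n (uN σ c i) * tN σ a i := by
  induction i with
  | zero => rw [tN_zero, tN_zero, uN_zero, map_one, mul_one]
  | succ i ih =>
    rw [tN_succ, ih, tN_succ, uN_succ, map_mul, glMap_sGL, map_mul]
    calc sGL n c * a * (sGL n (uM σ (uN σ c i)) * glMap σ (tN σ a i))
        = sGL n c * (a * sGL n (uM σ (uN σ c i))) * glMap σ (tN σ a i) := by simp only [mul_assoc]
      _ = sGL n c * (sGL n (uM σ (uN σ c i)) * a) * glMap σ (tN σ a i) := by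
          rw [sGL_comm (uM σ (uN σ c i)) a]
      _ = _ := by simp only [mul_assoc]

theorem tN_sGL (σ : F ≃+* F) (c : Fˣ) (i : ℕ) : tN σ (sGL n c) i = sGL n (uN σ c i) := by
  have h1 : ∀ j, tN σ (1 : GL (Fin n) F) j = 1 := by
    intro j
    induction j with
    | zero => rfl
    | succ j ih => rw [tN_succ, ih, map_one, mul_one]
  have := tN_sGL_mul σ c (1 : GL (Fin n) F) i
  rwa [mul_one, h1, mul_one] at this

theorem hilbert90_u (σ : F ≃+* F) {r : ℕ} (hr : orderOf σ = r) (hr0 : 0 < r) (c : Fˣ)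
    (hc : uN σ c r = 1) : ∃ y : Fˣ, c * uM σ y = y := by
  obtain ⟨b, hb⟩ := hilbert90_gl σ hr hr0 (sGL 1 c) (by rw [tN_sGL, hc, map_one])
  refine ⟨Matrix.GeneralLinearGroup.det b, ?_⟩
  have h1 := congrArg Matrix.GeneralLinearGroup.det hb
  rw [map_mul, det_sGL, pow_one, det_glMap'] at h1
  exact h1

theorem uN_mul (σ : F ≃+* F) (c d : Fˣ) (i : ℕ) : uN σ (c * d) i = uN σ c i * uN σ d i := by
  induction i with
  | zero => simp [uN_zero]
  | succ i ih =>
    rw [uN_succ, uN_succ, uN_succ, ih, map_mul]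
    exact mul_mul_mul_comm _ _ _ _

theorem uN_succ' (σ : F ≃+* F) (c : Fˣ) (i : ℕ) : uN σ c (i + 1) = uN σ c i * uM (σ ^ i) c := by
  induction i with
  | zero => rw [uN_succ, uN_zero, map_one, mul_one, one_mul, pow_zero, uM_one]
  | succ i ih =>
    rw [uN_succ, ih, map_mul, ← mul_assoc, ← uN_succ, ← uM_pow_succ]
    rw [ih]

/-- the norm as a homomorphism -/
def uNh (σ : F ≃+* F) (r : ℕ) : Fˣ →* Fˣ where
  toFun c := uN σ c r
  map_one' := by
    induction r with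
    | zero => rfl
    | succ r ih => rw [uN_succ, ih, map_one, mul_one]
  map_mul' c d := uN_mul σ c d r

theorem uM_uN (σ : F ≃+* F) {r : ℕ} (hr : orderOf σ = r) (c : Fˣ) : uM σ (uN σ c r) = uN σ c r := by
  have h1 := uN_succ σ c r
  have h2 := uN_succ' σ c r
  rw [← hr, pow_orderOf_eq_one, hr, uM_one, mul_comm] at h2
  rw [h2] at h1
  exact (mul_left_cancel h1).symm

theorem uNorm_surj [Finite F] (σ : F ≃+* F) {r : ℕ} (hr : orderOf σ = r) (hr0 : 0 < r) (c : Fˣ)
    (hc : σ c = c) : ∃ x : Fˣ, uN σ x r = c := by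
  let ψ : Fˣ →* Fˣ := MonoidHom.id Fˣ / uM σ
  have hψ : ∀ x, ψ x = x / uM σ x := fun x => rfl
  have h1 : ψ.range = (uNh σ r).ker := by
    ext x
    rw [MonoidHom.mem_range, MonoidHom.mem_ker]
    constructor
    · rintro ⟨y, rfl⟩
      rw [hψ, map_div, div_eq_one]
      change uN σ y r = uN σ (uM σ y) r
      rw [← uM_uN σ hr y]
      have h2 : ∀ i, uM σ (uN σ y i) = uN σ (uM σ y) i := by
        intro i
        induction i with
        | zero => rw [uN_zero, uN_zero, map_one]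
        | succ i ih => rw [uN_succ, uN_succ, map_mul, ih]
      rw [h2]
    · intro h
      obtain ⟨y, hy⟩ := hilbert90_u σ hr hr0 x h
      refine ⟨y, ?_⟩
      rw [hψ, div_eq_iff_eq_mul]
      exact hy.symm
  have h2 : (uNh σ r).range ≤ ψ.ker := by
    rintro _ ⟨x, rfl⟩
    rw [MonoidHom.mem_ker, hψ, div_eq_one]
    exact (uM_uN σ hr x).symm
  have h3 : Nat.card ψ.ker ≤ Nat.card (uNh σ r).range := by
    have e1 := ψ.ker.card_mul_index
    have e2 := (uNh σ r).ker.card_mul_index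
    rw [Subgroup.index_ker] at e1 e2
    rw [h1] at e1
    rw [← e2] at e1
    have hpos : 0 < Nat.card (uNh σ r).ker := Nat.card_pos
    rw [mul_comm] at e1
    exact le_of_eq (Nat.eq_of_mul_eq_mul_left hpos e1)
  have h4 : (uNh σ r).range = ψ.ker := Subgroup.eq_of_le_of_card_ge h2 h3
  have h5 : c ∈ ψ.ker := by
    rw [MonoidHom.mem_ker, hψ, div_eq_one]
    exact Units.ext hc.symm
  rw [← h4] at h5
  exact h5

variable [Finite F]

theorem cP_sGL (hn : 2 ≤ n) (c : Fˣ) : cP (sGL n c) = 1 := (cP_eq_one_iff hn _).mpr ⟨c, rfl⟩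

theorem cP_eq_one_iff' (hn : 2 ≤ n) (g : GL (Fin n) F) : cP g = 1 ↔ ∃ c : Fˣ, g = sGL n c := by
  rw [cP_eq_one_iff hn]
  constructor
  · rintro ⟨c, hc⟩
    exact ⟨c, Units.ext hc⟩
  · rintro ⟨c, hc⟩
    exact ⟨c, by rw [hc]; rfl⟩

/-- Lang-type statement: the coset `Inndiag · φ_σ` contains only one class of elements of order `r`. -/
theorem field_conj (hn : 2 ≤ n) (σ : F ≃+* F) {r : ℕ} (hr : orderOf σ = r) (hr0 : 0 < r)
    (a : GL (Fin n) F) (h : (cP a * fP n σ) ^ r = 1) :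
    ∃ b : GL (Fin n) F, cP a * fP n σ = cP b * fP n σ * (cP b)⁻¹ := by
  rw [cP_fP_pow, ← hr, pow_orderOf_eq_one, fP_one, mul_one, hr, cP_eq_one_iff' hn] at h
  obtain ⟨c, hc⟩ := h
  have h1 := tN_succ σ a r
  have h2 := tN_succ' σ a r
  rw [← hr, pow_orderOf_eq_one, hr, glMap_one, hc] at h2
  rw [h2, hc, glMap_sGL, ← sGL_comm] at h1
  have h3 := sGL_inj (by omega) (mul_right_cancel h1)
  obtain ⟨x, hx⟩ := uNorm_surj σ hr hr0 c⁻¹ (by
    rw [Units.val_inv_eq_inv_val, map_inv₀]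
    rw [← coe_uM, ← h3])
  obtain ⟨b, hb⟩ := hilbert90_gl σ hr hr0 (sGL n x * a) (by
    rw [tN_sGL_mul, hx, hc, ← map_mul, inv_mul_cancel, map_one])
  refine ⟨b, ?_⟩
  have h4 : cP a = cP (sGL n x * a) := by rw [cP_mul, cP_sGL hn, one_mul]
  rw [h4, eq_mul_inv_iff_mul_eq, mul_assoc, fP_cP, ← mul_assoc, ← cP_mul, hb]

/-- the centralizer of a standard field automorphism in `Inndiag`. -/
theorem comm_fP_iff (hn : 2 ≤ n) (σ : F ≃+* F) {r : ℕ} (hr : orderOf σ = r) (hr0 : 0 < r) (g : GL (Fin n) F) :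
    fP n σ * cP g = cP g * fP n σ ↔ ∃ (c : Fˣ) (h : GL (Fin n) F), glMap σ h = h ∧ g = sGL n c * h := by
  constructor
  · intro h
    rw [fP_cP] at h
    have h1 : cP (glMap σ g * g⁻¹) = 1 := by
      rw [cP_mul, cP_inv, mul_inv_eq_one]
      exact mul_right_cancel h
    rw [cP_eq_one_iff' hn] at h1
    obtain ⟨c, hc⟩ := h1
    rw [mul_inv_eq_iff_eq_mul] at hc
    have h2 : ∀ i, glMap (σ ^ i) g = sGL n (uN σ c i) * g := by
      intro i
      induction i with
      | zero => rw [pow_zero, glMap_one, uN_zero, map_one, one_mul]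
      | succ i ih =>
        rw [glMap_pow_succ, ih, map_mul, hc, glMap_sGL, uN_succ, map_mul, ← mul_assoc]
        rw [← sGL_comm]
    have h3 := h2 r
    rw [← hr, pow_orderOf_eq_one, glMap_one, hr] at h3
    have h4 : uN σ c r = 1 := by
      apply sGL_inj (n := n) (by omega)
      rw [map_one]
      have h5 := h3.symm
      rw [mul_eq_right] at h5
      exact h5
    obtain ⟨y, hy⟩ := hilbert90_u σ hr hr0 c h4
    refine ⟨y⁻¹, sGL n y * g, ?_, ?_⟩
    · rw [map_mul, glMap_sGL, hc, ← mul_assoc, ← map_mul, mul_comm (uM σ y), hy]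
    · rw [← mul_assoc, ← map_mul, inv_mul_cancel, map_one, one_mul]
  · rintro ⟨c, h, hh, rfl⟩
    rw [cP_mul, cP_sGL hn, one_mul, fP_cP, hh]

end tw

end Cfsg.Agent.H17
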