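import Mathlib
import Cfsg.Agent.H17.H90
import Cfsg.Agent.H5.UnitBasic

set_option autoImplicit false

/-! Graph-field automorphisms of `PSL n F`: Hermitian matrices. -/

open scoped MatrixGroups Matrix

namespace Cfsg.Agent.H17

open Matrix

section gf

variable {F : Type*} [Field F] {n : ℕ}

theorem invTrGL_mul (g h : GL (Fin n) F) : invTrGL (g * h) = invTrGL g * invTrGL h := by
  apply Units.ext
  rw [coe_invTrGL, _root_.mul_inv_rev, Units.val_mul, Matrix.transpose_mul, Units.val_mul, coe_invTrGL, coe_invTrGL]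

theorem invTrGL_invTrGL (g : GL (Fin n) F) : invTrGL (invTrGL g) = g := by
  apply Units.ext
  rw [coe_invTrGL, coe_invTrGL_inv, Matrix.transpose_transpose]

/-- the map `g ↦ σ(g)^{-T}` -/
def gfM (σ : F ≃+* F) : GL (Fin n) F →* GL (Fin n) F where
  toFun g := glMap σ (invTrGL g)
  map_one' := by
    have : invTrGL (1 : GL (Fin n) F) = 1 := by
      apply Units.ext
      rw [coe_invTrGL, inv_one, Units.val_one, Matrix.transpose_one]
    rw [this, map_one]
  map_mul' g h := by rw [invTrGL_mul, map_mul]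

theorem coe_gfM_inv (σ : F ≃+* F) (g : GL (Fin n) F) :
    (((gfM σ g)⁻¹ : GL (Fin n) F) : Matrix (Fin n) (Fin n) F) = ((g : Matrix (Fin n) (Fin n) F).map σ)ᵀ := by
  change (((glMap σ (invTrGL g))⁻¹ : GL (Fin n) F) : Matrix (Fin n) (Fin n) F) = _
  rw [← map_inv, coe_glMap, coe_invTrGL_inv]
  rfl

theorem invTrGL_glMap (σ : F ≃+* F) (g : GL (Fin n) F) : invTrGL (glMap σ g) = glMap σ (invTrGL g) := by
  apply Units.ext
  rw [coe_invTrGL, ← map_inv]
  rfl

theorem gfM_gfM {σ : F ≃+* F} (hσ2 : σ * σ = 1) (g : GL (Fin n) F) : gfM σ (gfM σ g) = g := by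
  change glMap σ (invTrGL (glMap σ (invTrGL g))) = g
  rw [invTrGL_glMap, invTrGL_invTrGL, ← glMap_mul, hσ2, glMap_one]

theorem gfM_sGL (σ : F ≃+* F) (c : Fˣ) : gfM σ (sGL n c) = (sGL n (uM σ c))⁻¹ := by
  change glMap σ (invTrGL (sGL n c)) = _
  have : invTrGL (sGL n c) = sGL n c⁻¹ := by
    apply Units.ext
    rw [coe_invTrGL, ← map_inv, coe_sGL]
    exact Matrix.diagonal_transpose _
  rw [this, glMap_sGL, map_inv, map_inv]

theorem det_gfM (σ : F ≃+* F) (g : GL (Fin n) F) :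
    Matrix.GeneralLinearGroup.det (gfM σ g) = (uM σ (Matrix.GeneralLinearGroup.det g))⁻¹ := by
  change Matrix.GeneralLinearGroup.det (glMap σ (invTrGL g)) = _
  rw [det_glMap', ← map_inv, ← map_inv]
  congr 1
  apply Units.ext
  rw [Matrix.GeneralLinearGroup.val_det_apply, Matrix.GeneralLinearGroup.val_det_apply, coe_invTrGL, Matrix.det_transpose]

/-- standard graph-field automorphism -/
theorem gf_cP (σ : F ≃+* F) (g : GL (Fin n) F) :
    (fP n σ * iP F n) * cP g = cP (gfM σ g) * (fP n σ * iP F n) := by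
  rw [mul_assoc, iP_cP, ← mul_assoc, fP_cP]
  change cP (gfM σ g) * fP n σ * iP F n = _
  rw [mul_assoc]

theorem gf_sq {σ : F ≃+* F} (hσ2 : σ * σ = 1) : (fP n σ * iP F n) * (fP n σ * iP F n) = 1 := by
  calc (fP n σ * iP F n) * (fP n σ * iP F n) = fP n σ * (iP F n * fP n σ) * iP F n := by simp only [mul_assoc]
    _ = (fP n σ * fP n σ) * (iP F n * iP F n) := by rw [iP_fP]; simp only [mul_assoc]
    _ = 1 := by rw [iP_mul_self, ← fP_mul, hσ2, fP_one, one_mul]

theorem herm_factor [Finite F] {σ : F ≃+* F} (hσ : σ ≠ 1) (hσ2 : σ * σ = 1) (a : GL (Fin n) F)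
    (ha : gfM σ a = a⁻¹) : ∃ b : GL (Fin n) F, a * gfM σ b = b := by
  classical
  obtain ⟨h, hh⟩ : ∃ h : Matrix (Fin n) (Fin n) F, h = (a : Matrix (Fin n) (Fin n) F)ᵀ := ⟨_, rfl⟩
  have hσσ : ∀ x, σ (σ x) = x := fun x => congrArg (fun f : F ≃+* F => f x) hσ2
  have hherm : ∀ i j, σ (h i j) = h j i := by
    intro i j
    have h1 : (((gfM σ a)⁻¹ : GL (Fin n) F) : Matrix (Fin n) (Fin n) F) = a := by rw [ha, inv_inv]
    rw [coe_gfM_inv] at h1
    rw [hh, Matrix.transpose_apply, Matrix.transpose_apply]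
    have h2 := congrFun (congrFun h1 i) j
    rw [Matrix.transpose_apply, Matrix.map_apply] at h2
    exact h2
  let B : (Fin n → F) →ₛₗ[(σ : F →+* F)] (Fin n → F) →ₗ[F] F :=
    LinearMap.mk₂'ₛₗ (σ : F →+* F) (RingHom.id F) (fun x y => sV σ x ⬝ᵥ (h *ᵥ y))
      (by intro x y z
          have : sV σ (x + y) = sV σ x + sV σ y := by ext i; simp [sV]
          rw [this, add_dotProduct])
      (by intro c x y
          rw [sV_smul, smul_dotProduct]; rfl)
      (by intro x y z; rw [Matrix.mulVec_add, dotProduct_add])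
      (by intro c x y; rw [Matrix.mulVec_smul, dotProduct_smul]; rfl)
  have hB : ∀ x y, B x y = ∑ i, ∑ j, σ (x i) * h i j * y j := by
    intro x y
    change sV σ x ⬝ᵥ (h *ᵥ y) = _
    simp only [dotProduct, Matrix.mulVec, Finset.mul_sum, sV, mul_assoc]
  obtain ⟨v, hv1, hv2⟩ := H5.exists_orthonormal (B := B) (σ := (σ : F →+* F))
    (by
      intro h0
      apply hσ
      apply RingEquiv.ext
      intro x
      exact congrArg (fun f : F →+* F => f x) h0) hσσ
    (by
      intro x y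
      rw [hB, hB]
      change σ _ = _
      rw [map_sum]
      rw [Finset.sum_congr rfl (fun i _ => map_sum σ _ _), Finset.sum_comm]
      apply Finset.sum_congr rfl
      intro i _
      apply Finset.sum_congr rfl
      intro j _
      rw [map_mul, map_mul, hσσ, hherm]
      ring) n ⊤ (by rw [finrank_top, Module.finrank_fin_fun]) (by
      intro x _ hx
      ext i
      have h1 := hx ((((a⁻¹ : GL (Fin n) F) : Matrix (Fin n) (Fin n) F)ᵀ) *ᵥ Pi.single i 1) trivial
      change sV σ x ⬝ᵥ (h *ᵥ _) = 0 at h1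
      rw [Matrix.mulVec_mulVec, hh, ← Matrix.transpose_mul, ← Units.val_mul, inv_mul_cancel, Units.val_one,
        Matrix.transpose_one, Matrix.one_mulVec, dotProduct_single_one] at h1
      change σ (x i) = 0 at h1
      simpa using h1)
  have hP : (Matrix.of v).map σ * h * (Matrix.of v)ᵀ = 1 := by
    ext i j
    rw [Matrix.mul_assoc, Matrix.one_apply, ← hv2 i j, hB, Matrix.mul_apply]
    apply Finset.sum_congr rfl
    intro k _
    rw [Matrix.mul_apply, Finset.mul_sum]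
    apply Finset.sum_congr rfl
    intro l _
    rw [Matrix.map_apply, Matrix.transpose_apply, Matrix.of_apply, Matrix.of_apply, mul_assoc]
  have hPu : IsUnit (Matrix.of v) := by
    have h1 : IsUnit (Matrix.of v)ᵀ := by
      rw [Matrix.isUnit_iff_isUnit_det]
      apply IsUnit.of_mul_eq_one (((Matrix.of v).map σ * h).det)
      rw [mul_comm, ← Matrix.det_mul, hP, Matrix.det_one]
    rwa [Matrix.isUnit_transpose] at h1
  obtain ⟨P, hPv⟩ := hPu
  refine ⟨P⁻¹, ?_⟩
  rw [map_inv, mul_inv_eq_iff_eq_mul]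
  -- a = P⁻¹ * gfM P
  have e1 : (((gfM σ P)⁻¹ : GL (Fin n) F) : Matrix (Fin n) (Fin n) F) = ((Matrix.of v).map σ)ᵀ := by
    rw [coe_gfM_inv, hPv]
  have e2 : P * a * (gfM σ P)⁻¹ = 1 := by
    apply Units.ext
    rw [Units.val_mul, Units.val_mul, e1, hPv, Units.val_one]
    have h2 := congrArg Matrix.transpose hP
    rw [Matrix.transpose_mul, Matrix.transpose_mul, Matrix.transpose_transpose, Matrix.transpose_one, hh,
      Matrix.transpose_transpose, ← Matrix.mul_assoc] at h2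
    exact h2
  rw [mul_inv_eq_one] at e2
  rw [← e2, ← mul_assoc, inv_mul_cancel, one_mul]

theorem orderOf_two {σ : F ≃+* F} (hσ : σ ≠ 1) (hσ2 : σ * σ = 1) : orderOf σ = 2 :=
  orderOf_eq_prime (by rw [pow_two, hσ2]) hσ

theorem uN_two (σ : F ≃+* F) (c : Fˣ) : uN σ c 2 = c * uM σ c := by
  rw [uN_succ, uN_succ, uN_zero, map_one, mul_one]

theorem gf_conj [Finite F] (hn : 2 ≤ n) {σ : F ≃+* F} (hσ : σ ≠ 1) (hσ2 : σ * σ = 1) (a : GL (Fin n) F)
    (h : (cP a * (fP n σ * iP F n)) ^ 2 = 1) :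
    ∃ b : GL (Fin n) F, cP a * (fP n σ * iP F n) = cP b * (fP n σ * iP F n) * (cP b)⁻¹ := by
  have h1 : cP (a * gfM σ a) = 1 := by
    rw [pow_two] at h
    rw [cP_mul, ← h]
    calc cP a * cP (gfM σ a) = cP a * cP (gfM σ a) * ((fP n σ * iP F n) * (fP n σ * iP F n)) := by
          rw [gf_sq hσ2, mul_one]
      _ = cP a * (cP (gfM σ a) * (fP n σ * iP F n)) * (fP n σ * iP F n) := by simp only [mul_assoc]
      _ = _ := by rw [← gf_cP]; simp only [mul_assoc]
  rw [cP_eq_one_iff' hn] at h1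
  obtain ⟨c, hc⟩ := h1
  have h2 : gfM σ a = sGL n c * a⁻¹ := by
    rw [eq_mul_inv_iff_mul_eq]
    have h3 : gfM σ a = a⁻¹ * sGL n c := by rw [← hc, ← mul_assoc, inv_mul_cancel, one_mul]
    rw [h3, mul_assoc, sGL_comm, ← mul_assoc, inv_mul_cancel, one_mul]
  have h4 : c * uM σ c = 1 := by
    have h5 := congrArg (gfM σ) h2
    rw [gfM_gfM hσ2, map_mul, gfM_sGL, map_inv, h2, _root_.mul_inv_rev, inv_inv] at h5
    -- a = (sGL (σ c))⁻¹ * (a * (sGL c)⁻¹)
    have h6 : sGL n c * (sGL n (uM σ c) * a) = a := by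
      have h7 : sGL n (uM σ c) * a = a * (sGL n c)⁻¹ := by
        conv_lhs => rw [h5]
        rw [← mul_assoc, mul_inv_cancel, one_mul]
      rw [h7, ← mul_assoc, sGL_comm, mul_assoc, mul_inv_cancel, mul_one]
    rw [← mul_assoc, ← map_mul, mul_eq_right, ← map_one (sGL n)] at h6
    exact sGL_inj (by omega) h6
  obtain ⟨y, hy⟩ := hilbert90_u σ (orderOf_two hσ hσ2) (by norm_num) c (by rw [uN_two, h4])
  obtain ⟨b, hb⟩ := herm_factor hσ hσ2 (sGL n y⁻¹ * a) (by
    rw [map_mul, gfM_sGL, h2, _root_.mul_inv_rev, ← map_inv, ← map_inv, ← mul_assoc, ← map_mul, ← map_inv, inv_inv,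
      ← sGL_comm]
    congr 2
    rw [mul_comm]
    exact hy)
  refine ⟨b, ?_⟩
  have h4' : cP a = cP (sGL n y⁻¹ * a) := by rw [cP_mul, cP_sGL hn, one_mul]
  rw [h4', eq_mul_inv_iff_mul_eq, mul_assoc, gf_cP, ← mul_assoc, ← cP_mul, hb]

end gf

end Cfsg.Agent.H17
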