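import Mathlib
import Cfsg.Agent.H17.HermConj
import Cfsg.Prelude.Def_LieTypeDatum

set_option autoImplicit false

/-! Field and graph-field automorphisms of `PSL n F`: normal forms. -/

open scoped MatrixGroups Matrix

namespace Cfsg.Agent.H17

open Matrix

section fc

variable {F : Type*} [Field F] {n : ℕ}

/-- `fP` as a homomorphism -/
def fPh (F : Type*) [Field F] (n : ℕ) : (F ≃+* F) →* MulAut (Matrix.ProjectiveSpecialLinearGroup (Fin n) F) :=
  congrP.comp fieldSL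

theorem fPh_apply (σ : F ≃+* F) : fPh F n σ = fP n σ := rfl

/-- `cP` as a homomorphism -/
def cPh (F : Type*) [Field F] (n : ℕ) : GL (Fin n) F →* MulAut (Matrix.ProjectiveSpecialLinearGroup (Fin n) F) :=
  congrP.comp conjSL

theorem cPh_apply (g : GL (Fin n) F) : cPh F n g = cP g := rfl

theorem cPh_range : (cPh F n).range = cPrange F n := by
  ext x
  rw [MonoidHom.mem_range, mem_cPrange]
  exact ⟨fun ⟨g, hg⟩ => ⟨g, hg⟩, fun ⟨g, hg⟩ => ⟨g, hg⟩⟩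

variable [Finite F]

theorem fPh_injective (hn : 2 ≤ n) : Function.Injective (fPh F n) := by
  rw [injective_iff_map_eq_one]
  intro σ h
  exact (cP_fP_eq_one hn 1 σ (by rw [cP_one, one_mul]; exact h)).1

theorem fP_comm (σ τ : F ≃+* F) : σ * τ = τ * σ := by
  haveI : Fintype F := Fintype.ofFinite F
  obtain ⟨p, hp⟩ := CharP.exists F
  haveI : Fact p.Prime := ⟨CharP.char_is_prime F p⟩
  obtain ⟨k, hk⟩ := FiniteField.card F p
  have h := (ringAut_cyclic (F := F) p (k : ℕ) k.pos.ne' (by rw [Nat.card_eq_fintype_card]; exact hk.2)).1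
  exact IsCyclic.commGroup.mul_comm σ τ

/-- Aut-conjugates of a standard field automorphism are `Inndiag`-conjugate to it. -/
theorem conj_field (hn : 2 ≤ n) (α : MulAut (Matrix.ProjectiveSpecialLinearGroup (Fin n) F)) (σ : F ≃+* F) :
    ∃ g : GL (Fin n) F, α * fP n σ * α⁻¹ = cP g * fP n σ * (cP g)⁻¹ := by
  obtain ⟨g, τ, h | ⟨_, h⟩⟩ := aut_PSL hn α
  · refine ⟨g, ?_⟩
    rw [h, _root_.mul_inv_rev]
    have h1 : fP n τ * fP n σ = fP n σ * fP n τ := by rw [← fP_mul, ← fP_mul, fP_comm]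
    calc cP g * fP n τ * fP n σ * ((fP n τ)⁻¹ * (cP g)⁻¹) = cP g * (fP n τ * fP n σ) * ((fP n τ)⁻¹ * (cP g)⁻¹) := by
          simp only [mul_assoc]
      _ = cP g * (fP n σ * fP n τ) * ((fP n τ)⁻¹ * (cP g)⁻¹) := by rw [h1]
      _ = _ := by group
  · refine ⟨g, ?_⟩
    rw [h, _root_.mul_inv_rev, _root_.mul_inv_rev]
    have h1 : fP n τ * fP n σ = fP n σ * fP n τ := by rw [← fP_mul, ← fP_mul, fP_comm]
    calc cP g * fP n τ * iP F n * fP n σ * ((iP F n)⁻¹ * ((fP n τ)⁻¹ * (cP g)⁻¹))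
        = cP g * fP n τ * (iP F n * fP n σ) * ((iP F n)⁻¹ * ((fP n τ)⁻¹ * (cP g)⁻¹)) := by simp only [mul_assoc]
      _ = cP g * (fP n τ * fP n σ) * (iP F n * (iP F n)⁻¹) * ((fP n τ)⁻¹ * (cP g)⁻¹) := by
          rw [iP_fP]; simp only [mul_assoc]
      _ = cP g * (fP n σ * fP n τ) * ((fP n τ)⁻¹ * (cP g)⁻¹) := by rw [h1, mul_inv_cancel, mul_one]
      _ = _ := by group

theorem conj_gf (hn : 2 ≤ n) (α : MulAut (Matrix.ProjectiveSpecialLinearGroup (Fin n) F)) (σ : F ≃+* F) :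
    ∃ g : GL (Fin n) F, α * (fP n σ * iP F n) * α⁻¹ = cP g * (fP n σ * iP F n) * (cP g)⁻¹ := by
  obtain ⟨g, τ, h | ⟨_, h⟩⟩ := aut_PSL hn α
  · refine ⟨g, ?_⟩
    rw [h, _root_.mul_inv_rev]
    have h1 : fP n τ * (fP n σ * iP F n) = (fP n σ * iP F n) * fP n τ := by
      rw [← mul_assoc, ← fP_mul, fP_comm, fP_mul, mul_assoc, mul_assoc, iP_fP]
    calc cP g * fP n τ * (fP n σ * iP F n) * ((fP n τ)⁻¹ * (cP g)⁻¹)
        = cP g * (fP n τ * (fP n σ * iP F n)) * ((fP n τ)⁻¹ * (cP g)⁻¹) := by simp only [mul_assoc]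
      _ = _ := by rw [h1]; group
  · refine ⟨g, ?_⟩
    rw [h, _root_.mul_inv_rev, _root_.mul_inv_rev]
    have h1 : fP n τ * (fP n σ * iP F n) = (fP n σ * iP F n) * fP n τ := by
      rw [← mul_assoc, ← fP_mul, fP_comm, fP_mul, mul_assoc, mul_assoc, iP_fP]
    have h2 : iP F n * (fP n σ * iP F n) = (fP n σ * iP F n) * iP F n := by
      rw [← mul_assoc, iP_fP]
    calc cP g * fP n τ * iP F n * (fP n σ * iP F n) * ((iP F n)⁻¹ * ((fP n τ)⁻¹ * (cP g)⁻¹))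
        = cP g * fP n τ * (iP F n * (fP n σ * iP F n)) * ((iP F n)⁻¹ * ((fP n τ)⁻¹ * (cP g)⁻¹)) := by
          simp only [mul_assoc]
      _ = cP g * (fP n τ * (fP n σ * iP F n)) * ((fP n τ)⁻¹ * (cP g)⁻¹) := by rw [h2]; group
      _ = _ := by rw [h1]; group

theorem field_form (hn : 2 ≤ n) {x : MulAut (Matrix.ProjectiveSpecialLinearGroup (Fin n) F)}
    (hx : IsFieldAutClassPSL x) : ∃ (g : GL (Fin n) F) (σ : F ≃+* F), σ ≠ 1 ∧ x = cP g * fP n σ * (cP g)⁻¹ := by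
  obtain ⟨α, σ, hσ, h⟩ := hx
  rw [isStdField_iff] at h
  obtain ⟨g, hg⟩ := conj_field hn α⁻¹ σ
  refine ⟨g, σ, hσ, ?_⟩
  rw [← hg, ← h]
  group

theorem gf_form {x : MulAut (Matrix.ProjectiveSpecialLinearGroup (Fin n) F)}
    (hx : IsGraphFieldAutClassPSL x) : 3 ≤ n ∧ ∃ (g : GL (Fin n) F) (σ : F ≃+* F), σ ≠ 1 ∧
      x = cP g * (fP n σ * iP F n) * (cP g)⁻¹ := by
  obtain ⟨hn, α, φ, γ, σ, hσ, hφ, hγ, h⟩ := hx
  rw [isStdField_iff] at hφ
  rw [isInvTr_iff] at hγ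
  obtain ⟨g, hg⟩ := conj_gf (by omega : 2 ≤ n) α⁻¹ σ
  refine ⟨hn, g, σ, hσ, ?_⟩
  rw [← hg, ← hφ, ← hγ, ← h]
  group

theorem orderOf_fP (hn : 2 ≤ n) (σ : F ≃+* F) : orderOf (fP n σ) = orderOf σ :=
  orderOf_injective (fPh F n) (fPh_injective hn) σ

theorem gf_pow_two (σ : F ≃+* F) : (fP n σ * iP F n) ^ 2 = fP n (σ * σ) := by
  rw [pow_two]
  calc (fP n σ * iP F n) * (fP n σ * iP F n) = fP n σ * (iP F n * fP n σ) * iP F n := by simp only [mul_assoc]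
    _ = (fP n σ * fP n σ) * (iP F n * iP F n) := by rw [iP_fP]; simp only [mul_assoc]
    _ = _ := by rw [iP_mul_self, ← fP_mul, mul_one]

theorem gf_order_prime (hn : 3 ≤ n) (σ : F ≃+* F) {r : ℕ} (hr : r.Prime) (h : orderOf (fP n σ * iP F n) = r) :
    r = 2 ∧ σ * σ = 1 := by
  have h0 : (fP n σ * iP F n) ^ r = 1 := by rw [← h, pow_orderOf_eq_one]
  have hr2 : r = 2 := by
    rcases hr.eq_two_or_odd' with h2 | ⟨k, hk⟩
    · exact h2
    · exfalso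
      rw [hk, pow_succ, pow_mul, gf_pow_two] at h0
      have h1 : fP n (σ * σ) ^ k = fP n ((σ * σ) ^ k) := (map_pow (fPh F n) (σ * σ) k).symm
      rw [h1, ← mul_assoc, ← fP_mul] at h0
      refine cP_fP_iP_ne_one (F := F) hn 1 ((σ * σ) ^ k * σ) ?_
      rw [cP_one, one_mul]
      exact h0
  refine ⟨hr2, ?_⟩
  rw [hr2, gf_pow_two] at h0
  exact fPh_injective (F := F) (n := n) (by omega) (h0.trans (map_one (fPh F n)).symm)

theorem orderOf_conj' {G : Type*} [Group G] (g x : G) : orderOf (g * x * g⁻¹) = orderOf x :=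
  orderOf_injective (MulAut.conj g).toMonoidHom (MulAut.conj g).injective x

end fc

end Cfsg.Agent.H17
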