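import Mathlib
import Cfsg.Agent.H17.FieldClass

set_option autoImplicit false

/-! Splitting of classes. -/

open scoped MatrixGroups Matrix

namespace Cfsg.Agent.H17

section gen

variable {X : Type*} [Group X]

theorem isConjUnder_congr {H : Subgroup X} {x x' : X} (h : IsConjUnder H x x') :
    IsConjUnder H x = IsConjUnder H x' := by
  obtain ⟨g, hg, rfl⟩ := h
  funext y
  apply propext
  constructor
  · rintro ⟨k, hk, rfl⟩
    exact ⟨k * g⁻¹, H.mul_mem hk (H.inv_mem hg), by group⟩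
  · rintro ⟨k, hk, rfl⟩
    exact ⟨k * g, H.mul_mem hk hg, by group⟩

theorem splitClassCount_conj {H K : Subgroup X} {x x' : X} (h : IsConjUnder H x x') :
    splitClassCount H K x = splitClassCount H K x' := by
  unfold splitClassCount
  rw [isConjUnder_congr h]

/-- the number of `K`-classes in the `H`-class of `x` is the index of `K C_H(x)` in `H`. -/
theorem splitClassCount_eq {H K : Subgroup X} [hK : K.Normal] (hKH : K ≤ H) (x : X) :
    splitClassCount H K x = (K ⊔ (H ⊓ Subgroup.centralizer {x})).relIndex H := by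
  classical
  set L := K ⊔ (H ⊓ Subgroup.centralizer {x}) with hL
  have hmem : ∀ g ∈ H, (g ∈ L ↔ ∃ k ∈ K, g * x * g⁻¹ = k * x * k⁻¹) := by
    intro g hg
    rw [hL, Subgroup.mem_sup_of_normal_left]
    constructor
    · rintro ⟨k, hk, c, ⟨_, hc⟩, rfl⟩
      refine ⟨k, hk, ?_⟩
      replace hc := Subgroup.mem_centralizer_singleton_iff.mp hc
      calc k * c * x * (k * c)⁻¹ = k * (c * x) * c⁻¹ * k⁻¹ := by group
        _ = k * (x * c) * c⁻¹ * k⁻¹ := by rw [hc]
        _ = k * x * k⁻¹ := by group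
    · rintro ⟨k, hk, h⟩
      refine ⟨k, hk, k⁻¹ * g, ⟨H.mul_mem (H.inv_mem (hKH hk)) hg, ?_⟩, by group⟩
      refine Subgroup.mem_centralizer_singleton_iff.mpr ?_
      calc k⁻¹ * g * x = k⁻¹ * (g * x * g⁻¹) * g := by group
        _ = k⁻¹ * (k * x * k⁻¹) * g := by rw [h]
        _ = x * (k⁻¹ * g) := by group
  have hLn : ∀ g h : X, g ∈ H → h ∈ H → (g⁻¹ * h ∈ L ↔ ∃ k ∈ K, h * x * h⁻¹ = k * (g * x * g⁻¹) * k⁻¹) := by
    intro g h hg hh
    rw [hmem _ (H.mul_mem (H.inv_mem hg) hh)]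
    constructor
    · rintro ⟨k, hk, he⟩
      refine ⟨g * k * g⁻¹, hK.conj_mem k hk g, ?_⟩
      calc h * x * h⁻¹ = g * (g⁻¹ * h * x * (g⁻¹ * h)⁻¹) * g⁻¹ := by group
        _ = g * (k * x * k⁻¹) * g⁻¹ := by rw [he]
        _ = _ := by group
    · rintro ⟨k, hk, he⟩
      refine ⟨g⁻¹ * k * g, by simpa using hK.conj_mem k hk g⁻¹, ?_⟩
      calc g⁻¹ * h * x * (g⁻¹ * h)⁻¹ = g⁻¹ * (h * x * h⁻¹) * g := by group
        _ = g⁻¹ * (k * (g * x * g⁻¹) * k⁻¹) * g := by rw [he]
        _ = _ := by group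
  rw [Subgroup.relIndex, Subgroup.index, splitClassCount]
  have hrel : ∀ y z : {y : X // IsConjUnder H x y}, IsConjUnder K y.1 z.1 ↔ ∃ k ∈ K, z.1 = k * y.1 * k⁻¹ :=
    fun y z => Iff.rfl
  let f : H ⧸ L.subgroupOf H → Quot (fun y z : {y : X // IsConjUnder H x y} => IsConjUnder K y.1 z.1) :=
    Quotient.lift (fun h : H => Quot.mk _ ⟨(h : X) * x * (h : X)⁻¹, ⟨h, h.2, rfl⟩⟩) (by
      intro g h hgh
      apply Quot.sound
      have h1 : g⁻¹ * h ∈ L.subgroupOf H := QuotientGroup.leftRel_apply.mp hgh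
      rw [Subgroup.mem_subgroupOf] at h1
      exact (hLn g h g.2 h.2).mp h1)
  have hequiv : Equivalence (fun y z : {y : X // IsConjUnder H x y} => IsConjUnder K y.1 z.1) := by
    refine ⟨fun y => ⟨1, K.one_mem, by group⟩, ?_, ?_⟩
    · rintro y z ⟨k, hk, h⟩
      exact ⟨k⁻¹, K.inv_mem hk, by rw [h]; group⟩
    · rintro y z w ⟨k, hk, h⟩ ⟨l, hl, h'⟩
      exact ⟨l * k, K.mul_mem hl hk, by rw [h', h]; group⟩
  symm
  apply Nat.card_congr
  refine Equiv.ofBijective f ⟨?_, ?_⟩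
  · intro a b
    induction a using QuotientGroup.induction_on with
    | H g =>
    induction b using QuotientGroup.induction_on with
    | H h =>
    intro hab
    have h1 := (hequiv.quot_mk_eq_iff _ _).mp hab
    rw [QuotientGroup.eq, Subgroup.mem_subgroupOf]
    exact (hLn g h g.2 h.2).mpr h1
  · intro a
    induction a using Quot.ind with
    | mk a =>
    obtain ⟨_, ⟨h, hh, rfl⟩⟩ := a
    exact ⟨QuotientGroup.mk ⟨h, hh⟩, rfl⟩

/-- index computation in a finite cyclic group. -/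
theorem index_range_pow_sup {G : Type*} [CommGroup G] [Finite G] [IsCyclic G] (n : ℕ) (S : Subgroup G) :
    ((powMonoidHom n : G →* G).range ⊔ S).index = Nat.gcd n S.index := by
  haveI : IsCyclic (G ⧸ S) := isCyclic_of_surjective (QuotientGroup.mk' S) (QuotientGroup.mk'_surjective S)
  have h1 := Subgroup.index_map ((powMonoidHom n : G →* G).range) (QuotientGroup.mk' S)
  rw [QuotientGroup.ker_mk', MonoidHom.range_eq_top.mpr (QuotientGroup.mk'_surjective S), Subgroup.index_top,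
    mul_one] at h1
  rw [← h1]
  have h2 : ((powMonoidHom n : G →* G).range).map (QuotientGroup.mk' S) = (powMonoidHom n : G ⧸ S →* G ⧸ S).range := by
    ext x
    constructor
    · rintro ⟨_, ⟨y, rfl⟩, rfl⟩
      exact ⟨QuotientGroup.mk' S y, by simp⟩
    · rintro ⟨y, rfl⟩
      obtain ⟨y, rfl⟩ := QuotientGroup.mk'_surjective S y
      exact ⟨y ^ n, ⟨y, rfl⟩, by simp⟩
  rw [h2, IsCyclic.index_powMonoidHom_range, Nat.gcd_comm]
  rfl

end gen

section psl

variable {F : Type*} [Field F] [Finite F] {n : ℕ}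

theorem det_surj (hn : n ≠ 0) : Function.Surjective (Matrix.GeneralLinearGroup.det : GL (Fin n) F → Fˣ) := by
  intro a
  exact ⟨dSec ⟨0, Nat.pos_of_ne_zero hn⟩ a, det_dSec _ _⟩

theorem Inn_le_cPrange (hn : 2 ≤ n) : Inn (Matrix.ProjectiveSpecialLinearGroup (Fin n) F) ≤ cPrange F n := by
  rintro _ ⟨x, rfl⟩
  obtain ⟨s, rfl⟩ := mkP_surjective x
  change MulAut.conj (mkP s) ∈ _
  rw [conj_mkP]
  exact ⟨_, rfl⟩

theorem Inn_normal {G : Type*} [Group G] : (Inn G).Normal := by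
  constructor
  rintro _ ⟨x, rfl⟩ α
  refine ⟨α x, ?_⟩
  ext y
  simp [MulAut.conj_apply]

/-- splitting count in terms of determinants -/
theorem splitCount_PSL (hn : 2 ≤ n) (x : MulAut (Matrix.ProjectiveSpecialLinearGroup (Fin n) F)) (E : Subgroup Fˣ)
    (hE : ∀ g : GL (Fin n) F, x * cP g = cP g * x →
      Matrix.GeneralLinearGroup.det g ∈ (powMonoidHom n : Fˣ →* Fˣ).range ⊔ E)
    (hE' : ∀ e ∈ E, ∃ g : GL (Fin n) F, x * cP g = cP g * x ∧ Matrix.GeneralLinearGroup.det g = e) :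
    splitClassCount (inndiagPSL n F) (Inn (Matrix.ProjectiveSpecialLinearGroup (Fin n) F)) x = Nat.gcd n E.index := by
  haveI := Inn_normal (G := Matrix.ProjectiveSpecialLinearGroup (Fin n) F)
  rw [inndiag_eq, splitClassCount_eq (Inn_le_cPrange hn), ← cPh_range, ← Subgroup.index_comap, cPh_range]
  have h1 : Subgroup.comap (cPh F n) (Inn (Matrix.ProjectiveSpecialLinearGroup (Fin n) F) ⊔
      (cPrange F n ⊓ Subgroup.centralizer {x})) =
      ((powMonoidHom n : Fˣ →* Fˣ).range ⊔ E).comap Matrix.GeneralLinearGroup.det := by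
    ext g
    rw [Subgroup.mem_comap, Subgroup.mem_comap, Subgroup.mem_sup_of_normal_left]
    constructor
    · rintro ⟨i, hi, c, ⟨⟨h, rfl⟩, hc⟩, he⟩
      replace hc := Subgroup.mem_centralizer_singleton_iff.mp hc
      have h2 := hE h hc.symm
      have h3 : cP (g * h⁻¹) ∈ Inn (Matrix.ProjectiveSpecialLinearGroup (Fin n) F) := by
        have : cP (g * h⁻¹) = i := by
          rw [cP_mul, cP_inv, mul_inv_eq_iff_eq_mul]
          exact he.symm
        rw [this]; exact hi
      obtain ⟨c, hc⟩ := (cP_mem_Inn_iff hn _).mp h3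
      have h4 : Matrix.GeneralLinearGroup.det g = c ^ n * Matrix.GeneralLinearGroup.det h := by
        rw [← hc, ← map_mul, inv_mul_cancel_right]
      rw [h4]
      exact Subgroup.mul_mem _ (Subgroup.mem_sup_left ⟨c, rfl⟩) h2
    · intro h
      rw [Subgroup.mem_sup] at h
      obtain ⟨_, ⟨c, rfl⟩, e, he, hce⟩ := h
      obtain ⟨h, hh, hdet⟩ := hE' e he
      refine ⟨cP (g * h⁻¹), ?_, cP h, ⟨⟨h, rfl⟩, ?_⟩, ?_⟩
      · rw [cP_mem_Inn_iff hn]
        refine ⟨c, ?_⟩
        rw [map_mul, map_inv, hdet, mul_inv_eq_iff_eq_mul]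
        exact hce.symm
      · exact Subgroup.mem_centralizer_singleton_iff.mpr hh.symm
      · rw [← cP_mul, inv_mul_cancel_right]
        rfl
  rw [h1, Subgroup.index_comap_of_surjective _ (det_surj (by omega)), index_range_pow_sup]

end psl

end Cfsg.Agent.H17
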