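import Mathlib
import Cfsg.Agent.H17.SplitCount

set_option autoImplicit false

/-! Fixed fields and centralizers of field automorphisms. -/

open scoped MatrixGroups Matrix

namespace Cfsg.Agent.H17

section fix

/-- the fixed field of an automorphism of a finite field. -/
theorem exists_fixed_emb {F : Type*} [Field F] [Finite F] {p f : ℕ} [Fact p.Prime] (hF : Nat.card F = p ^ f)
    (σ : F ≃+* F) {r : ℕ} (hr : orderOf σ = r) (F₀ : Type*) [Field F₀] [Finite F₀]
    (hF₀ : Nat.card F₀ = p ^ (f / r)) :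
    r ∣ f ∧ ∃ j : F₀ →+* F, ∀ x, σ x = x ↔ ∃ y, j y = x := by
  classical
  haveI : Fintype F := Fintype.ofFinite F
  haveI : Fintype F₀ := Fintype.ofFinite F₀
  haveI : Finite (RingAut F) := Finite.of_injective (fun σ : F ≃+* F => (σ : F → F)) DFunLike.coe_injective
  haveI : Fintype (Subgroup.zpowers (σ : RingAut F)) := Fintype.ofFinite _
  let K := FixedPoints.subfield (Subgroup.zpowers (σ : RingAut F)) F
  have h1 : Module.finrank K F = r := by
    rw [FixedPoints.finrank_eq_card, ← Nat.card_eq_fintype_card]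
    exact (Nat.card_zpowers (σ : RingAut F)).trans hr
  have hmemK : ∀ x : F, x ∈ K ↔ σ x = x := by
    intro x
    constructor
    · intro h
      exact h ⟨σ, Subgroup.mem_zpowers _⟩
    · intro h
      rintro ⟨τ, hτ⟩
      obtain ⟨k, rfl⟩ := Subgroup.mem_zpowers_iff.mp hτ
      change (σ ^ k) x = x
      have h2 : ∀ k : ℕ, (σ ^ k) x = x := by
        intro k
        induction k with
        | zero => rfl
        | succ k ih =>
          rw [pow_succ, RingAut.mul_apply, h, ih]
      obtain ⟨m, hm | hm⟩ := k.eq_nat_or_neg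
      · rw [hm, zpow_natCast, h2]
      · rw [hm, zpow_neg, zpow_natCast]
        have h3 := h2 m
        conv_lhs => rw [← h3]
        rw [← RingAut.mul_apply, inv_mul_cancel]
        rfl
  have hcard : Nat.card F = Nat.card K ^ r := by
    rw [Module.natCard_eq_pow_finrank (K := K) (V := F), h1]
  have hr0 : 0 < r := by rw [← hr]; exact orderOf_pos σ
  obtain ⟨m, hm, hKm⟩ : ∃ m ≤ f, Nat.card K = p ^ m := by
    have h2 : Nat.card K ∣ p ^ f := by
      rw [← hF, hcard]
      exact dvd_pow_self _ hr0.ne'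
    exact (Nat.dvd_prime_pow (Fact.out : p.Prime)).mp h2
  have hfm : f = m * r := by
    rw [hKm, hF, ← pow_mul] at hcard
    exact Nat.pow_right_injective (Fact.out : p.Prime).two_le hcard
  have hK : Nat.card F₀ = Nat.card K := by
    rw [hF₀, hKm, hfm, Nat.mul_div_cancel _ hr0]
  refine ⟨⟨m, by rw [hfm, mul_comm]⟩, ?_⟩
  let e : F₀ ≃+* K := FiniteField.ringEquivOfCardEq (by
    rw [← Nat.card_eq_fintype_card, ← Nat.card_eq_fintype_card]; exact hK)
  refine ⟨(K.subtype).comp (e : F₀ →+* K), ?_⟩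
  intro x
  rw [← hmemK]
  constructor
  · intro h
    exact ⟨e.symm ⟨x, h⟩, by simp⟩
  · rintro ⟨y, rfl⟩
    exact (e y).2

end fix

section cent

theorem cent_equiv {X A : Type*} [Group X] [Group A] (H : Subgroup X) (x0 g : X) (hg : g ∈ H) (φ : A →* X)
    (hφ : φ.range = H ⊓ Subgroup.centralizer {x0}) (N : Subgroup A) [N.Normal] (hN : φ.ker = N) :
    Nonempty (↥(H ⊓ Subgroup.centralizer {g * x0 * g⁻¹}) ≃* A ⧸ N) := by
  subst hN
  have h1 : (H ⊓ Subgroup.centralizer {x0}).map (MulAut.conj g).toMonoidHom =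
      H ⊓ Subgroup.centralizer {g * x0 * g⁻¹} := by
    ext y
    constructor
    · rintro ⟨z, ⟨hz1, hz2⟩, rfl⟩
      replace hz2 := Subgroup.mem_centralizer_singleton_iff.mp hz2
      refine ⟨?_, ?_⟩
      · change g * z * g⁻¹ ∈ H
        exact H.mul_mem (H.mul_mem hg hz1) (H.inv_mem hg)
      · refine Subgroup.mem_centralizer_singleton_iff.mpr ?_
        change g * z * g⁻¹ * (g * x0 * g⁻¹) = g * x0 * g⁻¹ * (g * z * g⁻¹)
        calc g * z * g⁻¹ * (g * x0 * g⁻¹) = g * (z * x0) * g⁻¹ := by group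
          _ = g * (x0 * z) * g⁻¹ := by rw [hz2]
          _ = _ := by group
    · rintro ⟨hy1, hy2⟩
      replace hy2 := Subgroup.mem_centralizer_singleton_iff.mp hy2
      refine ⟨g⁻¹ * y * g, ⟨H.mul_mem (H.mul_mem (H.inv_mem hg) hy1) hg, ?_⟩, ?_⟩
      · refine Subgroup.mem_centralizer_singleton_iff.mpr ?_
        calc g⁻¹ * y * g * x0 = g⁻¹ * (y * (g * x0 * g⁻¹)) * g := by group
          _ = g⁻¹ * (g * x0 * g⁻¹ * y) * g := by rw [hy2]
          _ = _ := by group
      · change g * (g⁻¹ * y * g) * g⁻¹ = y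
        group
  rw [← h1, ← hφ]
  exact ⟨((φ.range.equivMapOfInjective _ (MulAut.conj g).injective).symm).trans
    (QuotientGroup.quotientKerEquivRange φ).symm⟩

variable {F : Type*} [Field F] [Finite F] {n : ℕ}

theorem cent_field (hn : 2 ≤ n) {σ : F ≃+* F} {r : ℕ} (hr : orderOf σ = r) (hr0 : 0 < r) (g : GL (Fin n) F)
    {F₀ : Type*} [Field F₀] (j : F₀ →+* F) (hj : ∀ x, σ x = x ↔ ∃ y, j y = x) :
    Nonempty (↥(inndiagPSL n F ⊓ Subgroup.centralizer {cP g * fP n σ * (cP g)⁻¹}) ≃*
      Matrix.ProjGenLinGroup (Fin n) F₀) := by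
  rw [inndiag_eq]
  refine cent_equiv (cPrange F n) (fP n σ) (cP g) ⟨g, rfl⟩ ((cPh F n).comp (Matrix.GeneralLinearGroup.map j)) ?_
    (Subgroup.center (GL (Fin n) F₀)) ?_
  · ext y
    constructor
    · rintro ⟨h, rfl⟩
      refine ⟨⟨_, rfl⟩, ?_⟩
      refine Subgroup.mem_centralizer_singleton_iff.mpr ?_
      symm
      change fP n σ * cP _ = cP _ * fP n σ
      rw [comm_fP_iff hn σ hr hr0]
      refine ⟨1, Matrix.GeneralLinearGroup.map j h, ?_, by rw [map_one, one_mul]⟩
      apply Units.ext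
      ext a b
      exact (hj _).mpr ⟨_, rfl⟩
    · rintro ⟨⟨h, rfl⟩, hh⟩
      replace hh := Subgroup.mem_centralizer_singleton_iff.mp hh
      obtain ⟨c, k, hk, he⟩ := (comm_fP_iff hn σ hr hr0 h).mp hh.symm
      have h1 : ∀ a b, ∃ y, j y = (k : Matrix (Fin n) (Fin n) F) a b := by
        intro a b
        rw [← hj]
        exact congrFun (congrFun (congrArg (fun z : GL (Fin n) F => (z : Matrix (Fin n) (Fin n) F)) hk) a) b
      choose M hM using h1
      have h2 : (Matrix.of M).map j = (k : Matrix (Fin n) (Fin n) F) := by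
        ext a b
        exact hM a b
      have hdet : (Matrix.of M).det ≠ 0 := by
        intro h0
        have h3 := congrArg Matrix.det h2
        have h4 : ((Matrix.of M).map j).det = j (Matrix.of M).det := (j.map_det _).symm
        rw [h4, h0, map_zero] at h3
        have h5 : IsUnit (k : Matrix (Fin n) (Fin n) F).det := (Matrix.isUnit_iff_isUnit_det _).mp k.isUnit
        rw [← h3] at h5
        exact not_isUnit_zero h5
      refine ⟨Matrix.GeneralLinearGroup.mkOfDetNeZero (Matrix.of M) hdet, ?_⟩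
      change cP _ = cP h
      rw [he, cP_mul, cP_sGL hn, one_mul]
      congr 1
      exact Units.ext h2
  · ext h
    rw [MonoidHom.mem_ker, Matrix.GeneralLinearGroup.center_eq_range_scalar]
    change cP (Matrix.GeneralLinearGroup.map j h) = 1 ↔ _
    rw [cP_eq_one_iff' hn]
    constructor
    · rintro ⟨c, hc⟩
      haveI : NeZero n := ⟨by omega⟩
      have h1 : ∀ a b, j ((h : Matrix (Fin n) (Fin n) F₀) a b) = Matrix.scalar (Fin n) (c : F) a b := by
        intro a b
        exact congrFun (congrFun (congrArg (fun z : GL (Fin n) F => (z : Matrix (Fin n) (Fin n) F)) hc) a) b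
      have h2 : ∀ a b, (h : Matrix (Fin n) (Fin n) F₀) a b =
          Matrix.scalar (Fin n) ((h : Matrix (Fin n) (Fin n) F₀) 0 0) a b := by
        intro a b
        apply j.injective
        rw [h1, Matrix.scalar_apply, Matrix.scalar_apply, Matrix.diagonal_apply, Matrix.diagonal_apply]
        split_ifs with hab
        · rw [h1, Matrix.scalar_apply, Matrix.diagonal_apply, if_pos rfl]
        · rw [map_zero]
      have h3 : (h : Matrix (Fin n) (Fin n) F₀) 0 0 ≠ 0 := by
        intro h0
        have h4 := h1 0 0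
        rw [h0, map_zero, Matrix.scalar_apply, Matrix.diagonal_apply, if_pos rfl] at h4
        exact c.ne_zero h4.symm
      refine ⟨Units.mk0 _ h3, ?_⟩
      apply Units.ext
      ext a b
      exact (h2 a b).symm
    · rintro ⟨c, rfl⟩
      refine ⟨Units.map (j : F₀ →* F) c, ?_⟩
      exact Matrix.GeneralLinearGroup.map_scalar _ _

theorem det_sub {F₀ : Type*} [Field F₀] (j : F₀ →+* F) (h : GL (Fin n) F₀) :
    Matrix.GeneralLinearGroup.det (Matrix.GeneralLinearGroup.map j h) =
      Units.map (j : F₀ →* F) (Matrix.GeneralLinearGroup.det h) := by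
  apply Units.ext
  exact (j.map_det _).symm

end cent

end Cfsg.Agent.H17
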