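import Mathlib
import Cfsg.Agent.H17.FixField

set_option autoImplicit false

/-! Fixed units and class splitting of field and graph-field automorphisms. -/

open scoped MatrixGroups Matrix

namespace Cfsg.Agent.H17

section units

variable {F : Type*} [Field F] [Finite F] {n : ℕ}

/-- units fixed by `σ` -/
def fixU (σ : F ≃+* F) : Subgroup Fˣ where
  carrier := {x | uM σ x = x}
  one_mem' := map_one _
  mul_mem' := fun {a b} ha hb => by
    simp only [Set.mem_setOf_eq] at *
    rw [map_mul, ha, hb]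
  inv_mem' := fun {a} ha => by
    simp only [Set.mem_setOf_eq] at *
    rw [map_inv, ha]

theorem mem_fixU {σ : F ≃+* F} {x : Fˣ} : x ∈ fixU σ ↔ uM σ x = x := Iff.rfl

theorem card_fixU {p f : ℕ} [Fact p.Prime] (hf : f ≠ 0) (hF : Nat.card F = p ^ f)
    (σ : F ≃+* F) {r : ℕ} (hr : orderOf σ = r) : Nat.card (fixU σ) = p ^ (f / r) - 1 := by
  classical
  have hr0 : 0 < r := by
    haveI : Finite (F ≃+* F) := Finite.of_injective (fun σ : F ≃+* F => (σ : F → F)) DFunLike.coe_injective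
    rw [← hr]; exact orderOf_pos σ
  have hrf : r ∣ f := by
    have h := (ringAut_cyclic (F := F) p f hf hF).2
    rw [← h, ← hr]
    exact orderOf_dvd_natCard σ
  have hfr : f / r ≠ 0 := by
    obtain ⟨m, hm⟩ := hrf
    rw [hm, Nat.mul_div_cancel_left _ hr0]
    rintro rfl
    exact hf (by rw [hm, mul_zero])
  obtain ⟨_, j, hj⟩ := exists_fixed_emb hF σ hr (GaloisField p (f / r)) (by
    exact GaloisField.card p (f / r) hfr)
  have h1 : Nat.card (GaloisField p (f / r))ˣ = p ^ (f / r) - 1 := by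
    rw [Nat.card_units, GaloisField.card p (f / r) hfr]
  rw [← h1]
  symm
  apply Nat.card_congr
  refine Equiv.ofBijective (fun u => ⟨Units.map (j : _ →* F) u, ?_⟩) ⟨?_, ?_⟩
  · apply Units.ext
    exact (hj _).mpr ⟨_, rfl⟩
  · intro u v huv
    have h2 := congrArg (fun z : fixU σ => ((z : Fˣ) : F)) huv
    exact Units.ext (j.injective h2)
  · rintro ⟨x, hx⟩
    have h2 : σ (x : F) = x := congrArg Units.val hx
    obtain ⟨y, hy⟩ := (hj _).mp h2
    have hy0 : y ≠ 0 := by
      rintro rfl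
      rw [map_zero] at hy
      exact x.ne_zero hy.symm
    refine ⟨Units.mk0 y hy0, ?_⟩
    apply Subtype.ext
    apply Units.ext
    exact hy

theorem glMap_dGL (σ : F ≃+* F) (d : Fin n → Fˣ) : glMap σ (dGL d) = dGL (fun i => uM σ (d i)) := by
  apply Units.ext
  rw [coe_glMap]
  change (Matrix.diagonal _).map σ = Matrix.diagonal _
  rw [Matrix.diagonal_map (map_zero σ)]
  rfl

theorem glMap_dSec (σ : F ≃+* F) (i : Fin n) (e : Fˣ) : glMap σ (dSec i e) = dSec i (uM σ e) := by
  change glMap σ (dGL _) = dGL _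
  rw [glMap_dGL]
  congr 1
  funext k
  by_cases hk : k = i
  · subst hk; simp
  · rw [Pi.mulSingle_eq_of_ne hk, Pi.mulSingle_eq_of_ne hk, map_one]

theorem split_field (hn : 2 ≤ n) (σ : F ≃+* F) {r : ℕ} (hr : orderOf σ = r) (hr0 : 0 < r) :
    splitClassCount (inndiagPSL n F) (Inn (Matrix.ProjectiveSpecialLinearGroup (Fin n) F)) (fP n σ) =
      Nat.gcd n (fixU σ).index := by
  apply splitCount_PSL hn
  · intro g hg
    obtain ⟨c, h, hh, rfl⟩ := (comm_fP_iff hn σ hr hr0 g).mp hg
    rw [map_mul, det_sGL]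
    refine Subgroup.mul_mem_sup ⟨c, rfl⟩ ?_
    rw [mem_fixU, ← det_glMap', hh]
  · intro e he
    refine ⟨dSec ⟨0, by omega⟩ e, ?_, det_dSec _ _⟩
    rw [comm_fP_iff hn σ hr hr0]
    refine ⟨1, dSec ⟨0, by omega⟩ e, ?_, by rw [map_one, one_mul]⟩
    rw [glMap_dSec, mem_fixU.mp he]

end units

end Cfsg.Agent.H17
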