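import Mathlib
import Cfsg.Agent.H5.OrthOrder
import Cfsg.Agent.H5.OrthIndex
import Cfsg.Agent.H5.OmegaGen2

set_option autoImplicit false

/-! Classification of nondegenerate quadratic forms over finite fields up to similarity. -/

namespace Cfsg.Agent.H17

open Cfsg.Agent.H5

section basic

variable {F V V' : Type*} [Field F] [AddCommGroup V] [Module F V] [AddCommGroup V'] [Module F V']
  {Q : QuadraticForm F V} {Q' : QuadraticForm F V'}

theorem sim_B {c : F} {φ : V →ₗ[F] V'} (h : ∀ x, Q' (φ x) = c * Q x) (x y : V) : pB Q' (φ x) (φ y) = c * pB Q x y := by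
  have h1 := h (x + y)
  rw [map_add, q_add, q_add, h, h] at h1
  linear_combination h1

theorem sim_inj {c : F} (hc : c ≠ 0) {φ : V →ₗ[F] V'} (h : ∀ x, Q' (φ x) = c * Q x) (hnd : ND Q) :
    Function.Injective φ := by
  rw [injective_iff_map_eq_zero]
  intro x hx
  apply hnd
  intro y
  have h1 := sim_B h x y
  rw [hx, map_zero, LinearMap.zero_apply] at h1
  exact (mul_eq_zero.mp h1.symm).resolve_left hc

theorem exists_simEquiv [FiniteDimensional F V] [FiniteDimensional F V'] {c : F} (hc : c ≠ 0) {φ : V →ₗ[F] V'}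
    (h : ∀ x, Q' (φ x) = c * Q x) (hnd : ND Q) (hfr : Module.finrank F V = Module.finrank F V') :
    ∃ ψ : V ≃ₗ[F] V', ∀ x, Q' (ψ x) = c * Q x :=
  ⟨LinearEquiv.ofInjectiveOfFinrankEq φ (sim_inj hc h hnd) hfr, fun x => h x⟩

theorem sim_dim2 [FiniteDimensional F V] (hn : Module.finrank F V = 2) {v w : V} (hvw : LinearIndependent F ![v, w]) {v' w' : V'} {c : F}
    (h1 : Q' v' = c * Q v) (h2 : Q' w' = c * Q w) (h3 : pB Q' v' w' = c * pB Q v w) :
    ∃ φ : V →ₗ[F] V', ∀ x, Q' (φ x) = c * Q x := by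
  obtain ⟨b, hb⟩ : ∃ b : Module.Basis (Fin 2) F V, b = basisOfLinearIndependentOfCardEqFinrank hvw (by rw [hn]; simp) := ⟨_, rfl⟩
  have hb0 : b 0 = v := by rw [hb]; simp
  have hb1 : b 1 = w := by rw [hb]; simp
  refine ⟨b.constr F ![v', w'], fun x => ?_⟩
  have hx : x = b.repr x 0 • v + b.repr x 1 • w := by
    conv_lhs => rw [← b.sum_repr x]
    rw [Fin.sum_univ_two, hb0, hb1]
  obtain ⟨s, hs⟩ : ∃ s, s = b.repr x 0 := ⟨_, rfl⟩
  obtain ⟨t, ht⟩ : ∃ t, t = b.repr x 1 := ⟨_, rfl⟩
  have hφv : b.constr F ![v', w'] v = v' := by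
    conv_lhs => rw [← hb0]
    rw [Module.Basis.constr_basis]; rfl
  have hφw : b.constr F ![v', w'] w = w' := by
    conv_lhs => rw [← hb1]
    rw [Module.Basis.constr_basis]; rfl
  rw [← hs, ← ht] at hx
  rw [hx, map_add, map_smul, map_smul, hφv, hφw, q_add, q_add, q_smul, q_smul, q_smul, q_smul, pl_smul, pr_smul,
    pl_smul, pr_smul, h1, h2, h3]
  ring

/-- adding a hyperbolic plane -/
theorem sim_hyp [FiniteDimensional F V] [FiniteDimensional F V'] {u v : V} (hu : Q u = 0) (hv : Q v = 0) (huv : pB Q u v = 1)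
    {u' v' : V'} (hu' : Q' u' = 0) (hv' : Q' v' = 0) (huv' : pB Q' u' v' = 1) {c : F}
    (φ : oc Q (Submodule.span F {u, v}) →ₗ[F] oc Q' (Submodule.span F {u', v'}))
    (hφ : ∀ x, resQ Q' _ (φ x) = c * resQ Q _ x) : ∃ ψ : V →ₗ[F] V', ∀ x, Q' (ψ x) = c * Q x := by
  have huu : pB Q u u = 0 := by rw [pB_self, hu, mul_zero]
  have hvv : pB Q v v = 0 := by rw [pB_self, hv, mul_zero]
  have hvu : pB Q v u = 1 := by rw [pB_symm, huv]
  obtain ⟨P, hP⟩ : ∃ P : V →ₗ[F] oc Q (Submodule.span F {u, v}), ∀ x, (P x : V) = x - pB Q v x • u - pB Q u x • v := by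
    refine ⟨LinearMap.codRestrict _ (LinearMap.id - (pB Q v).smulRight u - (pB Q u).smulRight v) ?_, fun x => rfl⟩
    intro x
    rw [mem_oc_pair]
    simp only [LinearMap.sub_apply, LinearMap.id_apply, LinearMap.smulRight_apply]
    constructor
    · rw [pr_sub, pr_sub, pr_smul, pr_smul, huu, huv]; ring
    · rw [pr_sub, pr_sub, pr_smul, pr_smul, hvu, hvv]; ring
  refine ⟨(pB Q v).smulRight u' + (c • pB Q u).smulRight v' + (Submodule.subtype _) ∘ₗ φ ∘ₗ P, fun x => ?_⟩
  have h1 := (mem_oc_pair.mp (P x).2)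
  have h2 := (mem_oc_pair.mp (φ (P x)).2)
  have h3 := hφ (P x)
  rw [resQ_apply, resQ_apply] at h3
  have hx : x = pB Q v x • u + pB Q u x • v + (P x : V) := by rw [hP]; abel
  obtain ⟨s, hs⟩ : ∃ s, s = pB Q v x := ⟨_, rfl⟩
  obtain ⟨t, ht⟩ : ∃ t, t = pB Q u x := ⟨_, rfl⟩
  simp only [LinearMap.add_apply, LinearMap.smulRight_apply, LinearMap.smul_apply, LinearMap.comp_apply, Submodule.subtype_apply,
    smul_eq_mul]
  rw [← hs, ← ht] at hx ⊢
  conv_rhs => rw [hx]
  rw [q_add, q_add, q_smul, q_smul, hu', hv', pl_smul, pr_smul, huv', pl_add, pl_smul, pl_smul, h2.1, h2.2, h3,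
    q_add, q_add, q_smul, q_smul, hu, hv, pl_smul, pr_smul, huv, pl_add, pl_smul, pl_smul, h1.1, h1.2]
  ring

end basic

section fin

variable {F V V' : Type*} [Field F] [Finite F] [AddCommGroup V] [Module F V] [AddCommGroup V'] [Module F V']
  [FiniteDimensional F V] [FiniteDimensional F V'] {Q : QuadraticForm F V} {Q' : QuadraticForm F V'}

theorem exists_value (hnd : ND Q) (hn : 2 ≤ Module.finrank F V) (c : F) : ∃ v, Q v = c := by
  by_cases h2 : (2 : F) = 0
  · obtain ⟨v, hv⟩ := exists_ne_q hnd (by omega)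
    obtain ⟨s, hs⟩ := sq_char_two h2 (c / Q v)
    refine ⟨s • v, ?_⟩
    rw [q_smul, ← hs]
    field_simp
  · exact exists_val h2 hnd hn c

/-- Artin-Schreier -/
theorem artin_schreier (h2 : (2 : F) = 0) {a b : F} (ha : ∀ t : F, t * t + t ≠ a) (hb : ∀ t : F, t * t + t ≠ b) :
    ∃ t : F, t * t + t = a + b := by
  haveI := Fintype.ofFinite F
  obtain ⟨P, hP⟩ : ∃ P : F →+ F, ∀ t, P t = t * t + t := by
    refine ⟨{ toFun := fun t => t * t + t, map_zero' := by ring, map_add' := fun x y => ?_ }, fun t => rfl⟩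
    linear_combination (x * y) * h2
  have hker : Nat.card P.ker = 2 := by
    have h1 : (P.ker : Set F) = {0, 1} := by
      ext t
      rw [SetLike.mem_coe, AddMonoidHom.mem_ker, hP]
      constructor
      · intro h
        have h3 : t * (t + 1) = 0 := by linear_combination h
        rcases mul_eq_zero.mp h3 with h3 | h3
        · left; exact h3
        · right
          show t = 1
          linear_combination h3 - h2
      · rintro (h | h)
        · rw [h]; ring
        · have h' : t = 1 := h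
          rw [h']; linear_combination h2
    have h3 : Nat.card P.ker = Nat.card (({0, 1} : Set F)) := by
      rw [← h1]; rfl
    rw [h3, Nat.card_coe_set_eq, Set.ncard_pair zero_ne_one]
  have h4 : P.range.index = 2 := by
    have h5 := AddSubgroup.card_mul_index P.range
    have h6 := AddSubgroup.card_eq_card_quotient_mul_card_addSubgroup P.ker
    have h7 : Nat.card (F ⧸ P.ker) = Nat.card P.range := Nat.card_congr (QuotientAddGroup.quotientKerEquivRange P).toEquiv
    rw [h7, hker] at h6
    have h8 : 0 < Nat.card P.range := Nat.card_pos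
    rw [h6] at h5
    exact Nat.eq_of_mul_eq_mul_left h8 h5
  have h9 := (AddSubgroup.add_mem_iff_of_index_two h4 (a := a) (b := b))
  have h10 : a + b ∈ P.range := by
    rw [h9]
    constructor
    · rintro ⟨t, ht⟩
      rw [hP] at ht
      exact absurd ht (ha t)
    · rintro ⟨t, ht⟩
      rw [hP] at ht
      exact absurd ht (hb t)
  obtain ⟨t, ht⟩ := h10
  exact ⟨t, by rw [← hP, ht]⟩

theorem class_two (hnd : ND Q) (hnd' : ND Q') (hn : Module.finrank F V = 2) (hn' : Module.finrank F V' = 2)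
    (han : ∀ x, Q x = 0 → x = 0) (han' : ∀ x, Q' x = 0 → x = 0) {c : F} (hc : c ≠ 0) :
    ∃ φ : V →ₗ[F] V', ∀ x, Q' (φ x) = c * Q x := by
  obtain ⟨v, hv⟩ := exists_value hnd (by omega) 1
  obtain ⟨v', hv'⟩ := exists_value hnd' (by omega) c
  have hv0 : v ≠ 0 := by rintro rfl; rw [q_zero] at hv; exact zero_ne_one hv
  have hv'0 : v' ≠ 0 := by rintro rfl; rw [q_zero] at hv'; exact hc hv'.symm
  by_cases h2 : (2 : F) = 0
  · obtain ⟨w, hw⟩ := hnd.one hv0
    obtain ⟨w0, hw0⟩ := hnd'.one hv'0
    obtain ⟨w', hw'⟩ : ∃ w', w' = c • w0 := ⟨_, rfl⟩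
    have hw'1 : pB Q' v' w' = c := by rw [hw', pr_smul, hw0, mul_one]
    have hli : LinearIndependent F ![v, w] := by
      rw [LinearIndependent.pair_iff]
      intro s t hst
      have e1 := congrArg (fun x => pB Q v x) hst
      simp only [map_add, map_smul, smul_eq_mul, map_zero, hw, mul_one, pB_self, hv, h2, zero_mul, mul_zero, zero_add] at e1
      rw [e1, zero_smul, add_zero] at hst
      exact ⟨(smul_eq_zero.mp hst).resolve_right hv0, e1⟩
    have ha : ∀ t : F, t * t + t ≠ Q w := by
      intro t ht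
      have h5 : Q (t • v + w) = 0 := by
        rw [q_add, q_smul, hv, pl_smul, hw, ← ht]; linear_combination (t * t + t) * h2
      have h6 := han _ h5
      have h7 : pB Q v (t • v + w) = 1 := by
        rw [pr_add, pr_smul, pB_self, hw, h2]; ring
      rw [h6, map_zero] at h7
      exact zero_ne_one h7
    have hb : ∀ t : F, t * t + t ≠ Q' w' / c := by
      intro t ht
      have h5 : Q' (t • v' + w') = 0 := by
        have h6 : Q' w' = c * (t * t + t) := by rw [ht]; field_simp
        rw [q_add, q_smul, hv', pl_smul, hw'1, h6]; linear_combination (t * t + t) * c * h2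
      have h6 := han' _ h5
      have h7 : pB Q' v' (t • v' + w') = c := by
        rw [pr_add, pr_smul, pB_self, hw'1, h2]; ring
      rw [h6, map_zero] at h7
      exact hc h7.symm
    obtain ⟨t, ht⟩ := artin_schreier h2 ha hb
    refine sim_dim2 hn hli (v' := v') (w' := w' + t • v') ?_ ?_ ?_
    · rw [hv', hv, mul_one]
    · rw [q_add, q_smul, hv', pr_smul, pB_symm, hw'1]
      have h6 : Q' w' = c * (Q' w' / c) := by field_simp
      linear_combination h6 + c * ht + (Q' w') * h2 - 2 * h6
    · rw [pr_add, pr_smul, hw'1, pB_self, hw, h2]; ring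
  · obtain ⟨d, hd0, hd⟩ : ∃ d : V, d ≠ 0 ∧ pB Q v d = 0 := by
      have h5 := finrank_oc hnd (Submodule.span F {v})
      rw [finrank_span_singleton hv0, hn] at h5
      have h6 : oc Q (Submodule.span F {v}) ≠ ⊥ := by
        intro h0; rw [h0, finrank_bot] at h5; omega
      obtain ⟨d, hd, hd0⟩ := Submodule.exists_mem_ne_zero_of_ne_bot h6
      exact ⟨d, hd0, hd v (Submodule.mem_span_singleton_self v)⟩
    obtain ⟨d', hd'0, hd'⟩ : ∃ d : V', d ≠ 0 ∧ pB Q' v' d = 0 := by
      have h5 := finrank_oc hnd' (Submodule.span F {v'})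
      rw [finrank_span_singleton hv'0, hn'] at h5
      have h6 : oc Q' (Submodule.span F {v'}) ≠ ⊥ := by
        intro h0; rw [h0, finrank_bot] at h5; omega
      obtain ⟨d, hd, hd0⟩ := Submodule.exists_mem_ne_zero_of_ne_bot h6
      exact ⟨d, hd0, hd v' (Submodule.mem_span_singleton_self v')⟩
    have hδ : Q d ≠ 0 := fun h => hd0 (han d h)
    have hδ' : Q' d' ≠ 0 := fun h => hd'0 (han' d' h)
    have hli : LinearIndependent F ![v, d] := by
      rw [LinearIndependent.pair_iff]
      intro s t hst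
      have e1 := congrArg (fun x => pB Q v x) hst
      simp only [map_add, map_smul, smul_eq_mul, map_zero, hd, mul_one, pB_self, hv, mul_zero, add_zero] at e1
      have hs := (mul_eq_zero.mp e1).resolve_right h2
      rw [hs, zero_smul, zero_add] at hst
      exact ⟨hs, (smul_eq_zero.mp hst).resolve_right hd0⟩
    have ha : ¬ IsSquare (-Q d) := by
      rintro ⟨s, hs⟩
      have h5 : Q (s • v + d) = 0 := by
        rw [q_add, q_smul, hv, pl_smul, hd, mul_zero]; linear_combination -hs
      have h6 := han _ h5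
      have h7 : pB Q v (s • v + d) = s * 2 := by rw [pr_add, pr_smul, pB_self, hv, hd]; ring
      rw [h6, map_zero] at h7
      have h8 := (mul_eq_zero.mp h7.symm).resolve_right h2
      rw [h8] at hs
      apply hδ
      linear_combination -hs
    have hb : ¬ IsSquare (-Q' d' / c) := by
      rintro ⟨s, hs⟩
      have h4 : -Q' d' = c * (s * s) := by rw [← hs]; field_simp
      have h5 : Q' (s • v' + d') = 0 := by
        rw [q_add, q_smul, hv', pl_smul, hd', mul_zero]; linear_combination -h4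
      have h6 := han' _ h5
      have h7 : pB Q' v' (s • v' + d') = s * (2 * c) := by rw [pr_add, pr_smul, pB_self, hv', hd']; ring
      rw [h6, map_zero] at h7
      have h8 := (mul_eq_zero.mp h7.symm).resolve_right (mul_ne_zero h2 hc)
      rw [h8] at h4
      apply hδ'
      linear_combination -h4
    obtain ⟨s, hs⟩ := nonsq_mul h2 ha hb
    have h9 : Q d * Q' d' = c * (s * s) := by rw [← hs]; field_simp
    refine sim_dim2 hn hli (v' := v') (w' := (c * s / Q' d') • d') ?_ ?_ ?_
    · rw [hv', hv, mul_one]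
    · rw [q_smul]
      have : c * s / Q' d' * (c * s / Q' d') * Q' d' = c * (c * (s * s)) / Q' d' := by field_simp
      rw [this, ← h9]
      field_simp
    · rw [pr_smul, hd', hd]; ring

end fin

end Cfsg.Agent.H17
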