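import Mathlib
import Cfsg.Agent.H17.QClass

set_option autoImplicit false

/-! Classification of nondegenerate quadratic forms over finite fields up to similarity: the main theorems. -/

namespace Cfsg.Agent.H17

open Cfsg.Agent.H5

universe u v w

theorem zn_aniso {F : Type*} {V : Type*} [Field F] [AddCommGroup V] [Module F V] [Finite V] {Q : QuadraticForm F V} (h : zn Q < 2) :
    ∀ x, Q x = 0 → x = 0 := by
  intro x hx
  unfold zn at h
  by_contra hne
  have : Nontrivial {x : V // Q x = 0} := ⟨⟨x, hx⟩, ⟨0, q_zero Q⟩, fun h => hne (congrArg Subtype.val h)⟩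
  have h1 := Finite.one_lt_card (α := {x : V // Q x = 0})
  omega

theorem two_le_finrank {F : Type*} {V : Type*} [Field F] [AddCommGroup V] [Module F V] [FiniteDimensional F V] {Q : QuadraticForm F V}
    {u v : V} (hu : Q u = 0) (hv : Q v = 0) (huv : pB Q u v = 1) : 2 ≤ Module.finrank F V := by
  have h1 := finrank_pair (indep_sing hu hv (by rw [huv]; exact one_ne_zero))
  have h2 := Submodule.finrank_le (Submodule.span F {u, v})
  omega

theorem class_even {F : Type w} [Field F] [Finite F] : ∀ (k : ℕ) {V : Type u} {V' : Type v} [AddCommGroup V] [Module F V]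
    [FiniteDimensional F V] [AddCommGroup V'] [Module F V'] [FiniteDimensional F V'] [Finite V] [Finite V'] {Q : QuadraticForm F V}
    {Q' : QuadraticForm F V'} (_ : ND Q) (_ : ND Q') (_ : Module.finrank F V = 2 * k) (_ : Module.finrank F V' = 2 * k)
    (_ : zn Q = zn Q') {c : F} (_ : c ≠ 0), ∃ φ : V →ₗ[F] V', ∀ x, Q' (φ x) = c * Q x := by
  intro k
  induction k with
  | zero =>
    intro V V' _ _ _ _ _ _ _ _ Q Q' hnd hnd' hn hn' hz c hc
    haveI : Subsingleton V := Module.finrank_zero_iff.mp (by omega)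
    refine ⟨0, fun x => ?_⟩
    rw [Subsingleton.elim x 0, map_zero, q_zero, q_zero, mul_zero]
  | succ k ih =>
    intro V V' _ _ _ _ _ _ _ _ Q Q' hnd hnd' hn hn' hz c hc
    obtain ⟨q, hq⟩ : ∃ q, Nat.card F = q := ⟨_, rfl⟩
    by_cases h2 : 2 ≤ zn Q
    · obtain ⟨u, v, hu, hv, huv⟩ := exists_hyp hnd h2
      obtain ⟨u', v', hu', hv', huv'⟩ := exists_hyp hnd' (by rw [← hz]; exact h2)
      obtain ⟨h3, h4⟩ := zn_rec hnd hq (n := 2 * k) (by rw [hn]; ring) hu hv huv
      obtain ⟨h3', h4'⟩ := zn_rec hnd' hq (n := 2 * k) (by rw [hn']; ring) hu' hv' huv'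
      have hq0 : 0 < q := by rw [← hq]; exact Nat.card_pos
      have h5 : zn (resQ Q (oc Q (Submodule.span F {u, v}))) = zn (resQ Q' (oc Q' (Submodule.span F {u', v'}))) := by
        rw [h4, h4'] at hz
        exact Nat.eq_of_mul_eq_mul_left hq0 (Nat.add_left_cancel hz)
      obtain ⟨φ, hφ⟩ := ih ((hyp_nds hu hv huv).oc hnd).nd ((hyp_nds hu' hv' huv').oc hnd').nd h3 h3' h5 hc
      exact sim_hyp hu hv huv hu' hv' huv' φ hφ
    · have han := zn_aniso (Q := Q) (by omega)
      have han' := zn_aniso (Q := Q') (by omega)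
      have hk : k = 0 := by
        by_contra hk
        obtain ⟨x, hx0, hx⟩ := exists_sing hnd (by omega)
        exact hx0 (han x hx)
      subst hk
      exact class_two hnd hnd' hn hn' han han' hc

theorem class_odd {F : Type w} [Field F] [Finite F] (h2 : (2 : F) ≠ 0) : ∀ (k : ℕ) {V : Type u} {V' : Type v} [AddCommGroup V] [Module F V]
    [FiniteDimensional F V] [AddCommGroup V'] [Module F V'] [FiniteDimensional F V'] [Finite V] [Finite V'] {Q : QuadraticForm F V}
    {Q' : QuadraticForm F V'} (_ : ND Q) (_ : ND Q') (_ : Module.finrank F V = 2 * k + 1) (_ : Module.finrank F V' = 2 * k + 1),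
    ∃ c : F, c ≠ 0 ∧ ∃ φ : V →ₗ[F] V', ∀ x, Q' (φ x) = c * Q x := by
  intro k
  induction k with
  | zero =>
    intro V V' _ _ _ _ _ _ _ _ Q Q' hnd hnd' hn hn'
    obtain ⟨v, hv⟩ := exists_ne_q hnd (by omega)
    obtain ⟨v', hv'⟩ := exists_ne_q hnd' (by omega)
    have hv0 : v ≠ 0 := by rintro rfl; exact hv (q_zero Q)
    obtain ⟨b, hb⟩ : ∃ b : Module.Basis (Fin 1) F V, b 0 = v := by
      have hli : LinearIndependent F ![v] := LinearIndependent.of_subsingleton (v := ![v]) 0 hv0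
      refine ⟨basisOfLinearIndependentOfCardEqFinrank hli (by rw [hn]; simp), ?_⟩
      rw [coe_basisOfLinearIndependentOfCardEqFinrank]; rfl
    refine ⟨Q' v' / Q v, div_ne_zero hv' hv, b.constr F ![v'], fun x => ?_⟩
    have hx : x = b.repr x 0 • v := by
      conv_lhs => rw [← b.sum_repr x]
      rw [Fin.sum_univ_one, hb]
    obtain ⟨s, hs⟩ : ∃ s, s = b.repr x 0 := ⟨_, rfl⟩
    have hφv : b.constr F ![v'] v = v' := by
      conv_lhs => rw [← hb]
      rw [Module.Basis.constr_basis]; rfl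
    rw [← hs] at hx
    rw [hx, map_smul, hφv, q_smul, q_smul]
    field_simp
  | succ k ih =>
    intro V V' _ _ _ _ _ _ _ _ Q Q' hnd hnd' hn hn'
    obtain ⟨q, hq⟩ : ∃ q, Nat.card F = q := ⟨_, rfl⟩
    obtain ⟨u, hu0, hu⟩ := exists_sing hnd (by omega)
    obtain ⟨v, hv, huv⟩ := exists_partner hnd hu0 hu
    obtain ⟨u', hu'0, hu'⟩ := exists_sing hnd' (by omega)
    obtain ⟨v', hv', huv'⟩ := exists_partner hnd' hu'0 hu'
    obtain ⟨h3, _⟩ := zn_rec hnd hq (n := 2 * k + 1) (by rw [hn]; ring) hu hv huv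
    obtain ⟨h3', _⟩ := zn_rec hnd' hq (n := 2 * k + 1) (by rw [hn']; ring) hu' hv' huv'
    obtain ⟨c, hc, φ, hφ⟩ := ih ((hyp_nds hu hv huv).oc hnd).nd ((hyp_nds hu' hv' huv').oc hnd').nd h3 h3'
    exact ⟨c, hc, sim_hyp hu hv huv hu' hv' huv' φ hφ⟩

end Cfsg.Agent.H17
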