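import Mathlib

set_option autoImplicit false

/-! Abstract framework for classical groups preserving an alternating, Hermitian or quadratic form:
Siegel elements and their commutation rules. Used to determine automorphism groups. -/

namespace Cfsg.Agent.H17

/-- a classical group `G` acting on `V` preserving a form, with projective image `PG`. -/
structure Pol (F V G PG : Type*) [Field F] [AddCommGroup V] [Module F V] [Group G] [Group PG] where
  τ : F →+* F
  B : V →ₛₗ[τ] V →ₗ[F] F
  N : V → F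
  t : F →+ F
  ε : F
  act : G →* (V →ₗ[F] V)
  pr : G →* PG
  ττ : ∀ x, τ (τ x) = x
  hε : ε = 1 ∨ ε = -1
  symm : ∀ x y, B y x = ε * τ (B x y)
  nd : ∀ x, (∀ y, B x y = 0) → x = 0
  N_add : ∀ x y, N (x + y) = N x + N y + t (B x y)
  N_smul : ∀ (a : F) x, N (a • x) = a * τ a * N x
  N_self : ∀ x, N x = 0 → B x x = 0
  t_norm : ∀ a b, t (a * τ a * b) = a * τ a * t b
  t_symm : ∀ a, t (ε * τ a) = t a
  exz : ∀ w, ∃ z, N w + t (ε * z) = 0
  act_inj : ∀ g h, (∀ x, act g x = act h x) → g = h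
  act_B : ∀ g x y, B (act g x) (act g y) = B x y
  act_N : ∀ g x, N (act g x) = N x
  pr_surj : Function.Surjective pr
  pr_eq : ∀ g h, pr g = pr h ↔ ∃ c : F, ∀ x, act g x = c • act h x
  exX : ∀ e w z, N e = 0 → B e w = 0 → N w + t (ε * z) = 0 →
    ∃ g : G, ∀ x, act g x = x + B e x • (w + z • e) - (ε * B w x) • e
  trans : ∀ e f e' f', N e = 0 → N f = 0 → B e f ≠ 0 → N e' = 0 → N f' = 0 → B e' f' ≠ 0 →
    ∃ (g : G) (a b : F), a ≠ 0 ∧ b ≠ 0 ∧ act g e = a • e' ∧ act g f = b • f'

namespace Pol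

variable {F V G PG : Type*} [Field F] [AddCommGroup V] [Module F V] [Group G] [Group PG]
  (O : Pol F V G PG)

theorem bl_add (x y z : V) : O.B (x + y) z = O.B x z + O.B y z := by
  rw [map_add, LinearMap.add_apply]
theorem bl_sub (x y z : V) : O.B (x - y) z = O.B x z - O.B y z := by
  rw [map_sub, LinearMap.sub_apply]
theorem bl_neg (x z : V) : O.B (-x) z = -O.B x z := by
  rw [map_neg, LinearMap.neg_apply]
theorem bl_smul (a : F) (x z : V) : O.B (a • x) z = O.τ a * O.B x z := by
  rw [LinearMap.map_smulₛₗ, LinearMap.smul_apply, smul_eq_mul]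
theorem bl_zero (z : V) : O.B 0 z = 0 := by rw [map_zero, LinearMap.zero_apply]
theorem br_add (x y z : V) : O.B x (y + z) = O.B x y + O.B x z := map_add _ _ _
theorem br_sub (x y z : V) : O.B x (y - z) = O.B x y - O.B x z := map_sub _ _ _
theorem br_neg (x z : V) : O.B x (-z) = -O.B x z := map_neg _ _
theorem br_smul (a : F) (x z : V) : O.B x (a • z) = a * O.B x z := by
  rw [map_smul, smul_eq_mul]
theorem br_zero (z : V) : O.B z 0 = 0 := map_zero _

theorem εε : O.ε * O.ε = 1 := by rcases O.hε with h | h <;> rw [h] <;> ring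
theorem ε_ne : O.ε ≠ 0 := by
  intro h
  have := O.εε
  rw [h, mul_zero] at this
  exact zero_ne_one this
theorem τε : O.τ O.ε = O.ε := by rcases O.hε with h | h <;> rw [h] <;> simp

theorem τ_ne {a : F} (ha : a ≠ 0) : O.τ a ≠ 0 := fun h => ha ((map_eq_zero _).mp h)

theorem refl {x y : V} (h : O.B x y = 0) : O.B y x = 0 := by
  rw [O.symm x y, h, map_zero, mul_zero]

theorem refl_iff {x y : V} : O.B x y = 0 ↔ O.B y x = 0 := ⟨O.refl, O.refl⟩

theorem nd' (x : V) (h : ∀ y, O.B y x = 0) : x = 0 := O.nd x (fun y => O.refl (h y))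

theorem B_self {x : V} (h : O.N x = 0) : O.B x x = 0 := O.N_self x h

theorem N_zero : O.N 0 = 0 := by
  have := O.N_smul 0 0
  rwa [zero_smul, zero_mul, zero_mul] at this

theorem N_smul_zero {x : V} (a : F) (h : O.N x = 0) : O.N (a • x) = 0 := by
  rw [O.N_smul, h, mul_zero]

/-- data of a Siegel element -/
structure Ok (e w : V) (z : F) : Prop where
  e0 : O.N e = 0
  ew : O.B e w = 0
  adm : O.N w + O.t (O.ε * z) = 0

variable {O} in
theorem Ok.we {e w : V} {z : F} (h : O.Ok e w z) : O.B w e = 0 := O.refl h.ew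

variable {O} in
theorem Ok.ee {e w : V} {z : F} (h : O.Ok e w z) : O.B e e = 0 := O.B_self h.e0

open Classical in
/-- Siegel element -/
noncomputable def X (e w : V) (z : F) : G :=
  if h : O.Ok e w z then (O.exX e w z h.e0 h.ew h.adm).choose else 1

variable {O}

theorem X_act {e w : V} {z : F} (h : O.Ok e w z) (x : V) :
    O.act (O.X e w z) x = x + O.B e x • (w + z • e) - (O.ε * O.B w x) • e := by
  rw [X, dif_pos h]
  exact (O.exX e w z h.e0 h.ew h.adm).choose_spec x

theorem act_mul (g h : G) (x : V) : O.act (g * h) x = O.act g (O.act h x) := by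
  rw [map_mul]; rfl

theorem act_one (x : V) : O.act 1 x = x := by rw [map_one]; rfl

theorem act_inv_act (g : G) (x : V) : O.act g⁻¹ (O.act g x) = x := by
  rw [← act_mul, inv_mul_cancel, act_one]

theorem act_act_inv (g : G) (x : V) : O.act g (O.act g⁻¹ x) = x := by
  rw [← act_mul, mul_inv_cancel, act_one]

theorem act_ne_zero (g : G) {x : V} (hx : x ≠ 0) : O.act g x ≠ 0 := by
  intro h
  apply hx
  rw [← act_inv_act (O := O) g x, h, map_zero]

theorem act_injective (g : G) {x y : V} (h : O.act g x = O.act g y) : x = y := by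
  rw [← act_inv_act (O := O) g x, h, act_inv_act]

theorem B_act_left (g : G) (x y : V) : O.B (O.act g x) y = O.B x (O.act g⁻¹ y) := by
  conv_lhs => rw [← act_act_inv (O := O) g y]
  rw [O.act_B]

theorem B_act_right (g : G) (x y : V) : O.B x (O.act g y) = O.B (O.act g⁻¹ x) y := by
  conv_lhs => rw [← act_act_inv (O := O) g x]
  rw [O.act_B]

theorem Ok.add {e w w' : V} {z z' : F} (h : O.Ok e w z) (h' : O.Ok e w' z') :
    O.Ok e (w + w') (z + z' - O.ε * O.B w w') := by
  refine ⟨h.e0, by rw [O.br_add, h.ew, h'.ew, add_zero], ?_⟩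
  rw [O.N_add, mul_sub, mul_add, ← mul_assoc, O.εε, one_mul, map_sub, map_add]
  linear_combination h.adm + h'.adm

theorem X_mul {e w w' : V} {z z' : F} (h : O.Ok e w z) (h' : O.Ok e w' z') :
    O.X e w z * O.X e w' z' = O.X e (w + w') (z + z' - O.ε * O.B w w') := by
  apply O.act_inj
  intro x
  rw [act_mul, X_act h, X_act h', X_act (h.add h')]
  simp only [O.br_add, O.br_sub, O.br_smul, O.bl_add, h.ew, h'.ew, h.ee, h.we, mul_zero, add_zero, sub_zero]
  module

theorem ok_zero {e : V} (he : O.N e = 0) : O.Ok e 0 0 :=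
  ⟨he, O.br_zero e, by rw [O.N_zero, mul_zero, map_zero, add_zero]⟩

theorem X_zero {e : V} (he : O.N e = 0) : O.X e 0 0 = 1 := by
  apply O.act_inj
  intro x
  rw [X_act (ok_zero he), act_one, O.bl_zero]
  module

theorem Ok.neg {e w : V} {z : F} (h : O.Ok e w z) : O.Ok e (-w) (-z - O.ε * O.B w w) := by
  refine ⟨h.e0, by rw [O.br_neg, h.ew, neg_zero], ?_⟩
  have h1 : O.N (-w) = O.N w := by
    have := O.N_smul (-1) w
    rw [neg_one_smul, map_neg, map_one] at this
    rw [this]; ring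
  have h2 := O.N_add w (-w)
  rw [add_neg_cancel, O.N_zero, h1, O.br_neg, map_neg] at h2
  rw [h1, mul_sub, mul_neg, ← mul_assoc, O.εε, one_mul, map_sub, map_neg]
  linear_combination -h2 - h.adm

theorem X_inv {e w : V} {z : F} (h : O.Ok e w z) : (O.X e w z)⁻¹ = O.X e (-w) (-z - O.ε * O.B w w) := by
  rw [inv_eq_iff_mul_eq_one, X_mul h h.neg]
  have : z + (-z - O.ε * O.B w w) - O.ε * O.B w (-w) = 0 := by rw [O.br_neg]; ring
  rw [this, add_neg_cancel, X_zero h.e0]

theorem Ok.act {e w : V} {z : F} (h : O.Ok e w z) (g : G) : O.Ok (O.act g e) (O.act g w) z :=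
  ⟨by rw [O.act_N, h.e0], by rw [O.act_B, h.ew], by rw [O.act_N, h.adm]⟩

theorem X_conj {e w : V} {z : F} (h : O.Ok e w z) (g : G) :
    g * O.X e w z * g⁻¹ = O.X (O.act g e) (O.act g w) z := by
  apply O.act_inj
  intro x
  rw [act_mul, act_mul, X_act h, X_act (h.act g), map_sub, map_add, act_act_inv, map_smul, map_smul, map_add,
    map_smul, B_act_left, B_act_left]

theorem Ok.smul {e w : V} {z : F} (h : O.Ok e w z) (c : F) : O.Ok (c • e) w z :=
  ⟨O.N_smul_zero c h.e0, by rw [O.bl_smul, h.ew, mul_zero], h.adm⟩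

theorem Ok.smul' {e w : V} {z : F} (h : O.Ok e w z) (c : F) : O.Ok e (O.τ c • w) (c * O.τ c * z) := by
  refine ⟨h.e0, by rw [O.br_smul, h.ew, mul_zero], ?_⟩
  rw [O.N_smul, O.ττ]
  have : O.ε * (c * O.τ c * z) = c * O.τ c * (O.ε * z) := by ring
  rw [this, O.t_norm]
  linear_combination (c * O.τ c) * h.adm

theorem X_smul {e w : V} {z : F} (h : O.Ok e w z) (c : F) :
    O.X (c • e) w z = O.X e (O.τ c • w) (c * O.τ c * z) := by
  apply O.act_inj
  intro x
  rw [X_act (h.smul c), X_act (h.smul' c)]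
  simp only [O.bl_smul, O.ττ]
  module

theorem Ok.shift {e w : V} {z : F} (h : O.Ok e w z) (c : F) : O.Ok e (w + c • e) (z - c + O.ε * O.τ c) := by
  refine ⟨h.e0, by rw [O.br_add, O.br_smul, h.ew, h.ee, mul_zero, add_zero], ?_⟩
  have h1 : O.N (w + c • e) = O.N w := by
    rw [O.N_add, O.N_smul, h.e0, O.br_smul, h.we, mul_zero, mul_zero, map_zero, add_zero, add_zero]
  have h2 : O.t (O.ε * c) = O.t (O.τ c) := by
    rw [← O.t_symm (O.ε * c), map_mul O.τ, O.τε, ← mul_assoc, O.εε, one_mul]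
  rw [h1, mul_add, mul_sub, ← mul_assoc, O.εε, one_mul, map_add, map_sub, h2]
  linear_combination h.adm

theorem X_shift {e w : V} {z : F} (h : O.Ok e w z) (c : F) :
    O.X e (w + c • e) (z - c + O.ε * O.τ c) = O.X e w z := by
  apply O.act_inj
  intro x
  rw [X_act (h.shift c), X_act h]
  simp only [O.bl_add, O.bl_smul]
  module

end Pol

end Cfsg.Agent.H17
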