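import Mathlib
import Cfsg.Agent.H17.PolA

set_option autoImplicit false

/-! Abstract classical groups: the subgroups `Qs e`, `Zs e` and incidence of points. -/

namespace Cfsg.Agent.H17.Pol

variable {F V G PG : Type*} [Field F] [AddCommGroup V] [Module F V] [Group G] [Group PG]
  {O : Pol F V G PG}

/-- singular points -/
structure Pt (O : Pol F V G PG) (e : V) : Prop where
  ne : e ≠ 0
  sing : O.N e = 0

theorem Pt.act {e : V} (h : O.Pt e) (g : G) : O.Pt (O.act g e) := ⟨act_ne_zero g h.ne, by rw [O.act_N, h.sing]⟩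

theorem Pt.smul {e : V} (h : O.Pt e) {c : F} (hc : c ≠ 0) : O.Pt (c • e) :=
  ⟨smul_ne_zero hc h.ne, O.N_smul_zero c h.sing⟩

theorem Pt.self {e : V} (h : O.Pt e) : O.B e e = 0 := O.B_self h.sing

/-- the unipotent radical of the stabiliser of the point `e` in `PG` -/
def Qs (O : Pol F V G PG) (e : V) : Subgroup PG where
  carrier := {y | (∃ w z, O.Ok e w z ∧ y = O.pr (O.X e w z)) ∨ y = 1}
  one_mem' := Or.inr rfl
  mul_mem' := by
    rintro _ _ (⟨w, z, h, rfl⟩ | rfl) (⟨w', z', h', rfl⟩ | rfl)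
    · exact Or.inl ⟨_, _, h.add h', by rw [← map_mul, X_mul h h']⟩
    · exact Or.inl ⟨_, _, h, by rw [mul_one]⟩
    · exact Or.inl ⟨_, _, h', by rw [one_mul]⟩
    · exact Or.inr (one_mul 1)
  inv_mem' := by
    rintro _ (⟨w, z, h, rfl⟩ | rfl)
    · exact Or.inl ⟨_, _, h.neg, by rw [← map_inv, X_inv h]⟩
    · exact Or.inr inv_one

/-- the transvection group -/
def Zs (O : Pol F V G PG) (e : V) : Subgroup PG where
  carrier := {y | (∃ z, O.Ok e 0 z ∧ y = O.pr (O.X e 0 z)) ∨ y = 1}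
  one_mem' := Or.inr rfl
  mul_mem' := by
    rintro _ _ (⟨z, h, rfl⟩ | rfl) (⟨z', h', rfl⟩ | rfl)
    · have h1 := h.add h'
      rw [add_zero, O.bl_zero, mul_zero, sub_zero] at h1
      refine Or.inl ⟨_, h1, ?_⟩
      rw [← map_mul, X_mul h h', add_zero, O.bl_zero, mul_zero, sub_zero]
    · exact Or.inl ⟨_, h, by rw [mul_one]⟩
    · exact Or.inl ⟨_, h', by rw [one_mul]⟩
    · exact Or.inr (one_mul 1)
  inv_mem' := by
    rintro _ (⟨z, h, rfl⟩ | rfl)
    · have h1 := h.neg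
      rw [neg_zero, O.bl_zero, mul_zero, sub_zero] at h1
      refine Or.inl ⟨_, h1, ?_⟩
      rw [← map_inv, X_inv h, neg_zero, O.bl_zero, mul_zero, sub_zero]
    · exact Or.inr inv_one

theorem mem_Qs {e : V} (he : O.N e = 0) {y : PG} : y ∈ O.Qs e ↔ ∃ w z, O.Ok e w z ∧ y = O.pr (O.X e w z) := by
  constructor
  · rintro (h | rfl)
    · exact h
    · exact ⟨0, 0, ok_zero he, by rw [X_zero he, map_one]⟩
  · exact fun h => Or.inl h

theorem mem_Zs {e : V} (he : O.N e = 0) {y : PG} : y ∈ O.Zs e ↔ ∃ z, O.Ok e 0 z ∧ y = O.pr (O.X e 0 z) := by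
  constructor
  · rintro (h | rfl)
    · exact h
    · exact ⟨0, ok_zero he, by rw [X_zero he, map_one]⟩
  · exact fun h => Or.inl h

theorem Zs_le_Qs (e : V) : O.Zs e ≤ O.Qs e := by
  rintro _ (⟨z, h, rfl⟩ | rfl)
  · exact Or.inl ⟨0, z, h, rfl⟩
  · exact Or.inr rfl

theorem Qs_smul_le (e : V) (c : F) : O.Qs (c • e) ≤ O.Qs e := by
  rintro _ (⟨w, z, h, rfl⟩ | rfl)
  · by_cases hc : c = 0
    · subst hc
      right
      have h1 : O.X ((0 : F) • e) w z = 1 := by
        apply O.act_inj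
        intro x
        rw [X_act h, act_one, zero_smul, O.bl_zero, zero_smul, smul_zero, add_zero, sub_zero]
      rw [h1, map_one]
    · have he : O.N e = 0 := by
        have h1 := h.e0
        rw [O.N_smul] at h1
        exact (mul_eq_zero.mp h1).resolve_left (mul_ne_zero hc (O.τ_ne hc))
      have h2 : O.Ok e w z := by
        refine ⟨he, ?_, h.adm⟩
        have h1 := h.ew
        rw [O.bl_smul] at h1
        exact (mul_eq_zero.mp h1).resolve_left (O.τ_ne hc)
      exact Or.inl ⟨_, _, h2.smul' c, by rw [X_smul h2]⟩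
  · exact Or.inr rfl

theorem Qs_smul (e : V) {c : F} (hc : c ≠ 0) : O.Qs (c • e) = O.Qs e := by
  apply le_antisymm (Qs_smul_le e c)
  have h := Qs_smul_le (O := O) (c • e) c⁻¹
  rwa [smul_smul, inv_mul_cancel₀ hc, one_smul] at h

theorem Zs_smul_le (e : V) {c : F} (hc : c ≠ 0) : O.Zs (c • e) ≤ O.Zs e := by
  rintro _ (⟨z, h, rfl⟩ | rfl)
  · have he : O.N e = 0 := by
      have h1 := h.e0
      rw [O.N_smul] at h1
      exact (mul_eq_zero.mp h1).resolve_left (mul_ne_zero hc (O.τ_ne hc))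
    have h2 : O.Ok e 0 z := ⟨he, O.br_zero e, h.adm⟩
    have h3 := h2.smul' c
    rw [smul_zero] at h3
    exact Or.inl ⟨_, h3, by rw [X_smul h2, smul_zero]⟩
  · exact Or.inr rfl

theorem Zs_smul (e : V) {c : F} (hc : c ≠ 0) : O.Zs (c • e) = O.Zs e := by
  apply le_antisymm (Zs_smul_le e hc)
  have h := Zs_smul_le (O := O) (c • e) (inv_ne_zero hc)
  rwa [smul_smul, inv_mul_cancel₀ hc, one_smul] at h

/-- conjugation of subgroups -/
abbrev cj (y : PG) (K : Subgroup PG) : Subgroup PG := K.map (MulAut.conj y).toMonoidHom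

theorem mem_cj {y x : PG} {K : Subgroup PG} : x ∈ cj y K ↔ y⁻¹ * x * y ∈ K := by
  constructor
  · rintro ⟨k, hk, rfl⟩
    have : y⁻¹ * (MulAut.conj y).toMonoidHom k * y = k := by
      change y⁻¹ * (y * k * y⁻¹) * y = k
      group
    rw [this]; exact hk
  · intro h
    exact ⟨_, h, by change y * (y⁻¹ * x * y) * y⁻¹ = x; group⟩

theorem Qs_conj (g : G) (e : V) : cj (O.pr g) (O.Qs e) = O.Qs (O.act g e) := by
  have key : ∀ (g : G) (e : V), cj (O.pr g) (O.Qs e) ≤ O.Qs (O.act g e) := by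
    rintro g e _ ⟨_, (⟨w, z, h, rfl⟩ | rfl), rfl⟩
    · left
      exact ⟨_, _, h.act g, by
        change O.pr g * O.pr (O.X e w z) * (O.pr g)⁻¹ = _
        rw [← map_inv, ← map_mul, ← map_mul, X_conj h]⟩
    · right; rw [map_one]
  apply le_antisymm (key g e)
  intro x hx
  rw [mem_cj]
  have h1 := key g⁻¹ (O.act g e)
  rw [act_inv_act] at h1
  apply h1
  rw [mem_cj, map_inv]
  have : (O.pr g)⁻¹⁻¹ * ((O.pr g)⁻¹ * x * O.pr g) * (O.pr g)⁻¹ = x := by group
  rw [this]; exact hx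

theorem Zs_conj (g : G) (e : V) : cj (O.pr g) (O.Zs e) = O.Zs (O.act g e) := by
  have key : ∀ (g : G) (e : V), cj (O.pr g) (O.Zs e) ≤ O.Zs (O.act g e) := by
    rintro g e _ ⟨_, (⟨z, h, rfl⟩ | rfl), rfl⟩
    · left
      have h2 := h.act g
      rw [map_zero] at h2
      exact ⟨_, h2, by
        change O.pr g * O.pr (O.X e 0 z) * (O.pr g)⁻¹ = _
        rw [← map_inv, ← map_mul, ← map_mul, X_conj h, map_zero]⟩
    · right; rw [map_one]
  apply le_antisymm (key g e)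
  intro x hx
  rw [mem_cj]
  have h1 := key g⁻¹ (O.act g e)
  rw [act_inv_act] at h1
  apply h1
  rw [mem_cj, map_inv]
  have : (O.pr g)⁻¹⁻¹ * ((O.pr g)⁻¹ * x * O.pr g) * (O.pr g)⁻¹ = x := by group
  rw [this]; exact hx

/-- regularity: a Siegel element fixing an opposite point is trivial -/
theorem X_eq_one_of_fix {e w : V} {z : F} (h : O.Ok e w z) {f : V} (hef : O.B e f ≠ 0) {c : F}
    (hf : O.act (O.X e w z) f = c • f) : O.X e w z = 1 := by
  obtain ⟨c0, hc0⟩ : ∃ c0, c0 = O.τ (-(O.B w f / O.B e f)) := ⟨_, rfl⟩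
  have h' := h.shift c0
  rw [← X_shift h c0] at hf ⊢
  have hw' : O.B (w + c0 • e) f = 0 := by
    rw [O.bl_add, O.bl_smul, hc0, O.ττ]
    field_simp
    ring
  generalize w + c0 • e = w' at h' hf hw' ⊢
  generalize z - c0 + O.ε * O.τ c0 = z' at h' hf ⊢
  rw [X_act h', hw', mul_zero, zero_smul, sub_zero] at hf
  have h1 := congrArg (fun x => O.B e x) hf
  simp only [O.br_add, O.br_smul, h'.ew, h'.ee, mul_zero, add_zero] at h1
  have hc : c = 1 := by
    have : (c - 1) * O.B e f = 0 := by linear_combination -h1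
    exact sub_eq_zero.mp ((mul_eq_zero.mp this).resolve_right hef)
  rw [hc, one_smul] at hf
  have h2 : w' + z' • e = 0 := by
    have : O.B e f • (w' + z' • e) = 0 := by
      have h3 := congrArg (fun x => x - f) hf
      simpa using h3
    exact (smul_eq_zero.mp this).resolve_left hef
  have h3 := congrArg (fun x => O.B x f) h2
  simp only [O.bl_add, O.bl_smul, hw', O.bl_zero, zero_add] at h3
  have hz : z' = 0 := by
    have h4 := (mul_eq_zero.mp h3).resolve_right hef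
    exact (map_eq_zero _).mp h4
  rw [hz, zero_smul, add_zero] at h2
  rw [hz, h2, X_zero h.e0]

theorem exists_smul_of_perp {e e' : V} (he : e ≠ 0) (h : ∀ w, O.B e w = 0 → O.B e' w = 0) : ∃ c : F, e' = c • e := by
  obtain ⟨f, hf⟩ : ∃ f, O.B e f ≠ 0 := by
    by_contra hcon
    push Not at hcon
    exact he (O.nd e hcon)
  refine ⟨O.τ (O.B e' f / O.B e f), ?_⟩
  rw [← sub_eq_zero]
  apply O.nd
  intro y
  have h1 := h (y - (O.B e y / O.B e f) • f) (by rw [O.br_sub, O.br_smul]; field_simp; ring)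
  rw [O.br_sub, O.br_smul] at h1
  rw [O.bl_sub, O.bl_smul, O.ττ]
  field_simp at h1 ⊢
  linear_combination h1

theorem exists_perp_not_perp {e e' : V} (he : e ≠ 0) (h : ¬ ∃ c : F, e' = c • e) :
    ∃ w, O.B e w = 0 ∧ O.B e' w ≠ 0 := by
  by_contra hcon
  push Not at hcon
  exact h (exists_smul_of_perp (O := O) he hcon)

theorem exists_B_ne {e : V} (he : e ≠ 0) : ∃ f, O.B e f ≠ 0 := by
  by_contra hcon
  push Not at hcon
  exact he (O.nd e hcon)

theorem exists_B_one {e : V} (he : e ≠ 0) : ∃ f, O.B e f = 1 := by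
  obtain ⟨f, hf⟩ := exists_B_ne (O := O) he
  exact ⟨(O.B e f)⁻¹ • f, by rw [O.br_smul, inv_mul_cancel₀ hf]⟩

/-- a Siegel element is trivial in `PG` only if it is trivial -/
theorem pr_X_eq_one {e w : V} {z : F} (h : O.Ok e w z) (he : e ≠ 0) (h1 : O.pr (O.X e w z) = 1) :
    O.X e w z = 1 := by
  rw [← map_one O.pr, O.pr_eq] at h1
  obtain ⟨c, hc⟩ := h1
  have h2 := hc e
  rw [X_act h, h.ee, h.we, act_one, zero_smul, mul_zero, zero_smul, add_zero, sub_zero] at h2
  have hc1 : c = 1 := by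
    have : (1 - c) • e = 0 := by rw [sub_smul, one_smul, sub_eq_zero]; exact h2
    exact (sub_eq_zero.mp ((smul_eq_zero.mp this).resolve_right he)).symm
  apply O.act_inj
  intro x
  rw [hc, hc1, one_smul]

/-- if `X e w z = 1` then `w ∈ ⟨e⟩`. -/
theorem X_one_mem {e w : V} {z : F} (h : O.Ok e w z) (he : e ≠ 0) (h1 : O.X e w z = 1) : ∃ c : F, w = c • e := by
  obtain ⟨f, hf⟩ := exists_B_one (O := O) he
  have h2 := X_act h f
  rw [h1, act_one, hf, one_smul] at h2
  have h3 : w + z • e - (O.ε * O.B w f) • e = 0 := by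
    have := congrArg (fun x => x - f) h2
    simp only [sub_self] at this
    rw [this]; module
  exact ⟨O.ε * O.B w f - z, by
    calc w = (w + z • e - (O.ε * O.B w f) • e) + (O.ε * O.B w f - z) • e := by module
      _ = (O.ε * O.B w f - z) • e := by rw [h3, zero_add]⟩

theorem exists_ok {e w : V} (he : O.N e = 0) (hw : O.B e w = 0) : ∃ z, O.Ok e w z := by
  obtain ⟨z, hz⟩ := O.exz w
  exact ⟨z, he, hw, hz⟩

/-- dimension hypothesis: the perp of two vectors is not contained in a line -/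
def Big (O : Pol F V G PG) : Prop := ∀ e : V, e ≠ 0 → ∃ w, O.B e w = 0 ∧ ¬ ∃ c : F, w = c • e

theorem exists_Qs_ne_one (hb : O.Big) {e : V} (he : O.Pt e) : ∃ y ∈ O.Qs e, y ≠ 1 := by
  obtain ⟨w, hw, hwe⟩ := hb e he.ne
  obtain ⟨z, hz⟩ := exists_ok he.sing hw
  refine ⟨O.pr (O.X e w z), (mem_Qs he.sing).mpr ⟨w, z, hz, rfl⟩, ?_⟩
  intro h
  exact hwe (X_one_mem hz he.ne (pr_X_eq_one hz he.ne h))

/-- an element of `Qs e` fixes the point `e` -/
theorem Qs_fix {e : V} (he : O.N e = 0) {g : G} (hg : O.pr g ∈ O.Qs e) : ∃ c : F, O.act g e = c • e := by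
  obtain ⟨w, z, h, h1⟩ := (mem_Qs he).mp hg
  obtain ⟨c, hc⟩ := (O.pr_eq _ _).mp h1
  refine ⟨c, ?_⟩
  rw [hc, X_act h, h.ee, h.we]
  module

theorem fix_of_Qs_opp {e f : V} (he : O.Pt e) (hef : O.B e f ≠ 0) {g : G} (hg : O.pr g ∈ O.Qs e) {c : F}
    (hf : O.act g f = c • f) : O.pr g = 1 := by
  obtain ⟨w, z, h, h1⟩ := (mem_Qs he.sing).mp hg
  obtain ⟨d, hd⟩ := (O.pr_eq _ _).mp h1
  have hd0 : d ≠ 0 := by
    rintro rfl
    have := hd e
    rw [zero_smul] at this
    exact act_ne_zero g he.ne this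
  have h2 : O.act (O.X e w z) f = (d⁻¹ * c) • f := by
    rw [mul_smul, ← hf, hd, smul_smul, inv_mul_cancel₀ hd0, one_smul]
  rw [h1, X_eq_one_of_fix h hef h2, map_one]

theorem Qs_inj (hb : O.Big) {e e' : V} (he : O.Pt e) (he' : O.Pt e') (h : O.Qs e = O.Qs e') : ∃ c : F, c ≠ 0 ∧ e' = c • e := by
  by_contra hcon
  have hcon' : ¬ ∃ c : F, e' = c • e := by
    rintro ⟨c, hc⟩
    apply hcon
    refine ⟨c, ?_, hc⟩
    rintro rfl
    rw [zero_smul] at hc
    exact he'.ne hc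
  by_cases hB : O.B e' e = 0
  · obtain ⟨w, hw, hw'⟩ := exists_perp_not_perp (O := O) he.ne hcon'
    obtain ⟨z, hz⟩ := exists_ok he.sing hw
    have h1 : O.pr (O.X e w z) ∈ O.Qs e' := by rw [← h]; exact (mem_Qs he.sing).mpr ⟨w, z, hz, rfl⟩
    obtain ⟨c, hc⟩ := Qs_fix he'.sing h1
    rw [X_act hz, O.refl hB, zero_smul, add_zero] at hc
    have hwe' : O.B w e' ≠ 0 := fun h0 => hw' (O.refl h0)
    have h2 : (O.ε * O.B w e') • e = (1 - c) • e' := by
      rw [sub_smul, one_smul, ← hc]; abel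
    by_cases hc1 : 1 - c = 0
    · rw [hc1, zero_smul] at h2
      rcases smul_eq_zero.mp h2 with h3 | h3
      · exact mul_ne_zero O.ε_ne hwe' h3
      · exact he.ne h3
    · apply hcon'
      refine ⟨(1 - c)⁻¹ * (O.ε * O.B w e'), ?_⟩
      rw [mul_smul, h2, smul_smul, inv_mul_cancel₀ hc1, one_smul]
  · obtain ⟨y, hy, hy1⟩ := exists_Qs_ne_one hb he
    obtain ⟨g, rfl⟩ := O.pr_surj y
    obtain ⟨c, hc⟩ := Qs_fix he.sing hy
    rw [h] at hy
    exact hy1 (fix_of_Qs_opp he' hB hy hc)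

/-- normalizing `Qs e` means fixing the point `e`. -/
theorem cj_Qs_iff (hb : O.Big) {e : V} (he : O.Pt e) (g : G) :
    cj (O.pr g) (O.Qs e) = O.Qs e ↔ ∃ c : F, O.act g e = c • e := by
  rw [Qs_conj]
  constructor
  · intro h
    obtain ⟨c, _, hc⟩ := Qs_inj hb he (he.act g) h.symm
    exact ⟨c, hc⟩
  · rintro ⟨c, hc⟩
    rw [hc]
    apply Qs_smul
    rintro rfl
    rw [zero_smul] at hc
    exact act_ne_zero g he.ne hc

/-- perpendicularity of points in terms of the groups `Qs`. -/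
theorem perp_iff (hb : O.Big) {e f : V} (he : O.Pt e) (hf : O.Pt f) :
    O.B e f = 0 ↔ ∃ y ∈ O.Qs e, y ≠ 1 ∧ cj y (O.Qs f) = O.Qs f := by
  constructor
  · intro h
    by_cases hfe : ∃ c : F, f = c • e
    · obtain ⟨c, rfl⟩ := hfe
      have hc : c ≠ 0 := by
        rintro rfl
        exact hf.ne (zero_smul _ _)
      obtain ⟨y, hy, hy1⟩ := exists_Qs_ne_one hb he
      obtain ⟨g, rfl⟩ := O.pr_surj y
      refine ⟨_, hy, hy1, ?_⟩
      rw [Qs_smul e hc, cj_Qs_iff hb he]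
      exact Qs_fix he.sing hy
    · have hok : O.Ok e f 0 := ⟨he.sing, h, by rw [hf.sing, mul_zero, map_zero, add_zero]⟩
      refine ⟨O.pr (O.X e f 0), (mem_Qs he.sing).mpr ⟨_, _, hok, rfl⟩, ?_, ?_⟩
      · intro h1
        exact hfe (X_one_mem hok he.ne (pr_X_eq_one hok he.ne h1))
      · rw [cj_Qs_iff hb hf]
        refine ⟨1, ?_⟩
        rw [X_act hok, h, hf.self]
        module
  · rintro ⟨y, hy, hy1, hyf⟩
    by_contra hB
    obtain ⟨g, rfl⟩ := O.pr_surj y
    obtain ⟨c, hc⟩ := (cj_Qs_iff hb hf g).mp hyf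
    exact hy1 (fix_of_Qs_opp he hB hy hc)

end Cfsg.Agent.H17.Pol
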