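import Mathlib
import Cfsg.Agent.H17.PolB

set_option autoImplicit false

/-! Abstract classical groups: automorphisms fixing a hyperbolic pair of points. -/

namespace Cfsg.Agent.H17.Pol

variable {F V G PG : Type*} [Field F] [AddCommGroup V] [Module F V] [Group G] [Group PG]
  {O : Pol F V G PG}

/-- image of a subgroup under an automorphism -/
abbrev im (α : MulAut PG) (K : Subgroup PG) : Subgroup PG := K.map (α : PG ≃* PG).toMonoidHom

theorem mem_im {α : MulAut PG} {K : Subgroup PG} {y : PG} : y ∈ im α K ↔ ∃ x ∈ K, α x = y := Iff.rfl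

theorem im_mem {α : MulAut PG} {K : Subgroup PG} {x : PG} (h : x ∈ K) : α x ∈ im α K := ⟨x, h, rfl⟩

theorem im_mul (α β : MulAut PG) (K : Subgroup PG) : im (α * β) K = im α (im β K) := by
  ext y
  constructor
  · rintro ⟨x, hx, rfl⟩
    exact ⟨β x, ⟨x, hx, rfl⟩, rfl⟩
  · rintro ⟨_, ⟨x, hx, rfl⟩, rfl⟩
    exact ⟨x, hx, rfl⟩

theorem im_one (K : Subgroup PG) : im 1 K = K := by
  ext y
  constructor
  · rintro ⟨x, hx, rfl⟩; exact hx
  · intro h; exact ⟨y, h, rfl⟩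

theorem im_inv {α : MulAut PG} {K K' : Subgroup PG} (h : im α K = K') : im α⁻¹ K' = K := by
  rw [← h, ← im_mul, inv_mul_cancel, im_one]

theorem im_cj (α : MulAut PG) (y : PG) (K : Subgroup PG) : im α (cj y K) = cj (α y) (im α K) := by
  ext x
  constructor
  · rintro ⟨_, ⟨k, hk, rfl⟩, rfl⟩
    refine ⟨α k, ⟨k, hk, rfl⟩, ?_⟩
    change α y * α k * (α y)⁻¹ = α (y * k * y⁻¹)
    rw [map_mul, map_mul, map_inv]
  · rintro ⟨_, ⟨k, hk, rfl⟩, rfl⟩
    refine ⟨y * k * y⁻¹, ⟨k, hk, rfl⟩, ?_⟩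
    change α (y * k * y⁻¹) = α y * α k * (α y)⁻¹
    rw [map_mul, map_mul, map_inv]

theorem im_conj (y : PG) (K : Subgroup PG) : im (MulAut.conj y) K = cj y K := rfl

/-- vectors perpendicular to `e` and `f` -/
def InW (O : Pol F V G PG) (e f w : V) : Prop := O.B e w = 0 ∧ O.B f w = 0

/-- a hyperbolic pair -/
structure Hyp (O : Pol F V G PG) (e f : V) : Prop where
  e0 : O.N e = 0
  f0 : O.N f = 0
  ef : O.B e f = 1

variable {e f : V}

theorem Hyp.fe (h : O.Hyp e f) : O.B f e = O.ε := by rw [O.symm e f, h.ef, map_one, mul_one]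
theorem Hyp.ee (h : O.Hyp e f) : O.B e e = 0 := O.B_self h.e0
theorem Hyp.ff (h : O.Hyp e f) : O.B f f = 0 := O.B_self h.f0
theorem Hyp.ene (h : O.Hyp e f) : e ≠ 0 := by
  rintro rfl
  have := h.ef
  rw [O.bl_zero] at this
  exact zero_ne_one this
theorem Hyp.fne (h : O.Hyp e f) : f ≠ 0 := by
  rintro rfl
  have := h.ef
  rw [O.br_zero] at this
  exact zero_ne_one this
theorem Hyp.ept (h : O.Hyp e f) : O.Pt e := ⟨h.ene, h.e0⟩
theorem Hyp.fpt (h : O.Hyp e f) : O.Pt f := ⟨h.fne, h.f0⟩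

theorem InW.add {w w' : V} (h : O.InW e f w) (h' : O.InW e f w') : O.InW e f (w + w') :=
  ⟨by rw [O.br_add, h.1, h'.1, add_zero], by rw [O.br_add, h.2, h'.2, add_zero]⟩
theorem InW.smul {w : V} (h : O.InW e f w) (c : F) : O.InW e f (c • w) :=
  ⟨by rw [O.br_smul, h.1, mul_zero], by rw [O.br_smul, h.2, mul_zero]⟩
theorem InW.zero : O.InW e f 0 := ⟨O.br_zero _, O.br_zero _⟩
theorem InW.we {w : V} (h : O.InW e f w) : O.B w e = 0 := O.refl h.1
theorem InW.wf {w : V} (h : O.InW e f w) : O.B w f = 0 := O.refl h.2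
theorem InW.neg {w : V} (h : O.InW e f w) : O.InW e f (-w) :=
  ⟨by rw [O.br_neg, h.1, neg_zero], by rw [O.br_neg, h.2, neg_zero]⟩

/-- the component in `W` -/
def wc (O : Pol F V G PG) (e f x : V) : V := x - (O.ε * O.B f x) • e - O.B e x • f

theorem wc_inW (h : O.Hyp e f) (x : V) : O.InW e f (O.wc e f x) := by
  constructor
  · rw [wc, O.br_sub, O.br_sub, O.br_smul, O.br_smul, h.ee, h.ef]; ring
  · rw [wc, O.br_sub, O.br_sub, O.br_smul, O.br_smul, h.fe, h.ff]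
    linear_combination (-(O.B f x)) * O.εε

theorem wc_eq (x : V) : x = (O.ε * O.B f x) • e + O.B e x • f + O.wc e f x := by
  rw [wc]; module

theorem wc_of_inW (h : O.Hyp e f) {w : V} (hw : O.InW e f w) : O.wc e f w = w := by
  rw [wc, hw.1, hw.2]; module

theorem wc_add (x y : V) : O.wc e f (x + y) = O.wc e f x + O.wc e f y := by
  simp only [wc, O.br_add]; module

theorem wc_smul (c : F) (x : V) : O.wc e f (c • x) = c • O.wc e f x := by
  simp only [wc, O.br_smul]; module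

theorem wc_e (h : O.Hyp e f) : O.wc e f e = 0 := by
  rw [wc, h.fe, h.ee, O.εε]; module

theorem wc_f (h : O.Hyp e f) : O.wc e f f = 0 := by
  rw [wc, h.ff, h.ef]; module

/-- the form in coordinates -/
theorem B_wc (h : O.Hyp e f) (x y : V) : O.B x y =
    O.τ (O.ε * O.B f x) * O.B e y + O.ε * O.τ (O.B e x) * (O.ε * O.B f y) + O.B (O.wc e f x) (O.wc e f y) := by
  have hx := wc_inW h x
  have hy := wc_inW h y
  conv_lhs => rw [wc_eq (O := O) (e := e) (f := f) x, wc_eq (O := O) (e := e) (f := f) y]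
  simp only [O.bl_add, O.br_add, O.bl_smul, O.br_smul, h.ee, h.ef, h.fe, h.ff, hx.we, hx.wf, hy.1, hy.2]
  ring

/-- the norm in coordinates -/
theorem N_wc (h : O.Hyp e f) (x : V) : O.N x =
    O.N (O.wc e f x) + O.t (O.τ (O.ε * O.B f x) * O.B e x) := by
  have hx := wc_inW h x
  conv_lhs => rw [wc_eq (O := O) (e := e) (f := f) x]
  rw [O.N_add, O.N_add, O.N_smul, O.N_smul, h.e0, h.f0]
  simp only [O.bl_add, O.br_smul, O.bl_smul, h.ef, hx.1, hx.2, mul_zero, add_zero, map_zero, zero_add, mul_one]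
  ring_nf

/-- normal form of elements of `Qs e` -/
theorem Qs_rep (h : O.Hyp e f) {y : PG} (hy : y ∈ O.Qs e) :
    ∃ w z, O.InW e f w ∧ O.Ok e w z ∧ y = O.pr (O.X e w z) := by
  obtain ⟨w, z, hok, rfl⟩ := (mem_Qs h.e0).mp hy
  refine ⟨w + (-(O.ε * O.B f w)) • e, _, ?_, hok.shift _, by rw [X_shift hok]⟩
  constructor
  · rw [O.br_add, O.br_smul, hok.ew, h.ee]; ring
  · rw [O.br_add, O.br_smul, h.fe]
    linear_combination (-(O.B f w)) * O.εε

theorem Qs_unique (h : O.Hyp e f) {w w' : V} {z z' : F} (hw : O.InW e f w) (hw' : O.InW e f w')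
    (hok : O.Ok e w z) (hok' : O.Ok e w' z') (he : O.pr (O.X e w z) = O.pr (O.X e w' z')) : w = w' ∧ z = z' := by
  obtain ⟨c, hc⟩ := (O.pr_eq _ _).mp he
  have h1 := hc e
  rw [X_act hok, X_act hok', h.ee, hw.we, hw'.we] at h1
  have h2 : (1 - c) • e = 0 := by
    have h3 : e = c • e := by
      calc e = e + (0 : F) • (w + z • e) - (O.ε * 0) • e := by module
        _ = c • (e + (0 : F) • (w' + z' • e) - (O.ε * 0) • e) := h1
        _ = c • e := by module
    rw [sub_smul, one_smul, sub_eq_zero]; exact h3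
  have hc1 : c = 1 := (sub_eq_zero.mp ((smul_eq_zero.mp h2).resolve_right h.ene)).symm
  have h3 := hc f
  rw [X_act hok, X_act hok', h.ef, hw.wf, hw'.wf, hc1] at h3
  have h4 : w + z • e = w' + z' • e := by
    calc w + z • e = (f + (1 : F) • (w + z • e) - (O.ε * 0) • e) - f := by module
      _ = ((1 : F) • (f + (1 : F) • (w' + z' • e) - (O.ε * 0) • e)) - f := by rw [h3]
      _ = w' + z' • e := by module
  have h5 := congrArg (fun x => O.B f x) h4
  simp only [O.br_add, O.br_smul, hw.2, hw'.2, h.fe, zero_add] at h5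
  have hz : z = z' := mul_right_cancel₀ O.ε_ne h5
  refine ⟨?_, hz⟩
  rw [hz] at h4
  exact add_right_cancel h4

/-- every point opposite to `e` is in the `Qs e`-orbit of `f`. -/
theorem exists_orb (h : O.Hyp e f) {p : V} (hp : O.N p = 0) (hep : O.B e p ≠ 0) :
    ∃ w z, O.InW e f w ∧ O.Ok e w z ∧ p = O.B e p • O.act (O.X e w z) f := by
  obtain ⟨p', hp'⟩ : ∃ p', p' = (O.B e p)⁻¹ • p := ⟨_, rfl⟩
  have h1 : O.B e p' = 1 := by rw [hp', O.br_smul, inv_mul_cancel₀ hep]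
  have h2 : p = O.B e p • p' := by rw [hp', smul_smul, mul_inv_cancel₀ hep, one_smul]
  have hN : O.N p' = 0 := by rw [hp']; exact O.N_smul_zero _ hp
  have hW := wc_inW h p'
  have h3 := N_wc h p'
  rw [hN, h1, mul_one] at h3
  have hok : O.Ok e (O.wc e f p') (O.ε * O.B f p') := by
    refine ⟨h.e0, hW.1, ?_⟩
    have h4 : O.t (O.ε * (O.ε * O.B f p')) = O.t (O.τ (O.ε * O.B f p')) := by
      rw [← O.t_symm (O.ε * (O.ε * O.B f p')), map_mul O.τ O.ε, O.τε, ← mul_assoc O.ε O.ε, O.εε, one_mul]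
    rw [h4]; exact h3.symm
  refine ⟨_, _, hW, hok, ?_⟩
  rw [X_act hok, h.ef, hW.wf]
  conv_lhs => rw [h2, wc_eq (O := O) (e := e) (f := f) p', h1]
  module

/-- an automorphism fixing the points `e`, `f` (and the transvection group of `e`). -/
structure FP (O : Pol F V G PG) (e f : V) (α : MulAut PG) : Prop where
  qe : im α (O.Qs e) = O.Qs e
  qf : im α (O.Qs f) = O.Qs f
  ze : im α (O.Zs e) = O.Zs e

theorem FP.inv {α : MulAut PG} (h : O.FP e f α) : O.FP e f α⁻¹ :=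
  ⟨im_inv h.qe, im_inv h.qf, im_inv h.ze⟩

theorem FP.mul {α β : MulAut PG} (h : O.FP e f α) (h' : O.FP e f β) : O.FP e f (α * β) :=
  ⟨by rw [im_mul, h'.qe, h.qe], by rw [im_mul, h'.qf, h.qf], by rw [im_mul, h'.ze, h.ze]⟩

/-- the action on `W` -/
theorem exists_A (h : O.Hyp e f) {α : MulAut PG} (hα : O.FP e f α) :
    ∃ A : V → V, ∀ w z, O.InW e f w → O.Ok e w z →
      O.InW e f (A w) ∧ ∃ z', O.Ok e (A w) z' ∧ α (O.pr (O.X e w z)) = O.pr (O.X e (A w) z') := by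
  have h1 : ∀ w, ∃ w', O.InW e f w → (O.InW e f w' ∧ ∀ z, O.Ok e w z → ∃ z', O.Ok e w' z' ∧
      α (O.pr (O.X e w z)) = O.pr (O.X e w' z')) := by
    intro w
    by_cases hw : O.InW e f w
    · obtain ⟨z0, hz0⟩ := exists_ok h.e0 hw.1
      have h2 : α (O.pr (O.X e w z0)) ∈ O.Qs e := by
        rw [← hα.qe]
        exact im_mem ((mem_Qs h.e0).mpr ⟨_, _, hz0, rfl⟩)
      obtain ⟨w', z', hw', hok', he'⟩ := Qs_rep h h2
      refine ⟨w', fun _ => ⟨hw', fun z hz => ?_⟩⟩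
      have hd : O.Ok e 0 (z - z0) := by
        refine ⟨h.e0, O.br_zero e, ?_⟩
        rw [O.N_zero, zero_add, mul_sub, map_sub]
        linear_combination hz.adm - hz0.adm
      have h3 : α (O.pr (O.X e 0 (z - z0))) ∈ O.Zs e := by
        rw [← hα.ze]
        exact im_mem ((mem_Zs h.e0).mpr ⟨_, hd, rfl⟩)
      obtain ⟨z1, hz1, he1⟩ := (mem_Zs h.e0).mp h3
      have h4 : O.X e w z = O.X e w z0 * O.X e 0 (z - z0) := by
        rw [X_mul hz0 hd, add_zero, O.br_zero]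
        congr 1; ring
      have h5 := hok'.add hz1
      rw [add_zero] at h5
      refine ⟨_, h5, ?_⟩
      rw [h4, map_mul, map_mul, he', he1, ← map_mul, X_mul hok' hz1, add_zero]
    · exact ⟨0, fun h => absurd h hw⟩
  choose A hA using h1
  exact ⟨A, fun w z hw hz => ⟨(hA w hw).1, (hA w hw).2 z hz⟩⟩

/-- an action map `A` on `W` for `α` -/
def IsA (O : Pol F V G PG) (e f : V) (α : MulAut PG) (A : V → V) : Prop :=
  ∀ w z, O.InW e f w → O.Ok e w z →
      O.InW e f (A w) ∧ ∃ z', O.Ok e (A w) z' ∧ α (O.pr (O.X e w z)) = O.pr (O.X e (A w) z')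

theorem IsA.inW (h : O.Hyp e f) {α : MulAut PG} {A : V → V} (hA : O.IsA e f α A) {w : V} (hw : O.InW e f w) :
    O.InW e f (A w) := by
  obtain ⟨z, hz⟩ := exists_ok h.e0 hw.1
  exact (hA w z hw hz).1

theorem IsA.add (h : O.Hyp e f) {α : MulAut PG} {A : V → V} (hA : O.IsA e f α A) {w w' : V}
    (hw : O.InW e f w) (hw' : O.InW e f w') : A (w + w') = A w + A w' := by
  obtain ⟨z, hz⟩ := exists_ok h.e0 hw.1
  obtain ⟨z', hz'⟩ := exists_ok h.e0 hw'.1
  obtain ⟨h1, z1, hz1, he1⟩ := hA w z hw hz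
  obtain ⟨h2, z2, hz2, he2⟩ := hA w' z' hw' hz'
  obtain ⟨h3, z3, hz3, he3⟩ := hA (w + w') _ (hw.add hw') (hz.add hz')
  rw [← X_mul hz hz', map_mul, map_mul, he1, he2, ← map_mul, X_mul hz1 hz2] at he3
  exact (Qs_unique h (h1.add h2) h3 (hz1.add hz2) hz3 he3).1.symm

theorem IsA.unique (h : O.Hyp e f) {α : MulAut PG} {A A' : V → V} (hA : O.IsA e f α A) (hA' : O.IsA e f α A')
    {w : V} (hw : O.InW e f w) : A w = A' w := by
  obtain ⟨z, hz⟩ := exists_ok h.e0 hw.1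
  obtain ⟨h1, z1, hz1, he1⟩ := hA w z hw hz
  obtain ⟨h2, z2, hz2, he2⟩ := hA' w z hw hz
  exact (Qs_unique h h1 h2 hz1 hz2 (he1.symm.trans he2)).1

theorem IsA.mul {α β : MulAut PG} {A A' : V → V} (hA : O.IsA e f α A) (hA' : O.IsA e f β A') :
    O.IsA e f (α * β) (A ∘ A') := by
  intro w z hw hz
  obtain ⟨h1, z1, hz1, he1⟩ := hA' w z hw hz
  obtain ⟨h2, z2, hz2, he2⟩ := hA _ _ h1 hz1
  exact ⟨h2, z2, hz2, by rw [MulAut.mul_apply, he1, he2]; rfl⟩

theorem isA_one : O.IsA e f 1 id := fun _ z hw hz => ⟨hw, z, hz, rfl⟩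

/-- the torus-Levi elements -/
def InL (O : Pol F V G PG) (e f : V) (g : G) (l : F) : Prop :=
  O.act g e = l • e ∧ ∃ m : F, O.act g f = m • f

theorem InL.l_ne (h : O.Hyp e f) {g : G} {l : F} (hg : O.InL e f g l) : l ≠ 0 := by
  rintro rfl
  have := hg.1
  rw [zero_smul] at this
  exact act_ne_zero g h.ene this

theorem InL.m_eq (h : O.Hyp e f) {g : G} {l : F} (hg : O.InL e f g l) : O.act g f = (O.τ l)⁻¹ • f := by
  obtain ⟨m, hm⟩ := hg.2
  have h1 := O.act_B g e f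
  rw [hg.1, hm, O.bl_smul, O.br_smul, h.ef, mul_one] at h1
  rw [hm, eq_inv_of_mul_eq_one_right h1]

theorem InL.inW {g : G} {l : F} (h : O.Hyp e f) (hg : O.InL e f g l) {w : V} (hw : O.InW e f w) :
    O.InW e f (O.act g w) := by
  have hl := hg.l_ne h
  constructor
  · have h1 := O.act_B g e w
    rw [hg.1, O.bl_smul, hw.1] at h1
    exact (mul_eq_zero.mp h1).resolve_left (O.τ_ne hl)
  · have h1 := O.act_B g f w
    rw [hg.m_eq h, O.bl_smul, hw.2] at h1
    exact (mul_eq_zero.mp h1).resolve_left (O.τ_ne (inv_ne_zero (O.τ_ne hl)))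

theorem InL.conj_X {g : G} {l : F} (hg : O.InL e f g l) {w : V} {z : F} (hok : O.Ok e w z) :
    g * O.X e w z * g⁻¹ = O.X e (O.τ l • O.act g w) (l * O.τ l * z) ∧
      O.Ok e (O.τ l • O.act g w) (l * O.τ l * z) := by
  have h1 := hok.act g
  have hok2 : O.Ok e (O.act g w) z := by
    refine ⟨hok.e0, ?_, h1.adm⟩
    by_cases hl : l = 0
    · have h2 := hg.1
      rw [hl, zero_smul] at h2
      have h3 : e = 0 := by rw [← act_inv_act (O := O) g e, h2, map_zero]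
      rw [h3, O.bl_zero]
    · have h2 := h1.ew
      rw [hg.1, O.bl_smul] at h2
      exact (mul_eq_zero.mp h2).resolve_left (O.τ_ne hl)
  constructor
  · rw [X_conj hok, hg.1, X_smul hok2]
  · exact hok2.smul' l

/-- the image of an element of `L`. -/
theorem exists_L (hb : O.Big) (h : O.Hyp e f) {α : MulAut PG} (hα : O.FP e f α) {g : G} {l : F} (hg : O.InL e f g l) :
    ∃ g' l', O.InL e f g' l' ∧ α (O.pr g) = O.pr g' := by
  obtain ⟨g', hg'⟩ := O.pr_surj (α (O.pr g))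
  have h1 : cj (O.pr g') (O.Qs e) = O.Qs e := by
    have h2 := (cj_Qs_iff hb h.ept g).mpr ⟨l, hg.1⟩
    rw [hg', ← hα.qe, ← im_cj, h2]
  have h2 : cj (O.pr g') (O.Qs f) = O.Qs f := by
    have h3 := (cj_Qs_iff hb h.fpt g).mpr hg.2
    rw [hg', ← hα.qf, ← im_cj, h3]
  obtain ⟨l', hl'⟩ := (cj_Qs_iff hb h.ept g').mp h1
  exact ⟨g', l', ⟨hl', (cj_Qs_iff hb h.fpt g').mp h2⟩, hg'.symm⟩

theorem IsA.L (h : O.Hyp e f) {α : MulAut PG} {A : V → V} (hA : O.IsA e f α A) {g g' : G} {l l' : F}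
    (hg : O.InL e f g l) (hg' : O.InL e f g' l') (he : α (O.pr g) = O.pr g') {w : V} (hw : O.InW e f w) :
    A (O.τ l • O.act g w) = O.τ l' • O.act g' (A w) := by
  obtain ⟨z, hz⟩ := exists_ok h.e0 hw.1
  obtain ⟨h1, z1, hz1, he1⟩ := hA w z hw hz
  obtain ⟨c1, c2⟩ := hg.conj_X hz
  obtain ⟨d1, d2⟩ := hg'.conj_X hz1
  obtain ⟨h3, z3, hz3, he3⟩ := hA _ _ ((hg.inW h hw).smul _) c2
  have h4 : α (O.pr (g * O.X e w z * g⁻¹)) = O.pr (g' * O.X e (A w) z1 * g'⁻¹) := by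
    rw [map_mul, map_mul, map_mul, map_mul, map_mul, map_mul, map_inv, map_inv, map_inv, he1, he]
  rw [c1, d1, he3] at h4
  exact (Qs_unique h h3 ((hg'.inW h h1).smul _) hz3 d2 h4).1

end Cfsg.Agent.H17.Pol
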