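import Mathlib
import Cfsg.Agent.H17.PolC

set_option autoImplicit false

/-! Abstract classical groups: semilinearity of the action on `W` and the form. -/

namespace Cfsg.Agent.H17.Pol

variable {F V G PG : Type*} [Field F] [AddCommGroup V] [Module F V] [Group G] [Group PG]
  {O : Pol F V G PG} {e f : V}

/-- additive maps of `W` commuting with the Levi factor are scalars -/
def Comm (O : Pol F V G PG) (e f : V) : Prop := ∀ c : V → V, (∀ w, O.InW e f w → O.InW e f (c w)) →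
  (∀ w w', O.InW e f w → O.InW e f w' → c (w + w') = c w + c w') →
  (∀ g l, O.InL e f g l → ∀ w, O.InW e f w → c (O.τ l • O.act g w) = O.τ l • O.act g (c w)) →
  ∃ a : F, ∀ w, O.InW e f w → c w = a • w

theorem IsA.inv_left (h : O.Hyp e f) {α : MulAut PG} {A A' : V → V} (hA : O.IsA e f α A) (hA' : O.IsA e f α⁻¹ A')
    {w : V} (hw : O.InW e f w) : A' (A w) = w := by
  have h1 := hA'.mul hA
  rw [inv_mul_cancel] at h1
  exact h1.unique h isA_one hw

theorem IsA.inv_right (h : O.Hyp e f) {α : MulAut PG} {A A' : V → V} (hA : O.IsA e f α A) (hA' : O.IsA e f α⁻¹ A')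
    {w : V} (hw : O.InW e f w) : A (A' w) = w := by
  have h1 := hA.mul hA'
  rw [mul_inv_cancel] at h1
  exact h1.unique h isA_one hw

theorem IsA.zero (h : O.Hyp e f) {α : MulAut PG} {A : V → V} (hA : O.IsA e f α A) : A 0 = 0 := by
  have := hA.add h (InW.zero (O := O)) InW.zero
  rw [add_zero] at this
  exact left_eq_add.mp this

theorem act_smul' (g : G) (a : F) (x : V) : O.act g (a • x) = a • O.act g x := map_smul _ _ _

/-- semilinearity -/
theorem exists_sigma [Finite F] (hb : O.Big) (h : O.Hyp e f) (hc : O.Comm e f) {w0 : V} (hw0 : O.InW e f w0)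
    (hw0n : w0 ≠ 0) {α : MulAut PG} (hα : O.FP e f α) {A : V → V} (hA : O.IsA e f α A) :
    ∃ σ : F ≃+* F, ∀ (a : F) (w : V), O.InW e f w → A (a • w) = σ a • A w := by
  obtain ⟨A', hA'0⟩ := exists_A h hα.inv
  have hA' : O.IsA e f α⁻¹ A' := hA'0
  have h1 : ∀ a : F, ∃ s : F, ∀ w, O.InW e f w → A (a • A' w) = s • w := by
    intro a
    apply hc (fun w => A (a • A' w))
    · intro w hw
      exact hA.inW h ((hA'.inW h hw).smul a)
    · intro w w' hw hw'
      change A (a • A' (w + w')) = _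
      rw [hA'.add h hw hw', smul_add, hA.add h ((hA'.inW h hw).smul a) ((hA'.inW h hw').smul a)]
    · intro g l hg w hw
      change A (a • A' (O.τ l • O.act g w)) = _
      obtain ⟨g', l', hg', he'⟩ := exists_L hb h hα.inv hg
      rw [hA'.L h hg hg' he' hw]
      have h2 : a • O.τ l' • O.act g' (A' w) = O.τ l' • O.act g' (a • A' w) := by
        rw [act_smul', smul_comm]
      have he : α (O.pr g') = O.pr g := by
        rw [← he', ← MulAut.mul_apply, mul_inv_cancel, MulAut.one_apply]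
      rw [h2, hA.L h hg' hg he ((hA'.inW h hw).smul a)]
  choose s hs using h1
  have hs' : ∀ a w, O.InW e f w → A (a • w) = s a • A w := by
    intro a w hw
    have h2 := hs a (A w) (hA.inW h hw)
    rwa [hA.inv_left h hA' hw] at h2
  have hAw0 : A w0 ≠ 0 := by
    intro h0
    apply hw0n
    rw [← hA.inv_left h hA' hw0, h0, hA'.zero h]
  have hcancel : ∀ a b : F, a • A w0 = b • A w0 → a = b := fun a b hab => smul_left_injective F hAw0 hab
  have hs1 : s 1 = 1 := by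
    apply hcancel
    rw [← hs' 1 w0 hw0, one_smul, one_smul]
  have hsm : ∀ a b, s (a * b) = s a * s b := by
    intro a b
    apply hcancel
    rw [← hs' _ w0 hw0, mul_smul, hs' a _ (hw0.smul b), hs' b _ hw0, smul_smul]
  have hs0 : s 0 = 0 := by
    apply hcancel
    rw [← hs' 0 w0 hw0, zero_smul, zero_smul, hA.zero h]
  have hsa : ∀ a b, s (a + b) = s a + s b := by
    intro a b
    apply hcancel
    rw [← hs' _ w0 hw0, add_smul, hA.add h (hw0.smul a) (hw0.smul b), hs' a w0 hw0, hs' b w0 hw0, add_smul]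
  let σ0 : F →+* F := { toFun := s, map_one' := hs1, map_mul' := hsm, map_zero' := hs0, map_add' := hsa }
  have hbij : Function.Bijective σ0 := Finite.injective_iff_bijective.mp σ0.injective
  exact ⟨RingEquiv.ofBijective σ0 hbij, fun a w hw => hs' a w hw⟩

/-- action on the transvection group -/
theorem exists_zeta (h : O.Hyp e f) {α : MulAut PG} (hα : O.FP e f α) :
    ∃ ζ : F → F, ∀ z, O.t (O.ε * z) = 0 → O.t (O.ε * ζ z) = 0 ∧ α (O.pr (O.X e 0 z)) = O.pr (O.X e 0 (ζ z)) := by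
  have h1 : ∀ z, ∃ z', O.t (O.ε * z) = 0 → (O.t (O.ε * z') = 0 ∧ α (O.pr (O.X e 0 z)) = O.pr (O.X e 0 z')) := by
    intro z
    by_cases hz : O.t (O.ε * z) = 0
    · have hok : O.Ok e 0 z := ⟨h.e0, O.br_zero e, by rw [O.N_zero, zero_add]; exact hz⟩
      have h2 : α (O.pr (O.X e 0 z)) ∈ O.Zs e := by
        rw [← hα.ze]
        exact im_mem ((mem_Zs h.e0).mpr ⟨_, hok, rfl⟩)
      obtain ⟨z', hz', he'⟩ := (mem_Zs h.e0).mp h2
      refine ⟨z', fun _ => ⟨?_, he'⟩⟩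
      have h3 := hz'.adm
      rwa [O.N_zero, zero_add] at h3
    · exact ⟨0, fun h => absurd h hz⟩
  choose ζ hζ using h1
  exact ⟨ζ, hζ⟩

theorem ok_Z (h : O.Hyp e f) {z : F} (hz : O.t (O.ε * z) = 0) : O.Ok e 0 z :=
  ⟨h.e0, O.br_zero e, by rw [O.N_zero, zero_add]; exact hz⟩

/-- commutator identity -/
theorem X_comm {w w' : V} {z z' : F} (hok : O.Ok e w z) (hok' : O.Ok e w' z') (hz0 : O.Ok e 0 (O.ε * (O.B w' w - O.B w w'))) :
    O.X e w z * O.X e w' z' = O.X e 0 (O.ε * (O.B w' w - O.B w w')) * (O.X e w' z' * O.X e w z) := by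
  rw [X_mul hok hok', X_mul hok' hok, X_mul hz0 (hok'.add hok), zero_add, O.bl_zero, mul_zero, sub_zero, add_comm w' w]
  congr 1; ring

/-- hypotheses for forms of commutator type: Hermitian, or alternating in odd characteristic -/
structure CType (O : Pol F V G PG) : Prop where
  cases : (O.ε = -1 ∧ (∀ a, O.τ a = a) ∧ (2 : F) ≠ 0 ∧ (∀ x, O.N x = 0) ∧ ∀ a, O.t a = 0) ∨
    (O.ε = 1 ∧ (∃ a, O.τ a ≠ a) ∧ (∀ x, O.N x = O.B x x) ∧ ∀ a, O.t a = a + O.τ a)
  tz : ∀ z, O.t (O.ε * z) = 0 ↔ ∃ r, z = O.τ r - O.ε * r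
  comm : ∀ (σ : F ≃+* F) a, O.τ (σ a) = σ (O.τ a)

theorem CType.exists_ne (hC : O.CType) : ∃ a, O.τ a ≠ O.ε * a := by
  rcases hC.cases with ⟨h1, h2, h3, _⟩ | ⟨h1, ⟨a, ha⟩, _⟩
  · refine ⟨1, ?_⟩
    rw [h1, h2]
    intro h4
    apply h3
    linear_combination h4
  · exact ⟨a, by rw [h1, one_mul]; exact ha⟩

theorem σε (O : Pol F V G PG) (σ : F ≃+* F) : σ O.ε = O.ε := by
  rcases O.hε with h | h <;> rw [h] <;> simp

theorem exists_kappa (h : O.Hyp e f) (hC : O.CType) (hndW : ∀ w, O.InW e f w → w ≠ 0 → ∃ w', O.InW e f w' ∧ O.B w w' ≠ 0)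
    {w0 : V} (hw0 : O.InW e f w0) (hw0n : w0 ≠ 0) {α : MulAut PG} (hα : O.FP e f α) {A : V → V}
    (hA : O.IsA e f α A) {σ : F ≃+* F} (hσ : ∀ (a : F) (w : V), O.InW e f w → A (a • w) = σ a • A w) :
    ∃ κ : F, κ ≠ 0 ∧ O.τ κ = κ ∧ (∀ w w', O.InW e f w → O.InW e f w' → O.B (A w) (A w') = κ * σ (O.B w w')) ∧
      (∀ z, O.t (O.ε * z) = 0 → α (O.pr (O.X e 0 z)) = O.pr (O.X e 0 (κ * σ z))) := by
  obtain ⟨ζ, hζ⟩ := exists_zeta h hα
  obtain ⟨A', hA'0⟩ := exists_A h hα.inv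
  have hA' : O.IsA e f α⁻¹ A' := hA'0
  -- the basic relation
  have key : ∀ w w', O.InW e f w → O.InW e f w' →
      ζ (O.τ (O.B w w') - O.ε * O.B w w') = O.τ (O.B (A w) (A w')) - O.ε * O.B (A w) (A w') := by
    intro w w' hw hw'
    have hk : ∀ x y : V, O.ε * (O.B y x - O.B x y) = O.τ (O.B x y) - O.ε * O.B x y := by
      intro x y
      rw [O.symm x y]
      linear_combination (O.τ (O.B x y)) * O.εε
    have hkt : ∀ x y : V, O.t (O.ε * (O.ε * (O.B y x - O.B x y))) = 0 := by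
      intro x y
      rw [hk, (hC.tz _)]
      exact ⟨_, rfl⟩
    obtain ⟨z, hz⟩ := exists_ok h.e0 hw.1
    obtain ⟨z', hz'⟩ := exists_ok h.e0 hw'.1
    obtain ⟨h1, z1, hz1, he1⟩ := hA w z hw hz
    obtain ⟨h2, z2, hz2, he2⟩ := hA w' z' hw' hz'
    have c1 := X_comm hz hz' (ok_Z h (hkt w w'))
    have c2 := X_comm hz1 hz2 (ok_Z h (hkt (A w) (A w')))
    have c3 := congrArg (fun g => α (O.pr g)) c1
    simp only [map_mul] at c3
    rw [he1, he2, (hζ _ (hkt w w')).2, ← map_mul, ← map_mul, ← map_mul, c2, X_mul hz2 hz1,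
      X_mul (ok_Z h (hkt (A w) (A w'))) (hz2.add hz1), X_mul (ok_Z h (hζ _ (hkt w w')).1) (hz2.add hz1)] at c3
    have u1 := (ok_Z h (hkt (A w) (A w'))).add (hz2.add hz1)
    have u2 := (ok_Z h (hζ _ (hkt w w')).1).add (hz2.add hz1)
    rw [zero_add, O.bl_zero, mul_zero, sub_zero] at u1 u2 c3
    rw [sub_zero] at c3
    have h3 := (Qs_unique h (h2.add h1) (h2.add h1) u1 u2 c3).2
    rw [hk, hk] at h3
    exact (add_right_cancel h3).symm
  have ζ0 : ζ 0 = 0 := by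
    have h1 : O.t (O.ε * 0) = 0 := by rw [mul_zero, map_zero]
    have h2 := (hζ 0 h1).2
    rw [X_zero h.e0, map_one, map_one, ← map_one O.pr, ← X_zero h.e0] at h2
    exact (Qs_unique h InW.zero InW.zero (ok_zero h.e0) (ok_Z h (hζ 0 h1).1) h2).2.symm
  have key0 : ∀ w w', O.InW e f w → O.InW e f w' → O.B w w' = 0 → O.B (A w) (A w') = 0 := by
    intro w w' hw hw' hb
    have h1 : ∀ s, O.τ (s * O.B (A w) (A w')) = O.ε * (s * O.B (A w) (A w')) := by
      intro s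
      have h2 := key w (σ.symm s • w') hw (hw'.smul _)
      rw [O.br_smul, hb, mul_zero, map_zero, mul_zero, sub_zero, ζ0, hσ _ _ hw', O.br_smul, RingEquiv.apply_symm_apply] at h2
      exact sub_eq_zero.mp h2.symm
    generalize O.B (A w) (A w') = b' at h1
    have h2 := h1 1
    rw [one_mul] at h2
    rcases hC.cases with ⟨g1, g2, g3, _⟩ | ⟨g1, ⟨a, ha⟩, _⟩
    · rw [g1, g2] at h2
      have h3 : (2 : F) * b' = 0 := by linear_combination h2
      exact (mul_eq_zero.mp h3).resolve_left g3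
    · have h3 := h1 a
      rw [map_mul, h2, g1] at h3
      have h4 : (O.τ a - a) * b' = 0 := by linear_combination h3
      exact (mul_eq_zero.mp h4).resolve_left (sub_ne_zero.mpr ha)
  have key1 : ∀ w w', O.InW e f w → O.InW e f w' → O.B w w' ≠ 0 →
      ∃ c : F, O.τ c = c ∧ O.B (A w) (A w') = c * σ (O.B w w') ∧ ∀ r, ζ (O.τ r - O.ε * r) = c * σ (O.τ r - O.ε * r) := by
    intro w w' hw hw' hb
    have hsb : σ (O.B w w') ≠ 0 := fun h0 => hb ((map_eq_zero_iff σ σ.injective).mp h0)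
    obtain ⟨c, hc⟩ : ∃ c, c = O.B (A w) (A w') / σ (O.B w w') := ⟨_, rfl⟩
    have hc' : O.B (A w) (A w') = c * σ (O.B w w') := by rw [hc]; field_simp
    have h1 : ∀ r, ζ (O.τ r - O.ε * r) = O.τ (c * σ r) - O.ε * (c * σ r) := by
      intro r
      have h2 := key w ((r / O.B w w') • w') hw (hw'.smul _)
      rw [O.br_smul, div_mul_cancel₀ _ hb, hσ _ _ hw', O.br_smul, hc'] at h2
      have h3 : σ (r / O.B w w') * (c * σ (O.B w w')) = c * σ r := by
        rw [map_div₀]; field_simp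
      rw [h3] at h2
      exact h2
    have h2 : O.τ c = c := by
      rcases hC.cases with ⟨g1, g2, g3, _⟩ | ⟨g1, ⟨a, ha⟩, _⟩
      · exact g2 c
      · have h3 := h1 1
        rw [map_one O.τ, map_one σ, g1, mul_one, one_mul, sub_self, ζ0, mul_one] at h3
        exact sub_eq_zero.mp h3.symm
    refine ⟨c, h2, hc', fun r => ?_⟩
    rw [h1, map_mul, h2, hC.comm, map_sub, map_mul, σε]
    ring
  obtain ⟨a0, ha0⟩ := hC.exists_ne
  obtain ⟨z0, hz0⟩ : ∃ z0, z0 = O.τ a0 - O.ε * a0 := ⟨_, rfl⟩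
  have hz0n : z0 ≠ 0 := by rw [hz0]; exact sub_ne_zero.mpr ha0
  have hsz : σ z0 ≠ 0 := fun h0 => hz0n ((map_eq_zero_iff σ σ.injective).mp h0)
  obtain ⟨w1, hw1, hw1n⟩ := hndW w0 hw0 hw0n
  obtain ⟨κ, hκ1, hκ2, hκ3⟩ := key1 w0 w1 hw0 hw1 hw1n
  have hz0t : O.t (O.ε * z0) = 0 := (hC.tz z0).mpr ⟨a0, hz0⟩
  refine ⟨κ, ?_, hκ1, ?_, ?_⟩
  · rintro rfl
    have h1 := hκ3 a0
    rw [zero_mul, ← hz0] at h1
    have h2 := (hζ z0 hz0t).2
    rw [h1, X_zero h.e0, map_one] at h2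
    have h3 : O.pr (O.X e 0 z0) = O.pr (O.X e 0 0) := by
      rw [X_zero h.e0, map_one]
      exact (MulEquiv.map_eq_one_iff α).mp h2
    exact hz0n (Qs_unique h InW.zero InW.zero (ok_Z h hz0t) (ok_zero h.e0) h3).2
  · intro w w' hw hw'
    by_cases hb : O.B w w' = 0
    · rw [key0 w w' hw hw' hb, hb, map_zero, mul_zero]
    · obtain ⟨c, _, hc2, hc3⟩ := key1 w w' hw hw' hb
      have h1 := hc3 a0
      rw [hκ3, ← hz0] at h1
      rw [hc2, mul_right_cancel₀ hsz h1]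
  · intro z hz
    rw [(hζ z hz).2]
    obtain ⟨r, rfl⟩ := (hC.tz z).mp hz
    rw [hκ3]

end Cfsg.Agent.H17.Pol
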