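import Mathlib
import Cfsg.Agent.H17.PolD

set_option autoImplicit false

/-! Abstract classical groups: semisimilarities and the automorphisms they induce. -/

namespace Cfsg.Agent.H17

/-- a semisimilarity of the form -/
structure SemiSim {F V G PG : Type*} [Field F] [AddCommGroup V] [Module F V] [Group G] [Group PG]
    (O : Pol F V G PG) where
  σ : F ≃+* F
  κ : F
  T : V → V
  hκ : κ ≠ 0
  τκ : O.τ κ = κ
  T_add : ∀ x y, T (x + y) = T x + T y
  T_smul : ∀ (a : F) x, T (a • x) = σ a • T x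
  T_B : ∀ x y, O.B (T x) (T y) = κ * σ (O.B x y)
  T_N : ∀ x, O.N (T x) = κ * σ (O.N x)
  T_t : ∀ b, O.t (κ * σ b) = κ * σ (O.t b)
  T_surj : Function.Surjective T

namespace Pol

variable {F V G PG : Type*} [Field F] [AddCommGroup V] [Module F V] [Group G] [Group PG]
  {O : Pol F V G PG} {e f : V}

/-- `β` is the automorphism induced by the semisimilarity `S` -/
def Induced (S : SemiSim O) (β : MulAut PG) : Prop :=
  ∀ g g', (∀ x, O.act g' (S.T x) = S.T (O.act g x)) → β (O.pr g) = O.pr g'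

/-- each semisimilarity induces an automorphism -/
def Ind (O : Pol F V G PG) : Prop := ∀ S : SemiSim O, ∃ β : MulAut PG, Induced S β

theorem _root_.Cfsg.Agent.H17.SemiSim.T_inj (S : SemiSim O) {x y : V} (h : S.T x = S.T y) : x = y := by
  rw [← sub_eq_zero]
  apply O.nd
  intro z
  have h1 : S.T (x - y) = 0 := by
    have h2 := S.T_add (x - y) y
    rw [sub_add_cancel, h] at h2
    exact right_eq_add.mp h2
  have h3 := S.T_B (x - y) z
  rw [h1, O.bl_zero] at h3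
  have h4 := (mul_eq_zero.mp h3.symm).resolve_left S.hκ
  exact (map_eq_zero_iff _ S.σ.injective).mp h4

theorem _root_.Cfsg.Agent.H17.SemiSim.T_zero (S : SemiSim O) : S.T 0 = 0 := by
  have := S.T_add 0 0
  rw [add_zero] at this
  exact left_eq_add.mp this

/-- the semisimilarity built from the action on `W` -/
theorem exists_semisim [Finite V] (h : O.Hyp e f) (hC : O.CType) {A : V → V} {σ : F ≃+* F} {κ : F}
    (hAW : ∀ w, O.InW e f w → O.InW e f (A w))
    (hAadd : ∀ w w', O.InW e f w → O.InW e f w' → A (w + w') = A w + A w')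
    (hσ : ∀ (a : F) (w : V), O.InW e f w → A (a • w) = σ a • A w)
    (hκ : κ ≠ 0) (hτκ : O.τ κ = κ)
    (hB : ∀ w w', O.InW e f w → O.InW e f w' → O.B (A w) (A w') = κ * σ (O.B w w')) :
    ∃ S : SemiSim O, S.σ = σ ∧ S.κ = κ ∧ S.T e = κ • e ∧ S.T f = f ∧ ∀ w, O.InW e f w → S.T w = A w := by
  obtain ⟨T, hT⟩ : ∃ T : V → V, ∀ x, T x = (κ * σ (O.ε * O.B f x)) • e + σ (O.B e x) • f + A (O.wc e f x) :=
    ⟨_, fun x => rfl⟩
  have hA0 : A 0 = 0 := by
    have := hσ 0 0 InW.zero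
    rwa [zero_smul, map_zero, zero_smul] at this
  have hTB : ∀ x y, O.B (T x) (T y) = κ * σ (O.B x y) := by
    intro x y
    have hx := hAW _ (wc_inW h x)
    have hy := hAW _ (wc_inW h y)
    rw [B_wc h x y, hT, hT]
    simp only [O.bl_add, O.br_add, O.bl_smul, O.br_smul, h.ee, h.ef, h.fe, h.ff, hx.we, hx.wf, hy.1, hy.2,
      hB _ _ (wc_inW h x) (wc_inW h y)]
    simp only [map_add, map_mul, hτκ, hC.comm, O.τε, σε]
    ring
  have hTt : ∀ b, O.t (κ * σ b) = κ * σ (O.t b) := by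
    intro b
    rcases hC.cases with ⟨_, _, _, _, ht⟩ | ⟨_, _, _, ht⟩
    · rw [ht, ht, map_zero, mul_zero]
    · rw [ht, ht, map_mul, hτκ, hC.comm, map_add]; ring
  have hTinj : Function.Injective T := by
    intro x y hxy
    rw [← sub_eq_zero]
    apply O.nd
    intro z
    have h1 : κ * σ (O.B x z) = κ * σ (O.B y z) := by rw [← hTB, ← hTB, hxy]
    have h2 := σ.injective (mul_left_cancel₀ hκ h1)
    rw [O.bl_sub, h2, sub_self]
  refine ⟨⟨σ, κ, T, hκ, hτκ, ?_, ?_, hTB, ?_, hTt, Finite.surjective_of_injective hTinj⟩, rfl, rfl, ?_, ?_, ?_⟩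
  · intro x y
    rw [hT, hT, hT, wc_add, hAadd _ _ (wc_inW h x) (wc_inW h y), O.br_add, O.br_add, mul_add, map_add, map_add]
    module
  · intro a x
    rw [hT, hT, wc_smul, hσ _ _ (wc_inW h x), O.br_smul, O.br_smul, map_mul, map_mul, map_mul, map_mul]
    module
  · intro x
    rcases hC.cases with ⟨_, _, _, hN, _⟩ | ⟨_, _, hN, _⟩
    · rw [hN, hN, map_zero, mul_zero]
    · rw [hN, hN, hTB]
  · change T e = κ • e
    rw [hT, wc_e h, hA0, h.fe, h.ee, O.εε, map_one, map_zero]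
    module
  · change T f = f
    rw [hT, wc_f h, hA0, h.ff, h.ef, mul_zero, map_one, map_zero]
    module
  · intro w hw
    change T w = A w
    rw [hT, wc_of_inW h hw, hw.1, hw.2, mul_zero, map_zero]
    module

theorem _root_.Cfsg.Agent.H17.SemiSim.ok (S : SemiSim O) {e w : V} {z : F} (h : O.Ok e w z) :
    O.Ok (S.κ⁻¹ • S.T e) (S.T w) (S.κ * S.σ z) := by
  refine ⟨?_, ?_, ?_⟩
  · apply O.N_smul_zero
    rw [S.T_N, h.e0, map_zero, mul_zero]
  · rw [O.bl_smul, S.T_B, h.ew, map_zero, mul_zero, mul_zero]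
  · have h1 : O.ε * (S.κ * S.σ z) = S.κ * S.σ (O.ε * z) := by rw [map_mul, σε]; ring
    rw [h1, S.T_N, S.T_t, ← mul_add, ← map_add, h.adm, map_zero, mul_zero]

theorem Induced.X {S : SemiSim O} {β : MulAut PG} (hβ : Induced S β) {e w : V} {z : F} (h : O.Ok e w z) :
    β (O.pr (O.X e w z)) = O.pr (O.X (S.κ⁻¹ • S.T e) (S.T w) (S.κ * S.σ z)) := by
  apply hβ
  intro x
  rw [X_act (S.ok h), X_act h]
  have h1 : ∀ x y, S.T (x - y) = S.T x - S.T y := by
    intro x y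
    have := S.T_add (x - y) y
    rw [sub_add_cancel] at this
    rw [this]; module
  rw [h1, S.T_add, S.T_smul, S.T_smul, S.T_add, S.T_smul, O.bl_smul, S.T_B, S.T_B, map_inv₀, S.τκ, map_mul, σε]
  have h2 : S.κ⁻¹ * (S.κ * S.σ (O.B e x)) = S.σ (O.B e x) := by
    rw [← mul_assoc, inv_mul_cancel₀ S.hκ, one_mul]
  rw [h2, smul_smul, smul_smul]
  have h3 : S.κ * S.σ z * S.κ⁻¹ = S.σ z := by
    rw [mul_comm S.κ, mul_assoc, mul_inv_cancel₀ S.hκ, mul_one]
  have h4 : O.ε * (S.κ * S.σ (O.B w x)) * S.κ⁻¹ = O.ε * S.σ (O.B w x) := by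
    have := S.hκ
    field_simp
  rw [h3, h4]

theorem Induced.Qs {S : SemiSim O} {β : MulAut PG} (hβ : Induced S β) (e : V) (he : O.N e = 0) :
    im β (O.Qs e) = O.Qs (S.T e) := by
  have h1 : O.Qs (S.T e) = O.Qs (S.κ⁻¹ • S.T e) := (Qs_smul _ (inv_ne_zero S.hκ)).symm
  have hTe : O.N (S.κ⁻¹ • S.T e) = 0 := by
    apply O.N_smul_zero
    rw [S.T_N, he, map_zero, mul_zero]
  rw [h1]
  ext y
  constructor
  · rintro ⟨x, hx, rfl⟩
    obtain ⟨w, z, hok, rfl⟩ := (mem_Qs he).mp hx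
    exact (mem_Qs hTe).mpr ⟨_, _, S.ok hok, hβ.X hok⟩
  · intro hy
    obtain ⟨w', z', hok', rfl⟩ := (mem_Qs hTe).mp hy
    obtain ⟨w, rfl⟩ := S.T_surj w'
    obtain ⟨z, hz⟩ : ∃ z, z' = S.κ * S.σ z := ⟨S.σ.symm (S.κ⁻¹ * z'), by
      rw [RingEquiv.apply_symm_apply, ← mul_assoc, mul_inv_cancel₀ S.hκ, one_mul]⟩
    subst hz
    have hok : O.Ok e w z := by
      refine ⟨he, ?_, ?_⟩
      · have h2 := hok'.ew
        rw [O.bl_smul, S.T_B] at h2
        have h3 := (mul_eq_zero.mp h2).resolve_left (O.τ_ne (inv_ne_zero S.hκ))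
        exact (map_eq_zero_iff _ S.σ.injective).mp ((mul_eq_zero.mp h3).resolve_left S.hκ)
      · have h2 := hok'.adm
        have h1 : O.ε * (S.κ * S.σ z) = S.κ * S.σ (O.ε * z) := by rw [map_mul, σε]; ring
        rw [h1, S.T_N, S.T_t, ← mul_add, ← map_add] at h2
        exact (map_eq_zero_iff _ S.σ.injective).mp ((mul_eq_zero.mp h2).resolve_left S.hκ)
    exact ⟨_, (mem_Qs he).mpr ⟨w, z, hok, rfl⟩, hβ.X hok⟩

theorem Induced.Zs {S : SemiSim O} {β : MulAut PG} (hβ : Induced S β) (e : V) (he : O.N e = 0) (hne : e ≠ 0) :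
    im β (O.Zs e) = O.Zs (S.T e) := by
  have h1 : O.Zs (S.T e) = O.Zs (S.κ⁻¹ • S.T e) := (Zs_smul _ (inv_ne_zero S.hκ)).symm
  have hTe : O.N (S.κ⁻¹ • S.T e) = 0 := by
    apply O.N_smul_zero
    rw [S.T_N, he, map_zero, mul_zero]
  rw [h1]
  ext y
  constructor
  · rintro ⟨x, hx, rfl⟩
    obtain ⟨z, hok, rfl⟩ := (mem_Zs he).mp hx
    have h2 := S.ok hok
    rw [S.T_zero] at h2
    exact (mem_Zs hTe).mpr ⟨_, h2, by
      have := hβ.X hok
      rw [S.T_zero] at this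
      exact this⟩
  · intro hy
    obtain ⟨z', hok', rfl⟩ := (mem_Zs hTe).mp hy
    obtain ⟨z, hz⟩ : ∃ z, z' = S.κ * S.σ z := ⟨S.σ.symm (S.κ⁻¹ * z'), by
      rw [RingEquiv.apply_symm_apply, ← mul_assoc, mul_inv_cancel₀ S.hκ, one_mul]⟩
    subst hz
    have hok : O.Ok e 0 z := by
      refine ⟨he, O.br_zero e, ?_⟩
      · have h2 := hok'.adm
        have h1 : O.ε * (S.κ * S.σ z) = S.κ * S.σ (O.ε * z) := by rw [map_mul, σε]; ring
        rw [h1, O.N_zero, zero_add, S.T_t] at h2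
        rw [O.N_zero, zero_add]
        exact (map_eq_zero_iff _ S.σ.injective).mp ((mul_eq_zero.mp h2).resolve_left S.hκ)
    refine ⟨_, (mem_Zs he).mpr ⟨z, hok, rfl⟩, ?_⟩
    have := hβ.X hok
    rw [S.T_zero] at this
    exact this

theorem Induced.FP (h : O.Hyp e f) {S : SemiSim O} {β : MulAut PG} (hβ : Induced S β) {a b : F} (ha : a ≠ 0) (hb : b ≠ 0)
    (hTe : S.T e = a • e) (hTf : S.T f = b • f) : O.FP e f β := by
  refine ⟨?_, ?_, ?_⟩
  · rw [hβ.Qs e h.e0, hTe, Qs_smul _ ha]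
  · rw [hβ.Qs f h.f0, hTf, Qs_smul _ hb]
  · rw [hβ.Zs e h.e0 h.ene, hTe, Zs_smul _ ha]

end Pol

end Cfsg.Agent.H17
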