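import Mathlib
import Cfsg.Agent.H17.PolE

set_option autoImplicit false

/-! Abstract classical groups: rigidity. -/

namespace Cfsg.Agent.H17.Pol

variable {F V G PG : Type*} [Field F] [AddCommGroup V] [Module F V] [Group G] [Group PG]
  {O : Pol F V G PG} {e f : V}

/-- no `L`-equivariant homomorphisms from `W` to the transvection group -/
def NoHom (O : Pol F V G PG) (e f : V) : Prop := ∀ φ : V → F,
  (∀ w w', O.InW e f w → O.InW e f w' → φ (w + w') = φ w + φ w') →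
  (∀ g l, O.InL e f g l → ∀ w, O.InW e f w → φ (O.τ l • O.act g w) = l * O.τ l * φ w) →
  ∀ w, O.InW e f w → φ w = 0

theorem fix_L (hb : O.Big) (h : O.Hyp e f) {w0 w1 : V} (hw0 : O.InW e f w0) (hw1 : O.InW e f w1) (hw01 : O.B w0 w1 ≠ 0)
    {β : MulAut PG} (hβ : O.FP e f β) (hA : O.IsA e f β id) {g : G} {l : F} (hg : O.InL e f g l) :
    β (O.pr g) = O.pr g := by
  obtain ⟨g', l', hg', he⟩ := exists_L hb h hβ hg
  have h1 : ∀ w, O.InW e f w → O.τ l • O.act g w = O.τ l' • O.act g' w := fun w hw => hA.L h hg hg' he hw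
  have hl := hg.l_ne h
  have hl' := hg'.l_ne h
  have htl := O.τ_ne hl
  have htl' := O.τ_ne hl'
  have h2 : ∀ w, O.InW e f w → O.act g w = (O.τ l' / O.τ l) • O.act g' w := by
    intro w hw
    rw [div_eq_inv_mul, mul_smul, ← h1 w hw, smul_smul, inv_mul_cancel₀ htl, one_smul]
  have h3 : (l' / l) * (O.τ l' / O.τ l) = 1 := by
    have h4 := O.act_B g w0 w1
    rw [h2 _ hw0, h2 _ hw1, O.bl_smul, O.br_smul, O.act_B, map_div₀, O.ττ, O.ττ, ← mul_assoc] at h4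
    exact mul_right_cancel₀ hw01 (h4.trans (one_mul _).symm)
  rw [he, eq_comm, O.pr_eq]
  refine ⟨O.τ l' / O.τ l, fun x => ?_⟩
  rw [wc_eq (O := O) (e := e) (f := f) x]
  simp only [map_add, map_smul]
  rw [hg.1, hg'.1, hg.m_eq h, hg'.m_eq h, h2 _ (wc_inW h x)]
  have h5 : l = (O.τ l' / O.τ l) * l' := by
    field_simp at h3 ⊢
    linear_combination -h3
  have h6 : (O.τ l)⁻¹ = (O.τ l' / O.τ l) * (O.τ l')⁻¹ := by field_simp
  have e1 : l • e = (O.τ l' / O.τ l) • l' • e := by rw [smul_smul, ← h5]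
  have f1 : (O.τ l)⁻¹ • f = (O.τ l' / O.τ l) • (O.τ l')⁻¹ • f := by rw [smul_smul, ← h6]
  rw [e1, f1]
  module

theorem fix_Qe (hb : O.Big) (h : O.Hyp e f) {w0 w1 : V} (hw0 : O.InW e f w0) (hw1 : O.InW e f w1) (hw01 : O.B w0 w1 ≠ 0)
    (h3 : O.NoHom e f)
    {β : MulAut PG} (hβ : O.FP e f β) (hA : O.IsA e f β id)
    (hZ : ∀ z, O.t (O.ε * z) = 0 → β (O.pr (O.X e 0 z)) = O.pr (O.X e 0 z)) :
    ∀ y ∈ O.Qs e, β y = y := by
  have h1 : ∀ w, ∃ d, O.InW e f w → ∀ z, O.Ok e w z → O.Ok e w (z + d) ∧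
      β (O.pr (O.X e w z)) = O.pr (O.X e w (z + d)) := by
    intro w
    by_cases hw : O.InW e f w
    · obtain ⟨z0, hz0⟩ := exists_ok h.e0 hw.1
      obtain ⟨_, z1, hz1, he1⟩ := hA w z0 hw hz0
      change O.Ok e w z1 at hz1
      change β (O.pr (O.X e w z0)) = O.pr (O.X e w z1) at he1
      refine ⟨z1 - z0, fun _ z hz => ?_⟩
      have hd : O.t (O.ε * (z - z0)) = 0 := by
        rw [mul_sub, map_sub]
        linear_combination hz.adm - hz0.adm
      have hok : O.Ok e w (z + (z1 - z0)) := by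
        refine ⟨h.e0, hw.1, ?_⟩
        rw [mul_add, mul_sub, map_add, map_sub]
        linear_combination hz1.adm + hz.adm - hz0.adm
      refine ⟨hok, ?_⟩
      have h4 : O.X e w z = O.X e w z0 * O.X e 0 (z - z0) := by
        rw [X_mul hz0 (ok_Z h hd), add_zero, O.br_zero]
        congr 1; ring
      have h5 : O.X e w (z + (z1 - z0)) = O.X e w z1 * O.X e 0 (z - z0) := by
        rw [X_mul hz1 (ok_Z h hd), add_zero, O.br_zero]
        congr 1; ring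
      rw [h4, h5, map_mul, map_mul, map_mul, he1, hZ _ hd]
    · exact ⟨0, fun h => absurd h hw⟩
  choose φ hφ using h1
  have hφ0 : ∀ w, O.InW e f w → φ w = 0 := by
    apply h3
    · intro w w' hw hw'
      obtain ⟨z, hz⟩ := exists_ok h.e0 hw.1
      obtain ⟨z', hz'⟩ := exists_ok h.e0 hw'.1
      obtain ⟨a1, a2⟩ := hφ w hw z hz
      obtain ⟨b1, b2⟩ := hφ w' hw' z' hz'
      obtain ⟨c1, c2⟩ := hφ (w + w') (hw.add hw') _ (hz.add hz')
      rw [← X_mul hz hz', map_mul, map_mul, a2, b2, ← map_mul, X_mul a1 b1] at c2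
      have h6 := (Qs_unique h (hw.add hw') (hw.add hw') (a1.add b1) c1 c2).2
      linear_combination -h6
    · intro g l hg w hw
      obtain ⟨z, hz⟩ := exists_ok h.e0 hw.1
      obtain ⟨a1, a2⟩ := hφ w hw z hz
      obtain ⟨c1, c2⟩ := hg.conj_X hz
      obtain ⟨d1, d2⟩ := hg.conj_X a1
      obtain ⟨b1, b2⟩ := hφ _ ((hg.inW h hw).smul (O.τ l)) _ c2
      have hgf := fix_L hb h hw0 hw1 hw01 hβ hA hg
      have h4 : β (O.pr (g * O.X e w z * g⁻¹)) = O.pr (g * O.X e w (z + φ w) * g⁻¹) := by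
        rw [map_mul, map_mul, map_mul, map_mul, map_mul, map_mul, map_inv, map_inv, a2, hgf]
      rw [c1, d1, b2] at h4
      have h6 := (Qs_unique h ((hg.inW h hw).smul _) ((hg.inW h hw).smul _) b1 d2 h4).2
      linear_combination h6
  intro y hy
  obtain ⟨w, z, hw, hok, rfl⟩ := Qs_rep h hy
  have := (hφ w hw z hok).2
  rwa [hφ0 w hw, add_zero] at this

theorem Hyp.swap (h : O.Hyp e f) : O.Hyp f (O.ε • e) := by
  refine ⟨h.f0, O.N_smul_zero _ h.e0, ?_⟩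
  rw [O.br_smul, h.fe, O.εε]

theorem Qs_swap (e : V) : O.Qs (O.ε • e) = O.Qs e := Qs_smul e O.ε_ne

theorem fix_Qf (hb : O.Big) (h : O.Hyp e f)
    {β : MulAut PG} (hβ : O.FP e f β) (hfix : ∀ y ∈ O.Qs e, β y = y) {w : V} {z : F} (hw : O.InW e f w)
    (hok : O.Ok f w z) (hz : z ≠ 0) : β (O.pr (O.X f w z)) = O.pr (O.X f w z) := by
  obtain ⟨p, hp⟩ : ∃ p, p = O.act (O.X f w z) e := ⟨_, rfl⟩
  have hpt : O.Pt p := by rw [hp]; exact h.ept.act _
  have hBp : O.B e p ≠ 0 := by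
    rw [hp, X_act hok]
    rw [O.br_sub, O.br_add, O.br_smul, O.br_smul, O.br_add, O.br_smul, h.ee, h.fe, h.ef, hw.1, hw.we]
    have : (0 : F) + O.ε * (0 + z * 1) - O.ε * 0 * 1 = O.ε * z := by ring
    rw [this]
    exact mul_ne_zero O.ε_ne hz
  obtain ⟨w', z', hw', hok', hp'⟩ := exists_orb h hpt.sing hBp
  have hx : β (O.pr (O.X e w' z')) = O.pr (O.X e w' z') := hfix _ ((mem_Qs h.e0).mpr ⟨_, _, hok', rfl⟩)
  -- `β` fixes `Qs p`
  have hQp : O.Qs p = cj (O.pr (O.X e w' z')) (O.Qs f) := by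
    rw [Qs_conj]
    conv_lhs => rw [hp']
    rw [Qs_smul _ hBp]
  have h1 : im β (O.Qs p) = O.Qs p := by
    rw [hQp, im_cj, hx, hβ.qf]
  have hQp2 : O.Qs p = cj (O.pr (O.X f w z)) (O.Qs e) := by
    rw [Qs_conj, hp]
  have hmemf : O.pr (O.X f w z) ∈ O.Qs f := (mem_Qs h.f0).mpr ⟨_, _, hok, rfl⟩
  have h2 : cj (β (O.pr (O.X f w z))) (O.Qs e) = cj (O.pr (O.X f w z)) (O.Qs e) := by
    have h3 := h1
    rw [hQp2, im_cj, hβ.qe] at h3
    exact h3
  have hmem2 : β (O.pr (O.X f w z)) ∈ O.Qs f := by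
    have h4 := im_mem (α := β) hmemf
    rwa [hβ.qf] at h4
  obtain ⟨g', hg'⟩ := O.pr_surj (β (O.pr (O.X f w z)))
  rw [← hg'] at h2 hmem2
  have h5 : cj (O.pr ((O.X f w z)⁻¹ * g')) (O.Qs e) = O.Qs e := by
    have h6 : ∀ (a b : PG) (K : Subgroup PG), cj (a * b) K = cj a (cj b K) := by
      intro a b K
      ext x
      rw [mem_cj, mem_cj, mem_cj]
      have : (a * b)⁻¹ * x * (a * b) = b⁻¹ * (a⁻¹ * x * a) * b := by group
      rw [this]
    rw [map_mul, h6, h2, ← h6, ← map_mul, inv_mul_cancel, map_one]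
    ext x
    rw [mem_cj]
    simp
  have hmem3 : O.pr ((O.X f w z)⁻¹ * g') ∈ O.Qs f := by
    rw [map_mul, map_inv]
    exact (O.Qs f).mul_mem ((O.Qs f).inv_mem hmemf) hmem2
  obtain ⟨c, hc⟩ := (cj_Qs_iff hb h.ept _).mp h5
  have h7 := fix_of_Qs_opp (O := O) h.fpt (by rw [h.fe]; exact O.ε_ne) hmem3 hc
  rw [map_mul, map_inv, inv_mul_eq_one] at h7
  rw [← hg', h7]

/-- the rigidity theorem -/
theorem eq_one_of_A_id (hb : O.Big) (h : O.Hyp e f) {w0 w1 : V} (hw0 : O.InW e f w0) (hw1 : O.InW e f w1) (hw01 : O.B w0 w1 ≠ 0)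
    (h3 : O.NoHom e f) {r : F} (hr : r ≠ 0) (hrt : O.t (O.ε * r) = 0)
    (hgen : Subgroup.closure ((O.Qs e : Set PG) ∪ (O.Qs f : Set PG)) = ⊤)
    {β : MulAut PG} (hβ : O.FP e f β) (hA : O.IsA e f β id)
    (hZ : ∀ z, O.t (O.ε * z) = 0 → β (O.pr (O.X e 0 z)) = O.pr (O.X e 0 z)) : β = 1 := by
  have he := fix_Qe hb h hw0 hw1 hw01 h3 hβ hA hZ
  have hf : ∀ y ∈ O.Qs f, β y = y := by
    intro y hy
    obtain ⟨w, z, hw, hok, rfl⟩ := Qs_rep h.swap hy
    have hw' : O.InW e f w := by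
      refine ⟨?_, hw.1⟩
      have h1 := hw.2
      rw [O.bl_smul] at h1
      exact (mul_eq_zero.mp h1).resolve_left (O.τ_ne O.ε_ne)
    by_cases hz : z = 0
    · subst hz
      have hr' : O.t (O.ε * (-r)) = 0 := by rw [mul_neg, map_neg, hrt, neg_zero]
      have ok1 : O.Ok f 0 r := ⟨h.f0, O.br_zero f, by rw [O.N_zero, zero_add]; exact hrt⟩
      have ok2 : O.Ok f w (-r) := by
        refine ⟨h.f0, hw.1, ?_⟩
        have h1 := hok.adm
        rw [mul_zero, map_zero, add_zero] at h1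
        rw [h1, hr', zero_add]
      have h1 : O.X f w 0 = O.X f 0 r * O.X f w (-r) := by
        rw [X_mul ok1 ok2, zero_add, O.bl_zero]
        congr 1; ring
      rw [h1, map_mul, map_mul, fix_Qf hb h hβ he InW.zero ok1 hr, fix_Qf hb h hβ he hw' ok2 (neg_ne_zero.mpr hr)]
    · exact fix_Qf hb h hβ he hw' hok hz
  have hle : Subgroup.closure ((O.Qs e : Set PG) ∪ (O.Qs f : Set PG)) ≤
      MonoidHom.eqLocus (β : PG ≃* PG).toMonoidHom (MonoidHom.id PG) := by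
    rw [Subgroup.closure_le]
    rintro y (hy | hy)
    · exact he y hy
    · exact hf y hy
  rw [hgen] at hle
  ext y
  exact hle (Subgroup.mem_top y)

/-- automorphisms fixing a hyperbolic pair are induced by semisimilarities -/
theorem exists_induced [Finite V] [Finite F] (hb : O.Big) (h : O.Hyp e f) (hC : O.CType) (hc : O.Comm e f)
    (hI : Ind O)
    (hndW : ∀ w, O.InW e f w → w ≠ 0 → ∃ w', O.InW e f w' ∧ O.B w w' ≠ 0)
    {w0 : V} (hw0 : O.InW e f w0) (hw0n : w0 ≠ 0)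
    (h3 : O.NoHom e f) (hgen : Subgroup.closure ((O.Qs e : Set PG) ∪ (O.Qs f : Set PG)) = ⊤)
    {α : MulAut PG} (hα : O.FP e f α) : ∃ S : SemiSim O, Induced S α := by
  obtain ⟨A, hA0⟩ := exists_A h hα
  have hA : O.IsA e f α A := hA0
  obtain ⟨σ, hσ⟩ := exists_sigma hb h hc hw0 hw0n hα hA
  obtain ⟨κ, hκ, hτκ, hB, hz⟩ := exists_kappa h hC hndW hw0 hw0n hα hA hσ
  obtain ⟨S, hS1, hS2, hS3, hS4, hS5⟩ := exists_semisim h hC (fun w hw => hA.inW h hw)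
    (fun w w' hw hw' => hA.add h hw hw') hσ hκ hτκ hB
  obtain ⟨γ, hγ⟩ := hI S
  refine ⟨S, ?_⟩
  have hγFP : O.FP e f γ := hγ.FP h hκ one_ne_zero hS3 (by rw [hS4, one_smul])
  obtain ⟨w1, hw1, hw1n⟩ := hndW w0 hw0 hw0n
  obtain ⟨a0, ha0⟩ := hC.exists_ne
  have hSe : S.κ⁻¹ • S.T e = e := by rw [hS3, hS2, smul_smul, inv_mul_cancel₀ hκ, one_smul]
  have hγX : ∀ w z, O.InW e f w → O.Ok e w z → O.Ok e (A w) (κ * σ z) ∧
      γ (O.pr (O.X e w z)) = O.pr (O.X e (A w) (κ * σ z)) := by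
    intro w z hw hok
    have h1 := S.ok hok
    have h2 := hγ.X hok
    rw [hSe, hS5 w hw, hS1, hS2] at h1 h2
    exact ⟨h1, h2⟩
  have hγA : O.IsA e f γ A := fun w z hw hok => ⟨hA.inW h hw, _, (hγX w z hw hok).1, (hγX w z hw hok).2⟩
  have hβ : O.FP e f (γ⁻¹ * α) := hγFP.inv.mul hα
  obtain ⟨A', hA'0⟩ := exists_A h hγFP.inv
  have hA' : O.IsA e f γ⁻¹ A' := hA'0
  have hβA' := hA'.mul hA
  have hβA : O.IsA e f (γ⁻¹ * α) id := by
    intro w z hw hok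
    obtain ⟨u1, z', u2, u3⟩ := hβA' w z hw hok
    have h4 : (A' ∘ A) w = w := hγA.inv_left h hA' hw
    rw [h4] at u1 u2 u3
    exact ⟨u1, z', u2, u3⟩
  have hβ1 : γ⁻¹ * α = 1 := by
    refine eq_one_of_A_id hb h hw0 hw1 hw1n h3 (sub_ne_zero.mpr ha0) ((hC.tz _).mpr ⟨a0, rfl⟩) hgen hβ hβA ?_
    intro z hzt
    rw [MulAut.mul_apply, hz z hzt]
    have h4 := (hγX 0 z InW.zero (ok_Z h hzt)).2
    rw [hA.zero h] at h4
    rw [← h4, ← MulAut.mul_apply, inv_mul_cancel, MulAut.one_apply]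
  have : α = γ := by
    rw [inv_mul_eq_one] at hβ1
    exact hβ1.symm
  rw [this]
  exact hγ

end Cfsg.Agent.H17.Pol
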