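import Mathlib
import Cfsg.Agent.H17.PolF

set_option autoImplicit false

/-! Abstract classical groups: Sylow subgroups and the Siegel parabolic subgroups. -/

namespace Cfsg.Agent.H17.Pol

variable {F V G PG : Type*} [Field F] [AddCommGroup V] [Module F V] [Group G] [Group PG]
  {O : Pol F V G PG} {e f : V}

/-- the group of Siegel elements in `G` -/
def QG (O : Pol F V G PG) (e : V) : Subgroup G where
  carrier := {y | (∃ w z, O.Ok e w z ∧ y = O.X e w z) ∨ y = 1}
  one_mem' := Or.inr rfl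
  mul_mem' := by
    rintro _ _ (⟨w, z, h, rfl⟩ | rfl) (⟨w', z', h', rfl⟩ | rfl)
    · exact Or.inl ⟨_, _, h.add h', by rw [X_mul h h']⟩
    · exact Or.inl ⟨_, _, h, by rw [mul_one]⟩
    · exact Or.inl ⟨_, _, h', by rw [one_mul]⟩
    · exact Or.inr (one_mul 1)
  inv_mem' := by
    rintro _ (⟨w, z, h, rfl⟩ | rfl)
    · exact Or.inl ⟨_, _, h.neg, by rw [X_inv h]⟩
    · exact Or.inr inv_one

theorem mem_QG {e : V} (he : O.N e = 0) {y : G} : y ∈ O.QG e ↔ ∃ w z, O.Ok e w z ∧ y = O.X e w z := by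
  constructor
  · rintro (h | rfl)
    · exact h
    · exact ⟨0, 0, ok_zero he, by rw [X_zero he]⟩
  · exact fun h => Or.inl h

theorem map_QG {e : V} (he : O.N e = 0) : (O.QG e).map O.pr = O.Qs e := by
  ext y
  constructor
  · rintro ⟨g, hg, rfl⟩
    obtain ⟨w, z, h, rfl⟩ := (mem_QG he).mp hg
    exact (mem_Qs he).mpr ⟨_, _, h, rfl⟩
  · intro hy
    obtain ⟨w, z, h, rfl⟩ := (mem_Qs he).mp hy
    exact ⟨_, (mem_QG he).mpr ⟨_, _, h, rfl⟩, rfl⟩

theorem X_pow {w : V} {z : F} (h : O.Ok e w z) (n : ℕ) : ∃ z', O.Ok e (n • w) z' ∧ (O.X e w z) ^ n = O.X e (n • w) z' := by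
  induction n with
  | zero => exact ⟨0, by rw [zero_smul]; exact ok_zero h.e0, by rw [pow_zero, zero_smul, X_zero h.e0]⟩
  | succ n ih =>
    obtain ⟨z', h1, h2⟩ := ih
    have h3 := h1.add h
    rw [← succ_nsmul] at h3
    exact ⟨_, h3, by rw [pow_succ, h2, X_mul h1 h, succ_nsmul]⟩

theorem X_pow0 {z : F} (h : O.Ok e 0 z) (n : ℕ) : O.Ok e 0 (n • z) ∧ (O.X e 0 z) ^ n = O.X e 0 (n • z) := by
  induction n with
  | zero => exact ⟨by rw [zero_smul]; exact ok_zero h.e0, by rw [pow_zero, zero_smul, X_zero h.e0]⟩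
  | succ n ih =>
    have h3 := ih.1.add h
    rw [add_zero, O.bl_zero, mul_zero, sub_zero, ← succ_nsmul] at h3
    refine ⟨h3, ?_⟩
    rw [pow_succ, ih.2, X_mul ih.1 h, add_zero, O.bl_zero, mul_zero, sub_zero, ← succ_nsmul]

theorem isPGroup_QG (p : ℕ) [CharP F p] (he : O.N e = 0) : IsPGroup p (O.QG e) := by
  rintro ⟨g, hg⟩
  obtain ⟨w, z, h, rfl⟩ := (mem_QG he).mp hg
  refine ⟨2, ?_⟩
  apply Subtype.ext
  change (O.X e w z) ^ (p ^ 2) = 1
  have hpw : p • w = 0 := by
    rw [← Nat.cast_smul_eq_nsmul F p w, CharP.cast_eq_zero, zero_smul]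
  obtain ⟨z', h1, h2⟩ := X_pow h p
  rw [hpw] at h1 h2
  have hpz : p • z' = 0 := by
    rw [nsmul_eq_mul, CharP.cast_eq_zero, zero_mul]
  rw [pow_two, pow_mul, h2, (X_pow0 h1 p).2, hpz, X_zero he]

theorem dvd_card (p : ℕ) [Fact p.Prime] [CharP F p] {A : Type*} [AddCommGroup A] [Module F A] [Finite A] {a : A} (ha : a ≠ 0) :
    p ∣ Nat.card A := by
  have h1 : addOrderOf a = p := by
    apply addOrderOf_eq_prime
    · rw [← Nat.cast_smul_eq_nsmul F p a, CharP.cast_eq_zero, zero_smul]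
    · exact ha
  rw [← h1]
  exact addOrderOf_dvd_natCard a

theorem fixed_mem (hb : O.Big) (he : O.Pt e) {v : V} (hv : ∀ g ∈ O.QG e, O.act g v = v) : ∃ c : F, v = c • e := by
  have h1 : O.B e v = 0 := by
    obtain ⟨w, hw, hwe⟩ := hb e he.ne
    obtain ⟨z, hz⟩ := exists_ok he.sing hw
    have h2 := hv _ ((mem_QG he.sing).mpr ⟨w, z, hz, rfl⟩)
    rw [X_act hz] at h2
    by_contra h3
    apply hwe
    refine ⟨(O.B e v)⁻¹ * (O.ε * O.B w v) - z, ?_⟩
    have h4 : O.B e v • (w + z • e) = (O.ε * O.B w v) • e := by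
      calc O.B e v • (w + z • e) = (v + O.B e v • (w + z • e) - (O.ε * O.B w v) • e) - v + (O.ε * O.B w v) • e := by module
        _ = (O.ε * O.B w v) • e := by rw [h2]; module
    have h5 : w + z • e = ((O.B e v)⁻¹ * (O.ε * O.B w v)) • e := by
      rw [mul_smul, ← h4, smul_smul, inv_mul_cancel₀ h3, one_smul]
    calc w = (w + z • e) - z • e := by module
      _ = _ := by rw [h5]; module
  apply exists_smul_of_perp (O := O) he.ne
  intro w hw
  obtain ⟨z, hz⟩ := exists_ok he.sing hw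
  have h2 := hv _ ((mem_QG he.sing).mpr ⟨w, z, hz, rfl⟩)
  rw [X_act hz, h1, zero_smul, add_zero, sub_eq_self] at h2
  have h3 := (smul_eq_zero.mp h2).resolve_right he.ne
  exact O.refl ((mul_eq_zero.mp h3).resolve_left O.ε_ne)

/-- a `p`-subgroup containing the Siegel group fixes the vector `e` -/
theorem fixes_e (p : ℕ) [Fact p.Prime] [CharP F p] [Finite V] (hb : O.Big) (he : O.Pt e) {P : Subgroup G}
    (hP : IsPGroup p P) (hQ : O.QG e ≤ P) {g : G} (hg : g ∈ P) : O.act g e = e := by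
  letI : MulAction P V :=
    { smul := fun g x => O.act (g : G) x
      one_smul := fun x => act_one x
      mul_smul := fun g h x => act_mul (g : G) (h : G) x }
  have h0 : (0 : V) ∈ MulAction.fixedPoints P V := fun g => map_zero (O.act (g : G))
  obtain ⟨v, hv, hv0⟩ := hP.exists_fixed_point_of_prime_dvd_card_of_fixed_point V (dvd_card (F := F) p he.ne) h0
  obtain ⟨c, hc⟩ := fixed_mem hb he (v := v) (fun g hg => hv ⟨g, hQ hg⟩)
  have hc0 : c ≠ 0 := by
    rintro rfl
    rw [zero_smul] at hc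
    exact hv0 hc.symm
  have h1 : O.act g v = v := hv ⟨g, hg⟩
  rw [hc, act_smul'] at h1
  have h2 : c⁻¹ • c • O.act g e = c⁻¹ • c • e := by rw [h1]
  rwa [smul_smul, smul_smul, inv_mul_cancel₀ hc0, one_smul, one_smul] at h2

theorem wc_act (h : O.Hyp e f) {g : G} (hg : O.act g e = e) {w : V} (hw : O.InW e f w) :
    ∃ c : F, O.act g w = c • e + O.wc e f (O.act g w) := by
  have h1 : O.B e (O.act g w) = 0 := by
    have := O.act_B g e w
    rw [hg, hw.1] at this
    exact this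
  refine ⟨O.ε * O.B f (O.act g w), ?_⟩
  conv_lhs => rw [wc_eq (O := O) (e := e) (f := f) (O.act g w), h1]
  module

/-- a `p`-subgroup containing the Siegel group fixes a vector of `e^⊥/⟨e⟩` -/
theorem fixes_w (p : ℕ) [Fact p.Prime] [CharP F p] [Finite V] (h : O.Hyp e f) {P : Subgroup G}
    (hP : IsPGroup p P) (hPe : ∀ g ∈ P, O.act g e = e) {w0 : V} (hw0 : O.InW e f w0) (hw0n : w0 ≠ 0) :
    ∃ w, O.InW e f w ∧ w ≠ 0 ∧ ∀ g ∈ P, ∃ c : F, O.act g w = w + c • e := by
  let W : Submodule F V :=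
    { carrier := {w | O.InW e f w}
      add_mem' := fun h h' => h.add h'
      zero_mem' := InW.zero
      smul_mem' := fun c w h => h.smul c }
  have hstep : ∀ (g : P) (w : W), O.wc e f (O.act (g : G) (w : V)) ∈ W := fun g w => wc_inW h _
  letI : MulAction P W :=
    { smul := fun g w => ⟨O.wc e f (O.act (g : G) (w : V)), hstep g w⟩
      one_smul := fun w => by
        apply Subtype.ext
        change O.wc e f (O.act (1 : G) (w : V)) = w
        rw [act_one, wc_of_inW h w.2]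
      mul_smul := fun g k w => by
        apply Subtype.ext
        change O.wc e f (O.act ((g : G) * (k : G)) (w : V)) = O.wc e f (O.act (g : G) (O.wc e f (O.act (k : G) (w : V))))
        obtain ⟨c, hc⟩ := wc_act h (hPe k k.2) w.2
        rw [act_mul]
        conv_lhs => rw [hc]
        rw [map_add, wc_add, act_smul', hPe g g.2, wc_smul, wc_e h, smul_zero, zero_add] }
  have h0 : (0 : W) ∈ MulAction.fixedPoints P W := by
    intro g
    apply Subtype.ext
    change O.wc e f (O.act (g : G) (0 : V)) = 0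
    rw [map_zero, wc_of_inW h InW.zero]
  have hne : (⟨w0, hw0⟩ : W) ≠ 0 := fun h0 => hw0n (congrArg Subtype.val h0)
  obtain ⟨v, hv, hv0⟩ := hP.exists_fixed_point_of_prime_dvd_card_of_fixed_point W (dvd_card (F := F) p hne) h0
  refine ⟨v, v.2, fun h0 => hv0 (Subtype.ext h0.symm), fun g hg => ?_⟩
  have h1 : O.wc e f (O.act g (v : V)) = v := congrArg Subtype.val (hv ⟨g, hg⟩)
  obtain ⟨c, hc⟩ := wc_act h (hPe g hg) v.2
  exact ⟨c, by rw [h1] at hc; rw [hc]; module⟩

theorem act_inv_fix {g : G} {x : V} (h : O.act g x = x) : O.act g⁻¹ x = x := by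
  have h1 := act_inv_act (O := O) g x
  rwa [h] at h1

theorem mem_QG_of_triv (h : O.Hyp e f) {g : G} (hg : O.act g e = e)
    (hw : ∀ w, O.InW e f w → ∃ c : F, O.act g w = w + c • e) : ∃ w z, O.InW e f w ∧ O.Ok e w z ∧ g = O.X e w z := by
  have h1 : O.B e (O.act g f) = 1 := by
    have := O.act_B g e f
    rw [hg, h.ef] at this
    exact this
  obtain ⟨w, z, hwW, hok, h2⟩ := exists_orb h (h.fpt.act g).sing (by rw [h1]; exact one_ne_zero)
  refine ⟨w, z, hwW, hok, ?_⟩
  rw [h1, one_smul] at h2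
  rw [eq_comm, ← inv_mul_eq_one]
  obtain ⟨k, hk⟩ : ∃ k, k = (O.X e w z)⁻¹ * g := ⟨_, rfl⟩
  rw [← hk]
  have hXe : O.act (O.X e w z) e = e := by
    rw [X_act hok, h.ee, hwW.we]; module
  have hke : O.act k e = e := by
    rw [hk, act_mul, hg, act_inv_fix hXe]
  have hkf : O.act k f = f := by
    rw [hk, act_mul, h2, act_inv_act]
  have hkw : ∀ x, O.InW e f x → O.act k x = x := by
    intro x hx
    obtain ⟨c, hc⟩ := hw x hx
    have h3 : ∃ c' : F, O.act k x = x + c' • e := by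
      have h4 : O.act (O.X e w z) x = x + (-(O.ε * O.B w x)) • e := by
        rw [X_act hok, hx.1]; module
      have h5 : x = O.act (O.X e w z)⁻¹ x + (-(O.ε * O.B w x)) • e := by
        have h6 := congrArg (O.act (O.X e w z)⁻¹) h4
        rw [act_inv_act, map_add, act_smul'] at h6
        rwa [act_inv_fix hXe] at h6
      refine ⟨c + (O.ε * O.B w x), ?_⟩
      rw [hk, act_mul, hc, map_add, act_smul', act_inv_fix hXe]
      have h8 : O.act (O.X e w z)⁻¹ x = x + (O.ε * O.B w x) • e := by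
        calc O.act (O.X e w z)⁻¹ x = (O.act (O.X e w z)⁻¹ x + (-(O.ε * O.B w x)) • e) + (O.ε * O.B w x) • e := by module
          _ = _ := by rw [← h5]
      rw [h8]; module
    obtain ⟨c', hc'⟩ := h3
    have h4 := O.act_B k f x
    rw [hkf, hc', O.br_add, O.br_smul, h.fe, hx.2, zero_add] at h4
    rw [hc', (mul_eq_zero.mp h4).resolve_right O.ε_ne, zero_smul, add_zero]
  apply O.act_inj
  intro x
  rw [act_one]
  conv_lhs => rw [wc_eq (O := O) (e := e) (f := f) x]
  rw [map_add, map_add, act_smul', act_smul', hke, hkf, hkw _ (wc_inW h x)]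
  exact (wc_eq x).symm

theorem pr_inj_St (he : e ≠ 0) {g k : G} (hg : O.act g e = e) (hk : O.act k e = e) (h : O.pr g = O.pr k) : g = k := by
  obtain ⟨c, hc⟩ := (O.pr_eq _ _).mp h
  have h1 := hc e
  rw [hg, hk] at h1
  have hc1 : c = 1 := by
    have : (1 - c) • e = 0 := by rw [sub_smul, one_smul, sub_eq_zero]; exact h1
    exact (sub_eq_zero.mp ((smul_eq_zero.mp this).resolve_right he)).symm
  apply O.act_inj
  intro x
  rw [hc, hc1, one_smul]

end Cfsg.Agent.H17.Pol
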