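import Mathlib
import Cfsg.Agent.H17.PolG

set_option autoImplicit false

/-! Abstract classical groups: automorphisms permute the points. -/

namespace Cfsg.Agent.H17.Pol

variable {F V G PG : Type*} [Field F] [AddCommGroup V] [Module F V] [Group G] [Group PG]
  {O : Pol F V G PG} {e f : V}

theorem Zs_inj (hC : O.CType) {e e' : V} (he : O.Pt e) (he' : O.Pt e') (h : O.Zs e = O.Zs e') : ∃ c : F, e' = c • e := by
  obtain ⟨a, ha⟩ := hC.exists_ne
  have hz0 : O.τ a - O.ε * a ≠ 0 := sub_ne_zero.mpr ha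
  have hzt : O.t (O.ε * (O.τ a - O.ε * a)) = 0 := (hC.tz _).mpr ⟨a, rfl⟩
  generalize O.τ a - O.ε * a = z at hz0 hzt
  have hok : O.Ok e' 0 z := ⟨he'.sing, O.br_zero e', by rw [O.N_zero, zero_add]; exact hzt⟩
  have h1 : O.pr (O.X e' 0 z) ∈ O.Zs e := by rw [h]; exact (mem_Zs he'.sing).mpr ⟨z, hok, rfl⟩
  obtain ⟨z1, hok1, he1⟩ := (mem_Zs he.sing).mp h1
  obtain ⟨c, hc⟩ := (O.pr_eq _ _).mp he1
  -- find a vector not perpendicular to `e'`
  obtain ⟨x, hx⟩ := exists_B_one (O := O) he'.ne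
  by_contra hcon
  -- show `c = 1`
  obtain ⟨w, hw, hw'⟩ := exists_perp_not_perp (O := O) he.ne hcon
  have h2 := hc w
  rw [X_act hok, X_act hok1, hw, O.bl_zero] at h2
  have h3 : (O.B e' w * z) • e' = (c - 1) • w := by
    calc (O.B e' w * z) • e' = (w + O.B e' w • ((0 : V) + z • e') - (O.ε * 0) • e') - w := by module
      _ = c • (w + (0 : F) • ((0 : V) + z1 • e) - (O.ε * 0) • e) - w := by rw [h2]
      _ = _ := by module
  have h4 := congrArg (fun x => O.B e' x) h3
  simp only [O.br_smul, he'.self, mul_zero] at h4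
  have h5 : c - 1 = 0 := (mul_eq_zero.mp h4.symm).resolve_right hw'
  rw [h5, zero_smul] at h3
  rcases smul_eq_zero.mp h3 with h6 | h6
  · exact mul_ne_zero hw' hz0 h6
  · exact he'.ne h6

theorem cj_Zs_iff (hC : O.CType) {e : V} (he : O.Pt e) (g : G) :
    cj (O.pr g) (O.Zs e) = O.Zs e ↔ ∃ c : F, O.act g e = c • e := by
  rw [Zs_conj]
  constructor
  · intro h
    obtain ⟨c, hc⟩ := Zs_inj hC he (he.act g) h.symm
    exact ⟨c, hc⟩
  · rintro ⟨c, hc⟩
    rw [hc]
    apply Zs_smul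
    rintro rfl
    rw [zero_smul] at hc
    exact act_ne_zero g he.ne hc

/-- `Q` is the largest `p`-subgroup normal in the normalizer of `Z`. -/
structure OpChar (p : ℕ) (Z Q : Subgroup PG) : Prop where
  pg : IsPGroup p Q
  nm : ∀ y, cj y Z = Z → cj y Q = Q
  le : ∀ x ∈ Q, cj x Z = Z
  mx : ∀ R : Subgroup PG, IsPGroup p R → (∀ y, cj y Z = Z → cj y R = R) → (∀ x ∈ R, cj x Z = Z) → R ≤ Q

theorem OpChar.unique {p : ℕ} {Z Q Q' : Subgroup PG} (h : OpChar p Z Q) (h' : OpChar p Z Q') : Q = Q' :=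
  le_antisymm (h'.mx Q h.pg h.nm h.le) (h.mx Q' h'.pg h'.nm h'.le)

theorem OpChar.im {p : ℕ} {Z Q : Subgroup PG} (h : OpChar p Z Q) (α : MulAut PG) : OpChar p (im α Z) (im α Q) := by
  have key : ∀ (α : MulAut PG) (K : Subgroup PG) (y : PG), cj y (Pol.im α K) = Pol.im α K ↔ cj (α⁻¹ y) K = K := by
    intro α K y
    have h1 : cj y (Pol.im α K) = Pol.im α (cj (α⁻¹ y) K) := by
      rw [im_cj, ← MulAut.mul_apply, mul_inv_cancel, MulAut.one_apply]
    rw [h1]
    constructor
    · intro h2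
      have h3 : Pol.im α⁻¹ (Pol.im α (cj (α⁻¹ y) K)) = Pol.im α⁻¹ (Pol.im α K) := by rw [h2]
      have h4 : ∀ L : Subgroup PG, Pol.im α⁻¹ (Pol.im α L) = L := by
        intro L
        rw [← im_mul, inv_mul_cancel, im_one]
      rwa [h4, h4] at h3
    · intro h2; rw [h2]
  refine ⟨h.pg.map _, ?_, ?_, ?_⟩
  · intro y hy
    rw [key] at hy ⊢
    exact h.nm _ hy
  · rintro _ ⟨x, hx, rfl⟩
    rw [key]
    have : α⁻¹ ((α : PG ≃* PG).toMonoidHom x) = x := by
      change α⁻¹ (α x) = x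
      rw [← MulAut.mul_apply, inv_mul_cancel, MulAut.one_apply]
    rw [this]
    exact h.le x hx
  · intro R hR hRn hRle
    have h1 : Pol.im α⁻¹ R ≤ Q := by
      apply h.mx
      · exact hR.map _
      · intro y hy
        rw [key, inv_inv]
        apply hRn
        rw [key, ← MulAut.mul_apply, inv_mul_cancel, MulAut.one_apply]
        exact hy
      · rintro _ ⟨x, hx, rfl⟩
        have h2 := hRle x hx
        rw [key] at h2
        exact h2
    intro x hx
    refine ⟨α⁻¹ x, h1 ⟨x, hx, rfl⟩, ?_⟩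
    change α (α⁻¹ x) = x
    rw [← MulAut.mul_apply, mul_inv_cancel, MulAut.one_apply]

/-- irreducibility of `W` -/
def Irr (O : Pol F V G PG) (e f : V) : Prop := ∀ K : Submodule F V,
  (∀ g l, InL O e f g l → ∀ w ∈ K, O.InW e f w → O.act g w ∈ K) → (∃ w ∈ K, O.InW e f w ∧ w ≠ 0) →
  ∀ w, O.InW e f w → w ∈ K

theorem opChar_Qs [Finite V] [Finite G] (p : ℕ) [Fact p.Prime] [CharP F p] (hb : O.Big) (h : O.Hyp e f)
    (hC : O.CType) (hI : O.Irr e f) {w0 : V} (hw0 : O.InW e f w0) (hw0n : w0 ≠ 0) :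
    OpChar p (O.Zs e) (O.Qs e) := by
  refine ⟨?_, ?_, ?_, ?_⟩
  · rw [← map_QG h.e0]
    exact (isPGroup_QG p h.e0).map _
  · intro y hy
    obtain ⟨g, rfl⟩ := O.pr_surj y
    rw [cj_Zs_iff hC h.ept] at hy
    exact (cj_Qs_iff hb h.ept g).mpr hy
  · intro x hx
    obtain ⟨g, rfl⟩ := O.pr_surj x
    rw [cj_Zs_iff hC h.ept]
    exact Qs_fix h.e0 hx
  · intro R hR hRn hRle
    obtain ⟨P, hP⟩ := (isPGroup_QG (O := O) p h.e0).exists_le_sylow
    have hPe : ∀ g ∈ (P : Subgroup G), O.act g e = e := fun g hg => fixes_e p hb h.ept P.2 hP hg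
    -- `R ≤ P`
    have hRP : R ≤ (P : Subgroup G).map O.pr := by
      have h1 : (P : Subgroup G).map O.pr ≤ Subgroup.normalizer (R : Set PG) := by
        rintro _ ⟨g, hg, rfl⟩
        have h2 : cj (O.pr g) (O.Zs e) = O.Zs e := (cj_Zs_iff hC h.ept g).mpr ⟨1, by rw [hPe g hg, one_smul]⟩
        have h3 := hRn _ h2
        rw [Subgroup.mem_normalizer_iff]
        intro x
        constructor
        · intro hx
          change O.pr g * x * (O.pr g)⁻¹ ∈ R
          rw [← h3]
          exact ⟨x, hx, rfl⟩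
        · intro hx
          change O.pr g * x * (O.pr g)⁻¹ ∈ R at hx
          rw [← h3, mem_cj] at hx
          have : (O.pr g)⁻¹ * (O.pr g * x * (O.pr g)⁻¹) * O.pr g = x := by group
          rwa [this] at hx
      have h2 : IsPGroup p ((P : Subgroup G).map O.pr ⊔ R : Subgroup PG) :=
        (P.2.map O.pr).to_sup_of_normal_right' hR h1
      have h3 := (P.mapSurjective O.pr_surj).is_maximal' h2 le_sup_left
      have h4 : (P.mapSurjective O.pr_surj : Subgroup PG) = (P : Subgroup G).map O.pr := Sylow.coe_mapSurjective _ _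
      rw [h4] at h3
      rw [← h3]
      exact le_sup_right
    obtain ⟨v, hv, hvn, hvP⟩ := fixes_w p h P.2 hPe hw0 hw0n
    -- the submodule of vectors fixed modulo `e`
    let K : Submodule F V :=
      { carrier := {w | ∀ g, O.act g e = e → O.pr g ∈ R → ∃ c : F, O.act g w = w + c • e}
        add_mem' := by
          intro a b ha hb g hg hgR
          obtain ⟨c, hc⟩ := ha g hg hgR
          obtain ⟨d, hd⟩ := hb g hg hgR
          exact ⟨c + d, by rw [map_add, hc, hd]; module⟩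
        zero_mem' := fun g _ _ => ⟨0, by rw [map_zero, zero_smul, add_zero]⟩
        smul_mem' := by
          intro a w hw g hg hgR
          obtain ⟨c, hc⟩ := hw g hg hgR
          exact ⟨a * c, by rw [act_smul', hc]; module⟩ }
    have hKL : ∀ g l, InL O e f g l → ∀ w ∈ K, O.InW e f w → O.act g w ∈ K := by
      intro m l hm w hw _ g hg hgR
      have hl := hm.l_ne h
      have h1 : O.act (m⁻¹ * g * m) e = e := by
        rw [act_mul, act_mul, hm.1, act_smul', hg, act_smul']
        have h2 : O.act m⁻¹ (l • e) = e := by rw [← hm.1, act_inv_act]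
        rwa [act_smul'] at h2
      have h2 : O.pr (m⁻¹ * g * m) ∈ R := by
        rw [map_mul, map_mul, map_inv]
        have h3 : cj (O.pr m) (O.Zs e) = O.Zs e := (cj_Zs_iff hC h.ept m).mpr ⟨l, hm.1⟩
        have h4 := hRn _ h3
        rw [← h4, mem_cj] at hgR
        exact hgR
      obtain ⟨c, hc⟩ := hw _ h1 h2
      refine ⟨c * l, ?_⟩
      have h5 := congrArg (O.act m) hc
      rw [map_add, act_smul', hm.1, act_mul, act_mul, act_act_inv, smul_smul] at h5
      exact h5
    have hKW := hI K hKL ⟨v, by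
      intro g hg hgR
      obtain ⟨k, hk, hkg⟩ := hRP hgR
      have : g = k := pr_inj_St h.ene hg (hPe k hk) hkg.symm
      rw [this]
      exact hvP k hk, hv, hvn⟩
    intro r hr
    obtain ⟨g, hg, rfl⟩ := hRP hr
    obtain ⟨w, z, _, hok, hX⟩ := mem_QG_of_triv h (hPe g hg) (fun w hw => hKW w hw g (hPe g hg) hr)
    rw [hX]
    exact (mem_Qs h.e0).mpr ⟨_, _, hok, rfl⟩

/-- the centre of the Sylow `p`-subgroup -/
theorem center_sylow [Finite V] [Finite G] (p : ℕ) [Fact p.Prime] [CharP F p] (hb : O.Big) (h : O.Hyp e f)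
    (hC : O.CType) (hndW : ∀ w, O.InW e f w → w ≠ 0 → ∃ w', O.InW e f w' ∧ O.B w w' ≠ 0)
    (P : Sylow p G) (hP : O.QG e ≤ P) :
    (P : Subgroup G).map O.pr ⊓ Subgroup.centralizer ((P : Subgroup G).map O.pr : Set PG) = O.Zs e := by
  have hPe : ∀ g ∈ (P : Subgroup G), O.act g e = e := fun g hg => fixes_e p hb h.ept P.2 hP hg
  apply le_antisymm
  · rintro y ⟨⟨g, hg, rfl⟩, hy⟩
    have hcent : ∀ w z, O.Ok e w z → O.pr g * O.pr (O.X e w z) = O.pr (O.X e w z) * O.pr g := by
      intro w z hok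
      exact (hy _ ⟨_, hP ((mem_QG h.e0).mpr ⟨w, z, hok, rfl⟩), rfl⟩).symm
    have hge := hPe g hg
    have h1 : ∀ w, O.InW e f w → ∃ c : F, O.act g w = w + c • e := by
      intro w hw
      obtain ⟨z, hok⟩ := exists_ok h.e0 hw.1
      have h2 := hcent w z hok
      have hok2 := hok.act g
      rw [hge] at hok2
      have h3 : O.pr (O.X e (O.act g w) z) = O.pr (O.X e w z) := by
        have h4 := X_conj hok g
        rw [hge] at h4
        rw [← h4, map_mul, map_mul, h2, map_inv, mul_inv_cancel_right]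
      have h4 := pr_inj_St h.ene (by
        rw [X_act hok2, h.ee, hok2.we]; module) (by rw [X_act hok, h.ee, hok.we]; module) h3
      have h5 := X_act hok2 f
      rw [h4, X_act hok, h.ef, hw.wf] at h5
      refine ⟨O.ε * O.B (O.act g w) f, ?_⟩
      calc O.act g w = (f + (1 : F) • (O.act g w + z • e) - (O.ε * O.B (O.act g w) f) • e) - f - z • e
            + (O.ε * O.B (O.act g w) f) • e := by module
        _ = (f + (1 : F) • (w + z • e) - (O.ε * 0) • e) - f - z • e + (O.ε * O.B (O.act g w) f) • e := by rw [h5]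
        _ = _ := by module
    obtain ⟨w, z, hwW, hok, hX⟩ := mem_QG_of_triv h hge h1
    have hw0 : w = 0 := by
      by_contra hwn
      obtain ⟨w', hw', hBw⟩ := hndW w hwW hwn
      have h2 : ∀ x, O.InW e f x → O.B w x = O.B x w := by
        intro x hx
        obtain ⟨z', hok'⟩ := exists_ok h.e0 hx.1
        have h3 := hcent x z' hok'
        rw [hX, ← map_mul, ← map_mul, X_mul hok hok', X_mul hok' hok] at h3
        have h4 : O.Ok e (w + x) (z' + z - O.ε * O.B x w) := by
          have := hok'.add hok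
          rwa [add_comm x w] at this
        rw [add_comm x w] at h3
        have h5 := (Qs_unique h (hwW.add hx) (hwW.add hx) (hok.add hok') h4 h3).2
        have h6 : O.ε * O.B w x = O.ε * O.B x w := by linear_combination -h5
        exact mul_left_cancel₀ O.ε_ne h6
      apply hBw
      have h3 : ∀ a : F, a * O.B w w' = O.ε * (O.τ a * O.τ (O.B w w')) := by
        intro a
        have h4 := h2 _ (hw'.smul a)
        rw [O.br_smul, O.bl_smul, O.symm w w'] at h4
        rw [h4]; ring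
      generalize O.B w w' = b at h3
      have h4 := h3 1
      rw [one_mul, map_one, one_mul] at h4
      rcases hC.cases with ⟨g1, g2, g3, _⟩ | ⟨g1, ⟨a, ha⟩, _⟩
      · rw [g1, g2] at h4
        have h5 : (2 : F) * b = 0 := by linear_combination h4
        exact (mul_eq_zero.mp h5).resolve_left g3
      · rw [g1, one_mul] at h4
        have h5 := h3 a
        rw [g1, one_mul, ← h4] at h5
        have h6 : (O.τ a - a) * b = 0 := by linear_combination -h5
        exact (mul_eq_zero.mp h6).resolve_left (sub_ne_zero.mpr ha)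
    rw [hX, hw0]
    rw [hw0] at hok
    exact (mem_Zs h.e0).mpr ⟨z, hok, rfl⟩
  · intro y hy
    obtain ⟨z, hok, rfl⟩ := (mem_Zs h.e0).mp hy
    refine ⟨⟨_, hP ((mem_QG h.e0).mpr ⟨0, z, hok, rfl⟩), rfl⟩, ?_⟩
    rintro _ ⟨g, hg, rfl⟩
    have h1 := X_conj hok g
    rw [hPe g hg, map_zero] at h1
    rw [← map_mul, ← map_mul]
    congr 1
    rw [mul_inv_eq_iff_eq_mul] at h1
    exact h1

/-- automorphisms permute the points -/
theorem exists_image [Finite V] [Finite G] (p : ℕ) [Fact p.Prime] [CharP F p] (hb : O.Big) (h : O.Hyp e f)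
    (hC : O.CType) (hI : O.Irr e f) (hndW : ∀ w, O.InW e f w → w ≠ 0 → ∃ w', O.InW e f w' ∧ O.B w w' ≠ 0)
    {w0 : V} (hw0 : O.InW e f w0) (hw0n : w0 ≠ 0) (α : MulAut PG) :
    ∃ g : G, im α (O.Qs e) = O.Qs (O.act g e) ∧ im α (O.Zs e) = O.Zs (O.act g e) := by
  have : Finite PG := Finite.of_surjective _ O.pr_surj
  obtain ⟨P, hP⟩ := (isPGroup_QG (O := O) p h.e0).exists_le_sylow
  have hcz := center_sylow p hb h hC hndW P hP
  let P1 : Sylow p PG := P.mapSurjective O.pr_surj
  have hP1 : (P1 : Subgroup PG) = (P : Subgroup G).map O.pr := Sylow.coe_mapSurjective _ _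
  obtain ⟨y, hy⟩ := MulAction.exists_smul_eq PG P1 (α • P1)
  have hy' : cj y ((P : Subgroup G).map O.pr) = im α ((P : Subgroup G).map O.pr) := by
    have h1 := congrArg (fun S : Sylow p PG => (S : Subgroup PG)) hy
    exact h1
  have hcent : ∀ (β : MulAut PG) (K : Subgroup PG), im β (K ⊓ Subgroup.centralizer (K : Set PG)) =
      im β K ⊓ Subgroup.centralizer (im β K : Set PG) := by
    intro β K
    ext x
    constructor
    · rintro ⟨k, ⟨hk1, hk2⟩, rfl⟩
      refine ⟨⟨k, hk1, rfl⟩, ?_⟩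
      rintro _ ⟨m, hm, rfl⟩
      change β m * β k = β k * β m
      rw [← map_mul, ← map_mul, hk2 m hm]
    · rintro ⟨⟨k, hk, rfl⟩, hx⟩
      refine ⟨k, ⟨hk, ?_⟩, rfl⟩
      intro m hm
      have h1 := hx _ ⟨m, hm, rfl⟩
      change β m * β k = β k * β m at h1
      rw [← map_mul, ← map_mul] at h1
      exact β.injective h1
  obtain ⟨g, rfl⟩ := O.pr_surj y
  have hZ : im α (O.Zs e) = cj (O.pr g) (O.Zs e) := by
    rw [← hcz, hcent, ← hy', ← im_conj, ← im_conj, hcent]
  have hQ : im α (O.Qs e) = cj (O.pr g) (O.Qs e) := by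
    have h1 := (opChar_Qs p hb h hC hI hw0 hw0n).im α
    have h2 := (opChar_Qs p hb h hC hI hw0 hw0n).im (MulAut.conj (O.pr g))
    rw [hZ] at h1
    exact h1.unique h2
  exact ⟨g, by rw [hQ, Qs_conj], by rw [hZ, Zs_conj]⟩

end Cfsg.Agent.H17.Pol
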