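import Mathlib
import Cfsg.Agent.H17.PolH

set_option autoImplicit false

/-! Abstract classical groups: all automorphisms are induced by semisimilarities. -/

namespace Cfsg.Agent.H17.Pol

variable {F V G PG : Type*} [Field F] [AddCommGroup V] [Module F V] [Group G] [Group PG]
  {O : Pol F V G PG} {e f : V}

theorem ndW (h : O.Hyp e f) {w : V} (hw : O.InW e f w) (hwn : w ≠ 0) : ∃ w', O.InW e f w' ∧ O.B w w' ≠ 0 := by
  obtain ⟨y, hy⟩ := exists_B_ne (O := O) hwn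
  refine ⟨O.wc e f y, wc_inW h y, ?_⟩
  rw [wc, O.br_sub, O.br_sub, O.br_smul, O.br_smul, hw.we, hw.wf]
  simpa using hy

theorem exists_w0 (hb : O.Big) (h : O.Hyp e f) : ∃ w, O.InW e f w ∧ w ≠ 0 := by
  obtain ⟨w, hw, hwe⟩ := hb e h.ene
  refine ⟨O.wc e f w, wc_inW h w, fun h0 => hwe ⟨O.ε * O.B f w, ?_⟩⟩
  have h1 := wc_eq (O := O) (e := e) (f := f) w
  rw [h0, hw] at h1
  conv_lhs => rw [h1]
  module

/-- hypotheses checked in each instance -/
structure Good (O : Pol F V G PG) : Prop where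
  big : O.Big
  ctype : O.CType
  comm : ∀ e f, O.Hyp e f → O.Comm e f
  irr : ∀ e f, O.Hyp e f → O.Irr e f
  nohom : ∀ e f, O.Hyp e f → O.NoHom e f
  gen : ∀ e f, O.Hyp e f → Subgroup.closure ((O.Qs e : Set PG) ∪ (O.Qs f : Set PG)) = ⊤
  ind : Ind O

/-- composing a semisimilarity with a group element -/
def _root_.Cfsg.Agent.H17.SemiSim.comp (S : SemiSim O) (g : G) : SemiSim O where
  σ := S.σ
  κ := S.κ
  T x := O.act g (S.T x)
  hκ := S.hκ
  τκ := S.τκ
  T_add x y := by rw [S.T_add, map_add]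
  T_smul a x := by rw [S.T_smul, act_smul']
  T_B x y := by rw [O.act_B, S.T_B]
  T_N x := by rw [O.act_N, S.T_N]
  T_t := S.T_t
  T_surj := by
    intro y
    obtain ⟨x, hx⟩ := S.T_surj (O.act g⁻¹ y)
    exact ⟨x, by
      change O.act g (S.T x) = y
      rw [hx, act_act_inv]⟩

theorem all_induced [Finite V] [Finite G] [Finite F] (p : ℕ) [Fact p.Prime] [CharP F p] (hO : O.Good) (h : O.Hyp e f)
    (α : MulAut PG) : ∃ S : SemiSim O, Induced S α := by
  obtain ⟨w0, hw0, hw0n⟩ := exists_w0 hO.big h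
  obtain ⟨w1, hw1, hw1n⟩ := exists_w0 hO.big h.swap
  obtain ⟨g1, hQ1, hZ1⟩ := exists_image p hO.big h hO.ctype (hO.irr e f h) (fun w hw hwn => ndW h hw hwn) hw0 hw0n α
  obtain ⟨g2, hQ2, hZ2⟩ := exists_image p hO.big h.swap hO.ctype (hO.irr _ _ h.swap) (fun w hw hwn => ndW h.swap hw hwn)
    hw1 hw1n α
  have hpt1 : O.Pt (O.act g1 e) := h.ept.act g1
  have hpt2 : O.Pt (O.act g2 f) := h.fpt.act g2
  have hne : O.B (O.act g1 e) (O.act g2 f) ≠ 0 := by
    intro h0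
    obtain ⟨y, hy, hy1, hyf⟩ := (perp_iff hO.big hpt1 hpt2).mp h0
    rw [← hQ1] at hy
    rw [← hQ2] at hyf
    obtain ⟨x, hx, rfl⟩ := hy
    have h1 : O.B e f = 0 := by
      rw [perp_iff hO.big h.ept h.fpt]
      refine ⟨x, hx, ?_, ?_⟩
      · rintro rfl
        exact hy1 (map_one _)
      · have h2 : im α (cj x (O.Qs f)) = im α (O.Qs f) := by
          rw [im_cj]; exact hyf
        have h3 : im α⁻¹ (im α (cj x (O.Qs f))) = im α⁻¹ (im α (O.Qs f)) := by rw [h2]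
        have h4 : ∀ L : Subgroup PG, im α⁻¹ (im α L) = L := by
          intro L
          rw [← im_mul, inv_mul_cancel, im_one]
        rwa [h4, h4] at h3
    rw [h.ef] at h1
    exact one_ne_zero h1
  obtain ⟨g, a, b, ha, hb, hga, hgb⟩ := O.trans _ _ _ _ hpt1.sing hpt2.sing hne h.e0 h.f0
    (by rw [h.ef]; exact one_ne_zero)
  have hFP : O.FP e f (MulAut.conj (O.pr g) * α) := by
    refine ⟨?_, ?_, ?_⟩
    · rw [im_mul, hQ1, im_conj, Qs_conj, hga, Qs_smul _ ha]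
    · rw [im_mul, hQ2, im_conj, Qs_conj, hgb, Qs_smul _ hb]
    · rw [im_mul, hZ1, im_conj, Zs_conj, hga, Zs_smul _ ha]
  obtain ⟨S, hS⟩ := exists_induced hO.big h hO.ctype (hO.comm e f h) hO.ind (fun w hw hwn => ndW h hw hwn) hw0 hw0n
    (hO.nohom e f h) (hO.gen e f h) hFP
  refine ⟨S.comp g⁻¹, ?_⟩
  intro k k' hk
  have h1 : ∀ x, O.act (g * k' * g⁻¹) (S.T x) = S.T (O.act k x) := by
    intro x
    have h2 : O.act k' (O.act g⁻¹ (S.T x)) = O.act g⁻¹ (S.T (O.act k x)) := hk x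
    rw [act_mul, act_mul, h2, act_act_inv]
  have h3 := hS _ _ h1
  rw [MulAut.mul_apply, MulAut.conj_apply, map_mul, map_mul, map_inv] at h3
  have h4 : O.pr g * α (O.pr k) * (O.pr g)⁻¹ = O.pr g * O.pr k' * (O.pr g)⁻¹ := h3
  exact mul_left_cancel (mul_right_cancel h4)

end Cfsg.Agent.H17.Pol
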