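import Mathlib
import Cfsg.Agent.H17.PolI

set_option autoImplicit false

/-! Abstract classical groups: generation by two opposite Siegel groups. -/

namespace Cfsg.Agent.H17.Pol

variable {F V G PG : Type*} [Field F] [AddCommGroup V] [Module F V] [Group G] [Group PG]
  {O : Pol F V G PG} {e f : V}

theorem cj_le_of_mem {H K : Subgroup PG} {y : PG} (hy : y ∈ H) (hK : K ≤ H) : cj y K ≤ H := by
  rintro _ ⟨k, hk, rfl⟩
  exact H.mul_mem (H.mul_mem hy (hK hk)) (H.inv_mem hy)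

theorem gen_aux {H : Subgroup PG} (h : O.Hyp e f) (hH : O.Qs e ≤ H) (hf : O.Zs f ≤ H) {v : V} (hv : O.Pt v)
    (hev : O.B e v ≠ 0) : O.Zs v ≤ H := by
  obtain ⟨w, z, hw, hok, hv'⟩ := exists_orb h hv.sing hev
  have h1 : O.Zs v = cj (O.pr (O.X e w z)) (O.Zs f) := by
    rw [Zs_conj]
    conv_lhs => rw [hv']
    rw [Zs_smul _ hev]
  rw [h1]
  exact cj_le_of_mem (hH ((mem_Qs h.e0).mpr ⟨_, _, hok, rfl⟩)) hf

theorem gen_of_Zs (h : O.Hyp e f)
    (hgen : Subgroup.closure (⋃ (v : V) (_ : O.Pt v), (O.Zs v : Set PG)) = ⊤) :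
    Subgroup.closure ((O.Qs e : Set PG) ∪ (O.Qs f : Set PG)) = ⊤ := by
  obtain ⟨H, hH⟩ : ∃ H, H = Subgroup.closure ((O.Qs e : Set PG) ∪ (O.Qs f : Set PG)) := ⟨_, rfl⟩
  have he : O.Qs e ≤ H := by
    intro x hx; rw [hH]; exact Subgroup.subset_closure (Or.inl hx)
  have hf : O.Qs f ≤ H := by
    intro x hx; rw [hH]; exact Subgroup.subset_closure (Or.inr hx)
  have h1 : ∀ v, O.Pt v → O.B e v ≠ 0 → O.Zs v ≤ H := fun v hv hev =>
    gen_aux h he ((Zs_le_Qs f).trans hf) hv hev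
  have h2 : ∀ v, O.Pt v → O.B f v ≠ 0 → O.Zs v ≤ H := by
    intro v hv hfv
    apply gen_aux h.swap hf _ hv hfv
    rw [Zs_smul e O.ε_ne]
    exact (Zs_le_Qs e).trans he
  rw [← hH, eq_top_iff, ← hgen, Subgroup.closure_le]
  intro x hx
  simp only [Set.mem_iUnion] at hx
  obtain ⟨v, hv, hx⟩ := hx
  by_cases hev : O.B e v = 0
  · by_cases hfv : O.B f v = 0
    · obtain ⟨w, hw, hwv⟩ := ndW h (w := v) ⟨hev, hfv⟩ hv.ne
      obtain ⟨z, hok⟩ := exists_ok h.e0 hw.1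
      have h3 : O.B f (O.act (O.X e w z) v) ≠ 0 := by
        rw [X_act hok, hev, O.br_sub, O.br_add, O.br_smul, O.br_smul, hfv, h.fe]
        intro h4
        have h5 : O.B w v = 0 := by
          have h6 : O.ε * O.ε * O.B w v = 0 := by linear_combination -h4
          rwa [O.εε, one_mul] at h6
        exact hwv (O.refl h5)
      have h4 := h2 _ (hv.act _) h3
      rw [← Zs_conj] at h4
      have h5 := cj_le_of_mem (y := (O.pr (O.X e w z))⁻¹) (H.inv_mem (he ((mem_Qs h.e0).mpr ⟨_, _, hok, rfl⟩))) h4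
      apply h5
      rw [mem_cj, mem_cj]
      have : (O.pr (O.X e w z))⁻¹ * ((O.pr (O.X e w z))⁻¹⁻¹ * x * (O.pr (O.X e w z))⁻¹) * O.pr (O.X e w z) = x := by group
      rw [this]
      exact hx
    · exact h2 v hv hfv hx
  · exact h1 v hv hev hx

end Cfsg.Agent.H17.Pol
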