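import Mathlib
import Cfsg.Agent.H17.PolI

set_option autoImplicit false

/-! Abstract classical groups of orthogonal type. -/

namespace Cfsg.Agent.H17.Pol

variable {F V G PG : Type*} [Field F] [AddCommGroup V] [Module F V] [Group G] [Group PG]
  {O : Pol F V G PG} {e f w w' : V}

/-- orthogonal type: `N` is a quadratic form with polar form `B` -/
structure OType (O : Pol F V G PG) : Prop where
  eps : O.ε = 1
  tau : ∀ a, O.τ a = a
  tt : ∀ a, O.t a = a

theorem OType.add (hO : O.OType) (x y : V) : O.N (x + y) = O.N x + O.N y + O.B x y := by rw [O.N_add, hO.tt]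
theorem OType.smul (hO : O.OType) (a : F) (x : V) : O.N (a • x) = a * a * O.N x := by rw [O.N_smul, hO.tau]
theorem OType.sy (hO : O.OType) (x y : V) : O.B y x = O.B x y := by rw [O.symm x y, hO.eps, hO.tau, one_mul]
theorem OType.bl (hO : O.OType) (a : F) (x z : V) : O.B (a • x) z = a * O.B x z := by rw [O.bl_smul, hO.tau]
theorem OType.self (hO : O.OType) (x : V) : O.B x x = 2 * O.N x := by
  have h1 := hO.add x x
  have h2 := hO.smul 2 x
  rw [two_smul, h1] at h2
  linear_combination h2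
theorem OType.neg (hO : O.OType) (x : V) : O.N (-x) = O.N x := by
  have := hO.smul (-1) x
  rw [neg_one_smul] at this
  rw [this]; ring

/-- Siegel elements, orthogonal case -/
noncomputable def E (O : Pol F V G PG) (e w : V) : G := O.X e w (-(O.N w))

theorem ok_E (hO : O.OType) (he : O.N e = 0) (hw : O.B e w = 0) : O.Ok e w (-(O.N w)) :=
  ⟨he, hw, by rw [hO.tt, hO.eps]; ring⟩

theorem OType.z_eq (hO : O.OType) {z : F} (h : O.Ok e w z) : z = -(O.N w) := by
  have := h.adm
  rw [hO.tt, hO.eps] at this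
  linear_combination this

theorem E_act (hO : O.OType) (he : O.N e = 0) (hw : O.B e w = 0) (x : V) :
    O.act (O.E e w) x = x + O.B e x • w - (O.N w * O.B e x + O.B w x) • e := by
  rw [E, X_act (ok_E hO he hw), hO.eps]
  module

theorem E_mul (hO : O.OType) (he : O.N e = 0) (hw : O.B e w = 0) (hw' : O.B e w' = 0) :
    O.E e w * O.E e w' = O.E e (w + w') := by
  rw [E, E, E, X_mul (ok_E hO he hw) (ok_E hO he hw')]
  congr 1
  have h1 := (ok_E hO he hw).add (ok_E hO he hw')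
  exact hO.z_eq h1

theorem E_zero (hO : O.OType) (he : O.N e = 0) : O.E e 0 = 1 := by
  rw [E, O.N_zero, neg_zero, X_zero he]

theorem E_inv (hO : O.OType) (he : O.N e = 0) (hw : O.B e w = 0) : (O.E e w)⁻¹ = O.E e (-w) := by
  rw [inv_eq_iff_mul_eq_one, E_mul hO he hw (by rw [O.br_neg, hw, neg_zero]), add_neg_cancel, E_zero hO he]

theorem E_conj (hO : O.OType) (he : O.N e = 0) (hw : O.B e w = 0) (g : G) :
    g * O.E e w * g⁻¹ = O.E (O.act g e) (O.act g w) := by
  rw [E, E, X_conj (ok_E hO he hw) g, O.act_N]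

theorem E_pow (hO : O.OType) (he : O.N e = 0) (hw : O.B e w = 0) (n : ℕ) : (O.E e w) ^ n = O.E e (n • w) := by
  induction n with
  | zero => rw [pow_zero, zero_smul, E_zero hO he]
  | succ n ih =>
    have h1 : O.B e (n • w) = 0 := by rw [← Nat.cast_smul_eq_nsmul F n w, O.br_smul, hw, mul_zero]
    rw [pow_succ, ih, E_mul hO he h1 hw, succ_nsmul]

theorem E_pow_p (hO : O.OType) (p : ℕ) [CharP F p] (he : O.N e = 0) (hw : O.B e w = 0) : (O.E e w) ^ p = 1 := by
  rw [E_pow hO he hw, ← Nat.cast_smul_eq_nsmul F p w, CharP.cast_eq_zero, zero_smul, E_zero hO he]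

theorem mem_Qs' (hO : O.OType) (he : O.N e = 0) {y : PG} : y ∈ O.Qs e ↔ ∃ w, O.B e w = 0 ∧ y = O.pr (O.E e w) := by
  rw [mem_Qs he]
  constructor
  · rintro ⟨w, z, h, rfl⟩
    exact ⟨w, h.ew, by rw [E, ← hO.z_eq h]⟩
  · rintro ⟨w, h, rfl⟩
    exact ⟨w, _, ok_E hO he h, rfl⟩

theorem Qs_rep' (hO : O.OType) (h : O.Hyp e f) {y : PG} (hy : y ∈ O.Qs e) :
    ∃ w, O.InW e f w ∧ y = O.pr (O.E e w) := by
  obtain ⟨w, z, hw, hok, rfl⟩ := Qs_rep h hy
  exact ⟨w, hw, by rw [E, ← hO.z_eq hok]⟩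

theorem Qs_uniq' (hO : O.OType) (h : O.Hyp e f) (hw : O.InW e f w) (hw' : O.InW e f w')
    (he : O.pr (O.E e w) = O.pr (O.E e w')) : w = w' :=
  (Qs_unique h hw hw' (ok_E hO h.e0 hw.1) (ok_E hO h.e0 hw'.1) he).1

theorem Zs_triv (hO : O.OType) (he : O.N e = 0) : O.Zs e = ⊥ := by
  rw [eq_bot_iff]
  intro y hy
  obtain ⟨z, hok, rfl⟩ := (mem_Zs he).mp hy
  have := hO.z_eq hok
  rw [O.N_zero, neg_zero] at this
  rw [this, X_zero he, map_one]
  exact Subgroup.one_mem _

theorem Hyp.swap' (hO : O.OType) (h : O.Hyp e f) : O.Hyp f e :=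
  ⟨h.f0, h.e0, by rw [h.fe, hO.eps]⟩

theorem InW.swap (hw : O.InW e f w) : O.InW f e w := ⟨hw.2, hw.1⟩

theorem fp_of (hO : O.OType) (h : O.Hyp e f) {α : MulAut PG} (h1 : im α (O.Qs e) = O.Qs e) (h2 : im α (O.Qs f) = O.Qs f) :
    O.FP e f α := ⟨h1, h2, by rw [Zs_triv hO h.e0]; exact Subgroup.map_bot _⟩

theorem FP.swap (hO : O.OType) (h : O.Hyp e f) {α : MulAut PG} (hα : O.FP e f α) : O.FP f e α :=
  fp_of hO (h.swap' hO) hα.qf hα.qe

theorem card_Qs (hO : O.OType) (h : O.Hyp e f) : Nat.card (O.Qs e) = Nat.card {w : V // O.InW e f w} := by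
  symm
  refine Nat.card_congr (Equiv.ofBijective (fun w => ⟨O.pr (O.E e w.1), (mem_Qs' hO h.e0).mpr ⟨w.1, w.2.1, rfl⟩⟩) ⟨?_, ?_⟩)
  · intro w w' hww
    exact Subtype.ext (Qs_uniq' hO h w.2 w'.2 (congrArg Subtype.val hww))
  · rintro ⟨y, hy⟩
    obtain ⟨w, hw, rfl⟩ := Qs_rep' hO h hy
    exact ⟨⟨w, hw⟩, rfl⟩

/-- elements acting as a scalar on `e^⊥/e` -/
theorem mem_Qs_of_scalar (hO : O.OType) (h : O.Hyp e f) {g : G} {c : F} (hc : c * c = 1) (hg : O.act g e = c • e)
    (hw : ∀ w, O.InW e f w → ∃ d : F, O.act g w = c • w + d • e) : O.pr g ∈ O.Qs e := by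
  have hc0 : c ≠ 0 := by rintro rfl; simp at hc
  have h1 : O.B e (O.act g f) = c := by
    have h2 := O.act_B g e f
    rw [hg, h.ef, hO.bl] at h2
    calc O.B e (O.act g f) = c * (c * O.B e (O.act g f)) := by rw [← mul_assoc, hc, one_mul]
      _ = c := by rw [h2, mul_one]
  obtain ⟨w, z, hwW, hok, h2⟩ := exists_orb h (h.fpt.act g).sing (by rw [h1]; exact hc0)
  rw [h1] at h2
  have hXe : O.act (O.X e w z) e = e := by
    rw [X_act hok, h.ee, hwW.we]; module
  have hsuff : O.pr g = O.pr (O.X e w z) := by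
    rw [O.pr_eq]
    refine ⟨c, fun x => ?_⟩
    obtain ⟨k, hk⟩ : ∃ k, k = (O.X e w z)⁻¹ * g := ⟨_, rfl⟩
    have hgk : g = O.X e w z * k := by rw [hk, mul_inv_cancel_left]
    have hke : O.act k e = c • e := by
      rw [hk, act_mul, hg, act_smul', act_inv_fix hXe]
    have hkf : O.act k f = c • f := by
      rw [hk, act_mul, h2, act_smul', act_inv_act]
    have hkw : ∀ x, O.InW e f x → O.act k x = c • x := by
      intro x hx
      obtain ⟨d, hd⟩ := hw x hx
      have h3 : ∃ c' : F, O.act k x = c • x + c' • e := by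
        have h4 : O.act (O.X e w z) x = x + (-(O.ε * O.B w x)) • e := by
          rw [X_act hok, hx.1]; module
        have h5 : x = O.act (O.X e w z)⁻¹ x + (-(O.ε * O.B w x)) • e := by
          have h6 := congrArg (O.act (O.X e w z)⁻¹) h4
          rw [act_inv_act, map_add, act_smul'] at h6
          rwa [act_inv_fix hXe] at h6
        refine ⟨d + c * (O.ε * O.B w x), ?_⟩
        rw [hk, act_mul, hd, map_add, act_smul', act_smul', act_inv_fix hXe]
        have h8 : O.act (O.X e w z)⁻¹ x = x + (O.ε * O.B w x) • e := by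
          calc O.act (O.X e w z)⁻¹ x = (O.act (O.X e w z)⁻¹ x + (-(O.ε * O.B w x)) • e) + (O.ε * O.B w x) • e := by module
            _ = _ := by rw [← h5]
        rw [h8]; module
      obtain ⟨c', hc'⟩ := h3
      have h4 := O.act_B k f x
      rw [hkf, hc', O.br_add, O.br_smul, O.br_smul, hO.bl, hO.bl, h.fe, hx.2, mul_zero, mul_zero, zero_add, hO.eps, mul_one] at h4
      have h5 : c' = 0 := (mul_eq_zero.mp h4).resolve_right hc0
      rw [hc', h5, zero_smul, add_zero]
    have hkx : O.act k x = c • x := by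
      conv_lhs => rw [wc_eq (O := O) (e := e) (f := f) x]
      rw [map_add, map_add, act_smul', act_smul', hke, hkf, hkw _ (wc_inW h x)]
      conv_rhs => rw [wc_eq (O := O) (e := e) (f := f) x]
      module
    rw [hgk, act_mul, hkx, act_smul']
  rw [hsuff]
  exact (mem_Qs h.e0).mpr ⟨w, z, hok, rfl⟩

/-- `Qs e` is self-centralizing -/
theorem cent_Qs (hb : O.Big) (hO : O.OType) (h : O.Hyp e f) {y : PG} (hy : ∀ x ∈ O.Qs e, y * x = x * y) : y ∈ O.Qs e := by
  obtain ⟨g, rfl⟩ := O.pr_surj y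
  have h1 : cj (O.pr g) (O.Qs e) = O.Qs e := by
    ext x
    rw [mem_cj]
    constructor
    · intro hx
      have h2 := hy _ hx
      have h3 : x = (O.pr g)⁻¹ * x * O.pr g := by
        have h4 : O.pr g * ((O.pr g)⁻¹ * x * O.pr g) = x * O.pr g := by group
        rw [h4] at h2
        exact mul_right_cancel h2
      rw [h3]; exact hx
    · intro hx
      have h2 := hy _ hx
      have h3 : (O.pr g)⁻¹ * x * O.pr g = x := by
        rw [mul_assoc, ← h2, inv_mul_cancel_left]
      rw [h3]; exact hx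
  obtain ⟨c, hc⟩ := (cj_Qs_iff hb h.ept g).mp h1
  have hc0 : c ≠ 0 := by
    rintro rfl
    rw [zero_smul] at hc
    exact act_ne_zero g h.ene hc
  -- action on `W`
  have h2 : ∀ w, O.InW e f w → O.wc e f (O.act g w) = c⁻¹ • w := by
    intro w hw
    have hwp : O.B e (O.act g w) = 0 := by
      have h3 := O.act_B g e w
      rw [hc, hO.bl, hw.1] at h3
      exact (mul_eq_zero.mp h3).resolve_left hc0
    have h3 := hy _ ((mem_Qs' hO h.e0).mpr ⟨w, hw.1, rfl⟩)
    rw [← map_mul, ← map_mul] at h3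
    have h4 : g * O.E e w = O.E e (c • O.wc e f (O.act g w)) * g := by
      rw [← mul_inv_eq_iff_eq_mul, E_conj hO h.e0 hw.1, hc]
      apply O.act_inj
      intro x
      have he' : O.N (c • e) = 0 := O.N_smul_zero c h.e0
      have hw1 : O.B (c • e) (O.act g w) = 0 := by rw [hO.bl, hwp, mul_zero]
      have hw2 : O.B e (c • O.wc e f (O.act g w)) = 0 := by rw [O.br_smul, (wc_inW h _).1, mul_zero]
      rw [E_act hO he' hw1, E_act hO h.e0 hw2, hO.smul, hO.bl, hO.bl]
      have h5 : O.wc e f (O.act g w) = O.act g w - O.B f (O.act g w) • e := by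
        rw [wc, hwp, hO.eps, one_mul]; module
      have h6 : O.N (O.wc e f (O.act g w)) = O.N (O.act g w) := by
        have h7 := hO.add (O.wc e f (O.act g w)) (O.B f (O.act g w) • e)
        rw [h5] at h7
        rw [sub_add_cancel, O.N_smul_zero _ h.e0, O.br_smul, O.bl_sub, hO.sy e, hwp, hO.bl, h.ee] at h7
        rw [h5, h7]; ring
      rw [h6, h5, O.bl_sub, hO.bl]
      module
    rw [h4, map_mul, map_mul] at h3
    have h5 := mul_right_cancel h3
    have h6 := Qs_uniq' hO h ((wc_inW h _).smul c) hw h5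
    rw [eq_inv_smul_iff₀ hc0]
    exact h6
  -- `c² = 1`
  have hcc : c * c = 1 := by
    obtain ⟨w0, hw0, hw0n⟩ := exists_w0 hb h
    obtain ⟨w1, hw1, hw01⟩ := ndW h hw0 hw0n
    have h3 : ∀ w, O.InW e f w → ∃ d : F, O.act g w = c⁻¹ • w + d • e := by
      intro w hw
      have hwp : O.B e (O.act g w) = 0 := by
        have h3 := O.act_B g e w
        rw [hc, hO.bl, hw.1] at h3
        exact (mul_eq_zero.mp h3).resolve_left hc0
      refine ⟨O.ε * O.B f (O.act g w), ?_⟩
      conv_lhs => rw [wc_eq (O := O) (e := e) (f := f) (O.act g w)]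
      rw [h2 w hw, hwp]; module
    obtain ⟨d0, hd0⟩ := h3 w0 hw0
    obtain ⟨d1, hd1⟩ := h3 w1 hw1
    have h4 := O.act_B g w0 w1
    rw [hd0, hd1] at h4
    simp only [O.bl_add, O.br_add, hO.bl, O.br_smul, hw0.we, h.ee, hw1.1, mul_zero, add_zero] at h4
    have h5 : (c⁻¹ * c⁻¹ - 1) * O.B w0 w1 = 0 := by
      linear_combination h4
    have h6 := (mul_eq_zero.mp h5).resolve_right hw01
    field_simp at h6
    linear_combination -h6
  have hci : c⁻¹ = c := inv_eq_of_mul_eq_one_left hcc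
  apply mem_Qs_of_scalar hO h hcc hc
  intro w hw
  have hwp : O.B e (O.act g w) = 0 := by
    have h3 := O.act_B g e w
    rw [hc, hO.bl, hw.1] at h3
    exact (mul_eq_zero.mp h3).resolve_left hc0
  refine ⟨O.ε * O.B f (O.act g w), ?_⟩
  conv_lhs => rw [wc_eq (O := O) (e := e) (f := f) (O.act g w)]
  rw [h2 w hw, hwp, hci]; module

theorem Qs_comm (hO : O.OType) (he : O.N e = 0) {x y : PG} (hx : x ∈ O.Qs e) (hy : y ∈ O.Qs e) : x * y = y * x := by
  obtain ⟨w, hw, rfl⟩ := (mem_Qs' hO he).mp hx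
  obtain ⟨w', hw', rfl⟩ := (mem_Qs' hO he).mp hy
  rw [← map_mul, ← map_mul, E_mul hO he hw hw', E_mul hO he hw' hw, add_comm]

end Cfsg.Agent.H17.Pol
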