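import Mathlib
import Cfsg.Agent.H17.PolO1

set_option autoImplicit false

/-! Orthogonal type: irreducibility of `W`, rigidity of its endomorphisms. -/

namespace Cfsg.Agent.H17.Pol

variable {F V G PG : Type*} [Field F] [AddCommGroup V] [Module F V] [Group G] [Group PG]
  {O : Pol F V G PG} {e f e' f' w w' : V}

/-- there is room perpendicular to two orthogonal hyperbolic pairs -/
def Big4 (O : Pol F V G PG) : Prop := ∀ e f e' f', O.Hyp e f → O.Hyp e' f' → O.InW e f e' → O.InW e f f' →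
  ∃ x, x ≠ 0 ∧ O.InW e f x ∧ O.InW e' f' x

/-- Witt index at least two -/
def SingW (O : Pol F V G PG) : Prop := ∀ e f, O.Hyp e f → ∃ e1 f1, O.Hyp e1 f1 ∧ O.InW e f e1 ∧ O.InW e f f1

theorem wc_pres (hO : O.OType) (h : O.Hyp e f) (h1 : O.InW e' f' e) (h2 : O.InW e' f' f) {x : V} (hx : O.InW e' f' x) :
    O.InW e' f' (O.wc e f x) := by
  constructor
  · rw [wc, O.br_sub, O.br_sub, O.br_smul, O.br_smul, hx.1, h1.1, h2.1]; ring
  · rw [wc, O.br_sub, O.br_sub, O.br_smul, O.br_smul, hx.2, h1.2, h2.2]; ring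

theorem inW_symm (hO : O.OType) (h1 : O.InW e f e') (h2 : O.InW e f f') : O.InW e' f' e ∧ O.InW e' f' f :=
  ⟨⟨by rw [hO.sy]; exact h1.1, by rw [hO.sy]; exact h2.1⟩, ⟨by rw [hO.sy]; exact h1.2, by rw [hO.sy]; exact h2.2⟩⟩

theorem B_wc_right (h : O.Hyp e f) {a : V} (ha : O.InW e f a) (x : V) : O.B a (O.wc e f x) = O.B a x := by
  rw [wc, O.br_sub, O.br_sub, O.br_smul, O.br_smul, ha.we, ha.wf]; ring

theorem partner_in (hO : O.OType) (h : O.Hyp e f) (he' : O.InW e f e') (hn : O.N e' = 0) (hne : e' ≠ 0) :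
    ∃ f', O.Hyp e' f' ∧ O.InW e f f' := by
  obtain ⟨y, hy, hy1⟩ := ndW h he' hne
  obtain ⟨y', hy'⟩ : ∃ y', y' = (O.B e' y)⁻¹ • y := ⟨_, rfl⟩
  have h1 : O.B e' y' = 1 := by rw [hy', O.br_smul, inv_mul_cancel₀ hy1]
  have hy'W : O.InW e f y' := by rw [hy']; exact hy.smul _
  have hee : O.B e' e' = 0 := O.B_self hn
  refine ⟨y' + (-(O.N y')) • e', ⟨hn, ?_, ?_⟩, hy'W.add (he'.smul _)⟩
  · rw [hO.add, hO.smul, O.br_smul, hO.sy e' y', h1, hn]; ring
  · rw [O.br_add, O.br_smul, h1, hee]; ring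

theorem exists_pair4 (hO : O.OType) (h4 : O.Big4) (h : O.Hyp e f) (h' : O.Hyp e' f') (he' : O.InW e f e') (hf' : O.InW e f f') :
    ∃ x y, O.InW e f x ∧ O.InW e' f' x ∧ O.InW e f y ∧ O.InW e' f' y ∧ O.B x y ≠ 0 := by
  obtain ⟨x, hx0, hx, hx'⟩ := h4 e f e' f' h h' he' hf'
  obtain ⟨y, hy⟩ := exists_B_ne (O := O) hx0
  have h1 := inW_symm hO he' hf'
  refine ⟨x, O.wc e' f' (O.wc e f y), hx, hx', ?_, wc_inW h' _, ?_⟩
  · exact wc_pres hO h' he' hf' (wc_inW h y)
  · rw [B_wc_right h' hx', B_wc_right h hx]; exact hy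

theorem exists_sing_np (hO : O.OType) (hs : O.SingW) (h : O.Hyp e f) {a : V} (ha : O.InW e f a) (hane : a ≠ 0) :
    ∃ e', O.InW e f e' ∧ O.N e' = 0 ∧ O.B e' a ≠ 0 := by
  obtain ⟨e1, f1, h1, he1, hf1⟩ := hs e f h
  by_cases c1 : O.B e1 a = 0
  · by_cases c2 : O.B f1 a = 0
    · obtain ⟨y, hy⟩ := exists_B_ne (O := O) hane
      have haW : O.InW e1 f1 a := ⟨c1, c2⟩
      obtain ⟨x, hx⟩ : ∃ x, x = O.wc e1 f1 (O.wc e f y) := ⟨_, rfl⟩
      have hxW : O.InW e f x := by rw [hx]; exact wc_pres hO h1 he1 hf1 (wc_inW h y)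
      have hx1 : O.InW e1 f1 x := by rw [hx]; exact wc_inW h1 _
      have hax : O.B a x ≠ 0 := by rw [hx, B_wc_right h1 haW, B_wc_right h ha]; exact hy
      refine ⟨e1 + x + (-(O.N x)) • f1, (he1.add hxW).add (hf1.smul _), ?_, ?_⟩
      · rw [hO.add, hO.add, hO.smul, O.br_smul, O.bl_add, hx1.1, h1.ef, hx1.wf, h1.e0, h1.f0]; ring
      · rw [O.bl_add, O.bl_add, hO.bl, c1, c2, ← hO.sy x a]
        simpa using hax
    · exact ⟨f1, hf1, h1.f0, c2⟩
  · exact ⟨e1, he1, h1.e0, c1⟩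

/-- additive irreducibility of `W` under the Siegel elements of `W` -/
theorem airr (hO : O.OType) (h4 : O.Big4) (hs : O.SingW) (h : O.Hyp e f) (A : AddSubgroup V) (hAW : ∀ a ∈ A, O.InW e f a)
    (hA : ∀ e' w', O.InW e f e' → O.InW e f w' → O.N e' = 0 → O.B e' w' = 0 → ∀ a ∈ A, O.act (O.E e' w') a ∈ A)
    (hne : ∃ a ∈ A, a ≠ 0) : ∀ w, O.InW e f w → w ∈ A := by
  have step : ∀ e' f' a, O.Hyp e' f' → O.InW e f e' → O.InW e f f' → a ∈ A → O.B e' a ≠ 0 →
      ∀ w', O.InW e f w' → O.B e' w' = 0 → w' ∈ A := by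
    intro e' f' a h' he' hf' ha hea
    have hφ : ∀ w', O.InW e f w' → O.B e' w' = 0 → O.B e' a • w' - (O.N w' * O.B e' a + O.B w' a) • e' ∈ A := by
      intro w' hw' hew'
      have h1 := A.sub_mem (hA e' w' he' hw' h'.e0 hew' a ha) ha
      rw [E_act hO h'.e0 hew'] at h1
      convert h1 using 1
      module
    obtain ⟨x, y, hx, hx', hy, hy', hxy⟩ := exists_pair4 hO h4 h h' he' hf'
    have hFe : ∀ t : F, t • e' ∈ A := by
      intro t
      obtain ⟨s, hs⟩ : ∃ s : F, s = -(t / (O.B x y * O.B e' a)) := ⟨_, rfl⟩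
      have h1 := hφ (s • x + y) ((hx.smul s).add hy) (by rw [O.br_add, O.br_smul, hx'.1, hy'.1]; ring)
      have h2 := hφ (s • x) (hx.smul s) (by rw [O.br_smul, hx'.1]; ring)
      have h3 := hφ y hy hy'.1
      have h5 := A.sub_mem (A.sub_mem h1 h2) h3
      convert h5 using 1
      rw [hO.add, O.bl_add, hO.bl]
      have h6 : t = -(s * O.B x y * O.B e' a) := by rw [hs]; field_simp
      conv_lhs => rw [h6]
      module
    intro w' hw' hew'
    obtain ⟨u, hu⟩ : ∃ u, u = (O.B e' a)⁻¹ • w' := ⟨_, rfl⟩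
    have huW : O.InW e f u := by rw [hu]; exact hw'.smul _
    have heu : O.B e' u = 0 := by rw [hu, O.br_smul, hew', mul_zero]
    have h1 := A.add_mem (hφ u huW heu) (hFe (O.N u * O.B e' a + O.B u a))
    convert h1 using 1
    rw [hu, smul_smul, mul_inv_cancel₀ hea]
    module
  obtain ⟨a, ha, hane⟩ := hne
  obtain ⟨e', he', hn', hea⟩ := exists_sing_np hO hs h (hAW a ha) hane
  have hne' : e' ≠ 0 := by
    rintro rfl
    rw [O.bl_zero] at hea
    exact hea rfl
  obtain ⟨f', h', hf'⟩ := partner_in hO h he' hn' hne'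
  have s1 := step e' f' a h' he' hf' ha hea
  have hee : O.B e' e' = 0 := h'.ee
  have hff : O.B f' f' = 0 := h'.ff
  have hfe : O.B f' e' = 1 := by rw [h'.fe, hO.eps]
  have he'A : e' ∈ A := s1 e' he' hee
  have s2 := step f' e' e' (h'.swap' hO) hf' he' he'A (by rw [hfe]; exact one_ne_zero)
  intro w hw
  have h1 : w = O.B e' w • f' + (w - O.B e' w • f') := by module
  rw [h1]
  apply A.add_mem
  · exact s2 _ (hf'.smul _) (by rw [O.br_smul, hff, mul_zero])
  · apply s1
    · have := hw.add ((hf'.smul (O.B e' w)).neg)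
      rwa [← sub_eq_add_neg] at this
    · rw [O.br_sub, O.br_smul, h'.ef]; ring

/-- `Qs e` is minimal among the subgroups normalized by the stabilizer of `e` -/
theorem Qs_min (hO : O.OType) (h4 : O.Big4) (hs : O.SingW) (h : O.Hyp e f) {K : Subgroup PG} (hK : K ≤ O.Qs e)
    (hN : ∀ g, (∃ c : F, O.act g e = c • e) → cj (O.pr g) K ≤ K) (hne : K ≠ ⊥) : K = O.Qs e := by
  let A : AddSubgroup V :=
    { carrier := {w | O.InW e f w ∧ O.pr (O.E e w) ∈ K}
      zero_mem' := ⟨InW.zero, by rw [E_zero hO h.e0, map_one]; exact K.one_mem⟩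
      add_mem' := by
        rintro a b ⟨ha, ha'⟩ ⟨hb, hb'⟩
        refine ⟨ha.add hb, ?_⟩
        rw [← E_mul hO h.e0 ha.1 hb.1, map_mul]
        exact K.mul_mem ha' hb'
      neg_mem' := by
        rintro a ⟨ha, ha'⟩
        refine ⟨ha.neg, ?_⟩
        rw [← E_inv hO h.e0 ha.1, map_inv]
        exact K.inv_mem ha' }
  have h1 := airr hO h4 hs h A (fun a ha => ha.1) (by
    rintro e' w' he' hw' hn' hew' a ⟨ha, ha'⟩
    have hge : O.act (O.E e' w') e = e := by
      rw [E_act hO hn' hew', hO.sy e, he'.1, hO.sy e w', hw'.1]; module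
    have hgf : O.act (O.E e' w') f = f := by
      rw [E_act hO hn' hew', hO.sy f, he'.2, hO.sy f w', hw'.2]; module
    refine ⟨⟨?_, ?_⟩, ?_⟩
    · have := O.act_B (O.E e' w') e a
      rw [hge, ha.1] at this
      exact this
    · have := O.act_B (O.E e' w') f a
      rw [hgf, ha.2] at this
      exact this
    · have h2 := hN (O.E e' w') ⟨1, by rw [one_smul]; exact hge⟩
      have h3 : O.pr (O.E e' w') * O.pr (O.E e a) * (O.pr (O.E e' w'))⁻¹ ∈ K :=
        h2 ⟨_, ha', rfl⟩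
      rw [← map_inv, ← map_mul, ← map_mul, E_conj hO h.e0 ha.1, hge] at h3
      exact h3) (by
    obtain ⟨⟨y, hy⟩, hy1'⟩ := Subgroup.ne_bot_iff_exists_ne_one.mp hne
    have hy1 : y ≠ 1 := fun h0 => hy1' (Subtype.ext h0)
    obtain ⟨w, hw, rfl⟩ := Qs_rep' hO h (hK hy)
    refine ⟨w, ⟨hw, hy⟩, ?_⟩
    rintro rfl
    apply hy1
    rw [E_zero hO h.e0, map_one])
  apply le_antisymm hK
  intro y hy
  obtain ⟨w, hw, rfl⟩ := Qs_rep' hO h hy
  exact (h1 w hw).2

/-- additive endomorphisms of `W` commuting with the Siegel elements of `W` are scalars -/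
theorem comm_scalar (hO : O.OType) (h4 : O.Big4) (hs : O.SingW) (h : O.Hyp e f) (c : V → V)
    (hcW : ∀ w, O.InW e f w → O.InW e f (c w))
    (hadd : ∀ w w', O.InW e f w → O.InW e f w' → c (w + w') = c w + c w')
    (hL : ∀ e' w', O.InW e f e' → O.InW e f w' → O.N e' = 0 → O.B e' w' = 0 → ∀ x, O.InW e f x →
      c (O.act (O.E e' w') x) = O.act (O.E e' w') (c x)) : ∃ a : F, ∀ w, O.InW e f w → c w = a • w := by
  obtain ⟨e', f', h', he', hf'⟩ := hs e f h
  have hc0 : c 0 = 0 := by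
    have := hadd 0 0 InW.zero InW.zero
    rw [add_zero] at this
    exact left_eq_add.mp this
  have hneg : ∀ w, O.InW e f w → c (-w) = -c w := by
    intro w hw
    have := hadd w (-w) hw hw.neg
    rw [add_neg_cancel, hc0] at this
    exact (neg_eq_of_add_eq_zero_right this.symm).symm
  have hsub : ∀ w w', O.InW e f w → O.InW e f w' → c (w - w') = c w - c w' := by
    intro w w' hw hw'
    rw [sub_eq_add_neg, hadd _ _ hw hw'.neg, hneg _ hw', sub_eq_add_neg]
  have key : ∀ e' f', O.Hyp e' f' → O.InW e f e' → O.InW e f f' → ∃ l : F, (∀ s : F, c (s • e') = (l * s) • e') ∧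
      (∀ x, O.InW e f x → O.B e' (c x) = l * O.B e' x) ∧
      ∀ w', O.InW e f w' → O.B e' w' = 0 → ∃ d : F, c w' = l • w' + d • e' := by
    intro e' f' h' he' hf'
    have h1 : ∀ w' x, O.InW e f w' → O.B e' w' = 0 → O.InW e f x →
        c (O.B e' x • w' - (O.N w' * O.B e' x + O.B w' x) • e') =
          O.B e' (c x) • w' - (O.N w' * O.B e' (c x) + O.B w' (c x)) • e' := by
      intro w' x hw' hew' hx
      have h2 := hL e' w' he' hw' h'.e0 hew' x hx
      rw [E_act hO h'.e0 hew', E_act hO h'.e0 hew'] at h2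
      have hin : O.InW e f (O.B e' x • w' - (O.N w' * O.B e' x + O.B w' x) • e') := by
        have := (hw'.smul (O.B e' x)).add ((he'.smul (O.N w' * O.B e' x + O.B w' x)).neg)
        rwa [← sub_eq_add_neg] at this
      have h3 : x + O.B e' x • w' - (O.N w' * O.B e' x + O.B w' x) • e' =
          x + (O.B e' x • w' - (O.N w' * O.B e' x + O.B w' x) • e') := by module
      rw [h3, hadd _ _ hx hin, add_sub_assoc] at h2
      exact add_left_cancel h2
    obtain ⟨x0, y0, hx0, hx0', hy0, hy0', hxy⟩ := exists_pair4 hO h4 h h' he' hf'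
    have h2 : ∀ (s : F) x, O.InW e f x → c ((s * O.B e' x) • e') = (s * O.B e' (c x)) • e' := by
      intro s x hx
      obtain ⟨t, ht⟩ : ∃ t : F, t = -(s / O.B x0 y0) := ⟨_, rfl⟩
      have e1 := h1 (t • x0 + y0) x ((hx0.smul t).add hy0) (by rw [O.br_add, O.br_smul, hx0'.1, hy0'.1]; ring) hx
      have e2 := h1 (t • x0) x (hx0.smul t) (by rw [O.br_smul, hx0'.1]; ring) hx
      have e3 := h1 y0 x hy0 hy0'.1 hx
      have hin : ∀ w', O.InW e f w' → O.InW e f (O.B e' x • w' - (O.N w' * O.B e' x + O.B w' x) • e') := by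
        intro w' hw'
        have := (hw'.smul (O.B e' x)).add ((he'.smul (O.N w' * O.B e' x + O.B w' x)).neg)
        rwa [← sub_eq_add_neg] at this
      have hst : s = -(t * O.B x0 y0) := by rw [ht]; field_simp
      have e4 : c ((s * O.B e' x) • e') = c ((O.B e' x • (t • x0 + y0) - (O.N (t • x0 + y0) * O.B e' x + O.B (t • x0 + y0) x) • e') -
          (O.B e' x • (t • x0) - (O.N (t • x0) * O.B e' x + O.B (t • x0) x) • e') -
          (O.B e' x • y0 - (O.N y0 * O.B e' x + O.B y0 x) • e')) := by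
        congr 1
        rw [hO.add, O.bl_add, hO.bl, hO.bl, hst]
        module
      have i1 := hin _ ((hx0.smul t).add hy0)
      have i2 := hin _ (hx0.smul t)
      have i3 := hin _ hy0
      have i12 : O.InW e f ((O.B e' x • (t • x0 + y0) - (O.N (t • x0 + y0) * O.B e' x + O.B (t • x0 + y0) x) • e') -
          (O.B e' x • (t • x0) - (O.N (t • x0) * O.B e' x + O.B (t • x0) x) • e')) := by
        have := i1.add i2.neg
        rwa [← sub_eq_add_neg] at this
      rw [e4, hsub _ _ i12 i3, hsub _ _ i1 i2, e1, e2, e3, hO.add, O.bl_add, hO.bl, hO.bl, hst]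
      module
    refine ⟨O.B e' (c f'), ?_, ?_, ?_⟩
    · intro s
      have := h2 s f' hf'
      rw [h'.ef, mul_one] at this
      rw [this, mul_comm]
    · intro x hx
      have e1 := h2 1 x hx
      have e2 := h2 (O.B e' x) f' hf'
      rw [h'.ef, mul_one] at e2
      rw [one_mul, one_mul] at e1
      rw [e1] at e2
      have e3 : (O.B e' (c x) - O.B e' x * O.B e' (c f')) • e' = 0 := by rw [sub_smul, sub_eq_zero]; exact e2
      have e4 := (smul_eq_zero.mp e3).resolve_right h'.ene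
      linear_combination e4
    · intro w' hw' hew'
      have e1 := h1 w' f' hw' hew' hf'
      rw [h'.ef, one_smul, mul_one, hsub _ _ hw' (he'.smul _)] at e1
      have e2 : ∀ s : F, c (s • e') = (O.B e' (c f') * s) • e' := by
        intro s
        have := h2 s f' hf'
        rw [h'.ef, mul_one] at this
        rw [this, mul_comm]
      rw [e2] at e1
      refine ⟨O.B e' (c f') * (O.N w' + O.B w' f') - (O.N w' * O.B e' (c f') + O.B w' (c f')), ?_⟩
      have e3 := sub_eq_iff_eq_add.mp e1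
      rw [e3]
      module
  obtain ⟨l, k1, k2, k3⟩ := key e' f' h' he' hf'
  obtain ⟨l', k1', k2', k3'⟩ := key f' e' (h'.swap' hO) hf' he'
  have hll : l' = l := by
    have e1 := k2 f' hf'
    have e2 := k1' 1
    rw [one_smul, mul_one] at e2
    rw [e2, O.br_smul, h'.ef, mul_one, mul_one] at e1
    exact e1
  refine ⟨l, fun w hw => ?_⟩
  obtain ⟨u, hu⟩ : ∃ u, u = O.wc e' f' w := ⟨_, rfl⟩
  have huW : O.InW e f u := by rw [hu]; exact wc_pres hO h' he' hf' hw
  have hu' : O.InW e' f' u := by rw [hu]; exact wc_inW h' w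
  have hcu : c u = l • u := by
    obtain ⟨d, hd⟩ := k3 u huW hu'.1
    obtain ⟨d', hd'⟩ := k3' u huW hu'.2
    rw [hll] at hd'
    have e1 : d • e' = d' • f' := add_left_cancel (hd.symm.trans hd')
    have e2 := congrArg (fun x => O.B f' x) e1
    simp only [O.br_smul, h'.ff, h'.fe, hO.eps, mul_one, mul_zero] at e2
    rw [hd, e2, zero_smul, add_zero]
  have hw1 : w = (O.ε * O.B f' w) • e' + O.B e' w • f' + u := by rw [hu]; exact wc_eq w
  rw [hw1, hadd _ _ ((he'.smul _).add (hf'.smul _)) huW, hadd _ _ (he'.smul _) (hf'.smul _), k1, k1', hll, hcu]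
  module

end Cfsg.Agent.H17.Pol
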