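import Mathlib
import Cfsg.Agent.H17.PolO2

set_option autoImplicit false

/-! Orthogonal type: automorphisms permute the groups `Qs e`. -/

namespace Cfsg.Agent.H17.Pol

variable {F V G PG : Type*} [Field F] [AddCommGroup V] [Module F V] [Group G] [Group PG]
  {O : Pol F V G PG} {e f : V}

/-- unipotent elements attached to a totally singular subspace -/
def ZG (O : Pol F V G PG) (R : Submodule F V) : Subgroup G where
  carrier := {g | (∀ v, O.act g v - v ∈ R) ∧ ∀ v, (∀ r ∈ R, O.B r v = 0) → O.act g v = v}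
  mul_mem' := by
    rintro g k ⟨hg, hg'⟩ ⟨hk, hk'⟩
    refine ⟨fun v => ?_, fun v hv => ?_⟩
    · rw [act_mul]
      have := R.add_mem (hg (O.act k v)) (hk v)
      rwa [sub_add_sub_cancel] at this
    · rw [act_mul, hk' v hv, hg' v hv]
  one_mem' := ⟨fun v => by rw [act_one, sub_self]; exact R.zero_mem, fun v _ => act_one v⟩
  inv_mem' := by
    rintro g ⟨hg, hg'⟩
    refine ⟨fun v => ?_, fun v hv => act_inv_fix (hg' v hv)⟩
    have := R.neg_mem (hg (O.act g⁻¹ v))
    rw [act_act_inv, neg_sub] at this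
    exact this

variable {R : Submodule F V}

theorem ts_B (hO : O.OType) (hR : ∀ x ∈ R, O.N x = 0) {x y : V} (hx : x ∈ R) (hy : y ∈ R) : O.B x y = 0 := by
  have := hR _ (R.add_mem hx hy)
  rw [hO.add, hR x hx, hR y hy, zero_add, zero_add] at this
  exact this

theorem ZG_pow (hO : O.OType) (hR : ∀ x ∈ R, O.N x = 0) {g : G} (hg : g ∈ O.ZG R) (n : ℕ) (v : V) :
    O.act (g ^ n) v = v + n • (O.act g v - v) := by
  induction n with
  | zero => rw [pow_zero, act_one, zero_smul, add_zero]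
  | succ n ih =>
    rw [pow_succ', act_mul, ih, map_add, map_nsmul]
    have h1 : O.act g (O.act g v - v) = O.act g v - v := hg.2 _ (fun r hr => ts_B hO hR hr (hg.1 v))
    rw [h1, succ_nsmul]
    module

theorem ZG_isPGroup (hO : O.OType) (p : ℕ) [Fact p.Prime] [CharP F p] (hR : ∀ x ∈ R, O.N x = 0) : IsPGroup p (O.ZG R) := by
  rintro ⟨g, hg⟩
  refine ⟨1, ?_⟩
  apply Subtype.ext
  change g ^ (p ^ 1) = 1
  rw [pow_one]
  apply O.act_inj
  intro v
  rw [ZG_pow hO hR hg, act_one, ← Nat.cast_smul_eq_nsmul F p, CharP.cast_eq_zero, zero_smul, add_zero]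

theorem ZG_comm (hO : O.OType) (hR : ∀ x ∈ R, O.N x = 0) {g k : G} (hg : g ∈ O.ZG R) (hk : k ∈ O.ZG R) : g * k = k * g := by
  apply O.act_inj
  intro v
  have h1 : O.act g (O.act k v - v) = O.act k v - v := hg.2 _ (fun r hr => ts_B hO hR hr (hk.1 v))
  have h2 : O.act k (O.act g v - v) = O.act g v - v := hk.2 _ (fun r hr => ts_B hO hR hr (hg.1 v))
  rw [map_sub] at h1 h2
  rw [act_mul, act_mul]
  have h3 : O.act g (O.act k v) = O.act g v + (O.act k v - v) := by rw [← h1]; module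
  have h4 : O.act k (O.act g v) = O.act k v + (O.act g v - v) := by rw [← h2]; module
  rw [h3, h4]; module

theorem ZG_conj {g k : G} (hg : ∀ r ∈ R, O.act g r ∈ R) (hk : k ∈ O.ZG R) : g * k * g⁻¹ ∈ O.ZG R := by
  refine ⟨fun v => ?_, fun v hv => ?_⟩
  · rw [act_mul, act_mul]
    have h1 := hg _ (hk.1 (O.act g⁻¹ v))
    rw [map_sub, act_act_inv] at h1
    exact h1
  · rw [act_mul, act_mul, hk.2, act_act_inv]
    intro r hr
    rw [O.B_act_right, inv_inv]
    exact hv _ (hg r hr)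

theorem E_mem_ZG (hO : O.OType) (hR : ∀ x ∈ R, O.N x = 0) {x y : V} (hx : x ∈ R) (hy : y ∈ R) : O.E x y ∈ O.ZG R := by
  have hxy := ts_B hO hR hx hy
  refine ⟨fun v => ?_, fun v hv => ?_⟩
  · rw [E_act hO (hR x hx) hxy]
    have h1 := R.sub_mem (R.smul_mem (O.B x v) hy) (R.smul_mem (O.N y * O.B x v + O.B y v) hx)
    convert h1 using 1
    module
  · rw [E_act hO (hR x hx) hxy, hv x hx, hv y hy]
    module

theorem cj_mono {y : PG} {K K' : Subgroup PG} (h : K ≤ K') : cj y K ≤ cj y K' := Subgroup.map_mono h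

theorem cj_mul (y z : PG) (K : Subgroup PG) : cj (y * z) K = cj y (cj z K) := by
  ext x
  rw [mem_cj, mem_cj, mem_cj]
  have : (y * z)⁻¹ * x * (y * z) = z⁻¹ * (y⁻¹ * x * y) * z := by group
  rw [this]

theorem cj_one (K : Subgroup PG) : cj 1 K = K := by
  ext x
  rw [mem_cj, inv_one, one_mul, mul_one]

theorem cj_inv_eq {y : PG} {K : Subgroup PG} (h : cj y K = K) : cj y⁻¹ K = K := by
  conv_lhs => rw [← h]
  rw [← cj_mul, inv_mul_cancel, cj_one]

theorem conj_mem_of_cj {y x : PG} {K : Subgroup PG} (h : cj y K = K) (hx : x ∈ K) : y * x * y⁻¹ ∈ K := by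
  rw [← h]
  exact ⟨x, hx, rfl⟩

/-- two subgroups normalizing each other and meeting trivially commute -/
theorem commute_of_inf_bot {K L : Subgroup PG} (h1 : ∀ y ∈ L, cj y K = K) (h2 : ∀ y ∈ K, cj y L = L) (h3 : K ⊓ L = ⊥)
    {k l : PG} (hk : k ∈ K) (hl : l ∈ L) : l * k = k * l := by
  have h4 : l * k * l⁻¹ * k⁻¹ ∈ K ⊓ L := by
    refine ⟨K.mul_mem (conj_mem_of_cj (h1 l hl) hk) (K.inv_mem hk), ?_⟩
    have h5 := L.mul_mem hl (conj_mem_of_cj (h2 k hk) (L.inv_mem hl))
    have h6 : l * k * l⁻¹ * k⁻¹ = l * (k * l⁻¹ * k⁻¹) := by group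
    rw [h6]; exact h5
  rw [h3, Subgroup.mem_bot] at h4
  have h5 : l * k * l⁻¹ * k⁻¹ * (k * l) = 1 * (k * l) := by rw [h4]
  rw [one_mul] at h5
  rw [← h5]; group

theorem exists_image_O [Finite V] [Finite G] (p : ℕ) [Fact p.Prime] [CharP F p] (hb : O.Big) (hO : O.OType) (h4 : O.Big4)
    (hs : O.SingW) (h : O.Hyp e f)
    (hNL : ∀ R : Submodule F V, (∀ x ∈ R, O.N x = 0) → (∀ u v, (∀ r ∈ R, O.B r u = 0) → (∀ r ∈ R, O.B r v = 0) → O.B u v = 0) →
      Nat.card (O.ZG R) ≠ Nat.card {w : V // O.InW e f w}) (α : MulAut PG) :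
    ∃ g : G, im α (O.Qs e) = O.Qs (O.act g e) := by
  have : Finite PG := Finite.of_surjective _ O.pr_surj
  obtain ⟨P, hP⟩ := (isPGroup_QG (O := O) p h.e0).exists_le_sylow
  have hPe : ∀ g ∈ (P : Subgroup G), O.act g e = e := fun g hg => fixes_e p hb h.ept P.2 hP hg
  let P1 : Sylow p PG := P.mapSurjective O.pr_surj
  have hP1 : (P1 : Subgroup PG) = (P : Subgroup G).map O.pr := Sylow.coe_mapSurjective _ _
  obtain ⟨y, hy⟩ := MulAction.exists_smul_eq PG P1 (α • P1)
  have hy' : cj y (P1 : Subgroup PG) = im α (P1 : Subgroup PG) := by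
    have h1 := congrArg (fun S : Sylow p PG => (S : Subgroup PG)) hy
    exact h1
  obtain ⟨g0, rfl⟩ := O.pr_surj y
  obtain ⟨α', hα'⟩ : ∃ α' : MulAut PG, α' = MulAut.conj (O.pr g0)⁻¹ * α := ⟨_, rfl⟩
  have himP : im α' (P1 : Subgroup PG) = P1 := by
    rw [hα', im_mul, ← hy', im_conj, ← cj_mul, inv_mul_cancel, cj_one]
  suffices hmain : im α' (O.Qs e) = O.Qs e by
    refine ⟨g0, ?_⟩
    have h1 : α = MulAut.conj (O.pr g0) * α' := by
      rw [hα', ← mul_assoc, ← map_mul, mul_inv_cancel, map_one, one_mul]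
    rw [h1, im_mul, hmain, im_conj, Qs_conj]
  clear_value P1
  have hQP : O.Qs e ≤ P1 := by
    rw [hP1, ← map_QG h.e0]
    exact Subgroup.map_mono hP
  have hlift : ∀ y ∈ (P1 : Subgroup PG), ∃ g ∈ (P : Subgroup G), O.pr g = y := by
    intro y hy
    rw [hP1] at hy
    exact hy
  obtain ⟨K, hK⟩ : ∃ K, K = im α' (O.Qs e) := ⟨_, rfl⟩
  rw [← hK]
  have hKP : K ≤ P1 := by
    rw [hK, ← himP]
    exact Subgroup.map_mono hQP
  have hPQ : ∀ y ∈ (P1 : Subgroup PG), cj y (O.Qs e) = O.Qs e := by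
    intro y hy
    obtain ⟨g, hg, rfl⟩ := hlift y hy
    exact (cj_Qs_iff hb h.ept g).mpr ⟨1, by rw [one_smul]; exact hPe g hg⟩
  have hPK : ∀ y ∈ (P1 : Subgroup PG), cj y K = K := by
    intro y hy
    rw [← himP] at hy
    obtain ⟨x, hx, rfl⟩ := hy
    rw [hK]
    change cj (α' x) (im α' (O.Qs e)) = _
    rw [← im_cj, hPQ x hx]
  have hcent : ∀ y, (∀ x ∈ K, y * x = x * y) → y ∈ K := by
    intro y hy
    obtain ⟨z, rfl⟩ := α'.surjective y
    rw [hK]
    refine ⟨z, cent_Qs hb hO h (fun x hx => ?_), rfl⟩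
    have h1 := hy (α' x) (by rw [hK]; exact ⟨x, hx, rfl⟩)
    rw [← map_mul, ← map_mul] at h1
    exact α'.injective h1
  have hmin : ∀ K1 : Subgroup PG, K1 ≤ K → (∀ y, cj y K = K → cj y K1 ≤ K1) → K1 ≠ ⊥ → K1 = K := by
    intro K1 hK1 hN hne
    have h1 : ∀ L : Subgroup PG, im α' (im α'⁻¹ L) = L := fun L => by rw [← im_mul, mul_inv_cancel, im_one]
    have h2 : im α'⁻¹ K1 = O.Qs e := by
      apply Qs_min hO h4 hs h
      · have h3 : im α'⁻¹ K1 ≤ im α'⁻¹ K := Subgroup.map_mono hK1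
        rw [hK, ← im_mul, inv_mul_cancel, im_one] at h3
        exact h3
      · intro g hg
        have h3 := (cj_Qs_iff hb h.ept g).mpr hg
        have h4 : cj (α' (O.pr g)) K = K := by rw [hK, ← im_cj, h3]
        have h5 := hN _ h4
        have h6 : im α'⁻¹ (cj (α' (O.pr g)) K1) ≤ im α'⁻¹ K1 := Subgroup.map_mono h5
        rw [im_cj] at h6
        have h7 : α'⁻¹ (α' (O.pr g)) = O.pr g := by rw [← MulAut.mul_apply, inv_mul_cancel, MulAut.one_apply]
        rwa [h7] at h6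
      · intro h0
        apply hne
        rw [← h1 K1, h0]
        exact Subgroup.map_bot _
    rw [← h1 K1, h2, hK]
  have hcard : Nat.card K = Nat.card (O.Qs e) := by
    rw [hK]
    exact (Nat.card_congr (Subgroup.equivMapOfInjective (O.Qs e) _ α'.injective).toEquiv).symm
  have hQne : O.Qs e ≠ ⊥ := by
    intro h0
    obtain ⟨y, hy, hy1⟩ := exists_Qs_ne_one hb h.ept
    rw [h0, Subgroup.mem_bot] at hy
    exact hy1 hy
  have hKne : K ≠ ⊥ := by
    intro h0
    rw [h0, Subgroup.card_bot] at hcard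
    exact hQne (Subgroup.card_eq_one.mp hcard.symm)
  -- fixed space of the lift of `K`
  let V0 : Submodule F V :=
    { carrier := {v | ∀ g ∈ (P : Subgroup G), O.pr g ∈ K → O.act g v = v}
      zero_mem' := fun g _ _ => map_zero _
      add_mem' := fun {a b} ha hb g hg hgK => by rw [map_add, ha g hg hgK, hb g hg hgK]
      smul_mem' := fun c v hv g hg hgK => by rw [map_smul, hv g hg hgK] }
  have hV0 : ∀ v, v ∈ V0 ↔ ∀ g ∈ (P : Subgroup G), O.pr g ∈ K → O.act g v = v := fun v => Iff.rfl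
  have heV : e ∈ V0 := fun g hg _ => hPe g hg
  have hNV : ∀ g, cj (O.pr g) K = K → ∀ v ∈ V0, O.act g v ∈ V0 := by
    intro g hg v hv k hk hkK
    have h1 : O.pr (g⁻¹ * k * g) ∈ K := by
      have h2 := conj_mem_of_cj (cj_inv_eq hg) hkK
      rw [map_mul, map_mul, map_inv]
      rwa [inv_inv] at h2
    obtain ⟨k', hk', hpk⟩ := hlift _ (hKP h1)
    have hk'v : O.act k' v = v := hv k' hk' (by rw [hpk]; exact h1)
    obtain ⟨c, hc⟩ := (O.pr_eq _ _).mp hpk.symm
    have hcn : ∀ n : ℕ, ∀ x, O.act ((g⁻¹ * k * g) ^ n) x = c ^ n • O.act (k' ^ n) x := by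
      intro n
      induction n with
      | zero => intro x; rw [pow_zero, pow_zero, pow_zero, one_smul]
      | succ n ih =>
        intro x
        rw [pow_succ, act_mul, hc, act_smul', ih, smul_smul, pow_succ k', act_mul, ← pow_succ']
    obtain ⟨a, ha⟩ := P.2 ⟨k, hk⟩
    obtain ⟨b, hb⟩ := P.2 ⟨k', hk'⟩
    have ha' : k ^ (p ^ a) = 1 := congrArg Subtype.val ha
    have hb' : k' ^ (p ^ b) = 1 := congrArg Subtype.val hb
    have hc1 : c ^ (p ^ (a + b)) = 1 := by
      have h2 := hcn (p ^ (a + b)) e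
      have h3 : (g⁻¹ * k * g) ^ (p ^ (a + b)) = 1 := by
        rw [pow_add, pow_mul]
        have h4 : (g⁻¹ * k * g) ^ (p ^ a) = 1 := by
          have h5 : g⁻¹ * k * g = g⁻¹ * k * (g⁻¹)⁻¹ := by rw [inv_inv]
          rw [h5, conj_pow, ha', mul_one, mul_inv_cancel]
        rw [h4, one_pow]
      have h4 : k' ^ (p ^ (a + b)) = 1 := by rw [add_comm, pow_add, pow_mul, hb', one_pow]
      rw [h3, h4, act_one] at h2
      have h5 : (1 - c ^ (p ^ (a + b))) • e = 0 := by rw [sub_smul, one_smul, sub_eq_zero]; exact h2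
      exact (sub_eq_zero.mp ((smul_eq_zero.mp h5).resolve_right h.ene)).symm
    have hc2 : c = 1 := by
      have h2 := sub_pow_char_pow (R := F) (p := p) c 1 (n := a + b)
      rw [hc1, one_pow, sub_self] at h2
      exact sub_eq_zero.mp (pow_eq_zero_iff (pow_ne_zero _ (Fact.out : p.Prime).ne_zero) |>.mp h2)
    have h2 := hc v
    rw [hc2, one_smul, hk'v, act_mul, act_mul] at h2
    have h3 := congrArg (O.act g) h2
    rw [act_act_inv] at h3
    exact h3
  let U : Submodule F V :=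
    { carrier := {v | ∀ u ∈ V0, O.B v u = 0}
      zero_mem' := fun u _ => O.bl_zero u
      add_mem' := fun {a b} ha hb u hu => by rw [O.bl_add, ha u hu, hb u hu, add_zero]
      smul_mem' := fun c v hv u hu => by rw [O.bl_smul, hv u hu, mul_zero] }
  have hNU : ∀ g, cj (O.pr g) K = K → ∀ v ∈ U, O.act g v ∈ U := by
    intro g hg v hv u hu
    rw [O.B_act_left]
    refine hv _ (hNV g⁻¹ ?_ u hu)
    rw [map_inv]
    exact cj_inv_eq hg
  have hPcj : ∀ g ∈ (P : Subgroup G), cj (O.pr g) K = K := by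
    intro g hg
    apply hPK
    rw [hP1]
    exact ⟨g, hg, rfl⟩
  have heU : e ∈ U := by
    obtain ⟨⟨y, hy⟩, hy1'⟩ := Subgroup.ne_bot_iff_exists_ne_one.mp hKne
    have hy1 : y ≠ 1 := fun h0 => hy1' (Subtype.ext h0)
    obtain ⟨k, hk, rfl⟩ := hlift y (hKP hy)
    obtain ⟨v, hv⟩ : ∃ v, O.act k v ≠ v := by
      by_contra hcon
      push Not at hcon
      apply hy1
      have : k = 1 := O.act_inj _ _ (fun x => by rw [hcon x, act_one])
      rw [this, map_one]
    have hvU : O.act k v - v ∈ U := by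
      intro u hu
      have hku : O.act k u = u := hu k hk hy
      rw [O.bl_sub, sub_eq_zero]
      conv_lhs => rw [← hku]
      rw [O.act_B]
    have hvn : (⟨_, hvU⟩ : U) ≠ 0 := fun h0 => hv (sub_eq_zero.mp (congrArg Subtype.val h0))
    letI : MulAction P U :=
      { smul := fun g x => ⟨O.act (g : G) x, hNU g (hPcj g g.2) x x.2⟩
        one_smul := fun x => Subtype.ext (act_one (x : V))
        mul_smul := fun g k x => by
          apply Subtype.ext
          change O.act ((g : G) * (k : G)) (x : V) = O.act (g : G) (O.act (k : G) (x : V))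
          exact act_mul _ _ _ }
    have h0 : (0 : U) ∈ MulAction.fixedPoints P U := fun g => Subtype.ext (map_zero (O.act (g : G)))
    obtain ⟨x, hx, hx0⟩ := P.2.exists_fixed_point_of_prime_dvd_card_of_fixed_point U (dvd_card (F := F) p hvn) h0
    obtain ⟨c, hc⟩ := fixed_mem hb h.ept (v := (x : V)) (fun g hg => congrArg Subtype.val (hx ⟨g, hP hg⟩))
    have hc0 : c ≠ 0 := by
      rintro rfl
      rw [zero_smul] at hc
      exact hx0 (Subtype.ext hc.symm)
    have h1 : e = c⁻¹ • (x : V) := by rw [hc, smul_smul, inv_mul_cancel₀ hc0, one_smul]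
    rw [h1]
    exact U.smul_mem _ x.2
  let R : Submodule F V :=
    { carrier := {v | v ∈ V0 ∧ v ∈ U ∧ O.N v = 0}
      zero_mem' := ⟨V0.zero_mem, U.zero_mem, O.N_zero⟩
      add_mem' := fun {a b} ha hb => ⟨V0.add_mem ha.1 hb.1, U.add_mem ha.2.1 hb.2.1, by
        rw [hO.add, ha.2.2, hb.2.2, ha.2.1 b hb.1]; ring⟩
      smul_mem' := fun c v hv => ⟨V0.smul_mem c hv.1, U.smul_mem c hv.2.1, O.N_smul_zero c hv.2.2⟩ }
  have hRs : ∀ x ∈ R, O.N x = 0 := fun x hx => hx.2.2
  have heR : e ∈ R := ⟨heV, heU, h.e0⟩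
  have hNR : ∀ g, cj (O.pr g) K = K → ∀ v ∈ R, O.act g v ∈ R := fun g hg v hv =>
    ⟨hNV g hg v hv.1, hNU g hg v hv.2.1, by rw [O.act_N]; exact hv.2.2⟩
  clear_value R
  by_cases hcase : ∃ x ∈ R, ¬ ∃ c : F, x = c • e
  · exfalso
    obtain ⟨x, hx, hxe⟩ := hcase
    obtain ⟨ZR, hZR⟩ : ∃ ZR, ZR = (O.ZG R).map O.pr := ⟨_, rfl⟩
    have hZp : IsPGroup p ZR := by rw [hZR]; exact (ZG_isPGroup hO p hRs).map _
    have hcjZ : ∀ y, cj y K = K → cj y ZR ≤ ZR := by
      intro y hy
      obtain ⟨g, rfl⟩ := O.pr_surj y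
      rintro _ ⟨z, hz, rfl⟩
      have hz' : z ∈ ZR := hz
      rw [hZR] at hz'
      obtain ⟨k, hk, rfl⟩ := hz'
      rw [hZR]
      exact ⟨_, ZG_conj (hNR g hy) hk, by rw [map_mul, map_mul, map_inv]; rfl⟩
    have hcjZ' : ∀ y, cj y K = K → cj y ZR = ZR := by
      intro y hy
      apply le_antisymm (hcjZ y hy)
      have h1 := cj_mono (y := y) (hcjZ y⁻¹ (cj_inv_eq hy))
      rwa [← cj_mul, mul_inv_cancel, cj_one] at h1
    have hZP : ZR ≤ P1 := by
      have h1 : IsPGroup p ((P1 : Subgroup PG) ⊔ ZR : Subgroup PG) := by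
        apply IsPGroup.to_sup_of_normal_right' P1.2 hZp
        intro y hy
        rw [Subgroup.mem_normalizer_iff]
        intro z
        have h2 := hcjZ' y (hPK y hy)
        constructor
        · exact conj_mem_of_cj h2
        · intro hz
          have h3 := conj_mem_of_cj (cj_inv_eq h2) hz
          have h4 : y⁻¹ * (y * z * y⁻¹) * y⁻¹⁻¹ = z := by group
          rwa [h4] at h3
      have h2 := P1.3 h1 le_sup_left
      exact le_sup_right.trans_eq h2
    have hZne : ZR ≠ ⊥ := by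
      intro h0
      have h1 : O.pr (O.E e x) ∈ ZR := by rw [hZR]; exact ⟨_, E_mem_ZG hO hRs heR hx, rfl⟩
      rw [h0, Subgroup.mem_bot] at h1
      have hok := ok_E hO h.e0 (ts_B hO hRs heR hx)
      exact hxe (X_one_mem hok h.ene (pr_X_eq_one hok h.ene h1))
    have hZcomm : ∀ a ∈ ZR, ∀ b ∈ ZR, a * b = b * a := by
      intro a ha b hb
      rw [hZR] at ha hb
      obtain ⟨a', ha', rfl⟩ := ha
      obtain ⟨b', hb', rfl⟩ := hb
      rw [← map_mul, ← map_mul, ZG_comm hO hRs ha' hb']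
    have hKZ : K ≤ ZR := by
      by_cases hbot : K ⊓ ZR = ⊥
      · exfalso
        apply hZne
        rw [eq_bot_iff, ← hbot]
        intro z hz
        refine ⟨hcent z (fun x hx => ?_), hz⟩
        exact commute_of_inf_bot (fun y hy => hPK y (hZP hy)) (fun y hy => hcjZ' y (hPK y (hKP hy))) hbot hx hz
      · have h1 := hmin (K ⊓ ZR) inf_le_left (by
          intro y hy z hz
          obtain ⟨w, hw, rfl⟩ := hz
          exact ⟨conj_mem_of_cj hy hw.1, conj_mem_of_cj (hcjZ' y hy) hw.2⟩) hbot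
        rw [← h1]
        exact inf_le_right
    have hZK : ZR ≤ K := fun z hz => hcent z (fun x hx => hZcomm z hz x (hKZ hx))
    have hKeq : K = ZR := le_antisymm hKZ hZK
    have hke : ∀ k ∈ O.ZG R, O.act k e = e := fun k hk => hk.2 e (fun r hr => ts_B hO hRs hr heR)
    have hB : ∀ u v, (∀ r ∈ R, O.B r u = 0) → (∀ r ∈ R, O.B r v = 0) → O.B u v = 0 := by
      intro u v hu hv
      have heu := hu e heR
      have h1 : O.pr (O.E e u) ∈ K := by
        apply hcent
        intro z hz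
        rw [hKeq, hZR] at hz
        obtain ⟨k, hk, rfl⟩ := hz
        rw [← map_mul, ← map_mul]
        congr 1
        have h2 := E_conj hO h.e0 heu k
        rw [hke k hk, hk.2 u hu, mul_inv_eq_iff_eq_mul] at h2
        exact h2.symm
      rw [hKeq, hZR] at h1
      obtain ⟨k, hk, hkE⟩ := h1
      have hEe : O.act (O.E e u) e = e := by
        rw [E_act hO h.e0 heu, h.ee, hO.sy e u, heu]; module
      have h2 := pr_inj_St h.ene (hke k hk) hEe hkE
      have h3 := hk.2 v hv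
      rw [h2, E_act hO h.e0 heu, hv e heR] at h3
      have h4 : O.B u v • e = 0 := by
        have h5 : v + (0 : F) • u - (O.N u * 0 + O.B u v) • e = v - O.B u v • e := by module
        rw [h5] at h3
        exact sub_eq_self.mp h3
      exact (smul_eq_zero.mp h4).resolve_right h.ene
    apply hNL R hRs hB
    rw [← card_Qs hO h, ← hcard, hKeq, hZR]
    refine Nat.card_congr (Equiv.ofBijective (fun k => ⟨O.pr k.1, ⟨k.1, k.2, rfl⟩⟩) ⟨?_, ?_⟩)
    · intro a b hab
      exact Subtype.ext (pr_inj_St h.ene (hke a a.2) (hke b b.2) (congrArg Subtype.val hab))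
    · rintro ⟨_, k, hk, rfl⟩
      exact ⟨⟨k, hk⟩, rfl⟩
  · push Not at hcase
    have hNQ : ∀ y, cj y K = K → cj y (O.Qs e) = O.Qs e := by
      intro y hy
      obtain ⟨g, rfl⟩ := O.pr_surj y
      exact (cj_Qs_iff hb h.ept g).mpr (hcase _ (hNR g hy e heR))
    have hle : K ≤ O.Qs e := by
      by_cases hbot : K ⊓ O.Qs e = ⊥
      · exfalso
        apply hQne
        rw [eq_bot_iff, ← hbot]
        intro z hz
        refine ⟨hcent z (fun x hx => ?_), hz⟩
        exact commute_of_inf_bot (fun y hy => hPK y (hQP hy)) (fun y hy => hPQ y (hKP hy)) hbot hx hz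
      · have h1 := hmin (K ⊓ O.Qs e) inf_le_left (by
          intro y hy z hz
          obtain ⟨w, hw, rfl⟩ := hz
          exact ⟨conj_mem_of_cj hy hw.1, conj_mem_of_cj (hNQ y hy) hw.2⟩) hbot
        rw [← h1]
        exact inf_le_right
    exact Subgroup.eq_of_le_of_card_ge hle (le_of_eq hcard.symm)

end Cfsg.Agent.H17.Pol
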