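import Mathlib
import Cfsg.Agent.H17.PolO3

set_option autoImplicit false

/-! Orthogonal type: all automorphisms are induced by semisimilarities. -/

namespace Cfsg.Agent.H17.Pol

variable {F V G PG : Type*} [Field F] [AddCommGroup V] [Module F V] [Group G] [Group PG]
  {O : Pol F V G PG} {e f : V}

theorem swap_e (hO : O.OType) (h : O.Hyp e f) {u v : V} (hu : O.InW e f u) (hv : O.InW e f v) :
    O.act (O.E e u * O.E f v * O.E e u) e = (1 - O.B u v + O.N u * O.N v) • e + (v - O.N v • u) - O.N v • f := by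
  have hfe : O.B f e = 1 := by rw [h.fe, hO.eps]
  have h1 : O.act (O.E e u) e = e := by
    rw [E_act hO h.e0 hu.1, h.ee, hu.we]; module
  have h2 : O.act (O.E f v) e = e + v - O.N v • f := by
    rw [E_act hO h.f0 hv.2, hfe, hv.we]; module
  have h3 : O.act (O.E e u) v = v - O.B u v • e := by
    rw [E_act hO h.e0 hu.1, hv.1]; module
  have h4 : O.act (O.E e u) f = f + u - O.N u • e := by
    rw [E_act hO h.e0 hu.1, h.ef, hu.wf]; module
  rw [act_mul, act_mul, h1, h2, map_sub, map_add, act_smul', h1, h3, h4]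
  module

theorem IsA.E_eq (hO : O.OType) (h : O.Hyp e f) {α : MulAut PG} {A : V → V} (hA : O.IsA e f α A) {w : V} (hw : O.InW e f w) :
    α (O.pr (O.E e w)) = O.pr (O.E e (A w)) := by
  obtain ⟨_, z', hok, he⟩ := hA w _ hw (ok_E hO h.e0 hw.1)
  rw [E, he, E]
  congr 2
  exact hO.z_eq hok

theorem jordan (hb : O.Big) (hO : O.OType) (h : O.Hyp e f) {α : MulAut PG} (hα : O.FP e f α) {A A' : V → V} (hA : O.IsA e f α A)
    (hA' : O.IsA f e α A') {w : V} (hw : O.InW e f w) (hN : O.N w ≠ 0) :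
    O.N (A w) ≠ 0 ∧ A' ((O.N w)⁻¹ • w) = (O.N (A w))⁻¹ • A w := by
  have hfe : O.B f e = 1 := by rw [h.fe, hO.eps]
  have hv : O.InW e f ((O.N w)⁻¹ • w) := hw.smul _
  have hn : O.act (O.E e w * O.E f ((O.N w)⁻¹ • w) * O.E e w) e = (-(O.N w)⁻¹) • f := by
    rw [swap_e hO h hw hv, O.br_smul, hO.self, hO.smul]
    have e1 : 1 - (O.N w)⁻¹ * (2 * O.N w) + O.N w * ((O.N w)⁻¹ * (O.N w)⁻¹ * O.N w) = 0 := by field_simp; ring
    have e2 : (O.N w)⁻¹ * (O.N w)⁻¹ * O.N w = (O.N w)⁻¹ := by field_simp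
    rw [e1, e2]
    module
  have h1 : cj (O.pr (O.E e w * O.E f ((O.N w)⁻¹ • w) * O.E e w)) (O.Qs e) = O.Qs f := by
    rw [Qs_conj, hn, Qs_smul _ (neg_ne_zero.mpr (inv_ne_zero hN))]
  have hu' : O.InW e f (A w) := hA.inW h hw
  have hv' : O.InW e f (A' ((O.N w)⁻¹ • w)) := (hA'.inW (h.swap' hO) hv.swap).swap
  obtain ⟨u, hu⟩ : ∃ u, u = A w := ⟨_, rfl⟩
  obtain ⟨v, hvd⟩ : ∃ v, v = A' ((O.N w)⁻¹ • w) := ⟨_, rfl⟩
  have h2 : α (O.pr (O.E e w * O.E f ((O.N w)⁻¹ • w) * O.E e w)) = O.pr (O.E e u * O.E f v * O.E e u) := by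
    rw [map_mul, map_mul, map_mul, map_mul, hA.E_eq hO h hw, hA'.E_eq hO (h.swap' hO) hv.swap, map_mul, map_mul, hu, hvd]
  have h3 := congrArg (im α) h1
  rw [im_cj, hα.qe, hα.qf, h2, Qs_conj] at h3
  rw [← hu, ← hvd]
  rw [← hu] at hu'
  rw [← hvd] at hv'
  obtain ⟨c, hc0, hc⟩ := Qs_inj hb (h.ept.act _) h.fpt h3
  rw [swap_e hO h hu' hv'] at hc
  have e1 := congrArg (fun x => O.B f x) hc
  have e2 := congrArg (fun x => O.B e x) hc
  simp only [O.br_smul, O.br_sub, O.br_add, hfe, h.ff, h.ef, h.ee, hv'.1, hv'.2, hu'.1, hu'.2] at e1 e2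
  have e3 : 1 - O.B u v + O.N u * O.N v = 0 := by
    have : c * (1 - O.B u v + O.N u * O.N v) = 0 := by linear_combination -e1
    exact (mul_eq_zero.mp this).resolve_left hc0
  have e4 : O.N v ≠ 0 := by
    intro h0
    rw [h0] at e2
    have : (1 : F) = 0 := by linear_combination e2
    exact one_ne_zero this
  have e5 : v = O.N v • u := by
    rw [e3] at hc
    have h6 : c • (v - O.N v • u) = f + (c * O.N v) • f := by
      have h60 : c • (v - O.N v • u) = (c • ((0 : F) • e + (v - O.N v • u) - O.N v • f)) + (c * O.N v) • f := by module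
      rw [h60, ← hc]
    have h7 : c * O.N v = -1 := by linear_combination e2
    rw [h7] at h6
    have h8 : c • (v - O.N v • u) = 0 := by rw [h6]; module
    exact sub_eq_zero.mp ((smul_eq_zero.mp h8).resolve_left hc0)
  have e6 : O.N v * O.N u = 1 := by
    have h7 : O.N v = O.N v * O.N v * O.N u := by
      conv_lhs => rw [e5]
      rw [hO.smul]
    apply mul_left_cancel₀ e4
    linear_combination -h7
  have e7 : O.N u ≠ 0 := by
    intro h0
    rw [h0, mul_zero] at e6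
    exact zero_ne_one e6
  refine ⟨e7, ?_⟩
  have e8 : (O.N u)⁻¹ = O.N v := inv_eq_of_mul_eq_one_left e6
  rw [e8]
  exact e5

theorem char_pow_one (p : ℕ) [Fact p.Prime] [CharP F p] {c : F} (h : c ^ p = 1) : c = 1 := by
  have h2 := sub_pow_char (R := F) (p := p) c 1
  rw [h, one_pow, sub_self] at h2
  exact sub_eq_zero.mp ((pow_eq_zero_iff (Fact.out : p.Prime).ne_zero).mp h2)

theorem inL_E (hO : O.OType) {e' w' : V} (he' : O.InW e f e') (hw' : O.InW e f w') (hn' : O.N e' = 0) (hew' : O.B e' w' = 0) :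
    O.InL e f (O.E e' w') 1 := by
  refine ⟨?_, 1, ?_⟩
  · rw [E_act hO hn' hew', hO.sy e, he'.1, hO.sy e w', hw'.1]; module
  · rw [E_act hO hn' hew', hO.sy f, he'.2, hO.sy f w', hw'.2]; module

theorem exists_mu (p : ℕ) [Fact p.Prime] [CharP F p] (hb : O.Big) (hO : O.OType) (h4 : O.Big4) (hs : O.SingW) (h : O.Hyp e f)
    {α : MulAut PG} (hα : O.FP e f α) {A A' : V → V} (hA : O.IsA e f α A)
    (hA' : O.IsA f e α A') : ∃ a : F, ∀ w, O.InW e f w → A' w = A (a • w) := by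
  have h' := h.swap' hO
  obtain ⟨B0, hB0⟩ := exists_A h hα.inv
  have hB : O.IsA e f α⁻¹ B0 := hB0
  have hC := comm_scalar hO h4 hs h (fun w => B0 (A' w)) (fun w hw => hB.inW h (hA'.inW h' hw.swap).swap)
    (fun w w' hw hw' => by
      change B0 (A' (w + w')) = B0 (A' w) + B0 (A' w')
      rw [hA'.add h' hw.swap hw'.swap, hB.add h (hA'.inW h' hw.swap).swap (hA'.inW h' hw'.swap).swap])
    (fun e' w' he' hw' hn' hew' x hx => by
      change B0 (A' (O.act (O.E e' w') x)) = O.act (O.E e' w') (B0 (A' x))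
      have hg := inL_E hO he' hw' hn' hew'
      have hgf := inL_E hO he'.swap hw'.swap hn' hew'
      obtain ⟨g', l, hg', hpr⟩ := exists_L hb h hα hg
      have hl := hg'.l_ne h
      have hm : O.act g' f = (O.τ l)⁻¹ • f := hg'.m_eq h
      rw [hO.tau] at hm
      have hgf' : O.InL f e g' l⁻¹ := ⟨hm, l, hg'.1⟩
      -- `l² = 1`
      have hl2 : l⁻¹ = l := by
        have e1 : O.pr (g' ^ p) = O.pr 1 := by
          rw [map_pow, ← hpr, ← map_pow, ← map_pow, E_pow_p hO p hn' hew', map_one, map_one]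
        obtain ⟨c, hc⟩ := (O.pr_eq _ _).mp e1
        have e2 : ∀ n : ℕ, O.act (g' ^ n) e = l ^ n • e := by
          intro n
          induction n with
          | zero => rw [pow_zero, pow_zero, act_one, one_smul]
          | succ n ih => rw [pow_succ', act_mul, ih, act_smul', hg'.1, smul_smul, ← pow_succ]
        have e3 : ∀ n : ℕ, O.act (g' ^ n) f = l⁻¹ ^ n • f := by
          intro n
          induction n with
          | zero => rw [pow_zero, pow_zero, act_one, one_smul]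
          | succ n ih => rw [pow_succ', act_mul, ih, act_smul', hm, smul_smul, ← pow_succ]
        have c1 := hc e
        have c2 := hc f
        rw [e2, act_one] at c1
        rw [e3, act_one] at c2
        have c3 : l ^ p = c := by
          have : (l ^ p - c) • e = 0 := by rw [sub_smul, sub_eq_zero]; exact c1
          exact sub_eq_zero.mp ((smul_eq_zero.mp this).resolve_right h.ene)
        have c4 : l⁻¹ ^ p = c := by
          have : (l⁻¹ ^ p - c) • f = 0 := by rw [sub_smul, sub_eq_zero]; exact c2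
          exact sub_eq_zero.mp ((smul_eq_zero.mp this).resolve_right h.fne)
        have c5 : (l * l) ^ p = 1 := by
          calc (l * l) ^ p = l ^ p * l ^ p := mul_pow _ _ _
            _ = l⁻¹ ^ p * l ^ p := by rw [c3, c4]
            _ = 1 := by rw [← mul_pow, inv_mul_cancel₀ hl, one_pow]
        exact inv_eq_of_mul_eq_one_left (char_pow_one p c5)
      have r1 := hA'.L h' hgf hgf' hpr hx.swap
      rw [map_one, one_smul, hO.tau, hl2] at r1
      have hpr' : α⁻¹ (O.pr g') = O.pr (O.E e' w') := by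
        rw [← hpr, ← MulAut.mul_apply, inv_mul_cancel, MulAut.one_apply]
      have r2 := hB.L h hg' hg hpr' (hA'.inW h' hx.swap).swap
      rw [map_one, one_smul, hO.tau] at r2
      rw [r1, r2])
  obtain ⟨a, ha⟩ := hC
  refine ⟨a, fun w hw => ?_⟩
  rw [← ha w hw]
  exact (hA.inv_right h hB (hA'.inW h' hw.swap).swap).symm

theorem comm_O (hO : O.OType) (h4 : O.Big4) (hs : O.SingW) (h : O.Hyp e f) : O.Comm e f := by
  intro c hcW hadd hL
  apply comm_scalar hO h4 hs h c hcW hadd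
  intro e' w' he' hw' hn' hew' x hx
  have := hL _ _ (inL_E hO he' hw' hn' hew') x hx
  rwa [map_one, one_smul, one_smul] at this

theorem exists_nonsing (hO : O.OType) (hs : O.SingW) (h : O.Hyp e f) : ∃ w, O.InW e f w ∧ O.N w ≠ 0 := by
  obtain ⟨e1, f1, h1, he1, hf1⟩ := hs e f h
  refine ⟨e1 + f1, he1.add hf1, ?_⟩
  rw [hO.add, h1.e0, h1.f0, h1.ef]
  simp

theorem exists_kappa_O [Finite F] (p : ℕ) [Fact p.Prime] [CharP F p] (hb : O.Big) (hO : O.OType) (h4 : O.Big4) (hs : O.SingW) (h : O.Hyp e f)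
    {α : MulAut PG} (hα : O.FP e f α) {A : V → V} (hA : O.IsA e f α A) :
    ∃ (σ : F ≃+* F) (κ : F), κ ≠ 0 ∧ (∀ (a : F) (w : V), O.InW e f w → A (a • w) = σ a • A w) ∧
      ∀ w, O.InW e f w → O.N (A w) = κ * σ (O.N w) := by
  have h' := h.swap' hO
  obtain ⟨w1, hw1, hw1n⟩ := exists_nonsing hO hs h
  have hw10 : w1 ≠ 0 := by
    rintro rfl
    exact hw1n O.N_zero
  obtain ⟨σ, hσ⟩ := exists_sigma hb h (comm_O hO h4 hs h) hw1 hw10 hα hA
  obtain ⟨A', hA'0⟩ := exists_A h' (hα.swap hO h)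
  have hA' : O.IsA f e α A' := hA'0
  obtain ⟨a, ha⟩ := exists_mu p hb hO h4 hs h hα hA hA'
  have key : ∀ w, O.InW e f w → O.N w ≠ 0 → O.N (A w) ≠ 0 ∧ σ a * O.N (A w) = σ (O.N w) := by
    intro w hw hN
    obtain ⟨j1, j2⟩ := jordan hb hO h hα hA hA' hw hN
    refine ⟨j1, ?_⟩
    rw [ha _ (hw.smul _), smul_smul, hσ _ _ hw] at j2
    have hAn : A w ≠ 0 := by
      intro h0
      rw [h0] at j1
      exact j1 O.N_zero
    have h5 : (σ (a * (O.N w)⁻¹) - (O.N (A w))⁻¹) • A w = 0 := by rw [sub_smul, sub_eq_zero]; exact j2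
    have h6 := sub_eq_zero.mp ((smul_eq_zero.mp h5).resolve_right hAn)
    rw [map_mul, map_inv₀] at h6
    have h7 : σ (O.N w) ≠ 0 := fun h0 => hN ((map_eq_zero σ).mp h0)
    field_simp at h6
    linear_combination h6
  have ha0 : σ a ≠ 0 := by
    intro h0
    have h5 := (key w1 hw1 hw1n).2
    rw [h0, zero_mul] at h5
    exact hw1n ((map_eq_zero σ).mp h5.symm)
  refine ⟨σ, (σ a)⁻¹, inv_ne_zero ha0, hσ, ?_⟩
  intro w hw
  by_cases hN : O.N w = 0
  · rw [hN, map_zero, mul_zero]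
    by_contra hN2
    obtain ⟨B0, hB0⟩ := exists_A h hα.inv
    have hB : O.IsA e f α⁻¹ B0 := hB0
    obtain ⟨B1, hB10⟩ := exists_A h' (hα.inv.swap hO h)
    have hB' : O.IsA f e α⁻¹ B1 := hB10
    have h5 := (jordan hb hO h hα.inv hB hB' (hA.inW h hw) hN2).1
    rw [hA.inv_left h hB hw] at h5
    exact h5 hN
  · rw [← (key w hw hN).2, ← mul_assoc, inv_mul_cancel₀ ha0, one_mul]

theorem exists_semisim_O [Finite V] (hO : O.OType) (h : O.Hyp e f) {A : V → V} {σ : F ≃+* F} {κ : F}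
    (hAW : ∀ w, O.InW e f w → O.InW e f (A w))
    (hAadd : ∀ w w', O.InW e f w → O.InW e f w' → A (w + w') = A w + A w')
    (hσ : ∀ (a : F) (w : V), O.InW e f w → A (a • w) = σ a • A w)
    (hκ : κ ≠ 0) (hN : ∀ w, O.InW e f w → O.N (A w) = κ * σ (O.N w)) :
    ∃ S : SemiSim O, S.σ = σ ∧ S.κ = κ ∧ S.T e = κ • e ∧ S.T f = f ∧ ∀ w, O.InW e f w → S.T w = A w := by
  obtain ⟨T, hT⟩ : ∃ T : V → V, ∀ x, T x = (κ * σ (O.B f x)) • e + σ (O.B e x) • f + A (O.wc e f x) :=
    ⟨_, fun x => rfl⟩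
  have hA0 : A 0 = 0 := by
    have := hσ 0 0 InW.zero
    rwa [zero_smul, map_zero, zero_smul] at this
  have hTadd : ∀ x y, T (x + y) = T x + T y := by
    intro x y
    rw [hT, hT, hT, wc_add, hAadd _ _ (wc_inW h x) (wc_inW h y), O.br_add, O.br_add, map_add, map_add, mul_add]
    module
  have hTN : ∀ x, O.N (T x) = κ * σ (O.N x) := by
    intro x
    have hx := hAW _ (wc_inW h x)
    rw [N_wc h x, hT, hO.add, hO.add, hO.smul, hO.smul, h.e0, h.f0, hN _ (wc_inW h x), O.br_smul, hO.bl, h.ef, O.bl_add,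
      hO.bl, hO.bl, hx.1, hx.2, hO.tt, hO.tau, hO.eps, map_add, map_mul]
    rw [one_mul]
    ring
  have hTB : ∀ x y, O.B (T x) (T y) = κ * σ (O.B x y) := by
    intro x y
    have h1 := hTN (x + y)
    rw [hTadd, hO.add, hO.add, hTN, hTN, map_add, map_add] at h1
    linear_combination h1
  have hTinj : Function.Injective T := by
    intro x y hxy
    rw [← sub_eq_zero]
    apply O.nd
    intro z
    have h1 : κ * σ (O.B x z) = κ * σ (O.B y z) := by rw [← hTB, ← hTB, hxy]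
    have h2 := σ.injective (mul_left_cancel₀ hκ h1)
    rw [O.bl_sub, h2, sub_self]
  refine ⟨⟨σ, κ, T, hκ, hO.tau κ, hTadd, ?_, hTB, hTN, ?_, Finite.surjective_of_injective hTinj⟩, rfl, rfl, ?_, ?_, ?_⟩
  · intro a x
    rw [hT, hT, wc_smul, hσ _ _ (wc_inW h x), O.br_smul, O.br_smul, map_mul, map_mul]
    module
  · intro b
    rw [hO.tt, hO.tt]
  · change T e = κ • e
    rw [hT, wc_e h, hA0, h.fe, h.ee, hO.eps, map_one, map_zero]
    module
  · change T f = f
    rw [hT, wc_f h, hA0, h.ff, h.ef, map_one, map_zero]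
    module
  · intro w hw
    change T w = A w
    rw [hT, wc_of_inW h hw, hw.1, hw.2, map_zero]
    module

theorem exists_induced_O [Finite V] [Finite F] (p : ℕ) [Fact p.Prime] [CharP F p] (hb : O.Big) (hO : O.OType) (h4 : O.Big4)
    (hs : O.SingW) (h : O.Hyp e f) (hI : Ind O)
    (hgen : Subgroup.closure ((O.Qs e : Set PG) ∪ (O.Qs f : Set PG)) = ⊤)
    {α : MulAut PG} (hα : O.FP e f α) : ∃ S : SemiSim O, Induced S α := by
  have h' := h.swap' hO
  obtain ⟨A, hA0⟩ := exists_A h hα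
  have hA : O.IsA e f α A := hA0
  obtain ⟨σ, κ, hκ, hσ, hN⟩ := exists_kappa_O p hb hO h4 hs h hα hA
  obtain ⟨S, hS1, hS2, hS3, hS4, hS5⟩ := exists_semisim_O hO h (fun w hw => hA.inW h hw)
    (fun w w' hw hw' => hA.add h hw hw') hσ hκ hN
  obtain ⟨γ, hγ⟩ := hI S
  refine ⟨S, ?_⟩
  have hγFP : O.FP e f γ := hγ.FP h hκ one_ne_zero hS3 (by rw [hS4, one_smul])
  have hSe : S.κ⁻¹ • S.T e = e := by rw [hS3, hS2, smul_smul, inv_mul_cancel₀ hκ, one_smul]
  have hγX : ∀ w z, O.InW e f w → O.Ok e w z → O.Ok e (A w) (κ * σ z) ∧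
      γ (O.pr (O.X e w z)) = O.pr (O.X e (A w) (κ * σ z)) := by
    intro w z hw hok
    have h1 := S.ok hok
    have h2 := hγ.X hok
    rw [hSe, hS5 w hw, hS1, hS2] at h1 h2
    exact ⟨h1, h2⟩
  have hγA : O.IsA e f γ A := fun w z hw hok => ⟨hA.inW h hw, _, (hγX w z hw hok).1, (hγX w z hw hok).2⟩
  have hβ : O.FP e f (γ⁻¹ * α) := hγFP.inv.mul hα
  obtain ⟨A', hA'0⟩ := exists_A h hγFP.inv
  have hA' : O.IsA e f γ⁻¹ A' := hA'0
  have hβA' := hA'.mul hA
  have hβA : O.IsA e f (γ⁻¹ * α) id := by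
    intro w z hw hok
    obtain ⟨u1, z', u2, u3⟩ := hβA' w z hw hok
    have h4 : (A' ∘ A) w = w := hγA.inv_left h hA' hw
    rw [h4] at u1 u2 u3
    exact ⟨u1, z', u2, u3⟩
  have hβ1 : γ⁻¹ * α = 1 := by
    obtain ⟨β, hβd⟩ : ∃ β, β = γ⁻¹ * α := ⟨_, rfl⟩
    rw [← hβd] at hβ hβA ⊢
    obtain ⟨B', hB'0⟩ := exists_A h' (hβ.swap hO h)
    have hB' : O.IsA f e β B' := hB'0
    obtain ⟨a, ha⟩ := exists_mu p hb hO h4 hs h hβ hβA hB'
    obtain ⟨w1, hw1, hw1n⟩ := exists_nonsing hO hs h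
    have ha1 : a = 1 := by
      have j := (jordan hb hO h hβ hβA hB' hw1 hw1n).2
      rw [ha _ (hw1.smul _), smul_smul] at j
      change (a * (O.N w1)⁻¹) • w1 = (O.N w1)⁻¹ • w1 at j
      have hw10 : w1 ≠ 0 := by
        rintro rfl
        exact hw1n O.N_zero
      have h5 : (a * (O.N w1)⁻¹ - (O.N w1)⁻¹) • w1 = 0 := by rw [sub_smul, sub_eq_zero]; exact j
      have h6 := (smul_eq_zero.mp h5).resolve_right hw10
      have h7 : (a - 1) * (O.N w1)⁻¹ = 0 := by rw [← h6]; ring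
      exact sub_eq_zero.mp ((mul_eq_zero.mp h7).resolve_right (inv_ne_zero hw1n))
    have hfe : ∀ y ∈ O.Qs e, β y = y := by
      intro y hy
      obtain ⟨w, hw, rfl⟩ := Qs_rep' hO h hy
      exact hβA.E_eq hO h hw
    have hff : ∀ y ∈ O.Qs f, β y = y := by
      intro y hy
      obtain ⟨w, hw, rfl⟩ := Qs_rep' hO h' hy
      rw [hB'.E_eq hO h' hw, ha w hw.swap, ha1, one_smul]
      rfl
    have hle : Subgroup.closure ((O.Qs e : Set PG) ∪ (O.Qs f : Set PG)) ≤
        MonoidHom.eqLocus (β : PG ≃* PG).toMonoidHom (MonoidHom.id PG) := by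
      rw [Subgroup.closure_le]
      rintro y (hy | hy)
      · exact hfe y hy
      · exact hff y hy
    rw [hgen] at hle
    ext y
    exact hle (Subgroup.mem_top y)
  have : α = γ := by
    rw [inv_mul_eq_one] at hβ1
    exact hβ1.symm
  rw [this]
  exact hγ

/-- hypotheses checked in each orthogonal instance -/
structure GoodO (O : Pol F V G PG) : Prop where
  big : O.Big
  ot : O.OType
  big4 : O.Big4
  singW : O.SingW
  nl : ∀ e f, O.Hyp e f → ∀ R : Submodule F V, (∀ x ∈ R, O.N x = 0) →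
    (∀ u v, (∀ r ∈ R, O.B r u = 0) → (∀ r ∈ R, O.B r v = 0) → O.B u v = 0) →
      Nat.card (O.ZG R) ≠ Nat.card {w : V // O.InW e f w}
  gen : ∀ e f, O.Hyp e f → Subgroup.closure ((O.Qs e : Set PG) ∪ (O.Qs f : Set PG)) = ⊤
  ind : Ind O

theorem all_induced_O [Finite V] [Finite G] [Finite F] (p : ℕ) [Fact p.Prime] [CharP F p] (hO : O.GoodO) (h : O.Hyp e f)
    (α : MulAut PG) : ∃ S : SemiSim O, Induced S α := by
  obtain ⟨g1, hQ1⟩ := exists_image_O p hO.big hO.ot hO.big4 hO.singW h (hO.nl e f h) α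
  obtain ⟨g2, hQ2⟩ := exists_image_O p hO.big hO.ot hO.big4 hO.singW (h.swap' hO.ot) (hO.nl f e (h.swap' hO.ot)) α
  have hpt1 : O.Pt (O.act g1 e) := h.ept.act g1
  have hpt2 : O.Pt (O.act g2 f) := h.fpt.act g2
  have hne : O.B (O.act g1 e) (O.act g2 f) ≠ 0 := by
    intro h0
    obtain ⟨y, hy, hy1, hyf⟩ := (perp_iff hO.big hpt1 hpt2).mp h0
    rw [← hQ1] at hy
    rw [← hQ2] at hyf
    obtain ⟨x, hx, rfl⟩ := hy
    have h1 : O.B e f = 0 := by
      rw [perp_iff hO.big h.ept h.fpt]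
      refine ⟨x, hx, ?_, ?_⟩
      · rintro rfl
        exact hy1 (map_one _)
      · have h2 : im α (cj x (O.Qs f)) = im α (O.Qs f) := by
          rw [im_cj]; exact hyf
        have h3 : im α⁻¹ (im α (cj x (O.Qs f))) = im α⁻¹ (im α (O.Qs f)) := by rw [h2]
        have h4 : ∀ L : Subgroup PG, im α⁻¹ (im α L) = L := by
          intro L
          rw [← im_mul, inv_mul_cancel, im_one]
        rwa [h4, h4] at h3
    rw [h.ef] at h1
    exact one_ne_zero h1
  obtain ⟨g, a, b, ha, hb, hga, hgb⟩ := O.trans _ _ _ _ hpt1.sing hpt2.sing hne h.e0 h.f0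
    (by rw [h.ef]; exact one_ne_zero)
  have hFP : O.FP e f (MulAut.conj (O.pr g) * α) := by
    apply fp_of hO.ot h
    · rw [im_mul, hQ1, im_conj, Qs_conj, hga, Qs_smul _ ha]
    · rw [im_mul, hQ2, im_conj, Qs_conj, hgb, Qs_smul _ hb]
  obtain ⟨S, hS⟩ := exists_induced_O p hO.big hO.ot hO.big4 hO.singW h hO.ind (hO.gen e f h) hFP
  refine ⟨S.comp g⁻¹, ?_⟩
  intro k k' hk
  have h1 : ∀ x, O.act (g * k' * g⁻¹) (S.T x) = S.T (O.act k x) := by
    intro x
    have h2 : O.act k' (O.act g⁻¹ (S.T x)) = O.act g⁻¹ (S.T (O.act k x)) := hk x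
    rw [act_mul, act_mul, h2, act_act_inv]
  have h3 := hS _ _ h1
  rw [MulAut.mul_apply, MulAut.conj_apply, map_mul, map_mul, map_inv] at h3
  have h4 : O.pr g * α (O.pr k) * (O.pr g)⁻¹ = O.pr g * O.pr k' * (O.pr g)⁻¹ := h3
  exact mul_left_cancel (mul_right_cancel h4)

end Cfsg.Agent.H17.Pol
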