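import Mathlib
import Cfsg.Agent.H17.PolO4
import Cfsg.Agent.H5.OmegaSimple
import Cfsg.Agent.H5.OmegaQuot

set_option autoImplicit false

/-! The orthogonal instance of the abstract classical group framework. -/

namespace Cfsg.Agent.H17

open Cfsg Cfsg.Agent.H5
open scoped LinearAlgebra.Projectivization

variable {F V : Type*} [Field F] [Finite F] [AddCommGroup V] [Module F V] [FiniteDimensional F V]
  {Q : QuadraticForm F V}

/-- action on vectors -/
def actO (Q : QuadraticForm F V) : EG Q →* (V →ₗ[F] V) where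
  toFun g := g.1.1.toLinearMap
  map_one' := rfl
  map_mul' g h := rfl

omit [Finite F] [FiniteDimensional F V] in
theorem actO_apply (g : EG Q) (x : V) : actO Q g x = g.1 x := rfl

theorem exists_eg_point (hnd : ND Q) (hn : 5 ≤ Module.finrank F V) {u v : V} (hu : Q u = 0) (hu0 : u ≠ 0)
    (hv : Q v = 0) (hv0 : v ≠ 0) : ∃ (g : EG Q) (a : F), a ≠ 0 ∧ g.1 u = a • v := by
  haveI := (eg_isPreprimitive hnd hn).toIsPretransitive
  obtain ⟨g, hg⟩ := MulAction.exists_smul_eq (EG Q) (⟨Projectivization.mk F u hu0, (sing_mk_iff hu0).mpr hu⟩ : singSub Q)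
    ⟨Projectivization.mk F v hv0, (sing_mk_iff hv0).mpr hv⟩
  have h1 : g • (Projectivization.mk F u hu0) = Projectivization.mk F v hv0 := congrArg Subtype.val hg
  rw [eg_smul_mk, Projectivization.mk_eq_mk_iff'] at h1
  obtain ⟨a, ha⟩ := h1
  refine ⟨g, a, ?_, ha.symm⟩
  rintro rfl
  rw [zero_smul] at ha
  exact og_ne_zero g.1 hu0 ha.symm

theorem exists_eg_pair (hnd : ND Q) (hn : 5 ≤ Module.finrank F V) {e f e' f' : V} (he : Q e = 0) (hf : Q f = 0)
    (hef : pB Q e f ≠ 0) (he' : Q e' = 0) (hf' : Q f' = 0) (hef' : pB Q e' f' ≠ 0) :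
    ∃ (g : EG Q) (a b : F), a ≠ 0 ∧ b ≠ 0 ∧ g.1 e = a • e' ∧ g.1 f = b • f' := by
  have he0 : e ≠ 0 := by
    rintro rfl
    exact hef (by rw [map_zero]; rfl)
  have he'0 : e' ≠ 0 := by
    rintro rfl
    exact hef' (by rw [map_zero]; rfl)
  obtain ⟨g1, a, ha, h1⟩ := exists_eg_point hnd hn he he0 he' he'0
  have h2 : pB Q e' (g1.1 f) ≠ 0 := by
    intro h0
    apply hef
    rw [← og_p g1.1 e f, h1, pl_smul, h0, mul_zero]
  obtain ⟨x, hx⟩ : ∃ x, x = (pB Q e' (g1.1 f))⁻¹ • g1.1 f := ⟨_, rfl⟩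
  obtain ⟨y, hy⟩ : ∃ y, y = (pB Q e' f')⁻¹ • f' := ⟨_, rfl⟩
  have hQx : Q x = 0 := by rw [hx, q_smul, og_q, hf, mul_zero]
  have hQy : Q y = 0 := by rw [hy, q_smul, hf', mul_zero]
  have hpx : pB Q e' x = 1 := by rw [hx, pr_smul, inv_mul_cancel₀ h2]
  have hpy : pB Q e' y = 1 := by rw [hy, pr_smul, inv_mul_cancel₀ hef']
  have h : pB Q e' (y - x) = 0 := by rw [pr_sub, hpx, hpy, sub_self]
  refine ⟨⟨eich he' h, eg_mem _ _⟩ * g1, a, pB Q e' (g1.1 f) * (pB Q e' f')⁻¹, ha,
    mul_ne_zero h2 (inv_ne_zero hef'), ?_, ?_⟩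
  · show eich he' h (g1.1 e) = _
    rw [h1, og_smul, eich_fix_self]
  · show eich he' h (g1.1 f) = _
    have h3 : g1.1 f = (pB Q e' (g1.1 f)) • x := by
      rw [hx, smul_smul, mul_inv_cancel₀ h2, one_smul]
    conv_lhs => rw [h3]
    rw [og_smul, eich_move he' hQx hQy hpx hpy h, hy, smul_smul]

theorem pr_eq_O (hnd : ND Q) (hn : 5 ≤ Module.finrank F V) (g h : EG Q) :
    (QuotientGroup.mk' (Subgroup.center (EG Q)) g = QuotientGroup.mk' (Subgroup.center (EG Q)) h) ↔
      ∃ c : F, ∀ x, g.1 x = c • h.1 x := by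
  constructor
  · intro h1
    have h2 : h⁻¹ * g ∈ Subgroup.center (EG Q) := QuotientGroup.eq.mp h1.symm
    obtain ⟨c, _, hc⟩ := (eg_center hnd hn _).mp h2
    refine ⟨c, fun x => ?_⟩
    have h3 : (h⁻¹ * g).1 x = c • x := hc x
    rw [← og_smul, ← h3]
    show g.1 x = h.1 ((h.1⁻¹ * g.1 : OG Q) x)
    rw [og_mul, og_inv']
  · rintro ⟨c, hc⟩
    have h2 : h⁻¹ * g ∈ Subgroup.center (EG Q) := by
      rw [Subgroup.mem_center_iff]
      intro k
      apply Subtype.ext
      apply og_ext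
      intro x
      have h3 : ∀ y, (h⁻¹ * g).1 y = c • y := by
        intro y
        show (h.1⁻¹ * g.1 : OG Q) y = _
        rw [og_mul, hc, og_smul, og_inv]
      show k.1 ((h⁻¹ * g).1 x) = (h⁻¹ * g).1 (k.1 x)
      rw [h3, h3, og_smul]
    exact (QuotientGroup.eq.mpr h2).symm

/-- the orthogonal geometry -/
noncomputable def pomPol (Q : QuadraticForm F V) (hnd : ND Q) (hn : 5 ≤ Module.finrank F V) :
    Pol F V (EG Q) (EG Q ⧸ Subgroup.center (EG Q)) where
  τ := RingHom.id F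
  B := pB Q
  N := Q
  t := AddMonoidHom.id F
  ε := 1
  act := actO Q
  pr := QuotientGroup.mk' _
  ττ := fun _ => rfl
  hε := Or.inl rfl
  symm x y := by rw [one_mul]; exact pB_symm Q y x
  nd := hnd
  N_add x y := q_add Q x y
  N_smul a x := q_smul Q a x
  N_self x h := by rw [pB_self, h, mul_zero]
  t_norm a b := rfl
  t_symm a := by simp
  exz w := ⟨-(Q w), by simp⟩
  act_inj g h hgh := Subtype.ext (og_ext hgh)
  act_B g x y := og_p g.1 x y
  act_N g x := og_q g.1 x
  pr_surj := QuotientGroup.mk'_surjective _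
  pr_eq g h := pr_eq_O hnd hn g h
  exX e w z he hew hz := by
    have hz' : Q w + 1 * z = 0 := hz
    refine ⟨⟨eich he hew, eg_mem _ _⟩, fun x => ?_⟩
    show eich he hew x = _
    rw [eich_apply]
    have : z = -(Q w) := by linear_combination hz'
    rw [this]
    module
  trans e f e' f' he hf hef he' hf' hef' := exists_eg_pair hnd hn he hf hef he' hf' hef'

variable {hnd : ND Q} {hn : 5 ≤ Module.finrank F V}

theorem ot_O : (pomPol Q hnd hn).OType := ⟨rfl, fun _ => rfl, fun _ => rfl⟩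

theorem big_O : (pomPol Q hnd hn).Big := by
  intro e he
  by_contra hcon
  push Not at hcon
  have h1 : LinearMap.ker (pB Q e) ≤ Submodule.span F {e} := by
    intro w hw
    obtain ⟨c, hc⟩ := hcon w hw
    rw [Submodule.mem_span_singleton]
    exact ⟨c, hc.symm⟩
  have h2 := Submodule.finrank_mono h1
  have h3 : Module.finrank F (Submodule.span F {e}) ≤ 1 := by
    have := finrank_span_le_card (R := F) ({e} : Set V)
    simpa using this
  have h4 := LinearMap.finrank_range_add_finrank_ker (pB Q e)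
  have h5 : Module.finrank F (LinearMap.range (pB Q e)) ≤ 1 := by
    have := Submodule.finrank_le (LinearMap.range (pB Q e))
    rwa [Module.finrank_self] at this
  omega

theorem big4_O : (pomPol Q hnd hn).Big4 := by
  intro e f e' f' h h' he' hf'
  have h1 := finrank_oc hnd (Submodule.span F {e, f, e', f'})
  have h2 : Module.finrank F (Submodule.span F {e, f, e', f'}) ≤ 4 := by
    classical
    have := finrank_span_finset_le_card (R := F) ({e, f, e', f'} : Finset V)
    have h3 : ({e, f, e', f'} : Finset V).card ≤ 4 := Finset.card_le_four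
    have h4 : (({e, f, e', f'} : Finset V) : Set V) = {e, f, e', f'} := by simp
    rw [h4] at this
    exact this.trans h3
  have h3 : oc Q (Submodule.span F {e, f, e', f'}) ≠ ⊥ := by
    intro h0
    rw [h0, finrank_bot] at h1
    omega
  obtain ⟨x, hx, hx0⟩ := Submodule.exists_mem_ne_zero_of_ne_bot h3
  refine ⟨x, hx0, ⟨?_, ?_⟩, ⟨?_, ?_⟩⟩ <;>
  · apply hx
    apply Submodule.subset_span
    simp

theorem singW_O : (pomPol Q hnd hn).SingW := by
  intro e f h
  obtain ⟨e', f', he', hf', hef', h1, h2, h3, h4⟩ := exists_hyp2 hnd hn h.e0 h.f0 h.ef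
  exact ⟨e', f', ⟨he', hf', hef'⟩, ⟨h1, h2⟩, ⟨h3, h4⟩⟩

end Cfsg.Agent.H17
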