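import Mathlib
import Cfsg.Agent.H17.PolOm
import Cfsg.Agent.H17.PolGen

set_option autoImplicit false

/-! The orthogonal instance: generation and Lagrangian subspaces. -/

namespace Cfsg.Agent.H17.Pol

variable {F V G PG : Type*} [Field F] [AddCommGroup V] [Module F V] [Group G] [Group PG]
  {O : Pol F V G PG} {e f : V}

theorem gen_aux' {H : Subgroup PG} (h : O.Hyp e f) (hH : O.Qs e ≤ H) (hf : O.Qs f ≤ H) {v : V} (hv : O.Pt v)
    (hev : O.B e v ≠ 0) : O.Qs v ≤ H := by
  obtain ⟨w, z, hw, hok, hv'⟩ := exists_orb h hv.sing hev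
  have h1 : O.Qs v = cj (O.pr (O.X e w z)) (O.Qs f) := by
    rw [Qs_conj]
    conv_lhs => rw [hv']
    rw [Qs_smul _ hev]
  rw [h1]
  exact cj_le_of_mem (hH ((mem_Qs h.e0).mpr ⟨_, _, hok, rfl⟩)) hf

theorem gen_of_Qs (h : O.Hyp e f)
    (hgen : Subgroup.closure (⋃ (v : V) (_ : O.Pt v), (O.Qs v : Set PG)) = ⊤) :
    Subgroup.closure ((O.Qs e : Set PG) ∪ (O.Qs f : Set PG)) = ⊤ := by
  obtain ⟨H, hH⟩ : ∃ H, H = Subgroup.closure ((O.Qs e : Set PG) ∪ (O.Qs f : Set PG)) := ⟨_, rfl⟩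
  have he : O.Qs e ≤ H := by
    intro x hx; rw [hH]; exact Subgroup.subset_closure (Or.inl hx)
  have hf : O.Qs f ≤ H := by
    intro x hx; rw [hH]; exact Subgroup.subset_closure (Or.inr hx)
  have h1 : ∀ v, O.Pt v → O.B e v ≠ 0 → O.Qs v ≤ H := fun v hv hev =>
    gen_aux' h he hf hv hev
  have h2 : ∀ v, O.Pt v → O.B f v ≠ 0 → O.Qs v ≤ H := by
    intro v hv hfv
    apply gen_aux' h.swap hf _ hv hfv
    rw [Qs_smul e O.ε_ne]
    exact he
  rw [← hH, eq_top_iff, ← hgen, Subgroup.closure_le]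
  intro x hx
  simp only [Set.mem_iUnion] at hx
  obtain ⟨v, hv, hx⟩ := hx
  by_cases hev : O.B e v = 0
  · by_cases hfv : O.B f v = 0
    · obtain ⟨w, hw, hwv⟩ := ndW h (w := v) ⟨hev, hfv⟩ hv.ne
      obtain ⟨z, hok⟩ := exists_ok h.e0 hw.1
      have h3 : O.B f (O.act (O.X e w z) v) ≠ 0 := by
        rw [X_act hok, hev, O.br_sub, O.br_add, O.br_smul, O.br_smul, hfv, h.fe]
        intro h4
        have h5 : O.B w v = 0 := by
          have h6 : O.ε * O.ε * O.B w v = 0 := by linear_combination -h4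
          rwa [O.εε, one_mul] at h6
        exact hwv (O.refl h5)
      have h4 := h2 _ (hv.act _) h3
      rw [← Qs_conj] at h4
      have h5 := cj_le_of_mem (y := (O.pr (O.X e w z))⁻¹) (H.inv_mem (he ((mem_Qs h.e0).mpr ⟨_, _, hok, rfl⟩))) h4
      apply h5
      rw [mem_cj, mem_cj]
      have : (O.pr (O.X e w z))⁻¹ * ((O.pr (O.X e w z))⁻¹⁻¹ * x * (O.pr (O.X e w z))⁻¹) * O.pr (O.X e w z) = x := by group
      rw [this]
      exact hx
    · exact h2 v hv hfv hx
  · exact h1 v hv hev hx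

variable {R : Submodule F V}

theorem exists_ZG (hO : O.OType) (hR : ∀ x ∈ R, O.N x = 0) {k : ℕ} (r s : Fin k → V) (hr : ∀ i, r i ∈ R)
    (hrs : ∀ i j, O.B (r i) (s j) = if i = j then 1 else 0) (c : (Σ j : Fin k, Fin j) → F) :
    ∃ g ∈ O.ZG R, ∀ p : (Σ j : Fin k, Fin j), O.B (s (Fin.castLE p.1.2.le p.2)) (O.act g (s p.1) - s p.1) = c p := by
  classical
  have hadd : ∀ g ∈ O.ZG R, ∀ g' ∈ O.ZG R, ∀ x y, O.B x (O.act (g * g') y - y) = O.B x (O.act g y - y) + O.B x (O.act g' y - y) := by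
    intro g hg g' hg' x y
    have h1 : O.act (g * g') y = O.act g y + (O.act g' y - y) := by
      rw [act_mul]
      have h2 : O.act g (O.act g' y - y) = O.act g' y - y := hg.2 _ (fun r hr => ts_B hO hR hr (hg'.1 y))
      rw [map_sub] at h2
      rw [← h2]; abel
    rw [h1, ← O.br_add]
    congr 1
    abel
  obtain ⟨A, hA⟩ : ∃ A : AddSubgroup ((Σ j : Fin k, Fin j) → F), ∀ c, c ∈ A ↔ ∃ g ∈ O.ZG R,
      ∀ p : (Σ j : Fin k, Fin j), O.B (s (Fin.castLE p.1.2.le p.2)) (O.act g (s p.1) - s p.1) = c p := by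
    refine ⟨{ carrier := {c | ∃ g ∈ O.ZG R, ∀ p : (Σ j : Fin k, Fin j), O.B (s (Fin.castLE p.1.2.le p.2)) (O.act g (s p.1) - s p.1) = c p},
              zero_mem' := ⟨1, Subgroup.one_mem _, fun p => by rw [act_one, sub_self, O.br_zero]; rfl⟩,
              add_mem' := ?_, neg_mem' := ?_ }, fun c => Iff.rfl⟩
    · rintro c c' ⟨g, hg, h⟩ ⟨g', hg', h'⟩
      exact ⟨g * g', Subgroup.mul_mem _ hg hg', fun p => by rw [hadd g hg g' hg', h, h']; rfl⟩
    · rintro c ⟨g, hg, h⟩
      refine ⟨g⁻¹, Subgroup.inv_mem _ hg, fun p => ?_⟩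
      have h1 := hadd g hg g⁻¹ (Subgroup.inv_mem _ hg) (s (Fin.castLE p.1.2.le p.2)) (s p.1)
      rw [mul_inv_cancel, act_one, sub_self, O.br_zero, h] at h1
      rw [Pi.neg_apply]
      linear_combination -h1
  rw [← hA]
  have h1 : c = ∑ p, Pi.single p (c p) := (Finset.univ_sum_single c).symm
  rw [h1]
  apply AddSubgroup.sum_mem
  intro p _
  rw [hA]
  obtain ⟨j, i⟩ := p
  obtain ⟨i', hi'⟩ : ∃ i' : Fin k, i' = Fin.castLE j.2.le i := ⟨_, rfl⟩
  have hlt : i' < j := by rw [hi']; exact i.2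
  obtain ⟨a, ha⟩ : ∃ a, a = c ⟨j, i⟩ := ⟨_, rfl⟩
  rw [← ha]
  have hri := hr i'
  have hrj := R.smul_mem (-a) (hr j)
  refine ⟨O.E (r i') ((-a) • r j), E_mem_ZG hO hR hri hrj, ?_⟩
  rintro ⟨j2, i2⟩
  obtain ⟨i2', hi2'⟩ : ∃ i2' : Fin k, i2' = Fin.castLE j2.2.le i2 := ⟨_, rfl⟩
  have hlt2 : i2' < j2 := by rw [hi2']; exact i2.2
  change O.B (s (Fin.castLE j2.2.le i2)) (O.act (O.E (r i') ((-a) • r j)) (s j2) - s j2) = _
  rw [← hi2', E_act hO (hR _ hri) (ts_B hO hR hri hrj)]
  have e1 : ∀ x y, O.B x y = O.B y x := fun x y => hO.sy y x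
  have hN : O.N ((-a) • r j) = 0 := hR _ hrj
  rw [hN, hO.bl, hrs, hrs, O.br_sub, O.br_sub, O.br_add, O.br_smul, O.br_smul, O.br_smul, e1 (s i2') (r j), e1 (s i2') (r i'),
    hrs, hrs]
  by_cases hj : j = j2
  · subst hj
    rw [if_neg hlt.ne]
    by_cases hi : i = i2
    · subst hi
      have : i' = i2' := by rw [hi', hi2']
      rw [if_pos rfl, if_pos this, Pi.single_eq_same]
      ring
    · have h3 : i' ≠ i2' := by
        intro h4
        apply hi
        rw [hi', hi2'] at h4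
        exact Fin.castLE_injective _ h4
      rw [if_neg h3, Pi.single_eq_of_ne (by
        intro h4
        apply hi
        have := (Sigma.mk.inj_iff.mp h4).2
        exact (eq_of_heq this).symm)]
      ring
  · rw [if_neg hj, Pi.single_eq_of_ne (by
      intro h4
      exact hj (Sigma.mk.inj_iff.mp h4).1.symm)]
    by_cases h5 : i' = j2
    · have h6 : j ≠ i2' := by
        intro h7
        rw [h5] at hlt
        rw [← h7] at hlt2
        exact absurd hlt (not_lt.mpr hlt2.le)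
      rw [if_neg h6]
      ring
    · rw [if_neg h5]
      ring

theorem card_pairs (k : ℕ) : Fintype.card (Σ j : Fin k, Fin j) * 2 = k * (k - 1) := by
  rw [Fintype.card_sigma]
  simp only [Fintype.card_fin]
  rw [Fin.sum_univ_eq_sum_range (fun i => i) k, Finset.sum_range_id_mul_two]

theorem card_ZG_ge [Finite F] [Finite G] (hO : O.OType) (hR : ∀ x ∈ R, O.N x = 0) {k : ℕ} (r s : Fin k → V) (hr : ∀ i, r i ∈ R)
    (hrs : ∀ i j, O.B (r i) (s j) = if i = j then 1 else 0) :
    Nat.card F ^ (Fintype.card (Σ j : Fin k, Fin j)) ≤ Nat.card (O.ZG R) := by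
  classical
  have h1 : Nat.card ((Σ j : Fin k, Fin j) → F) = Nat.card F ^ (Fintype.card (Σ j : Fin k, Fin j)) := by
    rw [Nat.card_fun, Nat.card_eq_fintype_card (α := Σ j : Fin k, Fin j)]
  rw [← h1]
  apply Nat.card_le_card_of_surjective (fun g : O.ZG R => fun p : (Σ j : Fin k, Fin j) =>
    O.B (s (Fin.castLE p.1.2.le p.2)) (O.act (g : G) (s p.1) - s p.1))
  intro c
  obtain ⟨g, hg, h⟩ := exists_ZG hO hR r s hr hrs c
  exact ⟨⟨g, hg⟩, funext fun p => h p⟩

end Cfsg.Agent.H17.Pol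

namespace Cfsg.Agent.H17

open Cfsg Cfsg.Agent.H5

variable {F V : Type*} [Field F] [Finite F] [AddCommGroup V] [Module F V] [FiniteDimensional F V]
  {Q : QuadraticForm F V} {hnd : ND Q} {hn : 5 ≤ Module.finrank F V}

theorem gen_O (e f : V) (h : (pomPol Q hnd hn).Hyp e f) :
    Subgroup.closure (((pomPol Q hnd hn).Qs e : Set (EG Q ⧸ Subgroup.center (EG Q))) ∪ ((pomPol Q hnd hn).Qs f : Set (EG Q ⧸ Subgroup.center (EG Q)))) = ⊤ := by
  apply Pol.gen_of_Qs h
  rw [eq_top_iff]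
  intro y _
  obtain ⟨g, rfl⟩ := (pomPol Q hnd hn).pr_surj y
  obtain ⟨K, hK⟩ : ∃ K, K = Subgroup.closure (⋃ (v : V) (_ : (pomPol Q hnd hn).Pt v), ((pomPol Q hnd hn).Qs v : Set (EG Q ⧸ Subgroup.center (EG Q)))) := ⟨_, rfl⟩
  rw [← hK]
  obtain ⟨g, hg⟩ := g
  have key : ∀ g (hg : g ∈ EG Q), (pomPol Q hnd hn).pr ⟨g, hg⟩ ∈ K := by
    intro g hg
    induction hg using Subgroup.closure_induction with
    | mem A hA =>
      obtain ⟨u, w, hu, huw, rfl⟩ := hA
      by_cases hu0 : u = 0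
      · subst hu0
        have : (⟨eich hu huw, Subgroup.subset_closure ⟨0, w, hu, huw, rfl⟩⟩ : EG Q) = 1 := by
          apply Subtype.ext
          apply og_ext
          intro x
          show eich hu huw x = x
          rw [eich_apply]; simp
        rw [this, map_one]
        exact Subgroup.one_mem _
      · rw [hK]
        apply Subgroup.subset_closure
        simp only [Set.mem_iUnion]
        have hok : (pomPol Q hnd hn).Ok u w (-(Q w)) := by
          refine ⟨hu, huw, ?_⟩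
          change Q w + 1 * (-(Q w)) = 0
          ring
        refine ⟨u, ⟨hu0, hu⟩, (Pol.mem_Qs hu).mpr ⟨w, -(Q w), hok, ?_⟩⟩
        congr 1
        apply Subtype.ext
        apply og_ext
        intro x
        have h3 : ((pomPol Q hnd hn).X u w (-(Q w))).1 x = x + pB Q u x • (w + (-(Q w)) • u) - (1 * pB Q w x) • u :=
          Pol.X_act hok x
        rw [h3]
        show eich hu huw x = _
        rw [eich_apply]
        module
    | one => exact (map_one (pomPol Q hnd hn).pr) ▸ Subgroup.one_mem K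
    | mul a b ha' hb' ha hb =>
      have := Subgroup.mul_mem _ ha hb
      rwa [← map_mul] at this
    | inv a ha' ha =>
      have := Subgroup.inv_mem _ ha
      rwa [← map_inv] at this
  exact key g hg

/-- dual system for a subspace -/
theorem exists_dual (hnd : ND Q) (R : Submodule F V) : ∃ (r s : Fin (Module.finrank F R) → V), (∀ i, r i ∈ R) ∧
    ∀ i j, pB Q (r i) (s j) = if i = j then 1 else 0 := by
  classical
  obtain ⟨b, hb⟩ : ∃ b, b = Module.finBasis F R := ⟨_, rfl⟩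
  obtain ⟨Φ, hΦ⟩ : ∃ Φ : V →ₗ[F] (Fin (Module.finrank F R) → F), Φ = LinearMap.pi (fun i => pB Q (b i : V)) := ⟨_, rfl⟩
  have hker : LinearMap.ker Φ ≤ oc Q R := by
    intro x hx n hn
    have h1 : ∀ i, pB Q (b i : V) x = 0 := by
      intro i
      have := congrFun (LinearMap.mem_ker.mp hx) i
      rw [hΦ] at this
      exact this
    have h2 : (⟨n, hn⟩ : R) = ∑ i, b.repr ⟨n, hn⟩ i • b i := (b.sum_repr _).symm
    have h3 : n = ∑ i, b.repr ⟨n, hn⟩ i • (b i : V) := by
      have := congrArg R.subtype h2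
      rw [map_sum] at this
      exact this
    show pB Q n x = 0
    rw [h3, map_sum, LinearMap.sum_apply]
    apply Finset.sum_eq_zero
    intro i _
    rw [map_smul, LinearMap.smul_apply, h1, smul_zero]
  have h1 := Submodule.finrank_mono hker
  have h2 := finrank_oc hnd R
  have h3 := LinearMap.finrank_range_add_finrank_ker Φ
  have h4 : LinearMap.range Φ = ⊤ := by
    apply Submodule.eq_top_of_finrank_eq
    apply le_antisymm (Submodule.finrank_le _)
    rw [Module.finrank_fintype_fun_eq_card, Fintype.card_fin]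
    omega
  have h5 : ∀ j, ∃ x, Φ x = Pi.single j 1 := fun j => by
    have : Pi.single j (1 : F) ∈ LinearMap.range Φ := by rw [h4]; exact Submodule.mem_top
    exact this
  choose s hs using h5
  refine ⟨fun i => b i, s, fun i => (b i).2, fun i j => ?_⟩
  have := congrFun (hs j) i
  rw [hΦ] at this
  change pB Q (b i : V) (s j) = (Pi.single j 1 : Fin (Module.finrank F R) → F) i at this
  rw [this, Pi.single_apply]

theorem card_InW (e f : V) (h : (pomPol Q hnd hn).Hyp e f) :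
    Nat.card {w : V // (pomPol Q hnd hn).InW e f w} = Nat.card F ^ (Module.finrank F V - 2) := by
  have h1 : Nat.card {w : V // (pomPol Q hnd hn).InW e f w} = Nat.card (oc Q (Submodule.span F {e, f})) := by
    apply Nat.card_congr
    refine Equiv.subtypeEquivRight fun w => ?_
    constructor
    · rintro ⟨h1, h2⟩ n hn
      rw [Submodule.mem_span_pair] at hn
      obtain ⟨a, b, rfl⟩ := hn
      have h1' : pB Q e w = 0 := h1
      have h2' : pB Q f w = 0 := h2
      show pB Q _ w = 0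
      rw [pl_add, pl_smul, pl_smul, h1', h2', mul_zero, mul_zero, add_zero]
    · intro hw
      exact ⟨hw e (Submodule.subset_span (by simp)), hw f (Submodule.subset_span (by simp))⟩
  have h2 := finrank_oc hnd (Submodule.span F {e, f})
  have hef : pB Q e f = 1 := h.ef
  rw [finrank_pair (indep_sing h.e0 h.f0 (by rw [hef]; exact one_ne_zero))] at h2
  rw [h1, Module.natCard_eq_pow_finrank (K := F), ← h2, Nat.add_sub_cancel]

theorem nl_O [Finite V] (hL : (∀ R : Submodule F V, (∀ x ∈ R, Q x = 0) → Module.finrank F V ≠ 2 * Module.finrank F R) ∨ 10 ≤ Module.finrank F V)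
    (e f : V) (h : (pomPol Q hnd hn).Hyp e f) (R : Submodule F V) (hR : ∀ x ∈ R, Q x = 0)
    (hR2 : ∀ u v, (∀ r ∈ R, pB Q r u = 0) → (∀ r ∈ R, pB Q r v = 0) → pB Q u v = 0) :
    Nat.card ((pomPol Q hnd hn).ZG R) ≠ Nat.card {w : V // (pomPol Q hnd hn).InW e f w} := by
  have h1 : R ≤ oc Q R := by
    intro x hx n hn
    have h2 := hR _ (R.add_mem hn hx)
    rw [q_add, hR _ hn, hR _ hx, zero_add, zero_add] at h2
    exact h2
  have h2 : oc Q R ≤ R := by
    conv_rhs => rw [← oc_oc hnd R]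
    intro x hx n hn
    exact hR2 n x hn hx
  have h3 : oc Q R = R := le_antisymm h2 h1
  have h4 := finrank_oc hnd R
  rw [h3] at h4
  have hn10 : 10 ≤ Module.finrank F V := by
    rcases hL with h5 | h5
    · exact absurd (by omega) (h5 R hR)
    · exact h5
  obtain ⟨r, s, hr, hrs⟩ := exists_dual hnd R
  haveI : Finite (EG Q) := Finite.of_injective (fun g : EG Q => fun x : V => g.1 x)
    (fun g g' hgg => Subtype.ext (og_ext fun x => congrFun hgg x))
  have h5 := Pol.card_ZG_ge (O := pomPol Q hnd hn) ot_O hR r s hr hrs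
  rw [card_InW e f h]
  have h6 := Pol.card_pairs (Module.finrank F R)
  obtain ⟨k, hk⟩ : ∃ k, k = Module.finrank F R := ⟨_, rfl⟩
  rw [← hk] at h4 h5 h6
  have hk5 : 5 ≤ k := by omega
  have h7 : 2 * k - 1 ≤ Fintype.card (Σ j : Fin k, Fin j) := by
    obtain ⟨t, rfl⟩ : ∃ t, k = t + 5 := ⟨k - 5, by omega⟩
    have h8 : (t + 5) * (t + 5 - 1) = (t + 5) * (t + 4) := rfl
    rw [h8] at h6
    by_contra hcon
    have h9 : Fintype.card (Σ j : Fin (t + 5), Fin j) ≤ 2 * t + 8 := by omega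
    nlinarith
  have hF : 1 < Nat.card F := Finite.one_lt_card
  have h8 : Nat.card F ^ (Module.finrank F V - 2) < Nat.card F ^ (Fintype.card (Σ j : Fin k, Fin j)) := by
    apply Nat.pow_lt_pow_right hF
    omega
  omega

end Cfsg.Agent.H17
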