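import Mathlib

set_option autoImplicit false

/-! Automorphisms of central quotients and restriction of automorphisms to stable subgroups. -/

namespace Cfsg.Agent.H17

/-- automorphisms act on the central quotient -/
def congrC (X : Type*) [Group X] : MulAut X →* MulAut (X ⧸ Subgroup.center X) where
  toFun α := QuotientGroup.congr (Subgroup.center X) (Subgroup.center X) α
    (Subgroup.characteristic_iff_map_eq.mp inferInstance α)
  map_one' := by
    ext x
    induction x using QuotientGroup.induction_on with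
    | H z => rfl
  map_mul' α β := by
    ext x
    induction x using QuotientGroup.induction_on with
    | H z => rfl

theorem congrC_mk {X : Type*} [Group X] (α : MulAut X) (x : X) :
    congrC X α (QuotientGroup.mk x) = QuotientGroup.mk (α x) := rfl

/-- automorphisms preserving a subgroup -/
def stabA {X : Type*} [Group X] (H : Subgroup X) : Subgroup (MulAut X) where
  carrier := {α | ∀ x, α x ∈ H ↔ x ∈ H}
  one_mem' x := Iff.rfl
  mul_mem' {α β} ha hb x := by
    rw [MulAut.mul_apply, ha, hb]
  inv_mem' {α} ha x := by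
    rw [← ha (α⁻¹ x), ← MulAut.mul_apply, mul_inv_cancel, MulAut.one_apply]

/-- restriction -/
def resA {X : Type*} [Group X] (H : Subgroup X) : stabA H →* MulAut H where
  toFun α :=
    { toFun := fun x => ⟨(α : MulAut X) x, (α.2 x).mpr x.2⟩
      invFun := fun x => ⟨((α⁻¹ : stabA H) : MulAut X) x, ((α⁻¹ : stabA H).2 x).mpr x.2⟩
      left_inv := fun x => Subtype.ext (by
        change ((α : MulAut X)⁻¹) ((α : MulAut X) x) = x
        rw [← MulAut.mul_apply, inv_mul_cancel, MulAut.one_apply])
      right_inv := fun x => Subtype.ext (by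
        change ((α : MulAut X)) ((α : MulAut X)⁻¹ x) = x
        rw [← MulAut.mul_apply, mul_inv_cancel, MulAut.one_apply])
      map_mul' := fun x y => Subtype.ext (map_mul (α : MulAut X) _ _) }
  map_one' := rfl
  map_mul' α β := rfl

theorem coe_resA {X : Type*} [Group X] (H : Subgroup X) (α : stabA H) (x : H) :
    ((resA H α x : H) : X) = (α : MulAut X) x := rfl

/-- the homomorphism to the field automorphisms -/
theorem exists_fieldHom {A C S : Type*} [Group A] [Group C] [Group S] (cP : C →* A) (fP : S →* A) (act : S → C → C)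
    (hcomm : ∀ σ g, fP σ * cP g = cP (act σ g) * fP σ)
    (hsurj : ∀ α : A, ∃ g σ, α = cP g * fP σ) (huniq : ∀ g σ, cP g * fP σ = 1 → σ = 1) :
    ∃ Φ : A →* S, (∀ g σ, Φ (cP g * fP σ) = σ) ∧ Φ.ker = cP.range ∧ Function.Surjective Φ := by
  have huniq2 : ∀ g σ h τ, cP g * fP σ = cP h * fP τ → σ = τ := by
    intro g σ h τ he
    have h1 : cP (h⁻¹ * g) * fP (σ * τ⁻¹) = 1 := by
      rw [map_mul, map_mul, map_inv, map_inv]
      calc (cP h)⁻¹ * cP g * (fP σ * (fP τ)⁻¹) = (cP h)⁻¹ * (cP g * fP σ) * (fP τ)⁻¹ := by group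
        _ = 1 := by rw [he]; group
    exact mul_inv_eq_one.mp (huniq _ _ h1)
  choose G S' hGS using hsurj
  have hΦ : ∀ g σ, S' (cP g * fP σ) = σ := fun g σ => huniq2 _ _ _ _ (hGS _).symm
  have hmul : ∀ g σ h τ, (cP g * fP σ) * (cP h * fP τ) = cP (g * act σ h) * fP (σ * τ) := by
    intro g σ h τ
    rw [map_mul, map_mul]
    calc cP g * fP σ * (cP h * fP τ) = cP g * (fP σ * cP h) * fP τ := by group
      _ = _ := by rw [hcomm]; group
  have h1 : ∀ α β, S' (α * β) = S' α * S' β := by
    intro α β
    conv_lhs => rw [hGS α, hGS β, hmul, hΦ]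
  refine ⟨MonoidHom.mk' S' h1, hΦ, ?_, ?_⟩
  · ext α
    rw [MonoidHom.mem_ker]
    constructor
    · intro h
      change S' α = 1 at h
      refine ⟨G α, ?_⟩
      conv_rhs => rw [hGS α, h, map_one, mul_one]
    · rintro ⟨g, rfl⟩
      have := hΦ g 1
      rw [map_one, mul_one] at this
      exact this
  · intro σ
    refine ⟨cP 1 * fP σ, hΦ _ _⟩

end Cfsg.Agent.H17
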