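import Mathlib
import Cfsg.Agent.H17.PolOm2
import Cfsg.Agent.H17.QuotAut

set_option autoImplicit false

/-! Semisimilarity groups of quadratic forms and their action on the simple orthogonal group. -/

namespace Cfsg.Agent.H17.Pol

variable {F V G PG : Type*} [Field F] [AddCommGroup V] [Module F V] [Group G] [Group PG]
  {O : Pol F V G PG} {e f : V}

theorem induced_one_O (hb : O.Big) (hO : O.OType) (hs : O.SingW) (h : O.Hyp e f) {S : SemiSim O}
    (hS : Induced S (1 : MulAut PG)) : S.σ = 1 ∧ ∃ a : F, ∀ x, S.T x = a • x := by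
  have hQ : ∀ e, O.Pt e → ∃ c : F, c ≠ 0 ∧ S.T e = c • e := by
    intro e he
    have h1 := hS.Qs e he.sing
    rw [im_one] at h1
    refine Qs_inj hb he ⟨?_, ?_⟩ h1
    · intro h0
      apply he.ne
      have h2 : S.T e = S.T 0 := by rw [h0, S.T_zero]
      exact S.T_inj h2
    · rw [S.T_N, he.sing, map_zero, mul_zero]
  obtain ⟨α, hα, hTe⟩ := hQ e h.ept
  obtain ⟨β, hβ, hTf⟩ := hQ f h.fpt
  have hκ : α * β = S.κ := by
    have h1 := S.T_B e f
    rw [hTe, hTf, O.bl_smul, O.br_smul, h.ef, map_one, mul_one, mul_one, hO.tau] at h1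
    exact h1
  have key : ∀ w z, O.InW e f w → O.Ok e w z → w = O.τ (S.κ⁻¹ * α) • S.T w ∧
      z = (S.κ⁻¹ * α) * O.τ (S.κ⁻¹ * α) * (S.κ * S.σ z) := by
    intro w z hw hok
    have h1 := hS.X hok
    have h2 := S.ok hok
    rw [hTe, smul_smul] at h1 h2
    have hne : S.κ⁻¹ * α ≠ 0 := mul_ne_zero (inv_ne_zero S.hκ) hα
    have h3 : O.Ok e (S.T w) (S.κ * S.σ z) := by
      refine ⟨h.e0, ?_, h2.adm⟩
      have h4 := h2.ew
      rw [O.bl_smul] at h4
      exact (mul_eq_zero.mp h4).resolve_left (O.τ_ne hne)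
    have h4 := h3.smul' (S.κ⁻¹ * α)
    rw [X_smul h3] at h1
    have hTw : O.InW e f (S.T w) := by
      refine ⟨h3.ew, ?_⟩
      have h5 := S.T_B f w
      rw [hw.2, map_zero, mul_zero, hTf, O.bl_smul] at h5
      exact (mul_eq_zero.mp h5).resolve_left (O.τ_ne hβ)
    exact Qs_unique h hw (hTw.smul _) hok h4 h1
  have hτκ : O.τ (S.κ⁻¹ * α) = β⁻¹ := by
    rw [hO.tau, ← hκ]
    field_simp
  have hTw : ∀ w, O.InW e f w → S.T w = β • w := by
    intro w hw
    obtain ⟨z, hok⟩ := exists_ok h.e0 hw.1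
    have h1 := (key w z hw hok).1
    rw [hτκ] at h1
    conv_rhs => rw [h1, smul_smul, mul_inv_cancel₀ hβ, one_smul]
  obtain ⟨w0, hw0, hw0N⟩ := exists_nonsing hO hs h
  have hw0n : w0 ≠ 0 := by
    rintro rfl
    exact hw0N O.N_zero
  have hσ : ∀ a, S.σ a = a := by
    intro a
    have h1 := hTw (a • w0) (hw0.smul a)
    rw [S.T_smul, hTw w0 hw0, smul_smul, smul_smul, ← sub_eq_zero, ← sub_smul] at h1
    have h2 := (smul_eq_zero.mp h1).resolve_right hw0n
    have h3 : (S.σ a - a) * β = 0 := by linear_combination h2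
    exact sub_eq_zero.mp ((mul_eq_zero.mp h3).resolve_right hβ)
  have hβα : β = α := by
    have h1 := S.T_N w0
    rw [hTw w0 hw0, hO.smul, hσ, ← hκ] at h1
    have h2 : (β - α) * (β * O.N w0) = 0 := by linear_combination h1
    exact sub_eq_zero.mp ((mul_eq_zero.mp h2).resolve_right (mul_ne_zero hβ hw0N))
  refine ⟨RingEquiv.ext hσ, α, fun x => ?_⟩
  conv_lhs => rw [wc_eq (O := O) (e := e) (f := f) x]
  rw [S.T_add, S.T_add, S.T_smul, S.T_smul, hσ, hσ, hTe, hTf, hTw _ (wc_inW h x), hβα]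
  conv_rhs => rw [wc_eq (O := O) (e := e) (f := f) x]
  module

end Cfsg.Agent.H17.Pol

namespace Cfsg.Agent.H17

open Cfsg Cfsg.Agent.H5

section defs

variable {F V : Type*} [Field F] [AddCommGroup V] [Module F V]

/-- semisimilarity group -/
def SSG (Q : QuadraticForm F V) : Subgroup (Equiv.Perm V × (F ≃+* F)) where
  carrier := {p | (∀ x y, p.1 (x + y) = p.1 x + p.1 y) ∧ (∀ (a : F) x, p.1 (a • x) = p.2 a • p.1 x) ∧
    ∃ κ : Fˣ, ∀ x, Q (p.1 x) = κ * p.2 (Q x)}
  one_mem' := ⟨fun _ _ => rfl, fun _ _ => rfl, 1, fun x => by rw [Units.val_one, one_mul]; rfl⟩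
  mul_mem' := by
    rintro p p' ⟨h0, h1, κ, h2⟩ ⟨h0', h1', κ', h2'⟩
    refine ⟨fun x y => ?_, fun a x => ?_, κ * Units.map (p.2 : F →* F) κ', fun x => ?_⟩
    · show p.1 (p'.1 (x + y)) = p.1 (p'.1 x) + p.1 (p'.1 y)
      rw [h0', h0]
    · show p.1 (p'.1 (a • x)) = p.2 (p'.2 a) • p.1 (p'.1 x)
      rw [h1', h1]
    · show Q (p.1 (p'.1 x)) = _ * p.2 (p'.2 (Q x))
      rw [h2, h2', map_mul, Units.val_mul, mul_assoc]
      rfl
  inv_mem' := by
    rintro p ⟨h0, h1, κ, h2⟩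
    have e1 : ∀ x, p.1 (p.1⁻¹ x) = x := fun x => p.1.apply_symm_apply x
    have e2 : ∀ a, p.2 (p.2⁻¹ a) = a := fun a => p.2.apply_symm_apply a
    refine ⟨fun x y => ?_, fun a x => ?_, Units.map ((p.2⁻¹ : F ≃+* F) : F →* F) κ⁻¹, fun x => ?_⟩
    · show p.1⁻¹ (x + y) = p.1⁻¹ x + p.1⁻¹ y
      apply p.1.injective
      rw [h0, e1, e1, e1]
    · show p.1⁻¹ (a • x) = p.2⁻¹ a • p.1⁻¹ x
      apply p.1.injective
      rw [h1, e1, e1, e2]
    · show Q (p.1⁻¹ x) = p.2⁻¹ ((κ⁻¹ : Fˣ) : F) * p.2⁻¹ (Q x)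
      apply p.2.injective
      rw [map_mul, e2, e2]
      have h3 := h2 (p.1⁻¹ x)
      rw [e1] at h3
      rw [h3, ← mul_assoc, ← Units.val_mul, inv_mul_cancel, Units.val_one, one_mul]

variable {Q : QuadraticForm F V}

theorem ss_add (p : SSG Q) (x y : V) : p.1.1 (x + y) = p.1.1 x + p.1.1 y := p.2.1 x y

theorem ss_smul (p : SSG Q) (a : F) (x : V) : p.1.1 (a • x) = p.1.2 a • p.1.1 x := p.2.2.1 a x

theorem ss_zero (p : SSG Q) : p.1.1 0 = 0 := by
  have := ss_add p 0 0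
  rw [add_zero] at this
  exact left_eq_add.mp this

theorem ss_neg (p : SSG Q) (x : V) : p.1.1 (-x) = -p.1.1 x := by
  have := ss_add p x (-x)
  rw [add_neg_cancel, ss_zero] at this
  exact (neg_eq_of_add_eq_zero_right this.symm).symm

theorem ss_sub (p : SSG Q) (x y : V) : p.1.1 (x - y) = p.1.1 x - p.1.1 y := by
  rw [sub_eq_add_neg, ss_add, ss_neg, sub_eq_add_neg]

theorem ss_symm_add (p : SSG Q) (x y : V) : p.1.1.symm (x + y) = p.1.1.symm x + p.1.1.symm y := by
  apply p.1.1.injective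
  rw [ss_add]
  simp only [Equiv.apply_symm_apply]

theorem ss_symm_smul (p : SSG Q) (a : F) (x : V) : p.1.1.symm (a • x) = p.1.2.symm a • p.1.1.symm x := by
  apply p.1.1.injective
  rw [ss_smul]
  simp only [Equiv.apply_symm_apply, RingEquiv.apply_symm_apply]

/-- the multiplier -/
noncomputable def ssK (p : SSG Q) : Fˣ := p.2.2.2.choose

theorem ss_Q (p : SSG Q) (x : V) : Q (p.1.1 x) = ssK p * p.1.2 (Q x) := p.2.2.2.choose_spec x

theorem ss_B (p : SSG Q) (x y : V) : pB Q (p.1.1 x) (p.1.1 y) = ssK p * p.1.2 (pB Q x y) := by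
  have h1 := ss_Q p (x + y)
  rw [ss_add, q_add, q_add, ss_Q, ss_Q, map_add, map_add] at h1
  linear_combination h1

theorem ss_Q_symm (p : SSG Q) (x : V) : Q (p.1.1.symm x) = p.1.2.symm ((ssK p : F)⁻¹ * Q x) := by
  apply p.1.2.injective
  rw [RingEquiv.apply_symm_apply]
  have h1 := ss_Q p (p.1.1.symm x)
  rw [Equiv.apply_symm_apply] at h1
  rw [h1, ← mul_assoc, inv_mul_cancel₀ (Units.ne_zero _), one_mul]

theorem ssK_eq (h : ∃ x, Q x ≠ 0) (p : SSG Q) {κ : F} (hκ : ∀ x, Q (p.1.1 x) = κ * p.1.2 (Q x)) : (ssK p : F) = κ := by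
  obtain ⟨x, hx⟩ := h
  have h1 := ss_Q p x
  rw [hκ] at h1
  exact (mul_right_cancel₀ ((map_ne_zero p.1.2).mpr hx) h1).symm

theorem ss_ext {p p' : SSG Q} (h : ∀ x, p.1.1 x = p'.1.1 x) (h2 : p.1.2 = p'.1.2) : p = p' := by
  apply Subtype.ext
  exact Prod.ext (Equiv.ext h) h2

/-- conjugation of isometries by semisimilarities -/
def conjOG (p : SSG Q) (g : OG Q) : OG Q :=
  ⟨{ toFun := fun x => p.1.1 (g (p.1.1.symm x))
     map_add' := fun x y => by rw [ss_symm_add, og_add, ss_add]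
     map_smul' := fun a x => by
       rw [ss_symm_smul, og_smul, ss_smul, RingEquiv.apply_symm_apply]; rfl
     invFun := fun x => p.1.1 ((g⁻¹ : OG Q) (p.1.1.symm x))
     left_inv := fun x => by
       show p.1.1 ((g⁻¹ : OG Q) (p.1.1.symm (p.1.1 (g (p.1.1.symm x))))) = x
       rw [Equiv.symm_apply_apply, og_inv, Equiv.apply_symm_apply]
     right_inv := fun x => by
       show p.1.1 (g (p.1.1.symm (p.1.1 ((g⁻¹ : OG Q) (p.1.1.symm x))))) = x
       rw [Equiv.symm_apply_apply, og_inv', Equiv.apply_symm_apply] },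
   fun x => by
     show Q (p.1.1 (g (p.1.1.symm x))) = Q x
     rw [ss_Q, og_q, ← ss_Q, Equiv.apply_symm_apply]⟩

theorem conjOG_apply (p : SSG Q) (g : OG Q) (x : V) : conjOG p g x = p.1.1 (g (p.1.1.symm x)) := rfl

theorem conjOG_eich (p : SSG Q) {u w : V} (hu : Q u = 0) (huw : pB Q u w = 0) :
    ∃ (hu' : Q (p.1.1 u) = 0) (huw' : pB Q (p.1.1 u) (((ssK p : F)⁻¹) • p.1.1 w) = 0),
      conjOG p (eich hu huw) = eich hu' huw' := by
  have hk : (ssK p : F) ≠ 0 := Units.ne_zero _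
  have h1 : Q (p.1.1 u) = 0 := by rw [ss_Q, hu, map_zero, mul_zero]
  have h2 : pB Q (p.1.1 u) (((ssK p : F)⁻¹) • p.1.1 w) = 0 := by
    rw [pr_smul, ss_B, huw, map_zero, mul_zero, mul_zero]
  refine ⟨h1, h2, ?_⟩
  apply og_ext
  intro x
  obtain ⟨y, rfl⟩ := p.1.1.surjective x
  rw [conjOG_apply, Equiv.symm_apply_apply, eich_apply, eich_apply, ss_B, pl_smul, ss_B, q_smul, ss_Q]
  rw [ss_sub, ss_sub, ss_add, ss_smul, ss_smul, ss_smul, map_mul]
  have e1 : ((ssK p : F) * p.1.2 (pB Q u y)) • ((ssK p : F)⁻¹ • p.1.1 w) = p.1.2 (pB Q u y) • p.1.1 w := by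
    rw [smul_smul]; congr 1; field_simp
  have e2 : (ssK p : F)⁻¹ * ((ssK p : F) * p.1.2 (pB Q w y)) = p.1.2 (pB Q w y) := by field_simp
  have e3 : ((ssK p : F)⁻¹ * (ssK p : F)⁻¹ * ((ssK p : F) * p.1.2 (Q w))) * ((ssK p : F) * p.1.2 (pB Q u y)) = p.1.2 (Q w) * p.1.2 (pB Q u y) := by
    field_simp
  rw [e1, e2, e3]

theorem conjOG_mul (p : SSG Q) (g h : OG Q) : conjOG p (g * h) = conjOG p g * conjOG p h := by
  apply og_ext
  intro x
  rw [og_mul, conjOG_apply, conjOG_apply, conjOG_apply, Equiv.symm_apply_apply, og_mul]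

theorem conjOG_one (p : SSG Q) : conjOG p (1 : OG Q) = 1 := by
  apply og_ext
  intro x
  rw [conjOG_apply, og_one, og_one, Equiv.apply_symm_apply]

theorem conjOG_one' (g : OG Q) : conjOG (1 : SSG Q) g = g := by
  apply og_ext
  intro x
  rfl

theorem conjOG_comp (p p' : SSG Q) (g : OG Q) : conjOG (p * p') g = conjOG p (conjOG p' g) := by
  apply og_ext
  intro x
  rfl

theorem conjOG_inv (p : SSG Q) (g : OG Q) : conjOG p (g⁻¹) = (conjOG p g)⁻¹ := by
  rw [eq_inv_iff_mul_eq_one, ← conjOG_mul, inv_mul_cancel, conjOG_one]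

theorem conjOG_mem (p : SSG Q) {g : OG Q} (hg : g ∈ EG Q) : conjOG p g ∈ EG Q := by
  unfold EG at hg
  induction hg using Subgroup.closure_induction with
  | mem x hx =>
    obtain ⟨u, w, hu, huw, rfl⟩ := hx
    obtain ⟨hu', huw', h⟩ := conjOG_eich p hu huw
    rw [h]
    exact eg_mem _ _
  | one => rw [conjOG_one]; exact one_mem _
  | mul a b _ _ ha hb => rw [conjOG_mul]; exact mul_mem ha hb
  | inv a _ ha => rw [conjOG_inv]; exact inv_mem ha

/-- action on `EG` -/
def conjEG (Q : QuadraticForm F V) : SSG Q →* MulAut (EG Q) where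
  toFun p :=
    { toFun := fun g => ⟨conjOG p g.1, conjOG_mem p g.2⟩
      invFun := fun g => ⟨conjOG p⁻¹ g.1, conjOG_mem p⁻¹ g.2⟩
      left_inv := fun g => Subtype.ext (by
        show conjOG p⁻¹ (conjOG p g.1) = g.1
        rw [← conjOG_comp, inv_mul_cancel, conjOG_one'])
      right_inv := fun g => Subtype.ext (by
        show conjOG p (conjOG p⁻¹ g.1) = g.1
        rw [← conjOG_comp, mul_inv_cancel, conjOG_one'])
      map_mul' := fun g h => Subtype.ext (conjOG_mul p g.1 h.1) }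
  map_one' := by
    ext1 g
    exact Subtype.ext (conjOG_one' g.1)
  map_mul' p p' := by
    ext1 g
    exact Subtype.ext (conjOG_comp p p' g.1)

theorem conjEG_apply (p : SSG Q) (g : EG Q) : (conjEG Q p g).1 = conjOG p g.1 := rfl

/-- the projective group -/
abbrev PE (Q : QuadraticForm F V) : Type _ := EG Q ⧸ Subgroup.center (EG Q)

/-- action on the simple group -/
def aE (Q : QuadraticForm F V) : SSG Q →* MulAut (PE Q) := (congrC (EG Q)).comp (conjEG Q)

theorem aE_mk (p : SSG Q) (g : EG Q) : aE Q p (QuotientGroup.mk g) = QuotientGroup.mk (conjEG Q p g) := rfl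

theorem autPE_ext {α β : MulAut (PE Q)} (h : ∀ s : EG Q, α (QuotientGroup.mk s) = β (QuotientGroup.mk s)) : α = β := by
  ext x
  induction x using QuotientGroup.induction_on with
  | H z => exact h z

end defs

section main

variable {F V : Type*} [Field F] [Finite F] [AddCommGroup V] [Module F V] [FiniteDimensional F V]
  {Q : QuadraticForm F V} {hnd : ND Q} {hn : 5 ≤ Module.finrank F V}

/-- semisimilarities in the two languages -/
noncomputable def toSSG (S : SemiSim (pomPol Q hnd hn)) : SSG Q :=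
  ⟨(Equiv.ofBijective S.T ⟨fun _ _ h => S.T_inj h, S.T_surj⟩, S.σ),
    S.T_add, S.T_smul, Units.mk0 S.κ S.hκ, S.T_N⟩

theorem toSSG_apply (S : SemiSim (pomPol Q hnd hn)) (x : V) : (toSSG S).1.1 x = S.T x := rfl

/-- and back -/
noncomputable def ofSSG (p : SSG Q) : SemiSim (pomPol Q hnd hn) where
  σ := p.1.2
  κ := ssK p
  T := p.1.1
  hκ := Units.ne_zero _
  τκ := rfl
  T_add := ss_add p
  T_smul := ss_smul p
  T_B := ss_B p
  T_N := ss_Q p
  T_t b := rfl
  T_surj := p.1.1.surjective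

theorem induced_iff (S : SemiSim (pomPol Q hnd hn)) (β : MulAut (PE Q)) : Pol.Induced S β ↔ β = aE Q (toSSG S) := by
  have key : ∀ s : EG Q, ∀ x, (conjEG Q (toSSG S) s).1 (S.T x) = S.T (s.1 x) := by
    intro s x
    rw [conjEG_apply, conjOG_apply, ← toSSG_apply S x, Equiv.symm_apply_apply, toSSG_apply]
  have huniq : ∀ s s' : EG Q, (∀ x, s'.1 (S.T x) = S.T (s.1 x)) → s' = conjEG Q (toSSG S) s := by
    intro s s' h
    apply Subtype.ext
    apply og_ext
    intro y
    obtain ⟨x, rfl⟩ := S.T_surj y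
    rw [h, key]
  constructor
  · intro hβ
    apply autPE_ext
    intro s
    exact hβ s _ (key s)
  · rintro rfl s s' h
    change aE Q (toSSG S) (QuotientGroup.mk s) = QuotientGroup.mk s'
    rw [huniq s s' h]
    rfl

theorem goodO (hL : (∀ R : Submodule F V, (∀ x ∈ R, Q x = 0) → Module.finrank F V ≠ 2 * Module.finrank F R) ∨
    10 ≤ Module.finrank F V) [Finite V] : (pomPol Q hnd hn).GoodO where
  big := big_O
  ot := ot_O
  big4 := big4_O
  singW := singW_O
  nl e f h R hR hR2 := nl_O hL e f h R hR hR2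
  gen := gen_O
  ind S := ⟨_, (induced_iff S _).mpr rfl⟩

theorem exists_hyp_O (hnd : ND Q) (hn : 5 ≤ Module.finrank F V) : ∃ e f, (pomPol Q hnd hn).Hyp e f := by
  obtain ⟨e, he0, he⟩ := exists_sing hnd (by omega)
  obtain ⟨f, hf, hef⟩ := exists_partner hnd he0 he
  exact ⟨e, f, he, hf, hef⟩

/-- all automorphisms are induced by semisimilarities -/
theorem aE_surj (hnd : ND Q) (hn : 5 ≤ Module.finrank F V)
    (hL : (∀ R : Submodule F V, (∀ x ∈ R, Q x = 0) → Module.finrank F V ≠ 2 * Module.finrank F R) ∨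
    10 ≤ Module.finrank F V) : Function.Surjective (aE Q) := by
  intro α
  haveI : Finite V := Module.finite_of_finite F
  haveI : Finite (EG Q) := Finite.of_injective (fun g : EG Q => fun x : V => g.1 x)
    (fun g g' hgg => Subtype.ext (og_ext fun x => congrFun hgg x))
  obtain ⟨p, hp⟩ := CharP.exists F
  haveI : Fact p.Prime := ⟨CharP.char_is_prime F p⟩
  obtain ⟨e, f, h⟩ := exists_hyp_O hnd hn
  obtain ⟨S, hS⟩ := Pol.all_induced_O p (goodO hL) h α
  exact ⟨toSSG S, ((induced_iff S α).mp hS).symm⟩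

theorem aE_eq_one_iff (hnd : ND Q) (hn : 5 ≤ Module.finrank F V) (p : SSG Q) :
    aE Q p = 1 ↔ p.1.2 = 1 ∧ ∃ c : Fˣ, ∀ x, p.1.1 x = c • x := by
  constructor
  · intro h
    obtain ⟨e, f, hef⟩ := exists_hyp_O hnd hn
    have h1 : toSSG (ofSSG (hnd := hnd) (hn := hn) p) = p := ss_ext (fun _ => rfl) rfl
    obtain ⟨h2, c, hc⟩ := Pol.induced_one_O big_O ot_O singW_O hef
      ((induced_iff (ofSSG (hnd := hnd) (hn := hn) p) 1).mpr (by rw [h1, h]))
    have hc0 : c ≠ 0 := by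
      rintro rfl
      have h3 : p.1.1 e = 0 := by
        have := hc e
        rw [zero_smul] at this
        exact this
      exact hef.ene (p.1.1.injective (h3.trans (ss_zero p).symm))
    exact ⟨h2, Units.mk0 c hc0, hc⟩
  · rintro ⟨h1, c, hc⟩
    apply autPE_ext
    intro s
    rw [aE_mk, MulAut.one_apply]
    congr 1
    apply Subtype.ext
    apply og_ext
    intro y
    obtain ⟨x, rfl⟩ := p.1.1.surjective y
    rw [conjEG_apply, conjOG_apply, Equiv.symm_apply_apply, hc, hc, Units.smul_def]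
    exact (og_smul s.1 _ x).symm

end main

end Cfsg.Agent.H17
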