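import Mathlib
import Cfsg.Agent.H17.SSG
import Cfsg.Agent.H17.QClass2

set_option autoImplicit false

/-! Orders of semisimilarity groups and of automorphism groups of simple orthogonal groups. -/

namespace Cfsg.Agent.H17

open Cfsg Cfsg.Agent.H5

section defs

variable {F V : Type*} [Field F] [AddCommGroup V] [Module F V]

theorem exists_semilin [FiniteDimensional F V] (σ : F ≃+* F) : ∃ T : Equiv.Perm V, (∀ x y, T (x + y) = T x + T y) ∧ ∀ (a : F) x, T (a • x) = σ a • T x := by
  obtain ⟨b, _⟩ : ∃ b : Module.Basis (Fin (Module.finrank F V)) F V, True := ⟨Module.finBasis F V, trivial⟩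
  refine ⟨(b.equivFun.toEquiv.trans (Equiv.piCongrRight fun _ => σ.toEquiv)).trans b.equivFun.symm.toEquiv, ?_, ?_⟩
  · intro x y
    show b.equivFun.symm (fun i => σ (b.equivFun (x + y) i)) = b.equivFun.symm (fun i => σ (b.equivFun x i)) + b.equivFun.symm (fun i => σ (b.equivFun y i))
    rw [← map_add]
    congr 1
    ext i
    rw [map_add, Pi.add_apply, Pi.add_apply, map_add]
  · intro a x
    show b.equivFun.symm (fun i => σ (b.equivFun (a • x) i)) = σ a • b.equivFun.symm (fun i => σ (b.equivFun x i))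
    rw [← map_smul]
    congr 1
    ext i
    rw [map_smul, Pi.smul_apply, Pi.smul_apply, smul_eq_mul, smul_eq_mul, map_mul]

/-- twisted form -/
def twQ (Q : QuadraticForm F V) (σ : F ≃+* F) (T : Equiv.Perm V) (hadd : ∀ x y, T (x + y) = T x + T y)
    (hsmul : ∀ (a : F) x, T (a • x) = σ a • T x) : QuadraticForm F V where
  toFun x := σ (Q (T.symm x))
  toFun_smul a x := by
    have : T.symm (a • x) = σ.symm a • T.symm x := by
      apply T.injective
      rw [hsmul]; simp only [Equiv.apply_symm_apply, RingEquiv.apply_symm_apply]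
    rw [this, q_smul, map_mul, map_mul, RingEquiv.apply_symm_apply, smul_eq_mul]
  exists_companion' := by
    have hadd' : ∀ x y, T.symm (x + y) = T.symm x + T.symm y := by
      intro x y
      apply T.injective
      rw [hadd]; simp only [Equiv.apply_symm_apply]
    have hsmul' : ∀ (a : F) x, T.symm (a • x) = σ.symm a • T.symm x := by
      intro a x
      apply T.injective
      rw [hsmul]; simp only [Equiv.apply_symm_apply, RingEquiv.apply_symm_apply]
    refine ⟨LinearMap.mk₂ F (fun x y => σ (pB Q (T.symm x) (T.symm y))) ?_ ?_ ?_ ?_, ?_⟩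
    · intro x y z
      rw [hadd', pl_add, map_add]
    · intro a x z
      rw [hsmul', pl_smul, map_mul, RingEquiv.apply_symm_apply, smul_eq_mul]
    · intro x y z
      rw [hadd', pr_add, map_add]
    · intro a x z
      rw [hsmul', pr_smul, map_mul, RingEquiv.apply_symm_apply, smul_eq_mul]
    · intro x y
      rw [hadd', q_add, map_add, map_add]
      rfl

theorem twQ_apply (Q : QuadraticForm F V) (σ : F ≃+* F) (T : Equiv.Perm V) (hadd : ∀ x y, T (x + y) = T x + T y)
    (hsmul : ∀ (a : F) x, T (a • x) = σ a • T x) (x : V) : twQ Q σ T hadd hsmul (T x) = σ (Q x) := by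
  show σ (Q (T.symm (T x))) = _
  rw [Equiv.symm_apply_apply]

variable {Q : QuadraticForm F V}

theorem twQ_nd (hnd : ND Q) (σ : F ≃+* F) (T : Equiv.Perm V) (hadd : ∀ x y, T (x + y) = T x + T y)
    (hsmul : ∀ (a : F) x, T (a • x) = σ a • T x) : ND (twQ Q σ T hadd hsmul) := by
  intro x hx
  obtain ⟨x, rfl⟩ := T.surjective x
  have h1 : x = 0 := by
    apply hnd
    intro y
    have h2 := hx (T y)
    have h3 := q_add (twQ Q σ T hadd hsmul) (T x) (T y)
    rw [h2, ← hadd, twQ_apply, twQ_apply, twQ_apply, q_add, map_add, map_add, add_zero] at h3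
    have h4 : σ (pB Q x y) = 0 := by linear_combination h3
    exact (map_eq_zero σ).mp h4
  rw [h1]
  have := hadd 0 0
  rw [add_zero] at this
  exact left_eq_add.mp this

theorem twQ_zn (σ : F ≃+* F) (T : Equiv.Perm V) (hadd : ∀ x y, T (x + y) = T x + T y)
    (hsmul : ∀ (a : F) x, T (a • x) = σ a • T x) : zn (twQ Q σ T hadd hsmul) = zn Q := by
  unfold zn
  apply Nat.card_congr
  refine (Equiv.subtypeEquiv T ?_).symm
  intro x
  rw [twQ_apply]
  exact (map_eq_zero σ).symm

end defs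

section counts

variable {F V : Type*} [Field F] [Finite F] [AddCommGroup V] [Module F V] [FiniteDimensional F V]
  {Q : QuadraticForm F V}

theorem exists_ss_even (hnd : ND Q) {k : ℕ} (hk : Module.finrank F V = 2 * k) (σ : F ≃+* F) {c : F} (hc : c ≠ 0) :
    ∃ p : SSG Q, p.1.2 = σ ∧ ∀ x, Q (p.1.1 x) = c * σ (Q x) := by
  haveI : Finite V := Module.finite_of_finite F
  obtain ⟨T, hadd, hsmul⟩ := exists_semilin (F := F) (V := V) σ
  obtain ⟨φ, hφ⟩ := class_even k (twQ_nd hnd σ T hadd hsmul) hnd hk hk (twQ_zn σ T hadd hsmul) hc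
  obtain ⟨ψ, hψ⟩ := exists_simEquiv hc hφ (twQ_nd hnd σ T hadd hsmul) rfl
  have h1 : ∀ x, Q (ψ (T x)) = c * σ (Q x) := fun x => by rw [hψ, twQ_apply]
  exact ⟨⟨(T.trans ψ.toEquiv, σ), fun x y => by
      show ψ (T (x + y)) = ψ (T x) + ψ (T y)
      rw [hadd, map_add], fun a x => by
      show ψ (T (a • x)) = σ a • ψ (T x)
      rw [hsmul, map_smul], Units.mk0 c hc, h1⟩, rfl, h1⟩

theorem exists_ss_odd (h2 : (2 : F) ≠ 0) (hnd : ND Q) {k : ℕ} (hk : Module.finrank F V = 2 * k + 1) (σ : F ≃+* F) :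
    ∃ p : SSG Q, p.1.2 = σ := by
  haveI : Finite V := Module.finite_of_finite F
  obtain ⟨T, hadd, hsmul⟩ := exists_semilin (F := F) (V := V) σ
  obtain ⟨c, hc, φ, hφ⟩ := class_odd h2 k (twQ_nd hnd σ T hadd hsmul) hnd hk hk
  obtain ⟨ψ, hψ⟩ := exists_simEquiv hc hφ (twQ_nd hnd σ T hadd hsmul) rfl
  have h1 : ∀ x, Q (ψ (T x)) = c * σ (Q x) := fun x => by rw [hψ, twQ_apply]
  exact ⟨⟨(T.trans ψ.toEquiv, σ), fun x y => by
      show ψ (T (x + y)) = ψ (T x) + ψ (T y)
      rw [hadd, map_add], fun a x => by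
      show ψ (T (a • x)) = σ a • ψ (T x)
      rw [hsmul, map_smul], Units.mk0 c hc, h1⟩, rfl⟩

omit [Finite F] [FiniteDimensional F V] in
theorem ssK_mul (hne : ∃ x, Q x ≠ 0) (p p' : SSG Q) : (ssK (p * p') : F) = ssK p * p.1.2 (ssK p') := by
  apply ssK_eq hne
  intro x
  show Q (p.1.1 (p'.1.1 x)) = _ * p.1.2 (p'.1.2 (Q x))
  rw [ss_Q, ss_Q, map_mul, mul_assoc]

omit [Finite F] [FiniteDimensional F V] in
/-- the field part -/
def ssπ (Q : QuadraticForm F V) : SSG Q →* (F ≃+* F) := (MonoidHom.snd _ _).comp (SSG Q).subtype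

omit [Finite F] [FiniteDimensional F V] in
theorem ssπ_apply (p : SSG Q) : ssπ Q p = p.1.2 := rfl

omit [Finite F] [FiniteDimensional F V] in
/-- the multiplier on similarities -/
noncomputable def ssl (Q : QuadraticForm F V) (hne : ∃ x, Q x ≠ 0) : (ssπ Q).ker →* Fˣ where
  toFun p := ssK p.1
  map_one' := by
    apply Units.ext
    rw [Units.val_one]
    apply ssK_eq hne
    intro x
    rw [one_mul]
    rfl
  map_mul' p p' := by
    apply Units.ext
    have h1 : p.1.1.2 = 1 := p.2
    show (ssK (p.1 * p'.1) : F) = _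
    rw [ssK_mul hne, h1, Units.val_mul]
    rfl

omit [Finite F] [FiniteDimensional F V] in
/-- isometries as semisimilarities -/
def ogSS (Q : QuadraticForm F V) : OG Q →* SSG Q where
  toFun g := ⟨(g.1.toEquiv, 1), fun x y => og_add g x y, fun a x => og_smul g a x, 1, fun x => by
    rw [Units.val_one, one_mul]; exact og_q g x⟩
  map_one' := rfl
  map_mul' g h := rfl

omit [Finite F] [FiniteDimensional F V] in
theorem ogSS_apply (g : OG Q) (x : V) : (ogSS Q g).1.1 x = g x := rfl

omit [Finite F] [FiniteDimensional F V] in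
theorem ogSS_injective : Function.Injective (ogSS Q) := by
  intro g h hgh
  apply og_ext
  intro x
  rw [← ogSS_apply, hgh, ogSS_apply]

omit [Finite F] [FiniteDimensional F V] in
theorem exists_og (p : SSG Q) (h1 : p.1.2 = 1) (h2 : ∀ x, Q (p.1.1 x) = Q x) : ∃ g : OG Q, ogSS Q g = p := by
  refine ⟨⟨{ p.1.1 with map_add' := ss_add p, map_smul' := fun a x => ?_ }, h2⟩, ss_ext (fun _ => rfl) h1.symm⟩
  show p.1.1 (a • x) = a • p.1.1 x
  rw [ss_smul, h1]; rfl

omit [Finite F] [FiniteDimensional F V] in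
theorem card_ssl_ker (hne : ∃ x, Q x ≠ 0) : Nat.card (ssl Q hne).ker = Nat.card (OG Q) := by
  symm
  have hk : ∀ g : OG Q, (ssK (ogSS Q g) : F) = 1 := by
    intro g
    apply ssK_eq hne
    intro x
    rw [one_mul, ogSS_apply, og_q]
    rfl
  apply Nat.card_congr
  refine Equiv.ofBijective (fun g => ⟨⟨ogSS Q g, rfl⟩, by
    rw [MonoidHom.mem_ker]
    apply Units.ext
    exact hk g⟩) ⟨?_, ?_⟩
  · intro g h hgh
    apply ogSS_injective
    exact congrArg (fun x => x.1.1) hgh
  · rintro ⟨⟨p, hp⟩, hp2⟩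
    have h1 : (ssK p : F) = 1 := congrArg Units.val hp2
    obtain ⟨g, hg⟩ := exists_og p hp (fun x => by
      have hp' : p.1.2 = 1 := hp
      rw [ss_Q, h1, one_mul, hp']; rfl)
    exact ⟨g, Subtype.ext (Subtype.ext hg)⟩

omit [Finite F] [FiniteDimensional F V] in
/-- scalars -/
def scSS (Q : QuadraticForm F V) : Fˣ →* SSG Q where
  toFun c := ⟨((LinearEquiv.smulOfUnit c : V ≃ₗ[F] V).toEquiv, 1), fun x y => smul_add c x y,
    fun a x => smul_comm c a x, c * c, fun x => by
      show Q (c • x) = _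
      rw [Units.smul_def, q_smul, Units.val_mul]; rfl⟩
  map_one' := ss_ext (fun x => one_smul _ x) rfl
  map_mul' c d := ss_ext (fun x => mul_smul c d x) rfl

omit [Finite F] [FiniteDimensional F V] in
theorem scSS_apply (c : Fˣ) (x : V) : (scSS Q c).1.1 x = c • x := rfl

omit [Finite F] [FiniteDimensional F V] in
theorem scSS_injective (hne : ∃ x, Q x ≠ 0) : Function.Injective (scSS Q) := by
  obtain ⟨x, hx⟩ := hne
  have hx0 : x ≠ 0 := by rintro rfl; exact hx (q_zero Q)
  intro c d h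
  apply Units.ext
  have h1 : c • x = d • x := by rw [← scSS_apply (Q := Q), h, scSS_apply]
  rw [Units.smul_def, Units.smul_def, ← sub_eq_zero, ← sub_smul] at h1
  exact sub_eq_zero.mp ((smul_eq_zero.mp h1).resolve_right hx0)

theorem aE_ker (hnd : ND Q) (hn : 5 ≤ Module.finrank F V) : (aE Q).ker = (scSS Q).range := by
  ext p
  rw [MonoidHom.mem_ker, aE_eq_one_iff hnd hn]
  constructor
  · rintro ⟨h1, c, hc⟩
    exact ⟨c, ss_ext (fun x => (hc x).symm) h1.symm⟩
  · rintro ⟨c, rfl⟩
    exact ⟨rfl, c, fun x => rfl⟩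

theorem card_mulAut_PE (hnd : ND Q) (hn : 5 ≤ Module.finrank F V) (hne : ∃ x, Q x ≠ 0) (hsurj : Function.Surjective (aE Q))
    (hπ : Function.Surjective (ssπ Q)) :
    Nat.card (MulAut (PE Q)) * Nat.card Fˣ = Nat.card (F ≃+* F) * (Nat.card (ssl Q hne).range * Nat.card (OG Q)) := by
  have h1 := Subgroup.card_mul_index (aE Q).ker
  rw [Subgroup.index_ker, MonoidHom.range_eq_top.mpr hsurj, Subgroup.card_top, aE_ker hnd hn] at h1
  have h2 : Nat.card (scSS Q).range = Nat.card Fˣ := (Nat.card_congr (MonoidHom.ofInjective (scSS_injective hne)).toEquiv).symm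
  rw [h2] at h1
  have h3 := Subgroup.card_mul_index (ssπ Q).ker
  rw [Subgroup.index_ker, MonoidHom.range_eq_top.mpr hπ, Subgroup.card_top] at h3
  have h4 := Subgroup.card_mul_index (ssl Q hne).ker
  rw [Subgroup.index_ker, card_ssl_ker] at h4
  rw [mul_comm, h1, ← h3, ← h4]
  ring

/-- even dimension -/
theorem card_mulAut_even (hnd : ND Q) (hn : 5 ≤ Module.finrank F V) {k : ℕ} (hk : Module.finrank F V = 2 * k)
    (hsurj : Function.Surjective (aE Q)) : Nat.card (MulAut (PE Q)) = Nat.card (F ≃+* F) * Nat.card (OG Q) := by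
  have hne : ∃ x, Q x ≠ 0 := exists_ne_q hnd (by omega)
  have h1 := card_mulAut_PE hnd hn hne hsurj (fun σ => by
    obtain ⟨p, hp, _⟩ := exists_ss_even hnd hk σ (c := 1) one_ne_zero
    exact ⟨p, hp⟩)
  have h2 : (ssl Q hne).range = ⊤ := by
    rw [eq_top_iff]
    intro c _
    obtain ⟨p, hp, hc⟩ := exists_ss_even hnd hk 1 (c := c) c.ne_zero
    refine ⟨⟨p, hp⟩, Units.ext ?_⟩
    exact ssK_eq hne p (fun x => by rw [hc, hp])
  rw [h2, Subgroup.card_top] at h1
  have h3 : 0 < Nat.card Fˣ := Nat.card_pos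
  apply Nat.eq_of_mul_eq_mul_right h3
  rw [h1]; ring

end counts

end Cfsg.Agent.H17
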