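import Mathlib
import Cfsg.Agent.H17.SSGCount
import Cfsg.Agent.H5.OmegaQuot

set_option autoImplicit false

/-! Orders of automorphism groups of simple orthogonal groups: odd dimension. -/

namespace Cfsg.Agent.H17

open Cfsg Cfsg.Agent.H5

section counts

variable {F V : Type*} [Field F] [Finite F] [AddCommGroup V] [Module F V] [FiniteDimensional F V]
  {Q : QuadraticForm F V}

omit [Finite F] in
/-- the determinant of a similarity -/
theorem sim_det (hnd : ND Q) {κ : F} {φ : V →ₗ[F] V} (h : ∀ x, Q (φ x) = κ * Q x) :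
    κ ^ Module.finrank F V = LinearMap.det φ * LinearMap.det φ := by
  classical
  obtain ⟨b, _⟩ : ∃ b : Module.Basis (Fin (Module.finrank F V)) F V, True := ⟨Module.finBasis F V, trivial⟩
  have h1 : LinearMap.BilinForm.comp (pB Q) φ φ = κ • pB Q := by
    apply LinearMap.ext₂
    intro x y
    exact sim_B h x y
  have h2 := LinearMap.BilinForm.toMatrix_comp b b (pB Q) φ φ
  rw [h1] at h2
  have h3 : (LinearMap.BilinForm.toMatrix b (pB Q)).det ≠ 0 :=
    (LinearMap.BilinForm.nondegenerate_iff_det_ne_zero b).mp hnd.nondeg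
  have h4 := congrArg Matrix.det h2
  rw [map_smul, Matrix.det_smul, Fintype.card_fin, Matrix.det_mul, Matrix.det_mul, Matrix.det_transpose,
    LinearMap.det_toMatrix] at h4
  have h5 : (κ ^ Module.finrank F V - LinearMap.det φ * LinearMap.det φ) * (LinearMap.BilinForm.toMatrix b (pB Q)).det = 0 := by
    linear_combination h4
  exact sub_eq_zero.mp ((mul_eq_zero.mp h5).resolve_right h3)

theorem ssl_range_odd (hnd : ND Q) (hne : ∃ x, Q x ≠ 0) {k : ℕ} (hk : Module.finrank F V = 2 * k + 1) :
    (ssl Q hne).range = (powMonoidHom 2 : Fˣ →* Fˣ).range := by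
  ext c
  constructor
  · rintro ⟨⟨p, hp⟩, rfl⟩
    have hp' : p.1.2 = 1 := hp
    obtain ⟨φ, hφ⟩ : ∃ φ : V →ₗ[F] V, ∀ x, φ x = p.1.1 x := by
      refine ⟨{ toFun := p.1.1, map_add' := ss_add p, map_smul' := fun a x => ?_ }, fun _ => rfl⟩
      show p.1.1 (a • x) = a • p.1.1 x
      rw [ss_smul, hp']; rfl
    have h1 := sim_det hnd (κ := ssK p) (φ := φ) (fun x => by rw [hφ, ss_Q, hp']; rfl)
    have h2 : LinearMap.det φ ≠ 0 := by
      intro h0
      rw [h0, mul_zero] at h1
      exact pow_ne_zero _ (Units.ne_zero (ssK p)) h1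
    refine ⟨Units.mk0 (LinearMap.det φ) h2 * ((ssK p)⁻¹) ^ k, ?_⟩
    apply Units.ext
    rw [powMonoidHom_apply, Units.val_pow_eq_pow_val, Units.val_mul, Units.val_mk0, Units.val_pow_eq_pow_val, Units.val_inv_eq_inv_val]
    show _ = (ssK p : F)
    rw [hk] at h1
    have h3 : (ssK p : F) ≠ 0 := Units.ne_zero _
    have h4 : ((ssK p : F)⁻¹) ^ (2 * k) * (ssK p : F) ^ (2 * k + 1) = ssK p := by
      rw [pow_succ, ← mul_assoc, ← mul_pow, inv_mul_cancel₀ h3, one_pow, one_mul]
    conv_rhs => rw [← h4, h1]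
    ring
  · rintro ⟨c, rfl⟩
    refine ⟨⟨scSS Q c, rfl⟩, Units.ext ?_⟩
    apply ssK_eq hne
    intro x
    rw [scSS_apply, Units.smul_def, q_smul, powMonoidHom_apply, pow_two, Units.val_mul]
    rfl

omit [Finite F] in
theorem card_sq_units [Finite F] (h2 : (2 : F) ≠ 0) : 2 * Nat.card (powMonoidHom 2 : Fˣ →* Fˣ).range = Nat.card Fˣ := by
  have h1 := Subgroup.card_mul_index (powMonoidHom 2 : Fˣ →* Fˣ).ker
  rw [Subgroup.index_ker] at h1
  have h3 : Nat.card (powMonoidHom 2 : Fˣ →* Fˣ).ker = 2 := by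
    have h4 : ((powMonoidHom 2 : Fˣ →* Fˣ).ker : Set Fˣ) = {1, -1} := by
      ext c
      rw [SetLike.mem_coe, MonoidHom.mem_ker, powMonoidHom_apply]
      constructor
      · intro h
        have h5 : ((c : F) - 1) * (c + 1) = 0 := by
          have := congrArg Units.val h
          rw [Units.val_pow_eq_pow_val, Units.val_one] at this
          linear_combination this
        rcases mul_eq_zero.mp h5 with h6 | h6
        · left; apply Units.ext; rw [Units.val_one]; linear_combination h6
        · right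
          show c = -1
          apply Units.ext; rw [Units.val_neg, Units.val_one]; linear_combination h6
      · rintro (h | h)
        · rw [h, one_pow]
        · have h' : c = -1 := h
          rw [h', neg_one_sq]
    have h5 : Nat.card (powMonoidHom 2 : Fˣ →* Fˣ).ker = Nat.card (({1, -1} : Set Fˣ)) := by
      rw [← h4]; rfl
    rw [h5, Nat.card_coe_set_eq, Set.ncard_pair]
    intro h
    apply h2
    have := congrArg Units.val h
    rw [Units.val_neg, Units.val_one] at this
    linear_combination this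
  rw [h3] at h1
  exact h1

/-- odd dimension -/
theorem card_mulAut_odd (h2 : (2 : F) ≠ 0) (hnd : ND Q) (hn : 5 ≤ Module.finrank F V) {k : ℕ} (hk : Module.finrank F V = 2 * k + 1)
    (hsurj : Function.Surjective (aE Q)) : 2 * Nat.card (MulAut (PE Q)) = Nat.card (F ≃+* F) * Nat.card (OG Q) := by
  have hne : ∃ x, Q x ≠ 0 := exists_ne_q hnd (by omega)
  have h1 := card_mulAut_PE hnd hn hne hsurj (fun σ => by
    obtain ⟨p, hp⟩ := exists_ss_odd h2 hnd hk σ
    exact ⟨p, hp⟩)
  rw [ssl_range_odd hnd hne hk] at h1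
  have h3 := card_sq_units (F := F) h2
  have h4 : 0 < Nat.card (powMonoidHom 2 : Fˣ →* Fˣ).range := Nat.card_pos
  rw [← h3] at h1
  apply Nat.eq_of_mul_eq_mul_right h4
  linarith [h1]

end counts

end Cfsg.Agent.H17
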