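import Mathlib
import Cfsg.Agent.H17.FixUnits
import Cfsg.Agent.H5.UnitOrder

set_option autoImplicit false

/-! Centralizers of graph-field automorphisms of `PSL n F`. -/

open scoped MatrixGroups Matrix

namespace Cfsg.Agent.H17

theorem involution_unique {G : Type*} [Group G] [Finite G] [IsCyclic G] {a b : G} (ha : orderOf a = 2)
    (hb : orderOf b = 2) : a = b := by
  classical
  haveI : Fintype G := Fintype.ofFinite G
  by_contra hab
  have h1 := IsCyclic.card_pow_eq_one_le (α := G) (n := 2) (by norm_num)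
  have ha1 : a ≠ 1 := by rintro rfl; simp at ha
  have hb1 : b ≠ 1 := by rintro rfl; simp at hb
  have h2 : ({1, a, b} : Finset G) ⊆ Finset.univ.filter (fun x => x ^ 2 = 1) := by
    intro x hx
    simp only [Finset.mem_insert, Finset.mem_singleton] at hx
    rw [Finset.mem_filter]
    refine ⟨Finset.mem_univ _, ?_⟩
    rcases hx with rfl | rfl | rfl
    · exact one_pow 2
    · rw [← ha]; exact pow_orderOf_eq_one _
    · rw [← hb]; exact pow_orderOf_eq_one _
  have h3 := Finset.card_le_card h2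
  have h4 : ({1, a, b} : Finset G).card = 3 := by
    rw [Finset.card_insert_of_notMem, Finset.card_insert_of_notMem, Finset.card_singleton]
    · simpa using hab
    · simp only [Finset.mem_insert, Finset.mem_singleton, not_or]
      exact ⟨Ne.symm ha1, Ne.symm hb1⟩
  omega

section gfc

variable {F : Type*} [Field F] [Finite F] {n : ℕ}

theorem comm_gf_iff (hn : 2 ≤ n) {σ : F ≃+* F} (hσ : σ ≠ 1) (hσ2 : σ * σ = 1) (g : GL (Fin n) F) :
    (fP n σ * iP F n) * cP g = cP g * (fP n σ * iP F n) ↔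
      ∃ (c : Fˣ) (h : GL (Fin n) F), gfM σ h = h ∧ g = sGL n c * h := by
  constructor
  · intro h
    rw [gf_cP] at h
    have h1 : cP (gfM σ g * g⁻¹) = 1 := by
      rw [cP_mul, cP_inv, mul_inv_eq_one]
      exact mul_right_cancel h
    rw [cP_eq_one_iff' hn] at h1
    obtain ⟨c, hc⟩ := h1
    rw [mul_inv_eq_iff_eq_mul] at hc
    have h2 : uM σ c = c := by
      have h3 := congrArg (gfM σ) hc
      rw [gfM_gfM hσ2, map_mul, gfM_sGL, hc] at h3
      have h4 : sGL n (uM σ c) * g = sGL n c * g := by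
        conv_lhs => rw [h3]
        rw [← mul_assoc, mul_inv_cancel, one_mul]
      exact sGL_inj (by omega) (mul_right_cancel h4)
    obtain ⟨x, hx⟩ := uNorm_surj σ (orderOf_two hσ hσ2) (by norm_num) c⁻¹ (by
      have := congrArg Units.val (congrArg (·⁻¹) h2)
      simp only [Units.val_inv_eq_inv_val, coe_uM] at this
      rw [Units.val_inv_eq_inv_val, map_inv₀]
      exact this)
    rw [uN_two] at hx
    refine ⟨x, sGL n x⁻¹ * g, ?_, ?_⟩
    · rw [map_mul, gfM_sGL, hc, ← mul_assoc, ← map_inv, ← map_mul]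
      congr 2
      rw [map_inv, inv_inv, eq_comm, inv_eq_iff_mul_eq_one]
      calc x * (uM σ x * c) = (x * uM σ x) * c := by rw [mul_assoc]
        _ = 1 := by rw [hx, inv_mul_cancel]
    · rw [← mul_assoc, ← map_mul, mul_inv_cancel, map_one, one_mul]
  · rintro ⟨c, h, hh, rfl⟩
    rw [cP_mul, cP_sGL hn, one_mul, gf_cP, hh]

theorem mem_GU_iff_gfM {q : ℕ} {σ : F ≃+* F} (hσq : ∀ x, σ x = x ^ q) (g : GL (Fin n) F) :
    g ∈ GU n F q ↔ gfM σ g = g := by
  rw [H5.mem_GU_iff (σ := (σ : F →+* F)) hσq]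
  have h1 : gfM σ g = g ↔ ((g : Matrix (Fin n) (Fin n) F).map σ)ᵀ * g = 1 := by
    rw [← coe_gfM_inv, ← Units.val_mul, Units.val_eq_one, inv_mul_eq_one]
  rw [h1]
  have h2 : (∀ i j, H5.hB (Fin n) (σ : F →+* F) (fun k => (g : Matrix (Fin n) (Fin n) F) k i)
      (fun k => (g : Matrix (Fin n) (Fin n) F) k j) = if i = j then 1 else 0) ↔
      ((g : Matrix (Fin n) (Fin n) F).map σ)ᵀ * g = 1 := by
    constructor
    · intro h
      ext i j
      rw [Matrix.mul_apply, Matrix.one_apply, ← h i j, H5.hB_apply]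
      rfl
    · intro h i j
      rw [← Matrix.one_apply, ← h, Matrix.mul_apply, H5.hB_apply]
      rfl
  rw [← h2]
  exact ⟨fun h => H5.cols_of_isom h, fun h => H5.isom_of_cols h⟩

theorem mem_scalars_iff' (g : GL (Fin n) F) : g ∈ Geo.scalars (Fin n) F ↔ ∃ c : Fˣ, g = sGL n c := by
  constructor
  · rintro ⟨c, rfl⟩
    exact ⟨c, rfl⟩
  · rintro ⟨c, rfl⟩
    exact ⟨c, rfl⟩

theorem cent_gf (hn : 2 ≤ n) {q : ℕ} {σ : F ≃+* F} (hσ : σ ≠ 1) (hσ2 : σ * σ = 1) (hσq : ∀ x, σ x = x ^ q)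
    (g : GL (Fin n) F) :
    Nonempty (↥(inndiagPSL n F ⊓ Subgroup.centralizer {cP g * (fP n σ * iP F n) * (cP g)⁻¹}) ≃* PGU n F q) := by
  rw [inndiag_eq]
  refine cent_equiv (cPrange F n) (fP n σ * iP F n) (cP g) ⟨g, rfl⟩ ((cPh F n).comp (GU n F q).subtype) ?_
    ((Geo.scalars (Fin n) F).subgroupOf (GU n F q)) ?_
  · ext y
    constructor
    · rintro ⟨h, rfl⟩
      refine ⟨⟨_, rfl⟩, ?_⟩
      refine Subgroup.mem_centralizer_singleton_iff.mpr ?_
      symm
      change (fP n σ * iP F n) * cP _ = cP _ * (fP n σ * iP F n)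
      rw [comm_gf_iff hn hσ hσ2]
      exact ⟨1, h, (mem_GU_iff_gfM hσq _).mp h.2, by rw [map_one, one_mul]; rfl⟩
    · rintro ⟨⟨h, rfl⟩, hh⟩
      replace hh := Subgroup.mem_centralizer_singleton_iff.mp hh
      obtain ⟨c, k, hk, he⟩ := (comm_gf_iff hn hσ hσ2 h).mp hh.symm
      refine ⟨⟨k, (mem_GU_iff_gfM hσq _).mpr hk⟩, ?_⟩
      change cP k = cP h
      rw [he, cP_mul, cP_sGL hn, one_mul]
  · ext h
    rw [MonoidHom.mem_ker, Subgroup.mem_subgroupOf, mem_scalars_iff']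
    change cP (h : GL (Fin n) F) = 1 ↔ _
    rw [cP_eq_one_iff' hn]

theorem gfM_dSec (σ : F ≃+* F) (i : Fin n) (e : Fˣ) : gfM σ (dSec i e) = dSec i (uM σ e)⁻¹ := by
  have h1 : invTrGL (dSec i e) = dSec i e⁻¹ := by
    apply Units.ext
    rw [coe_invTrGL, ← map_inv]
    change (Matrix.diagonal _)ᵀ = Matrix.diagonal _
    rw [Matrix.diagonal_transpose]
  change glMap σ (invTrGL (dSec i e)) = _
  rw [h1, glMap_dSec, map_inv]

theorem split_gf (hn : 2 ≤ n) {σ : F ≃+* F} (hσ : σ ≠ 1) (hσ2 : σ * σ = 1) :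
    splitClassCount (inndiagPSL n F) (Inn (Matrix.ProjectiveSpecialLinearGroup (Fin n) F)) (fP n σ * iP F n) =
      Nat.gcd n (uNh σ 2).ker.index := by
  apply splitCount_PSL hn
  · intro g hg
    obtain ⟨c, h, hh, rfl⟩ := (comm_gf_iff hn hσ hσ2 g).mp hg
    rw [map_mul, det_sGL]
    refine Subgroup.mul_mem_sup ⟨c, rfl⟩ ?_
    rw [MonoidHom.mem_ker]
    change uN σ _ 2 = 1
    have h1 := congrArg Matrix.GeneralLinearGroup.det hh
    rw [det_gfM] at h1
    rw [uN_two]
    calc Matrix.GeneralLinearGroup.det h * uM σ (Matrix.GeneralLinearGroup.det h)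
        = (uM σ (Matrix.GeneralLinearGroup.det h))⁻¹ * uM σ (Matrix.GeneralLinearGroup.det h) := by rw [h1]
      _ = 1 := inv_mul_cancel _
  · intro e he
    rw [MonoidHom.mem_ker] at he
    change uN σ _ 2 = 1 at he
    rw [uN_two] at he
    refine ⟨dSec ⟨0, by omega⟩ e, ?_, det_dSec _ _⟩
    rw [comm_gf_iff hn hσ hσ2]
    refine ⟨1, dSec ⟨0, by omega⟩ e, ?_, by rw [map_one, one_mul]⟩
    rw [gfM_dSec, ← eq_inv_of_mul_eq_one_left he]

theorem index_ker_norm {p f : ℕ} [Fact p.Prime] (hf : f ≠ 0) (hF : Nat.card F = p ^ f)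
    (σ : F ≃+* F) {r : ℕ} (hr : orderOf σ = r) (hr0 : 0 < r) : (uNh σ r).ker.index = p ^ (f / r) - 1 := by
  rw [Subgroup.index_ker, ← card_fixU hf hF σ hr]
  congr 1
  have : (uNh σ r).range = fixU σ := by
    ext c
    constructor
    · rintro ⟨x, rfl⟩
      exact uM_uN σ hr x
    · intro h
      exact uNorm_surj σ hr hr0 c (congrArg Units.val h)
  rw [this]

end gfc

end Cfsg.Agent.H17
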