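import Mathlib
import Cfsg.Agent.H17.PolI

set_option autoImplicit false

/-! Abstract classical groups: semisimilarities inducing the identity are scalars. -/

namespace Cfsg.Agent.H17.Pol

variable {F V G PG : Type*} [Field F] [AddCommGroup V] [Module F V] [Group G] [Group PG]
  {O : Pol F V G PG} {e f : V}

theorem induced_one (hb : O.Big) (hC : O.CType) (h : O.Hyp e f) {S : SemiSim O} (hS : Induced S (1 : MulAut PG)) :
    S.σ = 1 ∧ ∃ a : F, ∀ x, S.T x = a • x := by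
  have hQ : ∀ e, O.Pt e → ∃ c : F, c ≠ 0 ∧ S.T e = c • e := by
    intro e he
    have h1 := hS.Qs e he.sing
    rw [im_one] at h1
    refine Qs_inj hb he ⟨?_, ?_⟩ h1
    · intro h0
      apply he.ne
      have h2 : S.T e = S.T 0 := by rw [h0, S.T_zero]
      exact S.T_inj h2
    · rw [S.T_N, he.sing, map_zero, mul_zero]
  obtain ⟨α, hα, hTe⟩ := hQ e h.ept
  obtain ⟨β, hβ, hTf⟩ := hQ f h.fpt
  have hκ : O.τ α * β = S.κ := by
    have h1 := S.T_B e f
    rw [hTe, hTf, O.bl_smul, O.br_smul, h.ef, map_one, mul_one, mul_one] at h1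
    exact h1
  have hτα := O.τ_ne hα
  have key : ∀ w z, O.InW e f w → O.Ok e w z → w = O.τ (S.κ⁻¹ * α) • S.T w ∧
      z = (S.κ⁻¹ * α) * O.τ (S.κ⁻¹ * α) * (S.κ * S.σ z) := by
    intro w z hw hok
    have h1 := hS.X hok
    have h2 := S.ok hok
    rw [hTe, smul_smul] at h1 h2
    have hne : S.κ⁻¹ * α ≠ 0 := mul_ne_zero (inv_ne_zero S.hκ) hα
    have h3 : O.Ok e (S.T w) (S.κ * S.σ z) := by
      refine ⟨h.e0, ?_, h2.adm⟩
      have h4 := h2.ew
      rw [O.bl_smul] at h4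
      exact (mul_eq_zero.mp h4).resolve_left (O.τ_ne hne)
    have h4 := h3.smul' (S.κ⁻¹ * α)
    rw [X_smul h3] at h1
    have hTw : O.InW e f (S.T w) := by
      refine ⟨h3.ew, ?_⟩
      have h5 := S.T_B f w
      rw [hw.2, map_zero, mul_zero, hTf, O.bl_smul] at h5
      exact (mul_eq_zero.mp h5).resolve_left (O.τ_ne hβ)
    exact Qs_unique h hw (hTw.smul _) hok h4 h1
  have hτκ : O.τ (S.κ⁻¹ * α) = β⁻¹ := by
    rw [map_mul, map_inv₀, S.τκ, ← hκ]
    field_simp
  have hTw : ∀ w, O.InW e f w → S.T w = β • w := by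
    intro w hw
    obtain ⟨z, hok⟩ := exists_ok h.e0 hw.1
    have h1 := (key w z hw hok).1
    rw [hτκ] at h1
    conv_rhs => rw [h1, smul_smul, mul_inv_cancel₀ hβ, one_smul]
  obtain ⟨w0, hw0, hw0n⟩ := exists_w0 hb h
  have hσ : ∀ a, S.σ a = a := by
    intro a
    have h1 := hTw (a • w0) (hw0.smul a)
    rw [S.T_smul, hTw w0 hw0, smul_smul, smul_smul, ← sub_eq_zero, ← sub_smul] at h1
    have h2 := (smul_eq_zero.mp h1).resolve_right hw0n
    have h3 : (S.σ a - a) * β = 0 := by linear_combination h2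
    exact sub_eq_zero.mp ((mul_eq_zero.mp h3).resolve_right hβ)
  obtain ⟨a0, ha0⟩ := hC.exists_ne
  have hz0 : O.τ a0 - O.ε * a0 ≠ 0 := sub_ne_zero.mpr ha0
  have hz := (key 0 (O.τ a0 - O.ε * a0) InW.zero (ok_Z h ((hC.tz _).mpr ⟨a0, rfl⟩))).2
  rw [hτκ, hσ] at hz
  have hβα : β = α := by
    generalize O.τ a0 - O.ε * a0 = z at hz hz0
    have h1 : z * (β - α) = 0 := by
      have h2 := S.hκ
      field_simp at hz
      linear_combination hz * z
    exact sub_eq_zero.mp ((mul_eq_zero.mp h1).resolve_left hz0)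
  refine ⟨RingEquiv.ext hσ, α, fun x => ?_⟩
  conv_lhs => rw [wc_eq (O := O) (e := e) (f := f) x]
  rw [S.T_add, S.T_add, S.T_smul, S.T_smul, hσ, hσ, hTe, hTf, hTw _ (wc_inW h x), hβα]
  conv_rhs => rw [wc_eq (O := O) (e := e) (f := f) x]
  module

end Cfsg.Agent.H17.Pol
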