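import Mathlib
import Cfsg.Agent.H17.PolI
import Cfsg.Agent.H5.UnitSimple2

set_option autoImplicit false

/-! The unitary instance of the abstract classical group framework. -/

namespace Cfsg.Agent.H17

open Cfsg Cfsg.Agent.H5

variable {F : Type*} [Field F] {σ : F →+* F} {q n : ℕ}

/-- the form on `F^n` -/
local notation "h⟪" x ", " y "⟫" => hB (Fin _) σ x y

theorem hadd_l (x y z : Fin n → F) : h⟪x + y, z⟫ = h⟪x, z⟫ + h⟪y, z⟫ := by
  rw [map_add, LinearMap.add_apply]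
theorem hsub_l (x y z : Fin n → F) : h⟪x - y, z⟫ = h⟪x, z⟫ - h⟪y, z⟫ := by
  rw [map_sub, LinearMap.sub_apply]
theorem hneg_l (x z : Fin n → F) : h⟪-x, z⟫ = -h⟪x, z⟫ := by
  rw [map_neg, LinearMap.neg_apply]
theorem hsmul_l (a : F) (x z : Fin n → F) : h⟪a • x, z⟫ = σ a * h⟪x, z⟫ := by
  rw [LinearMap.map_smulₛₗ, LinearMap.smul_apply, smul_eq_mul]
theorem hadd_r (x y z : Fin n → F) : h⟪x, y + z⟫ = h⟪x, y⟫ + h⟪x, z⟫ := map_add _ _ _
theorem hsub_r (x y z : Fin n → F) : h⟪x, y - z⟫ = h⟪x, y⟫ - h⟪x, z⟫ := map_sub _ _ _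
theorem hneg_r (x z : Fin n → F) : h⟪x, -z⟫ = -h⟪x, z⟫ := map_neg _ _
theorem hsmul_r (a : F) (x z : Fin n → F) : h⟪x, a • z⟫ = a * h⟪x, z⟫ := by
  rw [map_smul, smul_eq_mul]

/-- Siegel elements in `SU` -/
theorem exists_X_SU (hσ : ∀ x, σ x = x ^ q) (hσ2 : ∀ a, σ (σ a) = a) (e w : Fin n → F) (z : F) (he : h⟪e, e⟫ = 0)
    (hew : h⟪e, w⟫ = 0) (hz : h⟪w, w⟫ + (z + σ z) = 0) :
    ∃ A : SU n F q, ∀ x, sv A x = x + h⟪e, x⟫ • (w + z • e) - h⟪w, x⟫ • e := by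
  have hS := hB_symm (ι := Fin n) hσ2
  have hwe : h⟪w, e⟫ = 0 := by rw [← hS, hew, map_zero]
  obtain ⟨A, hA⟩ := exists_SU_rank2 (n := n) (q := q) hσ (w + z • e) e (hB (Fin n) σ e) (-(hB (Fin n) σ w)) (by
    intro x y
    have e1 : h⟪y, e⟫ = σ h⟪e, y⟫ := (hS e y).symm
    have e2 : h⟪x, e⟫ = σ h⟪e, x⟫ := (hS e x).symm
    have e3 : h⟪x, w⟫ = σ h⟪w, x⟫ := (hS w x).symm
    simp only [LinearMap.neg_apply, hadd_l, hadd_r, hsmul_l, hsmul_r, hneg_l, hneg_r, he, hew, hwe, e2, e3, map_neg]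
    linear_combination (σ h⟪e, x⟫ * h⟪e, y⟫) * hz) (by
    simp only [LinearMap.neg_apply, hadd_r, hsmul_r, he, hew, hwe]
    ring)
  refine ⟨A, fun x => ?_⟩
  have := hA x
  unfold sv
  rw [this]
  simp only [LinearMap.neg_apply]
  module

/-- the trace map -/
def trF (σ : F →+* F) : F →+ F := AddMonoidHom.id F + σ.toAddMonoidHom

theorem trF_apply (a : F) : trF σ a = a + σ a := rfl

/-- action of `SU` on vectors -/
def actSU (n : ℕ) (F : Type*) [Field F] (q : ℕ) : SU n F q →* ((Fin n → F) →ₗ[F] (Fin n → F)) where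
  toFun A := Matrix.mulVecLin ((A : Matrix.SpecialLinearGroup (Fin n) F) : Matrix (Fin n) (Fin n) F)
  map_one' := by
    ext1 x
    apply LinearMap.ext
    intro y
    simp
  map_mul' A B := by
    apply LinearMap.ext
    intro y
    exact sv_mul A B y

theorem actSU_apply (A : SU n F q) (x : Fin n → F) : actSU n F q A x = sv A x := rfl

theorem pr_eq_SU [Fintype F] (hF : Fintype.card F = q ^ 2) (hσ : ∀ x, σ x = x ^ q) (hn : 2 ≤ n) (g h : SU n F q) :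
    (QuotientGroup.mk' (Subgroup.center (SU n F q)) g = QuotientGroup.mk' (Subgroup.center (SU n F q)) h) ↔
      ∃ c : F, ∀ x, sv g x = c • sv h x := by
  constructor
  · intro h1
    have h2 : h⁻¹ * g ∈ Subgroup.center (SU n F q) := QuotientGroup.eq.mp h1.symm
    obtain ⟨c, hc⟩ := SU_center_scalar hF hσ hn h2
    refine ⟨c, fun x => ?_⟩
    have h3 : sv (h⁻¹ * g) x = c • x := by
      unfold sv
      rw [hc, Matrix.smul_mulVec, Matrix.one_mulVec]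
    rw [← sv_smul, ← h3, ← sv_mul]
    congr 1; group
  · rintro ⟨c, hc⟩
    have h2 : h⁻¹ * g ∈ Subgroup.center (SU n F q) := by
      rw [Subgroup.mem_center_iff]
      intro k
      apply sv_ext
      intro x
      have h3 : ∀ y, sv (h⁻¹ * g) y = c • y := by
        intro y
        rw [sv_mul, hc, sv_smul, sv_inv]
      rw [sv_mul, h3, sv_mul, h3, sv_smul]
    exact (QuotientGroup.eq.mpr h2).symm

theorem trans_SU [Fintype F] (hσ : ∀ x, σ x = x ^ q) (hσ1 : σ ≠ RingHom.id F) (hσ2 : ∀ a, σ (σ a) = a)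
    (e f e' f' : Fin n → F) (he : h⟪e, e⟫ = 0) (hf : h⟪f, f⟫ = 0) (hef : h⟪e, f⟫ ≠ 0) (he' : h⟪e', e'⟫ = 0)
    (hf' : h⟪f', f'⟫ = 0) (hef' : h⟪e', f'⟫ ≠ 0) :
    ∃ (g : SU n F q) (a b : F), a ≠ 0 ∧ b ≠ 0 ∧ sv g e = a • e' ∧ sv g f = b • f' := by
  have hS := hB_symm (ι := Fin n) hσ2
  obtain ⟨w', hw'⟩ : ∃ w', w' = (h⟪e', f'⟫)⁻¹ • f' := ⟨_, rfl⟩
  have hw1 : h⟪e', w'⟫ = 1 := by rw [hw', hsmul_r, inv_mul_cancel₀ hef']
  have hw2 : h⟪w', w'⟫ = 0 := by rw [hw', hsmul_l, hsmul_r, hf', mul_zero, mul_zero]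
  have hw3 : h⟪w', e'⟫ = 1 := by rw [← hS, hw1, map_one]
  have hc : h⟪e', h⟪e, f⟫ • w'⟫ = h⟪e, f⟫ := by rw [hsmul_r, hw1, mul_one]
  have hc0 : h⟪h⟪e, f⟫ • w', h⟪e, f⟫ • w'⟫ = 0 := by rw [hsmul_r, hsmul_l, hw2, mul_zero, mul_zero]
  obtain ⟨M, hM, hMe, hMf⟩ := gu_witt2 hσ1 hσ2 (indep_of_form hσ2 he hf hef)
    (indep_of_form hσ2 he' hc0 (by rw [hc]; exact hef)) (he'.trans he.symm) hc (hc0.trans hf.symm)
  obtain ⟨A, a, ha, hA⟩ := su_correct (q := q) hσ hσ1 hσ2 M hM he' hw2 hw1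
  refine ⟨A, a, (σ a)⁻¹ * h⟪e, f⟫ * (h⟪e', f'⟫)⁻¹, ha, ?_, ?_, ?_⟩
  · refine mul_ne_zero (mul_ne_zero (inv_ne_zero ?_) hef) (inv_ne_zero hef')
    exact fun h0 => ha ((map_eq_zero σ).mp h0)
  · rw [hA, hMe, hw3, he']; module
  · rw [hA, hMf, hc, hsmul_r, hw2, hw']
    module

/-- the unitary polar geometry -/
noncomputable def psuPol [Fintype F] (hF : Fintype.card F = q ^ 2) (hσ : ∀ x, σ x = x ^ q) (hσ1 : σ ≠ RingHom.id F)
    (hσ2 : ∀ a, σ (σ a) = a) (hn : 2 ≤ n) : Pol F (Fin n → F) (SU n F q) (PSU n F q) where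
  τ := σ
  B := hB (Fin n) σ
  N := fun x => h⟪x, x⟫
  t := trF σ
  ε := 1
  act := actSU n F q
  pr := QuotientGroup.mk' _
  ττ := hσ2
  hε := Or.inl rfl
  symm x y := by rw [one_mul, hB_symm hσ2]
  nd := hB_nd
  N_add x y := by
    rw [hadd_l, hadd_r, hadd_r, trF_apply, hB_symm hσ2]; ring
  N_smul a x := by rw [hsmul_l, hsmul_r]; ring
  N_self x h := h
  t_norm a b := by rw [trF_apply, trF_apply, map_mul, map_mul, hσ2]; ring
  t_symm a := by rw [trF_apply, trF_apply, one_mul, hσ2]; ring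
  exz w := by
    obtain ⟨c, hc⟩ := exists_trace_eq hσ1 hσ2 (-h⟪w, w⟫) (by rw [map_neg, hB_symm hσ2])
    exact ⟨c, by rw [one_mul, trF_apply, hc]; ring⟩
  act_inj g h hgh := sv_ext hgh
  act_B g x y := sv_isom hσ g x y
  act_N g x := sv_isom hσ g x x
  pr_surj := QuotientGroup.mk'_surjective _
  pr_eq g h := pr_eq_SU hF hσ hn g h
  exX e w z he hew hz := by
    rw [one_mul, trF_apply] at hz
    obtain ⟨A, hA⟩ := exists_X_SU (q := q) hσ hσ2 e w z he hew hz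
    exact ⟨A, fun x => by rw [actSU_apply, hA, one_mul]⟩
  trans e f e' f' he hf hef he' hf' hef' := trans_SU hσ hσ1 hσ2 e f e' f' he hf hef he' hf' hef'

end Cfsg.Agent.H17
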