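import Mathlib
import Cfsg.Agent.H17.PolGen
import Cfsg.Agent.H17.PolSU

set_option autoImplicit false

/-! The unitary instance: verification of the hypotheses. -/

namespace Cfsg.Agent.H17

open Cfsg Cfsg.Agent.H5

variable {F : Type*} [Field F] {σ : F →+* F} {q n : ℕ}

/-- the form on `F^n` -/
local notation "h⟪" x ", " y "⟫" => hB (Fin _) σ x y

/-- a big enough hyperplane -/
theorem exists_ker_not_span {V : Type*} [AddCommGroup V] [Module F V] [FiniteDimensional F V]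
    (hV : 3 ≤ Module.finrank F V) (φ : V →ₗ[F] F) (e : V) : ∃ w, φ w = 0 ∧ ¬ ∃ c : F, w = c • e := by
  by_contra hcon
  push Not at hcon
  have h1 : LinearMap.ker φ ≤ Submodule.span F {e} := by
    intro w hw
    obtain ⟨c, hc⟩ := hcon w hw
    rw [Submodule.mem_span_singleton]
    exact ⟨c, hc.symm⟩
  have h2 := Submodule.finrank_mono h1
  have h3 : Module.finrank F (Submodule.span F {e}) ≤ 1 := by
    have := finrank_span_le_card (R := F) ({e} : Set V)
    simpa using this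
  have h4 := LinearMap.finrank_range_add_finrank_ker φ
  have h5 : Module.finrank F (LinearMap.range φ) ≤ 1 := by
    have := Submodule.finrank_le (LinearMap.range φ)
    rwa [Module.finrank_self] at this
  omega

/-- the diagonal element -/
theorem exists_D (hσ : ∀ x, σ x = x ^ q) (hσ2 : ∀ a, σ (σ a) = a) {e f u : Fin n → F} (he : h⟪e, e⟫ = 0)
    (hf : h⟪f, f⟫ = 0) (hef : h⟪e, f⟫ = 1) (heu : h⟪e, u⟫ = 0) (hfu : h⟪f, u⟫ = 0) (huu : h⟪u, u⟫ = 1) {a : F} (ha : a ≠ 0) :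
    ∃ g : SU n F q, sv g e = a • e ∧ sv g f = (σ a)⁻¹ • f ∧ sv g u = (σ a / a) • u ∧
      ∀ x, h⟪e, x⟫ = 0 → h⟪f, x⟫ = 0 → h⟪u, x⟫ = 0 → sv g x = x := by
  have hS := hB_symm (ι := Fin n) hσ2
  have hfe : h⟪f, e⟫ = 1 := by rw [← hS, hef, map_one]
  have hue : h⟪u, e⟫ = 0 := by rw [← hS, heu, map_zero]
  have huf : h⟪u, f⟫ = 0 := by rw [← hS, hfu, map_zero]
  have hsa : σ a ≠ 0 := fun h0 => ha ((map_eq_zero σ).mp h0)
  obtain ⟨g, hg⟩ := exists_SU_rank3 (n := n) (q := q) hσ e f u ((a - 1) • hB (Fin n) σ f)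
    (((σ a)⁻¹ - 1) • hB (Fin n) σ e) ((σ a / a - 1) • hB (Fin n) σ u) (by
      intro x y
      have e1 : h⟪x, e⟫ = σ h⟪e, x⟫ := (hS e x).symm
      have e2 : h⟪x, f⟫ = σ h⟪f, x⟫ := (hS f x).symm
      have e3 : h⟪x, u⟫ = σ h⟪u, x⟫ := (hS u x).symm
      simp only [LinearMap.smul_apply, smul_eq_mul, hadd_l, hadd_r, hsmul_l, hsmul_r, he, hf, hef, heu, hfu, huu, hfe, hue, huf,
        e1, e2, e3, map_mul, map_sub, map_one, map_inv₀, map_div₀, hσ2]
      field_simp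
      ring) (by simp [hfe, hf]) (by simp [hfu]) (by simp [he]) (by simp [heu]) (by simp [hue]) (by simp [huf]) (by
      simp only [LinearMap.smul_apply, smul_eq_mul, hfe, hef, huu]
      field_simp
      ring)
  refine ⟨g, ?_, ?_, ?_, ?_⟩
  · rw [hg]
    simp only [LinearMap.smul_apply, smul_eq_mul, hfe, he, hue]
    module
  · rw [hg]
    simp only [LinearMap.smul_apply, smul_eq_mul, hf, hef, huf]
    module
  · rw [hg]
    simp only [LinearMap.smul_apply, smul_eq_mul, hfu, heu, huu]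
    module
  · intro x h1 h2 h3
    rw [hg]
    simp only [LinearMap.smul_apply, smul_eq_mul, h1, h2, h3]
    module

/-- an orthonormal basis of `W` -/
theorem exists_onb [Fintype F] (hσ1 : σ ≠ RingHom.id F) (hσ2 : ∀ a, σ (σ a) = a) {m : ℕ} {e f : Fin (m + 2) → F} (he : h⟪e, e⟫ = 0)
    (hf : h⟪f, f⟫ = 0) (hef : h⟪e, f⟫ = 1) :
    ∃ v : Fin m → (Fin (m + 2) → F), (∀ i, h⟪e, v i⟫ = 0 ∧ h⟪f, v i⟫ = 0) ∧
      (∀ i j, h⟪v i, v j⟫ = if i = j then 1 else 0) ∧
      ∀ w, h⟪e, w⟫ = 0 → h⟪f, w⟫ = 0 → w = ∑ i, h⟪v i, w⟫ • v i := by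
  have hS := hB_symm (ι := Fin (m + 2)) hσ2
  have hW := UW_hyp_step hσ2 (UW_top (F := F) (σ := σ) (n := m + 2)) (Submodule.mem_top (x := e))
    (Submodule.mem_top (x := f)) he hf hef
  obtain ⟨v, hvW, hv⟩ := exists_orthonormal hσ1 hσ2 hS m _ hW.1 hW.2
  refine ⟨v, fun i => ⟨(hvW i).1.2, (hvW i).2⟩, hv, ?_⟩
  intro w hw1 hw2
  have h0 : w - ∑ i, h⟪v i, w⟫ • v i = 0 := by
    have hmem : w - ∑ i, h⟪v i, w⟫ • v i ∈ (⊤ ⊓ LinearMap.ker (hB (Fin (m + 2)) σ e) ⊓ LinearMap.ker (hB (Fin (m + 2)) σ f) :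
        Submodule F (Fin (m + 2) → F)) := by
      apply Submodule.sub_mem
      · exact ⟨⟨Submodule.mem_top, hw1⟩, hw2⟩
      · exact Submodule.sum_mem _ fun i _ => Submodule.smul_mem _ _ (hvW i)
    have hspan : Submodule.span F (Set.range v) = (⊤ ⊓ LinearMap.ker (hB (Fin (m + 2)) σ e) ⊓ LinearMap.ker (hB (Fin (m + 2)) σ f) :
        Submodule F (Fin (m + 2) → F)) := by
      apply Submodule.eq_of_le_of_finrank_eq
      · rw [Submodule.span_le]
        rintro _ ⟨i, rfl⟩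
        exact hvW i
      · rw [finrank_span_eq_card (orthonormal_indep hv), hW.1, Fintype.card_fin]
    apply hW.2 _ hmem
    intro y hy
    rw [← hspan] at hy
    induction hy using Submodule.span_induction with
    | mem x hx =>
      obtain ⟨i, rfl⟩ := hx
      rw [← hS, hsub_r, orthonormal_coeff hv, sub_self, map_zero]
    | zero => exact map_zero _
    | add x y _ _ hx hy => rw [hadd_r, hx, hy, add_zero]
    | smul a x _ hx => rw [hsmul_r, hx, mul_zero]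
  exact sub_eq_zero.mp h0

/-- the diagonal element acting on `W` -/
theorem exists_DL (hσ : ∀ x, σ x = x ^ q) (hσ2 : ∀ a, σ (σ a) = a) {e f u : Fin n → F} (he : h⟪e, e⟫ = 0)
    (hf : h⟪f, f⟫ = 0) (hef : h⟪e, f⟫ = 1) (heu : h⟪e, u⟫ = 0) (hfu : h⟪f, u⟫ = 0) (huu : h⟪u, u⟫ = 1) {a : F} (ha : a ≠ 0) :
    ∃ g : SU n F q, sv g e = a • e ∧ sv g f = (σ a)⁻¹ • f ∧
      ∀ w, h⟪e, w⟫ = 0 → h⟪f, w⟫ = 0 → sv g w = w + ((σ a / a - 1) * h⟪u, w⟫) • u := by
  obtain ⟨g, h1, h2, h3, h4⟩ := exists_D (q := q) hσ hσ2 he hf hef heu hfu huu ha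
  refine ⟨g, h1, h2, fun w hw1 hw2 => ?_⟩
  have h5 := h4 (w - h⟪u, w⟫ • u) (by rw [hsub_r, hsmul_r, hw1, heu]; ring) (by rw [hsub_r, hsmul_r, hw2, hfu]; ring)
    (by rw [hsub_r, hsmul_r, huu]; ring)
  have h6 : sv g (w - h⟪u, w⟫ • u) = sv g w - h⟪u, w⟫ • sv g u := by
    have h7 := sv_add g (w - h⟪u, w⟫ • u) (h⟪u, w⟫ • u)
    rw [sub_add_cancel, sv_smul] at h7
    rw [h7]; module
  rw [h6, h3] at h5
  calc sv g w = (sv g w - h⟪u, w⟫ • ((σ a / a) • u)) + h⟪u, w⟫ • ((σ a / a) • u) := by module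
    _ = _ := by rw [h5]; module

theorem smul_mem_iff' {V : Type*} [AddCommGroup V] [Module F V] (K : Submodule F V) {c : F} (hc : c ≠ 0) {x : V} (h : c • x ∈ K) : x ∈ K := by
  have := K.smul_mem c⁻¹ h
  rwa [smul_smul, inv_mul_cancel₀ hc, one_smul] at this

theorem irr_SU [Fintype F] (hF : Fintype.card F = q ^ 2) (hσ : ∀ x, σ x = x ^ q) (hσ1 : σ ≠ RingHom.id F)
    (hσ2 : ∀ a, σ (σ a) = a) {m : ℕ} (hn : 2 ≤ m + 2) (e f : Fin (m + 2) → F)
    (h : (psuPol (n := m + 2) hF hσ hσ1 hσ2 hn).Hyp e f) : (psuPol (n := m + 2) hF hσ hσ1 hσ2 hn).Irr e f := by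
  have hS := hB_symm (ι := Fin (m + 2)) hσ2
  have he : h⟪e, e⟫ = 0 := h.e0
  have hf : h⟪f, f⟫ = 0 := h.f0
  have hef : h⟪e, f⟫ = 1 := h.ef
  obtain ⟨v, hvW, hv, hvs⟩ := exists_onb hσ1 hσ2 he hf hef
  obtain ⟨a, ha⟩ : ∃ a, σ a ≠ a := by
    by_contra hcon
    push Not at hcon
    exact hσ1 (RingHom.ext hcon)
  have ha0 : a ≠ 0 := by
    rintro rfl
    exact ha (map_zero σ)
  intro K hK hw w' hw'
  obtain ⟨w, hwK, hwW, hwn⟩ := hw
  obtain ⟨i, hi⟩ : ∃ i, h⟪v i, w⟫ ≠ 0 := by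
    by_contra hcon
    push Not at hcon
    apply hwn
    rw [hvs w hwW.1 hwW.2]
    apply Finset.sum_eq_zero
    intro i _
    rw [hcon i, zero_smul]
  have hvi : v i ∈ K := by
    obtain ⟨g, hg1, hg2, hg3⟩ := exists_DL (q := q) hσ hσ2 he hf hef (hvW i).1 (hvW i).2
      (by rw [hv, if_pos rfl]) ha0
    have h1 : sv g w ∈ K := hK g a ⟨hg1, _, hg2⟩ w hwK hwW
    rw [hg3 w hwW.1 hwW.2] at h1
    have h2 := K.sub_mem h1 hwK
    rw [add_sub_cancel_left] at h2
    refine smul_mem_iff' K (mul_ne_zero ?_ hi) h2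
    rw [sub_ne_zero]
    intro h3
    apply ha
    field_simp at h3
    exact h3
  have hvj : ∀ j, v j ∈ K := by
    intro j
    by_cases hij : i = j
    · rw [← hij]; exact hvi
    · obtain ⟨g, _, hg1, hg2, hg3⟩ := suT_rot (n := m + 2) (q := q) hσ hσ1 hσ2 (x := v i) (x' := v j)
        (by rw [hv, if_pos rfl]) (by rw [hv, if_pos rfl]) (by rw [hv, if_neg hij]) (α := 0) (β := 1) (by simp)
      have hge : sv g e = (1 : F) • e := by
        rw [one_smul]
        exact hg3 e (by rw [← hS, (hvW i).1, map_zero]) (by rw [← hS, (hvW j).1, map_zero])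
      have hgf : sv g f = (1 : F) • f := by
        rw [one_smul]
        exact hg3 f (by rw [← hS, (hvW i).2, map_zero]) (by rw [← hS, (hvW j).2, map_zero])
      have h1 : sv g (v i) ∈ K := hK g 1 ⟨hge, _, hgf⟩ (v i) hvi (hvW i)
      rw [hg1, zero_smul, one_smul, zero_add] at h1
      exact h1
  rw [hvs w' hw'.1 hw'.2]
  exact K.sum_mem fun j _ => K.smul_mem _ (hvj j)

theorem nohom_SU [Fintype F] (hF : Fintype.card F = q ^ 2) (hσ : ∀ x, σ x = x ^ q) (hσ1 : σ ≠ RingHom.id F)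
    (hσ2 : ∀ a, σ (σ a) = a) {m : ℕ} (hn : 2 ≤ m + 2) (hm : 2 ≤ m ∨ 2 < q) (e f : Fin (m + 2) → F)
    (h : (psuPol (n := m + 2) hF hσ hσ1 hσ2 hn).Hyp e f) : (psuPol (n := m + 2) hF hσ hσ1 hσ2 hn).NoHom e f := by
  have hS := hB_symm (ι := Fin (m + 2)) hσ2
  have he : h⟪e, e⟫ = 0 := h.e0
  have hf : h⟪f, f⟫ = 0 := h.f0
  have hef : h⟪e, f⟫ = 1 := h.ef
  obtain ⟨v, hvW, hv, hvs⟩ := exists_onb hσ1 hσ2 he hf hef
  intro φ hadd hL w hw
  have hW : ∀ (w : Fin (m + 2) → F), h⟪e, w⟫ = 0 → h⟪f, w⟫ = 0 → (psuPol (n := m + 2) hF hσ hσ1 hσ2 hn).InW e f w :=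
    fun w h1 h2 => ⟨h1, h2⟩
  have hsm : ∀ (b : F) i, (psuPol (n := m + 2) hF hσ hσ1 hσ2 hn).InW e f (b • v i) := fun b i =>
    (hW _ (hvW i).1 (hvW i).2).smul b
  -- it is enough to treat multiples of basis vectors
  suffices hb : ∀ i (b : F), φ (b • v i) = 0 by
    have h0 : φ 0 = 0 := by
      have := hadd 0 0 Pol.InW.zero Pol.InW.zero
      rw [add_zero] at this
      exact left_eq_add.mp this
    have key : ∀ (s : Finset (Fin m)), φ (∑ i ∈ s, h⟪v i, w⟫ • v i) = 0 ∧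
        (psuPol (n := m + 2) hF hσ hσ1 hσ2 hn).InW e f (∑ i ∈ s, h⟪v i, w⟫ • v i) := by
      intro s
      induction s using Finset.induction_on with
      | empty => exact ⟨by rw [Finset.sum_empty, h0], by rw [Finset.sum_empty]; exact Pol.InW.zero⟩
      | insert i s his ih =>
        rw [Finset.sum_insert his]
        exact ⟨by rw [hadd _ _ (hsm _ i) ih.2, hb, ih.1, add_zero], (hsm _ i).add ih.2⟩
    rw [hvs w hw.1 hw.2]
    exact (key Finset.univ).1
  intro i b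
  -- a scalar `s ≠ 1` with `φ (s • x) = φ x` on multiples of `v i`
  obtain ⟨s, hs1, hs⟩ : ∃ s : F, s ≠ 1 ∧ ∀ b : F, φ (s • b • v i) = φ (b • v i) := by
    rcases hm with hm | hq
    · obtain ⟨j, hj⟩ : ∃ j : Fin m, i ≠ j := by
        have : Nontrivial (Fin m) := Fin.nontrivial_iff_two_le.mpr hm
        obtain ⟨j, hj⟩ := exists_ne i
        exact ⟨j, hj.symm⟩
      obtain ⟨α, hα, hα1⟩ := exists_norm_one_ne hF hσ
      obtain ⟨g, _, hg1, hg2, hg3⟩ := suT_scale (n := m + 2) (q := q) hσ hσ1 hσ2 (x := v i) (x' := v j)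
        (by rw [hv, if_pos rfl]) (by rw [hv, if_pos rfl]) (by rw [hv, if_neg hj]) hα
      have hge : sv g e = (1 : F) • e := by
        rw [one_smul]
        exact hg3 e (by rw [← hS, (hvW i).1, map_zero]) (by rw [← hS, (hvW j).1, map_zero])
      have hgf : sv g f = (1 : F) • f := by
        rw [one_smul]
        exact hg3 f (by rw [← hS, (hvW i).2, map_zero]) (by rw [← hS, (hvW j).2, map_zero])
      refine ⟨α, ?_, fun b => ?_⟩
      · rintro rfl
        exact hα1 (map_one σ).symm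
      · have h1 : φ (σ 1 • sv g (b • v i)) = 1 * σ 1 * φ (b • v i) := hL g 1 ⟨hge, _, hgf⟩ _ (hsm b i)
        rw [map_one, one_smul, one_mul, one_mul, sv_smul, hg1, smul_comm] at h1
        exact h1
    · -- norm-one element whose cube is not one
      obtain ⟨a, ha1, ha3⟩ : ∃ a : F, σ a * a = 1 ∧ a ^ 3 ≠ 1 := by
        by_contra hcon
        push Not at hcon
        classical
        have h1 := card_norm_eq hF hσ (map_one σ) one_ne_zero
        have h2 : (Finset.univ.filter (fun x : F => σ x * x = 1)).card = q + 1 := by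
          rw [← h1, Nat.card_eq_fintype_card, Fintype.card_subtype]
        have h3 : (Finset.univ.filter (fun x : F => σ x * x = 1)) ⊆ (Polynomial.nthRoots 3 (1 : F)).toFinset := by
          intro x hx
          rw [Multiset.mem_toFinset, Polynomial.mem_nthRoots (by norm_num)]
          exact hcon x (Finset.mem_filter.mp hx).2
        have h4 := Finset.card_le_card h3
        have h5 := (Multiset.toFinset_card_le (Polynomial.nthRoots 3 (1 : F))).trans (Polynomial.card_nthRoots 3 (1 : F))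
        omega
      have ha0 : a ≠ 0 := by
        rintro rfl
        rw [mul_zero] at ha1
        exact zero_ne_one ha1
      have hsa : σ a = a⁻¹ := eq_inv_of_mul_eq_one_left ha1
      obtain ⟨g, hg1, hg2, hg3⟩ := exists_DL (q := q) hσ hσ2 he hf hef (hvW i).1 (hvW i).2
        (by rw [hv, if_pos rfl]) ha0
      refine ⟨(a⁻¹) ^ 3, ?_, fun b => ?_⟩
      · intro h1
        rw [inv_pow, inv_eq_one] at h1
        exact ha3 h1
      · have h1 : φ (σ a • sv g (b • v i)) = a * σ a * φ (b • v i) := hL g a ⟨hg1, _, hg2⟩ _ (hsm b i)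
        have h2 : σ a • sv g (b • v i) = (a⁻¹ ^ 3) • b • v i := by
          rw [hg3 _ (hsm b i).1 (hsm b i).2, hsmul_r, hv, if_pos rfl, hsa, smul_add, smul_smul, smul_smul, ← add_smul, smul_smul]
          congr 1
          field_simp
          ring
        rw [h2, mul_comm a, ha1, one_mul] at h1
        exact h1
  have h1 : φ (((s - 1) * ((s - 1)⁻¹ * b)) • v i) = 0 := by
    have h2 : ((s - 1) * ((s - 1)⁻¹ * b)) • v i + ((s - 1)⁻¹ * b) • v i = s • ((s - 1)⁻¹ * b) • v i := by module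
    have h3 := hadd (((s - 1) * ((s - 1)⁻¹ * b)) • v i) (((s - 1)⁻¹ * b) • v i) (hsm _ _) (hsm _ _)
    rw [h2, hs] at h3
    exact right_eq_add.mp h3
  rwa [← mul_assoc, mul_inv_cancel₀ (sub_ne_zero.mpr hs1), one_mul] at h1

end Cfsg.Agent.H17
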