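import Mathlib
import Cfsg.Agent.H17.PolSU2

set_option autoImplicit false

/-! The unitary instance: the commutant of the Levi factor. -/

namespace Cfsg.Agent.H17

open Cfsg Cfsg.Agent.H5

variable {F : Type*} [Field F] {σ : F →+* F} {q n : ℕ}

/-- the form on `F^n` -/
local notation "h⟪" x ", " y "⟫" => hB (Fin _) σ x y

theorem exists_pow_ne [Fintype F] (hF : Fintype.card F = q ^ 2) (hσ : ∀ x, σ x = x ^ q) (k : ℕ) (hk : k < q + 1) (hk0 : 0 < k) :
    ∃ a : F, a ≠ 0 ∧ σ a ^ k ≠ a ^ k := by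
  classical
  by_contra hcon
  push Not at hcon
  have hq := q_pos hF
  obtain ⟨r, rfl⟩ : ∃ r, q = r + 1 := ⟨q - 1, by omega⟩
  have h1 : (Finset.univ.filter (fun x : F => x ≠ 0)) ⊆ (Polynomial.nthRoots (k * r) (1 : F)).toFinset := by
    intro x hx
    have hx0 : x ≠ 0 := (Finset.mem_filter.mp hx).2
    rw [Multiset.mem_toFinset, Polynomial.mem_nthRoots (Nat.mul_pos hk0 (by omega))]
    have h2 := hcon x hx0
    rw [hσ, ← pow_mul] at h2
    have h3 : x ^ k * x ^ (k * r) = x ^ k := by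
      rw [← pow_add, ← h2]
      congr 1; ring
    exact mul_left_cancel₀ (pow_ne_zero k hx0) (h3.trans (mul_one _).symm)
  have h4 := Finset.card_le_card h1
  have h5 := (Multiset.toFinset_card_le (Polynomial.nthRoots (k * r) (1 : F))).trans (Polynomial.card_nthRoots _ (1 : F))
  have h6 : (Finset.univ.filter (fun x : F => x ≠ 0)).card = (r + 1) ^ 2 - 1 := by
    rw [Finset.filter_ne', Finset.card_erase_of_mem (Finset.mem_univ _), Finset.card_univ, hF]
  have h7 : (r + 1) ^ 2 - 1 = (r + 2) * r := by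
    have : (r + 1) ^ 2 = (r + 2) * r + 1 := by ring
    omega
  have h8 : (r + 2) * r ≤ k * r := by omega
  have h9 := Nat.le_of_mul_le_mul_right h8 (by omega)
  omega

theorem comm_SU [Fintype F] (hF : Fintype.card F = q ^ 2) (hσ : ∀ x, σ x = x ^ q) (hσ1 : σ ≠ RingHom.id F)
    (hσ2 : ∀ a, σ (σ a) = a) {m : ℕ} (hm1 : 1 ≤ m) (hn : 2 ≤ m + 2) (hm : 2 ≤ m ∨ 2 < q) (e f : Fin (m + 2) → F)
    (h : (psuPol (n := m + 2) hF hσ hσ1 hσ2 hn).Hyp e f) : (psuPol (n := m + 2) hF hσ hσ1 hσ2 hn).Comm e f := by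
  have hS := hB_symm (ι := Fin (m + 2)) hσ2
  have he : h⟪e, e⟫ = 0 := h.e0
  have hf : h⟪f, f⟫ = 0 := h.f0
  have hef : h⟪e, f⟫ = 1 := h.ef
  obtain ⟨v, hvW, hv, hvs⟩ := exists_onb hσ1 hσ2 he hf hef
  intro c hcW hadd hL
  have hWv : ∀ i, (psuPol (n := m + 2) hF hσ hσ1 hσ2 hn).InW e f (v i) := fun i => hvW i
  have hsm : ∀ (b : F) i, (psuPol (n := m + 2) hF hσ hσ1 hσ2 hn).InW e f (b • v i) := fun b i =>
    (hWv i).smul b
  have hvi : ∀ i, h⟪v i, v i⟫ = 1 := fun i => by rw [hv, if_pos rfl]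
  have hc0 : c 0 = 0 := by
    have := hadd 0 0 Pol.InW.zero Pol.InW.zero
    rw [add_zero] at this
    exact left_eq_add.mp this
  -- the operators `D`
  have hD : ∀ (i : Fin m) (a : F), a ≠ 0 → ∀ w, (psuPol (n := m + 2) hF hσ hσ1 hσ2 hn).InW e f w →
      c (σ a • w + ((σ a * σ a / a - σ a) * h⟪v i, w⟫) • v i) =
        σ a • c w + ((σ a * σ a / a - σ a) * h⟪v i, c w⟫) • v i := by
    intro i a ha w hw
    obtain ⟨g, hg1, hg2, hg3⟩ := exists_DL (q := q) hσ hσ2 he hf hef (hvW i).1 (hvW i).2 (hvi i) ha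
    have h1 : c (σ a • sv g w) = σ a • sv g (c w) := hL g a ⟨hg1, _, hg2⟩ w hw
    rw [hg3 w hw.1 hw.2, hg3 (c w) (hcW w hw).1 (hcW w hw).2] at h1
    have h2 : ∀ x : Fin (m + 2) → F, σ a • (x + ((σ a / a - 1) * h⟪v i, x⟫) • v i) =
        σ a • x + ((σ a * σ a / a - σ a) * h⟪v i, x⟫) • v i := by
      intro x
      rw [smul_add, smul_smul]
      congr 2
      field_simp
    rw [h2, h2] at h1
    exact h1
  -- it suffices that `c` is scalar on multiples of the basis vectors
  suffices hb : ∃ γ : F, ∀ i (b : F), c (b • v i) = γ • b • v i by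
    obtain ⟨γ, hγ⟩ := hb
    refine ⟨γ, fun w hw => ?_⟩
    have key : ∀ (s : Finset (Fin m)), c (∑ i ∈ s, h⟪v i, w⟫ • v i) = γ • (∑ i ∈ s, h⟪v i, w⟫ • v i) ∧
        (psuPol (n := m + 2) hF hσ hσ1 hσ2 hn).InW e f (∑ i ∈ s, h⟪v i, w⟫ • v i) := by
      intro s
      induction s using Finset.induction_on with
      | empty => exact ⟨by rw [Finset.sum_empty, hc0, smul_zero], by rw [Finset.sum_empty]; exact Pol.InW.zero⟩
      | insert i s his ih =>
        rw [Finset.sum_insert his]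
        exact ⟨by rw [hadd _ _ (hsm _ i) ih.2, hγ, ih.1, smul_add], (hsm _ i).add ih.2⟩
    have h1 := (key Finset.univ).1
    rw [← hvs w hw.1 hw.2] at h1
    exact h1
  -- `c` commutes with fixed scalars
  have hfix : ∀ s : F, σ s = s → ∀ w, (psuPol (n := m + 2) hF hσ hσ1 hσ2 hn).InW e f w → c (s • w) = s • c w := by
    intro s hs w hw
    by_cases hs0 : s = 0
    · rw [hs0, zero_smul, zero_smul, hc0]
    · have h5 := hD ⟨0, hm1⟩ s hs0 w hw
      rw [hs, mul_self_div_self, sub_self, zero_mul, zero_smul, add_zero, zero_mul, zero_smul, add_zero] at h5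
      exact h5
  have hperp : ∀ j w, (psuPol (n := m + 2) hF hσ hσ1 hσ2 hn).InW e f w → h⟪v j, w⟫ = 0 → h⟪v j, c w⟫ = 0 := by
    intro j w hw hjw
    obtain ⟨a, ha, ha2⟩ := exists_pow_ne hF hσ 2 (by have := q_pos hF; omega) (by norm_num)
    have hsa : σ a ≠ 0 := fun h0 => ha ((map_eq_zero σ).mp h0)
    obtain ⟨ν, hν⟩ : ∃ ν, ν = σ a * σ a / a := ⟨_, rfl⟩
    have h3 := hD j a ha w hw
    rw [hjw, mul_zero, zero_smul, add_zero, ← hν] at h3
    have h4 := hD j a ha (σ a • w) (hw.smul _)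
    rw [h3, hsmul_r, hjw, mul_zero, mul_zero, zero_smul, add_zero, ← hν] at h4
    have hT := hfix (a + σ a) (by rw [map_add, hσ2]; ring) _ (hw.smul (σ a))
    have hN := hfix (a * σ a) (by rw [map_mul, hσ2]; ring) _ hw
    rw [h3] at hT
    have h6 : (σ a) • (σ a) • w + (a * σ a) • w = (a + σ a) • σ a • w := by module
    have h7 := hadd ((σ a) • (σ a) • w) ((a * σ a) • w) ((hw.smul _).smul _) (hw.smul _)
    rw [h6, hT, h4, hN] at h7
    have h8 := congrArg (fun y => h⟪v j, y⟫) h7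
    simp only [hadd_r, hsmul_r, hvi, mul_one] at h8
    generalize h⟪v j, c w⟫ = y at h8
    have h9 : (ν - a) * (ν - σ a) * y = 0 := by linear_combination -h8
    have h10 : (ν - a) * (ν - σ a) ≠ 0 := by
      rw [hν]
      apply mul_ne_zero
      · rw [sub_ne_zero]
        intro h11
        apply ha2
        field_simp at h11
        linear_combination h11
      · rw [sub_ne_zero]
        intro h11
        apply ha2
        have h12 : σ a = a := by
          field_simp at h11
          exact h11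
        rw [h12]
    exact (mul_eq_zero.mp h9).resolve_left h10
  have hdiag : ∀ i (b : F), c (b • v i) = h⟪v i, c (b • v i)⟫ • v i := by
    intro i b
    conv_lhs => rw [hvs (c (b • v i)) (hcW _ (hsm b i)).1 (hcW _ (hsm b i)).2]
    rw [Finset.sum_eq_single i]
    · intro j _ hj
      rw [hperp j _ (hsm b i) (by rw [hsmul_r, hv, if_neg hj, mul_zero]), zero_smul]
    · intro hi
      exact absurd (Finset.mem_univ i) hi
  by_cases hm2 : 2 ≤ m
  · have : Nontrivial (Fin m) := Fin.nontrivial_iff_two_le.mpr hm2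
    have hlin : ∀ i (x b : F), c (x • b • v i) = x • c (b • v i) := by
      intro i x b
      obtain ⟨j, hj⟩ := exists_ne i
      by_cases hx : x = 0
      · rw [hx, zero_smul, zero_smul, hc0]
      · have hsx : σ x ≠ 0 := fun h0 => hx ((map_eq_zero σ).mp h0)
        have h1 := hD j (σ x) hsx (b • v i) (hsm b i)
        rw [hsmul_r, hv, if_neg hj, mul_zero, mul_zero, zero_smul, add_zero, hσ2,
          hperp j _ (hsm b i) (by rw [hsmul_r, hv, if_neg hj, mul_zero]), mul_zero, zero_smul, add_zero] at h1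
        exact h1
    have hγ : ∀ i, c (v i) = h⟪v i, c (v i)⟫ • v i := by
      intro i
      have := hdiag i 1
      rwa [one_smul] at this
    have hij : ∀ i j, h⟪v i, c (v i)⟫ = h⟪v j, c (v j)⟫ := by
      intro i j
      by_cases hne : i = j
      · rw [hne]
      · obtain ⟨g, _, hg1, hg2, hg3⟩ := suT_rot (n := m + 2) (q := q) hσ hσ1 hσ2 (x := v i) (x' := v j)
          (by rw [hv, if_pos rfl]) (by rw [hv, if_pos rfl]) (by rw [hv, if_neg hne]) (α := 0) (β := 1) (by simp)
        have hge : sv g e = (1 : F) • e := by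
          rw [one_smul]
          exact hg3 e (by rw [← hS, (hvW i).1, map_zero]) (by rw [← hS, (hvW j).1, map_zero])
        have hgf : sv g f = (1 : F) • f := by
          rw [one_smul]
          exact hg3 f (by rw [← hS, (hvW i).2, map_zero]) (by rw [← hS, (hvW j).2, map_zero])
        rw [zero_smul, one_smul, zero_add] at hg1
        have h1 : c (σ 1 • sv g (v i)) = σ 1 • sv g (c (v i)) := hL g 1 ⟨hge, _, hgf⟩ _ (hWv i)
        rw [map_one, one_smul, one_smul, hg1, hγ i, sv_smul, hg1] at h1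
        have h2 := congrArg (fun y => h⟪v j, y⟫) h1
        simp only [hsmul_r, hvi, mul_one] at h2
        exact h2.symm
    refine ⟨h⟪v ⟨0, hm1⟩, c (v ⟨0, hm1⟩)⟫, fun i b => ?_⟩
    have h1 := hlin i b 1
    rw [one_smul] at h1
    rw [h1]
    conv_lhs => rw [hγ i, hij i ⟨0, hm1⟩]
    rw [smul_comm]
  · -- `m = 1`
    have hm1' : m = 1 := by omega
    subst hm1'
    have hq : 2 < q := by omega
    obtain ⟨a, ha, ha3⟩ := exists_pow_ne hF hσ 3 (by omega) (by norm_num)
    have hsa : σ a ≠ 0 := fun h0 => ha ((map_eq_zero σ).mp h0)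
    obtain ⟨ν, hν⟩ : ∃ ν, ν = σ a * σ a / a := ⟨_, rfl⟩
    have hνn : σ ν ≠ ν := by
      intro h1
      apply ha3
      rw [hν, map_div₀, map_mul, hσ2] at h1
      field_simp at h1
      linear_combination -h1
    have hνc : ∀ b : F, c (ν • b • v 0) = ν • c (b • v 0) := by
      intro b
      have h1 := hD 0 a ha (b • v 0) (hsm b 0)
      rw [hsmul_r, hvi, mul_one, ← hν] at h1
      have h2 : σ a • b • v 0 + ((ν - σ a) * b) • v 0 = ν • b • v 0 := by module
      rw [h2] at h1
      rw [h1]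
      conv_lhs => rw [hdiag 0 b]
      conv_rhs => rw [hdiag 0 b]
      rw [hsmul_r, hvi, mul_one]
      module
    have hall : ∀ x b : F, c (x • b • v 0) = x • c (b • v 0) := by
      intro x b
      obtain ⟨t, ht⟩ : ∃ t, t = (x - σ x) / (ν - σ ν) := ⟨_, rfl⟩
      have hd : ν - σ ν ≠ 0 := sub_ne_zero.mpr (Ne.symm hνn)
      have hd' : σ ν - ν ≠ 0 := sub_ne_zero.mpr hνn
      have ht1 : σ t = t := by
        rw [ht, map_div₀, map_sub, map_sub, hσ2, hσ2]
        rw [div_eq_div_iff hd' hd]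
        ring
      have hs1 : σ (x - t * ν) = x - t * ν := by
        rw [map_sub, map_mul, ht1, ht]
        field_simp
        ring
      have h1 : x • b • v 0 = (x - t * ν) • b • v 0 + t • ν • b • v 0 := by module
      rw [h1, hadd _ _ ((hsm b 0).smul _) (((hsm b 0).smul _).smul _), hfix _ hs1 _ (hsm b 0),
        hfix _ ht1 _ ((hsm b 0).smul _), hνc]
      module
    refine ⟨h⟪v 0, c (v 0)⟫, fun i b => ?_⟩
    have hi : i = 0 := Subsingleton.elim _ _
    subst hi
    have h1 := hall b 1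
    rw [one_smul] at h1
    rw [h1]
    have h2 := hdiag 0 1
    rw [one_smul] at h2
    conv_lhs => rw [h2]
    rw [smul_comm]

end Cfsg.Agent.H17
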