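import Mathlib
import Cfsg.Agent.H17.H90
import Cfsg.Agent.H17.QuotAut
import Cfsg.Agent.H17.PolSU3

set_option autoImplicit false

/-! Automorphisms of `PSU_n(q)` induced by unitary matrices and field automorphisms. -/

namespace Cfsg.Agent.H17

open Cfsg Cfsg.Agent.H5
open scoped MatrixGroups Matrix

variable {F : Type*} [Field F] {q n : ℕ}

theorem hermForm_sV (σ : F ≃+* F) (u v : Fin n → F) : hermForm n F q (sV σ u) (sV σ v) = σ (hermForm n F q u v) := by
  unfold hermForm sV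
  rw [map_sum]
  apply Finset.sum_congr rfl
  intro i _
  rw [map_mul, map_pow]

theorem glMap_mem_GU {σ : F ≃+* F} {g : GL (Fin n) F} (h : g ∈ GU n F q) : glMap σ g ∈ GU n F q := by
  intro u v
  have h1 : ∀ w : Fin n → F, w = sV σ (sV σ⁻¹ w) := by
    intro w; rw [sV_sV, mul_inv_cancel, sV_one]
  rw [h1 u, h1 v]
  change hermForm n F q ((glMap σ g : Matrix (Fin n) (Fin n) F) *ᵥ _) ((glMap σ g : Matrix (Fin n) (Fin n) F) *ᵥ _) = _
  rw [← sV_mulVec, ← sV_mulVec, hermForm_sV, hermForm_sV]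
  exact congrArg σ (h _ _)

theorem glMap_mem_GU_iff {σ : F ≃+* F} {g : GL (Fin n) F} : glMap σ g ∈ GU n F q ↔ g ∈ GU n F q := by
  constructor
  · intro h
    have := glMap_mem_GU (σ := σ⁻¹) h
    rwa [← glMap_mul, inv_mul_cancel, glMap_one] at this
  · exact glMap_mem_GU

theorem mem_SU_iff' {s : Matrix.SpecialLinearGroup (Fin n) F} :
    s ∈ SU n F q ↔ Matrix.SpecialLinearGroup.toGL s ∈ GU n F q := Iff.rfl

theorem toGL_conjSL (g : GL (Fin n) F) (s : Matrix.SpecialLinearGroup (Fin n) F) :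
    Matrix.SpecialLinearGroup.toGL (conjSL g s) = g * Matrix.SpecialLinearGroup.toGL s * g⁻¹ := by
  apply Units.ext
  rfl

theorem toGL_fieldSL (σ : F ≃+* F) (s : Matrix.SpecialLinearGroup (Fin n) F) :
    Matrix.SpecialLinearGroup.toGL (fieldSL σ s) = glMap σ (Matrix.SpecialLinearGroup.toGL s) := by
  apply Units.ext
  rfl

theorem conjSL_mem_stab {g : GL (Fin n) F} (hg : g ∈ GU n F q) : conjSL g ∈ stabA (SU n F q) := by
  intro s
  rw [mem_SU_iff', mem_SU_iff', toGL_conjSL]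
  constructor
  · intro h
    have h1 := (GU n F q).mul_mem ((GU n F q).mul_mem ((GU n F q).inv_mem hg) h) hg
    have h2 : g⁻¹ * (g * Matrix.SpecialLinearGroup.toGL s * g⁻¹) * g = Matrix.SpecialLinearGroup.toGL s := by group
    rwa [h2] at h1
  · intro h
    exact (GU n F q).mul_mem ((GU n F q).mul_mem hg h) ((GU n F q).inv_mem hg)

theorem fieldSL_mem_stab (σ : F ≃+* F) : fieldSL σ ∈ stabA (SU n F q) := by
  intro s
  rw [mem_SU_iff', mem_SU_iff', toGL_fieldSL, glMap_mem_GU_iff]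

/-- conjugation by unitary matrices -/
def conjSU (n : ℕ) (F : Type*) [Field F] (q : ℕ) : GU n F q →* MulAut (SU n F q) :=
  (resA (SU n F q)).comp ((conjSL.comp (GU n F q).subtype).codRestrict (stabA (SU n F q))
    (fun g => conjSL_mem_stab g.2))

/-- field automorphisms -/
def fieldSU (n : ℕ) (F : Type*) [Field F] (q : ℕ) : (F ≃+* F) →* MulAut (SU n F q) :=
  (resA (SU n F q)).comp ((fieldSL : (F ≃+* F) →* MulAut (Matrix.SpecialLinearGroup (Fin n) F)).codRestrict
    (stabA (SU n F q)) fieldSL_mem_stab)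

theorem coe_conjSU (g : GU n F q) (s : SU n F q) :
    (((conjSU n F q g s : SU n F q) : Matrix.SpecialLinearGroup (Fin n) F) : Matrix (Fin n) (Fin n) F) =
      ((g : GL (Fin n) F) : Matrix (Fin n) (Fin n) F) * ((s : Matrix.SpecialLinearGroup (Fin n) F) : Matrix (Fin n) (Fin n) F) *
        (((g : GL (Fin n) F)⁻¹ : GL (Fin n) F) : Matrix (Fin n) (Fin n) F) := rfl

theorem coe_fieldSU (σ : F ≃+* F) (s : SU n F q) :
    (((fieldSU n F q σ s : SU n F q) : Matrix.SpecialLinearGroup (Fin n) F) : Matrix (Fin n) (Fin n) F) =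
      ((s : Matrix.SpecialLinearGroup (Fin n) F) : Matrix (Fin n) (Fin n) F).map σ := rfl

/-- on `PSU` -/
def cU (n : ℕ) (F : Type*) [Field F] (q : ℕ) : GU n F q →* MulAut (PSU n F q) := (congrC (SU n F q)).comp (conjSU n F q)

/-- on `PSU` -/
def fU (n : ℕ) (F : Type*) [Field F] (q : ℕ) : (F ≃+* F) →* MulAut (PSU n F q) := (congrC (SU n F q)).comp (fieldSU n F q)

theorem cU_mk (g : GU n F q) (s : SU n F q) : cU n F q g (QuotientGroup.mk s) = QuotientGroup.mk (conjSU n F q g s) := rfl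
theorem fU_mk (σ : F ≃+* F) (s : SU n F q) : fU n F q σ (QuotientGroup.mk s) = QuotientGroup.mk (fieldSU n F q σ s) := rfl

theorem SU_ext {s t : SU n F q} (h : ((s : Matrix.SpecialLinearGroup (Fin n) F) : Matrix (Fin n) (Fin n) F) =
    ((t : Matrix.SpecialLinearGroup (Fin n) F) : Matrix (Fin n) (Fin n) F)) : s = t := Subtype.ext (Subtype.ext h)

theorem autPSU_ext {α β : MulAut (PSU n F q)} (h : ∀ s : SU n F q, α (QuotientGroup.mk s) = β (QuotientGroup.mk s)) :
    α = β := by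
  ext x
  induction x using QuotientGroup.induction_on with
  | H z => exact h z

theorem innDiagU_iff {β : MulAut (PSU n F q)} : IsInnerDiagonalAutPSU β ↔ ∃ g : GU n F q, β = cU n F q g := by
  constructor
  · rintro ⟨g, hg, h⟩
    exact ⟨⟨g, hg⟩, autPSU_ext fun s => h s (conjSU n F q ⟨g, hg⟩ s) rfl⟩
  · rintro ⟨g, rfl⟩
    refine ⟨g, g.2, fun s s' h => ?_⟩
    rw [cU_mk]
    congr 1
    apply SU_ext
    rw [h]; rfl

theorem fieldU_iff {σ : F ≃+* F} {β : MulAut (PSU n F q)} : IsFieldAutPSUOf σ β ↔ β = fU n F q σ := by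
  constructor
  · intro h
    exact autPSU_ext fun s => h s (fieldSU n F q σ s) rfl
  · rintro rfl s s' h
    rw [fU_mk]
    congr 1
    apply SU_ext
    rw [h]; rfl

theorem semilinU_iff {g : GU n F q} {σ : F ≃+* F} {β : MulAut (PSU n F q)} :
    IsInducedBySemilinearPSU (g : GL (Fin n) F) σ β ↔ β = cU n F q g * fU n F q σ := by
  constructor
  · intro h
    exact autPSU_ext fun s => h s (conjSU n F q g (fieldSU n F q σ s)) rfl
  · rintro rfl s s' h
    rw [MulAut.mul_apply, fU_mk, cU_mk]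
    congr 1
    apply SU_ext
    rw [h]; rfl

/-- `glMap` on `GU` -/
def guMap (n : ℕ) (q : ℕ) (σ : F ≃+* F) (g : GU n F q) : GU n F q := ⟨glMap σ g, glMap_mem_GU g.2⟩

theorem fU_cU (σ : F ≃+* F) (g : GU n F q) : fU n F q σ * cU n F q g = cU n F q (guMap n q σ g) * fU n F q σ := by
  apply autPSU_ext
  intro s
  rw [MulAut.mul_apply, MulAut.mul_apply, fU_mk, cU_mk, fU_mk, cU_mk]
  congr 1
  apply SU_ext
  rw [coe_fieldSU, coe_conjSU, coe_conjSU, coe_fieldSU]
  have : ∀ A B : Matrix (Fin n) (Fin n) F, (A * B).map σ = A.map σ * B.map σ := fun A B =>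
    map_mul (RingHom.mapMatrix (σ : F →+* F)) A B
  rw [this, this]
  rfl

theorem inndiagPSU_eq : inndiagPSU n F q = (cU n F q).range := by
  apply le_antisymm
  · rw [inndiagPSU, autSubgroupOf, Subgroup.closure_le]
    intro β hβ
    obtain ⟨g, rfl⟩ := innDiagU_iff.mp hβ
    exact ⟨g, rfl⟩
  · rintro _ ⟨g, rfl⟩
    exact Subgroup.subset_closure (innDiagU_iff.mpr ⟨g, rfl⟩)

end Cfsg.Agent.H17
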