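import Mathlib
import Cfsg.Agent.H17.SUAut

set_option autoImplicit false

/-! Every automorphism of `PSU_n(q)` is a product of an inner-diagonal and a field automorphism. -/

namespace Cfsg.Agent.H17

open Cfsg Cfsg.Agent.H5
open scoped MatrixGroups Matrix

variable {F : Type*} [Field F] {σ : F →+* F} {q n : ℕ}

/-- the form on `F^n` -/
local notation "h⟪" x ", " y "⟫" => hB (Fin _) σ x y

theorem ctype_SU [Fintype F] (hF : Fintype.card F = q ^ 2) (hσ : ∀ x, σ x = x ^ q) (hσ1 : σ ≠ RingHom.id F)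
    (hσ2 : ∀ a, σ (σ a) = a) (hn : 2 ≤ n) : (psuPol (n := n) hF hσ hσ1 hσ2 hn).CType where
  cases := Or.inr ⟨rfl, by
    by_contra hcon
    push Not at hcon
    exact hσ1 (RingHom.ext hcon), fun _ => rfl, fun _ => rfl⟩
  tz z := by
    constructor
    · intro hz
      have hz' : 1 * z + σ (1 * z) = 0 := hz
      rw [one_mul] at hz'
      obtain ⟨a, ha⟩ := exists_trace_eq hσ1 hσ2 1 (map_one σ)
      refine ⟨-(z * a), ?_⟩
      change z = σ (-(z * a)) - 1 * -(z * a)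
      have h1 : σ z = -z := by linear_combination hz'
      rw [map_neg, map_mul, h1]
      linear_combination (-z) * ha
    · rintro ⟨r, rfl⟩
      change 1 * (σ r - 1 * r) + σ (1 * (σ r - 1 * r)) = 0
      rw [one_mul, one_mul, map_sub, hσ2]; ring
  comm σ' a := by
    change σ (σ' a) = σ' (σ a)
    rw [hσ, hσ, map_pow]

theorem gen_SU [Fintype F] (hF : Fintype.card F = q ^ 2) (hσ : ∀ x, σ x = x ^ q) (hσ1 : σ ≠ RingHom.id F)
    (hσ2 : ∀ a, σ (σ a) = a) (hn : 2 ≤ n) (hn3 : 3 ≤ n) (h32 : ¬ (n = 3 ∧ q = 2)) (e f : Fin n → F)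
    (h : (psuPol (n := n) hF hσ hσ1 hσ2 hn).Hyp e f) :
    Subgroup.closure (((psuPol (n := n) hF hσ hσ1 hσ2 hn).Qs e : Set (PSU n F q)) ∪
      ((psuPol (n := n) hF hσ hσ1 hσ2 hn).Qs f : Set (PSU n F q))) = ⊤ := by
  have hS := hB_symm (ι := Fin n) hσ2
  apply Pol.gen_of_Zs h
  rw [eq_top_iff]
  intro y _
  obtain ⟨g, rfl⟩ := (psuPol (n := n) hF hσ hσ1 hσ2 hn).pr_surj y
  have h1 : g ∈ suT n F q := by rw [suT_eq_top hF hn3 h32]; exact Subgroup.mem_top g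
  unfold suT at h1
  induction h1 using Subgroup.closure_induction with
  | mem A hA =>
    obtain ⟨v, c, hv, hA⟩ := hA
    rw [hermForm_eq hσ] at hv
    have hA' : ∀ x, sv A x = x + (c * h⟪v, x⟫) • v := by
      intro x
      unfold sv
      rw [hA]
      exact unitaryTransvection_mulVec hσ v c x
    by_cases hv0 : v = 0
    · have : A = 1 := by
        apply sv_ext
        intro x
        rw [hA', hv0, smul_zero, add_zero, sv_one]
      rw [this, map_one]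
      exact Subgroup.one_mem _
    · apply Subgroup.subset_closure
      simp only [Set.mem_iUnion]
      have hpt : (psuPol (n := n) hF hσ hσ1 hσ2 hn).Pt v := ⟨hv0, hv⟩
      refine ⟨v, hpt, ?_⟩
      obtain ⟨x, hx⟩ := Pol.exists_B_one (O := psuPol (n := n) hF hσ hσ1 hσ2 hn) hv0
      have hx' : h⟪v, x⟫ = 1 := hx
      have hxv : h⟪x, v⟫ = 1 := by rw [← hS, hx', map_one]
      have hc : c + σ c = 0 := by
        have h2 := sv_isom hσ A x x
        rw [hA', hx', mul_one, hadd_l, hadd_r, hsmul_l, hadd_r, hsmul_r, hsmul_r, hv, hx', hxv] at h2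
        linear_combination h2
      have hok : (psuPol (n := n) hF hσ hσ1 hσ2 hn).Ok v 0 c := by
        refine ⟨hv, map_zero _, ?_⟩
        change h⟪0, 0⟫ + (1 * c + σ (1 * c)) = 0
        rw [map_zero, one_mul, hc, add_zero]
      refine (Pol.mem_Zs hv).mpr ⟨c, hok, ?_⟩
      congr 1
      apply sv_ext
      intro x
      have h3 : sv ((psuPol (n := n) hF hσ hσ1 hσ2 hn).X v 0 c) x = x + h⟪v, x⟫ • (0 + c • v) - (1 * h⟪0, x⟫) • v :=
        Pol.X_act hok x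
      rw [h3, hA']
      have h4 : h⟪(0 : Fin n → F), x⟫ = 0 := by rw [map_zero]; rfl
      rw [h4]
      module
  | one => rw [map_one]; exact Subgroup.one_mem _
  | mul a b _ _ ha hb =>
    rw [map_mul]
    exact Subgroup.mul_mem _ (ha (by trivial)) (hb (by trivial))
  | inv a _ ha =>
    rw [map_inv]
    exact Subgroup.inv_mem _ (ha (by trivial))

/-- a semisimilarity as a matrix -/
theorem semisim_SU [Fintype F] (hF : Fintype.card F = q ^ 2) (hσ : ∀ x, σ x = x ^ q) (hσ1 : σ ≠ RingHom.id F)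
    (hσ2 : ∀ a, σ (σ a) = a) (hn : 2 ≤ n) (S : SemiSim (psuPol (n := n) hF hσ hσ1 hσ2 hn)) :
    ∃ (g : GU n F q) (μ : F), μ ≠ 0 ∧ ∀ x, S.T x = μ • (((g : GL (Fin n) F) : Matrix (Fin n) (Fin n) F) *ᵥ sV S.σ x) := by
  have hS := hB_symm (ι := Fin n) hσ2
  obtain ⟨M, hM⟩ : ∃ M : Matrix (Fin n) (Fin n) F, M = Matrix.of fun i j => S.T (Pi.single j 1) i := ⟨_, rfl⟩
  have hSsum : ∀ (s : Finset (Fin n)) (x : Fin n → Fin n → F), S.T (∑ i ∈ s, x i) = ∑ i ∈ s, S.T (x i) := by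
    intro s x
    classical
    induction s using Finset.induction_on with
    | empty => rw [Finset.sum_empty, Finset.sum_empty, S.T_zero]
    | insert a s ha ih => rw [Finset.sum_insert ha, Finset.sum_insert ha, S.T_add, ih]
  have hMT : ∀ x, S.T x = M *ᵥ sV S.σ x := by
    intro x
    have h1 : x = ∑ j, x j • (Pi.single j (1 : F) : Fin n → F) := by
      ext i
      simp [Finset.sum_apply, Pi.single_apply]
    conv_lhs => rw [h1]
    rw [hSsum]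
    ext i
    rw [Finset.sum_apply, Matrix.mulVec, dotProduct]
    apply Finset.sum_congr rfl
    intro j _
    rw [S.T_smul, Pi.smul_apply, smul_eq_mul, hM, Matrix.of_apply, mul_comm]
    rfl
  obtain ⟨μ, hμ, hμκ⟩ := norm_surj hσ1 hσ2 (c := S.κ) S.τκ S.hκ
  have hσμ : σ μ ≠ 0 := fun h0 => hμ ((map_eq_zero σ).mp h0)
  have hiso : ∀ u v, h⟪(μ⁻¹ • M) *ᵥ u, (μ⁻¹ • M) *ᵥ v⟫ = h⟪u, v⟫ := by
    intro u v
    have h1 : ∀ w : Fin n → F, w = sV S.σ (sV S.σ⁻¹ w) := by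
      intro w; rw [sV_sV, mul_inv_cancel, sV_one]
    rw [Matrix.smul_mulVec, Matrix.smul_mulVec, hsmul_l, hsmul_r]
    conv_lhs => rw [h1 u, h1 v]
    rw [← hMT, ← hMT]
    have h2 : h⟪S.T (sV S.σ⁻¹ u), S.T (sV S.σ⁻¹ v)⟫ = S.κ * S.σ (h⟪sV S.σ⁻¹ u, sV S.σ⁻¹ v⟫) := S.T_B _ _
    have h3 : S.σ (h⟪sV S.σ⁻¹ u, sV S.σ⁻¹ v⟫) = h⟪u, v⟫ := by
      rw [← hermForm_eq hσ, ← hermForm_eq hσ, ← hermForm_sV, ← h1, ← h1]
    rw [h2, h3, ← hμκ, map_inv₀]
    field_simp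
  have hdet : (μ⁻¹ • M).det ≠ 0 := det_ne_zero_of_cols (σ := σ) (cols_of_isom hiso)
  refine ⟨⟨Matrix.GeneralLinearGroup.mkOfDetNeZero (μ⁻¹ • M) hdet, (mem_GU_iff hσ).mpr hiso⟩, μ, hμ, fun x => ?_⟩
  change S.T x = μ • ((μ⁻¹ • M) *ᵥ sV S.σ x)
  rw [Matrix.smul_mulVec, smul_smul, mul_inv_cancel₀ hμ, one_smul, hMT]

theorem induced_SU [Fintype F] (hF : Fintype.card F = q ^ 2) (hσ : ∀ x, σ x = x ^ q) (hσ1 : σ ≠ RingHom.id F)
    (hσ2 : ∀ a, σ (σ a) = a) (hn : 2 ≤ n) (S : SemiSim (psuPol (n := n) hF hσ hσ1 hσ2 hn)) :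
    ∃ g : GU n F q, ∀ β : MulAut (PSU n F q), Pol.Induced S β ↔ β = cU n F q g * fU n F q S.σ := by
  obtain ⟨g, μ, hμ, hT⟩ := semisim_SU hF hσ hσ1 hσ2 hn S
  refine ⟨g, ?_⟩
  -- the element `g σ(s) g⁻¹`
  have key : ∀ s : SU n F q, ∀ x, sv (conjSU n F q g (fieldSU n F q S.σ s)) (S.T x) = S.T (sv s x) := by
    intro s x
    rw [hT, hT, sv_smul]
    congr 1
    unfold sv
    rw [coe_conjSU, coe_fieldSU, Matrix.mulVec_mulVec]
    have h1 : (((g : GL (Fin n) F)⁻¹ : GL (Fin n) F) : Matrix (Fin n) (Fin n) F) * ((g : GL (Fin n) F) : Matrix (Fin n) (Fin n) F) = 1 := by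
      rw [← Units.val_mul, inv_mul_cancel, Units.val_one]
    rw [Matrix.mul_assoc _ _ ((g : GL (Fin n) F) : Matrix (Fin n) (Fin n) F), h1, Matrix.mul_one, ← Matrix.mulVec_mulVec]
    congr 1
    exact (sV_mulVec S.σ (Matrix.SpecialLinearGroup.toGL (s : Matrix.SpecialLinearGroup (Fin n) F)) x).symm
  have huniq : ∀ s s' : SU n F q, (∀ x, sv s' (S.T x) = S.T (sv s x)) → s' = conjSU n F q g (fieldSU n F q S.σ s) := by
    intro s s' h
    apply sv_ext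
    intro y
    obtain ⟨x, rfl⟩ := S.T_surj y
    rw [h, key]
  intro β
  constructor
  · intro hβ
    apply autPSU_ext
    intro s
    exact hβ s _ (key s)
  · rintro rfl s s' h
    change (cU n F q g * fU n F q S.σ) (QuotientGroup.mk s) = QuotientGroup.mk s'
    rw [huniq s s' h]
    rfl

theorem good_SU [Fintype F] (hF : Fintype.card F = q ^ 2) (hσ : ∀ x, σ x = x ^ q) (hσ1 : σ ≠ RingHom.id F)
    (hσ2 : ∀ a, σ (σ a) = a) (hn : 2 ≤ n) (hn3 : 3 ≤ n) (h32 : ¬ (n = 3 ∧ q = 2)) :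
    (psuPol (n := n) hF hσ hσ1 hσ2 hn).Good := by
  have hq := q_pos hF
  obtain ⟨m, rfl⟩ : ∃ m, n = m + 2 := ⟨n - 2, by omega⟩
  refine ⟨?_, ctype_SU hF hσ hσ1 hσ2 hn, ?_, ?_, ?_, ?_, ?_⟩
  · intro e he
    exact exists_ker_not_span (by rw [Module.finrank_fin_fun]; exact hn3) _ e
  · exact comm_SU hF hσ hσ1 hσ2 (by omega) hn (by omega)
  · exact irr_SU hF hσ hσ1 hσ2 hn
  · exact nohom_SU hF hσ hσ1 hσ2 hn (by omega)
  · exact gen_SU hF hσ hσ1 hσ2 hn hn3 h32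
  · intro S
    obtain ⟨g, hg⟩ := induced_SU hF hσ hσ1 hσ2 hn S
    exact ⟨_, (hg _).mpr rfl⟩

/-- the automorphism group of `PSU_n(q)` -/
theorem aut_PSU [Fintype F] (hF : Fintype.card F = q ^ 2) (hn : 3 ≤ n) (h32 : ¬ (n = 3 ∧ q = 2)) (α : MulAut (PSU n F q)) :
    ∃ (g : GU n F q) (τ : F ≃+* F), α = cU n F q g * fU n F q τ := by
  obtain ⟨σ, hσ, hσ2, hσ1⟩ := exists_frob hF
  obtain ⟨p, hp⟩ := CharP.exists F
  haveI : Fact p.Prime := ⟨(CharP.char_is_prime_or_zero F p).resolve_right (by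
    rintro rfl
    haveI := CharP.charP_to_charZero F
    exact not_finite F)⟩
  have hn2 : 2 ≤ n := by omega
  obtain ⟨e, _, he0, he⟩ : ∃ e ∈ (⊤ : Submodule F (Fin n → F)), e ≠ 0 ∧ hB (Fin n) σ e e = 0 := by
    obtain ⟨m, rfl⟩ : ∃ m, n = m + 2 := ⟨n - 2, by omega⟩
    exact UW_exists_isotropic hσ1 hσ2 (k := m) UW_top
  obtain ⟨f, _, hf, hef⟩ := UW_partner hσ1 hσ2 (UW_top (F := F) (σ := σ) (n := n)) (Submodule.mem_top (x := e)) he0 he
  have h : (psuPol (n := n) hF hσ hσ1 hσ2 hn2).Hyp e f := ⟨he, hf, hef⟩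
  obtain ⟨S, hS⟩ := Pol.all_induced p (good_SU hF hσ hσ1 hσ2 hn2 hn h32) h α
  obtain ⟨g, hg⟩ := induced_SU hF hσ hσ1 hσ2 hn2 S
  exact ⟨g, S.σ, (hg α).mp hS⟩

end Cfsg.Agent.H17
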