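import Mathlib
import Cfsg.Agent.H17.PolJ
import Cfsg.Agent.H17.SUAut2

set_option autoImplicit false

/-! The outer automorphism group of `PSU_n(q)`. -/

namespace Cfsg.Agent.H17

open Cfsg Cfsg.Agent.H5
open scoped MatrixGroups Matrix

variable {F : Type*} [Field F] {σ : F →+* F} {q n : ℕ}

/-- the form on `F^n` -/
local notation "h⟪" x ", " y "⟫" => hB (Fin _) σ x y

theorem sV_add (τ : F ≃+* F) (x y : Fin n → F) : sV τ (x + y) = sV τ x + sV τ y := by
  ext i; simp [sV]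

/-- the semisimilarity `x ↦ g τ(x)` -/
def mkSim [Fintype F] (hF : Fintype.card F = q ^ 2) (hσ : ∀ x, σ x = x ^ q) (hσ1 : σ ≠ RingHom.id F)
    (hσ2 : ∀ a, σ (σ a) = a) (hn : 2 ≤ n) (g : GU n F q) (τ : F ≃+* F) : SemiSim (psuPol (n := n) hF hσ hσ1 hσ2 hn) where
  σ := τ
  κ := 1
  T x := ((g : GL (Fin n) F) : Matrix (Fin n) (Fin n) F) *ᵥ sV τ x
  hκ := one_ne_zero
  τκ := map_one _
  T_add x y := by rw [sV_add, Matrix.mulVec_add]
  T_smul a x := by rw [sV_smul, Matrix.mulVec_smul]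
  T_B x y := by
    change h⟪_, _⟫ = 1 * τ h⟪x, y⟫
    rw [(mem_GU_iff hσ).mp g.2, one_mul, ← hermForm_eq hσ, ← hermForm_eq hσ, hermForm_sV]
  T_N x := by
    change h⟪_, _⟫ = 1 * τ h⟪x, x⟫
    rw [(mem_GU_iff hσ).mp g.2, one_mul, ← hermForm_eq hσ, ← hermForm_eq hσ, hermForm_sV]
  T_t b := by
    change 1 * τ b + σ (1 * τ b) = 1 * τ (b + σ b)
    rw [one_mul, one_mul, map_add, hσ, hσ, map_pow]
  T_surj y := by
    refine ⟨sV τ⁻¹ ((((g : GL (Fin n) F)⁻¹ : GL (Fin n) F) : Matrix (Fin n) (Fin n) F) *ᵥ y), ?_⟩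
    beta_reduce
    rw [sV_sV, mul_inv_cancel, sV_one, Matrix.mulVec_mulVec, ← Units.val_mul, mul_inv_cancel, Units.val_one, Matrix.one_mulVec]

theorem mkSim_induced [Fintype F] (hF : Fintype.card F = q ^ 2) (hσ : ∀ x, σ x = x ^ q) (hσ1 : σ ≠ RingHom.id F)
    (hσ2 : ∀ a, σ (σ a) = a) (hn : 2 ≤ n) (g : GU n F q) (τ : F ≃+* F) :
    Pol.Induced (mkSim hF hσ hσ1 hσ2 hn g τ) (cU n F q g * fU n F q τ) := by
  intro s s' h
  change (cU n F q g * fU n F q τ) (QuotientGroup.mk s) = QuotientGroup.mk s'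
  have key : ∀ x, sv (conjSU n F q g (fieldSU n F q τ s)) ((mkSim hF hσ hσ1 hσ2 hn g τ).T x) =
      (mkSim hF hσ hσ1 hσ2 hn g τ).T (sv s x) := by
    intro x
    change sv _ (((g : GL (Fin n) F) : Matrix (Fin n) (Fin n) F) *ᵥ sV τ x) =
      ((g : GL (Fin n) F) : Matrix (Fin n) (Fin n) F) *ᵥ sV τ (sv s x)
    unfold sv
    rw [coe_conjSU, coe_fieldSU, Matrix.mulVec_mulVec]
    have h1 : (((g : GL (Fin n) F)⁻¹ : GL (Fin n) F) : Matrix (Fin n) (Fin n) F) * ((g : GL (Fin n) F) : Matrix (Fin n) (Fin n) F) = 1 := by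
      rw [← Units.val_mul, inv_mul_cancel, Units.val_one]
    rw [Matrix.mul_assoc _ _ ((g : GL (Fin n) F) : Matrix (Fin n) (Fin n) F), h1, Matrix.mul_one, ← Matrix.mulVec_mulVec]
    congr 1
    exact (sV_mulVec τ (Matrix.SpecialLinearGroup.toGL (s : Matrix.SpecialLinearGroup (Fin n) F)) x).symm
  have h2 : s' = conjSU n F q g (fieldSU n F q τ s) := by
    apply sv_ext
    intro y
    obtain ⟨x, rfl⟩ := (mkSim hF hσ hσ1 hσ2 hn g τ).T_surj y
    rw [key]
    exact h x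
  rw [h2]
  rfl

theorem exists_hyp_SU [Fintype F] (hF : Fintype.card F = q ^ 2) (hσ : ∀ x, σ x = x ^ q) (hσ1 : σ ≠ RingHom.id F)
    (hσ2 : ∀ a, σ (σ a) = a) (hn : 2 ≤ n) : ∃ e f, (psuPol (n := n) hF hσ hσ1 hσ2 hn).Hyp e f := by
  obtain ⟨e, _, he0, he⟩ : ∃ e ∈ (⊤ : Submodule F (Fin n → F)), e ≠ 0 ∧ hB (Fin n) σ e e = 0 := by
    obtain ⟨m, rfl⟩ : ∃ m, n = m + 2 := ⟨n - 2, by omega⟩
    exact UW_exists_isotropic hσ1 hσ2 (k := m) UW_top
  obtain ⟨f, _, hf, hef⟩ := UW_partner hσ1 hσ2 (UW_top (F := F) (σ := σ) (n := n)) (Submodule.mem_top (x := e)) he0 he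
  exact ⟨e, f, ⟨he, hf, hef⟩⟩

theorem cU_fU_eq_one [Fintype F] (hF : Fintype.card F = q ^ 2) (hn : 3 ≤ n) (g : GU n F q) (τ : F ≃+* F)
    (h : cU n F q g * fU n F q τ = 1) :
    τ = 1 ∧ ∃ c : F, ((g : GL (Fin n) F) : Matrix (Fin n) (Fin n) F) = c • 1 := by
  obtain ⟨σ, hσ, hσ2, hσ1⟩ := exists_frob hF
  have hn2 : 2 ≤ n := by omega
  obtain ⟨e, f, hyp⟩ := exists_hyp_SU (n := n) hF hσ hσ1 hσ2 hn2
  have h1 := mkSim_induced hF hσ hσ1 hσ2 hn2 g τ
  rw [h] at h1
  have hbig : (psuPol (n := n) hF hσ hσ1 hσ2 hn2).Big := fun e _ =>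
    exists_ker_not_span (by rw [Module.finrank_fin_fun]; exact hn) _ e
  obtain ⟨h2, c, hc⟩ := Pol.induced_one hbig (ctype_SU hF hσ hσ1 hσ2 hn2) hyp h1
  have h3 : τ = 1 := h2
  refine ⟨h3, c, ?_⟩
  apply Matrix.ext_of_mulVec_single
  intro i
  have h4 : ((g : GL (Fin n) F) : Matrix (Fin n) (Fin n) F) *ᵥ sV τ (Pi.single i 1) = c • Pi.single i 1 := hc (Pi.single i 1)
  rw [h3, sV_one] at h4
  rw [h4, Matrix.smul_mulVec, Matrix.one_mulVec]

theorem cU_eq_one_iff [Fintype F] (hF : Fintype.card F = q ^ 2) (hn : 3 ≤ n) (g : GU n F q) :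
    cU n F q g = 1 ↔ ∃ c : F, ((g : GL (Fin n) F) : Matrix (Fin n) (Fin n) F) = c • 1 := by
  constructor
  · intro h
    exact (cU_fU_eq_one hF hn g 1 (by rw [h, map_one, mul_one])).2
  · rintro ⟨c, hc⟩
    apply autPSU_ext
    intro s
    rw [cU_mk, MulAut.one_apply]
    congr 1
    apply SU_ext
    rw [coe_conjSU]
    have h1 : ((g : GL (Fin n) F) : Matrix (Fin n) (Fin n) F) * ((s : Matrix.SpecialLinearGroup (Fin n) F) : Matrix (Fin n) (Fin n) F) =
        ((s : Matrix.SpecialLinearGroup (Fin n) F) : Matrix (Fin n) (Fin n) F) * ((g : GL (Fin n) F) : Matrix (Fin n) (Fin n) F) := by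
      rw [hc, Matrix.smul_mul, Matrix.mul_smul, one_mul, mul_one]
    rw [h1, Matrix.mul_assoc, ← Units.val_mul, mul_inv_cancel, Units.val_one, Matrix.mul_one]

/-- the inclusion of `SU` in `GU` -/
def suGU (n : ℕ) (F : Type*) [Field F] (q : ℕ) : SU n F q →* GU n F q where
  toFun s := ⟨Matrix.SpecialLinearGroup.toGL (s : Matrix.SpecialLinearGroup (Fin n) F), s.2⟩
  map_one' := by
    apply Subtype.ext
    exact map_one Matrix.SpecialLinearGroup.toGL
  map_mul' a b := by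
    apply Subtype.ext
    exact map_mul Matrix.SpecialLinearGroup.toGL _ _

theorem conj_mkU (s : SU n F q) : MulAut.conj (QuotientGroup.mk s : PSU n F q) = cU n F q (suGU n F q s) := by
  apply autPSU_ext
  intro t
  rw [MulAut.conj_apply, cU_mk]
  change QuotientGroup.mk (s * t * s⁻¹) = _
  congr 1

/-- the kernel of `cU` is the group of norm-one scalars. -/
theorem card_ker_cU [Fintype F] (hF : Fintype.card F = q ^ 2) (hn : 3 ≤ n) : Nat.card (cU n F q).ker = q + 1 := by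
  obtain ⟨σ, hσ, hσ2, hσ1⟩ := exists_frob hF
  haveI : NeZero n := ⟨by omega⟩
  rw [← card_norm_eq hF hσ (map_one σ) one_ne_zero]
  refine Nat.card_congr ⟨fun g => ⟨(((g : GU n F q) : GL (Fin n) F) : Matrix (Fin n) (Fin n) F) 0 0, ?_⟩,
    fun x => ⟨⟨Matrix.GeneralLinearGroup.mkOfDetNeZero ((x : F) • (1 : Matrix (Fin n) (Fin n) F))
      (det_ne_zero_of_cols (smul_one_cols x.2)), (mem_GU_iff hσ).mpr (isom_of_cols (smul_one_cols x.2))⟩, ?_⟩, ?_, ?_⟩
  · obtain ⟨c, hc⟩ := (cU_eq_one_iff hF hn _).mp g.2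
    have h1 := det_norm_one (cols_of_isom ((mem_GU_iff hσ).mp g.1.2))
    have h2 := cols_of_isom ((mem_GU_iff hσ).mp g.1.2) 0 0
    rw [hB_apply, if_pos rfl, hc, Finset.sum_eq_single 0] at h2
    · rw [hc]; exact h2
    · intro k _ hk
      simp [Matrix.one_apply_ne hk]
    · intro h
      exact absurd (Finset.mem_univ _) h
  · rw [MonoidHom.mem_ker]
    exact (cU_eq_one_iff hF hn _).mpr ⟨x, rfl⟩
  · intro g
    obtain ⟨c, hc⟩ := (cU_eq_one_iff hF hn _).mp g.2
    apply Subtype.ext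
    apply Subtype.ext
    apply Units.ext
    change ((((g : GU n F q) : GL (Fin n) F) : Matrix (Fin n) (Fin n) F) 0 0) • (1 : Matrix (Fin n) (Fin n) F) = _
    rw [hc]
    simp
  · intro x
    apply Subtype.ext
    change ((x : F) • (1 : Matrix (Fin n) (Fin n) F)) 0 0 = x
    simp

theorem card_range_cU [Fintype F] (hF : Fintype.card F = q ^ 2) (hn : 3 ≤ n) :
    Nat.card (cU n F q).range = Nat.gcd n (q + 1) * Nat.card (PSU n F q) := by
  have h1 := Subgroup.card_mul_index (cU n F q).ker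
  rw [Subgroup.index_ker, card_ker_cU hF hn, card_GU hF n, ← card_PSU_mul hF (by omega : 2 ≤ n)] at h1
  have h2 : (q + 1) * Nat.card (cU n F q).range = (q + 1) * (Nat.gcd n (q + 1) * Nat.card (PSU n F q)) := by
    rw [h1]; ring
  exact Nat.eq_of_mul_eq_mul_left (by omega) h2

/-- the type homomorphism -/
theorem exists_typeHomU [Fintype F] (hF : Fintype.card F = q ^ 2) (hn : 3 ≤ n) (h32 : ¬ (n = 3 ∧ q = 2)) :
    ∃ Φ : MulAut (PSU n F q) →* (F ≃+* F), (∀ g σ, Φ (cU n F q g * fU n F q σ) = σ) ∧ Φ.ker = (cU n F q).range ∧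
      Function.Surjective Φ :=
  exists_fieldHom (cU n F q) (fU n F q) (guMap n q) (fun σ g => fU_cU σ g) (fun α => aut_PSU hF hn h32 α)
    (fun g σ h => (cU_fU_eq_one hF hn g σ h).1)

theorem card_ringAut [Fintype F] (hF : Fintype.card F = q ^ 2) (p f : ℕ) [Fact p.Prime] (hf : 1 ≤ f) (hq : q = p ^ f) :
    IsCyclic (F ≃+* F) ∧ Nat.card (F ≃+* F) = 2 * f := by
  have hF' : Nat.card F = p ^ (2 * f) := by rw [Nat.card_eq_fintype_card, hF, hq, ← pow_mul, mul_comm]
  exact ringAut_cyclic p (2 * f) (by omega) hF'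

theorem cU_mem_Inn_iff [Fintype F] (hF : Fintype.card F = q ^ 2) (hσ : ∀ x, σ x = x ^ q) (hn : 3 ≤ n) (g : GU n F q) :
    cU n F q g ∈ Inn (PSU n F q) ↔ ∃ c : F, σ c * c = 1 ∧ ((g : GL (Fin n) F) : Matrix (Fin n) (Fin n) F).det = c ^ n := by
  haveI : NeZero n := ⟨by omega⟩
  constructor
  · rintro ⟨x, hx⟩
    induction x using QuotientGroup.induction_on with
    | H s =>
      rw [conj_mkU] at hx
      have h1 : cU n F q ((suGU n F q s)⁻¹ * g) = 1 := by
        rw [map_mul, map_inv, hx, inv_mul_cancel]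
      obtain ⟨c, hc⟩ := (cU_eq_one_iff hF hn _).mp h1
      have h2 : ((g : GL (Fin n) F) : Matrix (Fin n) (Fin n) F) = c • (((suGU n F q s : GU n F q) : GL (Fin n) F) : Matrix (Fin n) (Fin n) F) := by
        have h3 : (g : GL (Fin n) F) = (suGU n F q s : GU n F q) * (((suGU n F q s)⁻¹ * g : GU n F q) : GL (Fin n) F) := by
          rw [Subgroup.coe_mul, Subgroup.coe_inv, ← mul_assoc, mul_inv_cancel, one_mul]
        conv_lhs => rw [h3]
        rw [Units.val_mul, hc, Matrix.mul_smul, Matrix.mul_one]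
      refine ⟨c, ?_, ?_⟩
      · have h4 := (mem_GU_iff hσ).mp g.2 (Pi.single 0 1) (Pi.single 0 1)
        rw [h2, Matrix.smul_mulVec, hsmul_l, hsmul_r, (mem_GU_iff hσ).mp (suGU n F q s).2, hB_single, if_pos rfl, mul_one] at h4
        exact h4
      · rw [h2, Matrix.det_smul, Fintype.card_fin]
        have : ((((suGU n F q s : GU n F q) : GL (Fin n) F) : Matrix (Fin n) (Fin n) F)).det = 1 := s.1.2
        rw [this, mul_one]
  · rintro ⟨c, hc1, hc2⟩
    have hc0 : c ≠ 0 := by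
      rintro rfl
      rw [mul_zero] at hc1
      exact zero_ne_one hc1
    have hc1' : σ c⁻¹ * c⁻¹ = 1 := by
      rw [map_inv₀, ← mul_inv, hc1, inv_one]
    let s : SU n F q := mkSU hσ (c⁻¹ • ((g : GL (Fin n) F) : Matrix (Fin n) (Fin n) F)) (by
      apply cols_of_isom
      intro u v
      rw [Matrix.smul_mulVec, Matrix.smul_mulVec, hsmul_l, hsmul_r, (mem_GU_iff hσ).mp g.2, ← mul_assoc, hc1', one_mul]) (by
      rw [Matrix.det_smul, Fintype.card_fin, hc2, inv_pow, inv_mul_cancel₀ (pow_ne_zero n hc0)])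
    refine ⟨QuotientGroup.mk s, ?_⟩
    rw [conj_mkU]
    have h1 : cU n F q ((suGU n F q s)⁻¹ * g) = 1 := by
      rw [cU_eq_one_iff hF hn]
      refine ⟨c, ?_⟩
      have h2 : ((g : GL (Fin n) F) : Matrix (Fin n) (Fin n) F) = c • (((suGU n F q s : GU n F q) : GL (Fin n) F) : Matrix (Fin n) (Fin n) F) := by
        change _ = c • (c⁻¹ • ((g : GL (Fin n) F) : Matrix (Fin n) (Fin n) F))
        rw [smul_smul, mul_inv_cancel₀ hc0, one_smul]
      rw [Subgroup.coe_mul, Subgroup.coe_inv, Units.val_mul]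
      conv_lhs => rw [h2]
      rw [Matrix.mul_smul, ← Units.val_mul, inv_mul_cancel, Units.val_one]
    rw [map_mul, map_inv, inv_mul_eq_one] at h1
    exact h1

/-- the subgroup of outer diagonal automorphisms. -/
def outDiagU (n : ℕ) (F : Type*) [Field F] (q : ℕ) : Subgroup (Out (PSU n F q)) :=
  (cU n F q).range.map (QuotientGroup.mk' (Inn (PSU n F q)))

theorem outDiagU_cyclic [Fintype F] (hF : Fintype.card F = q ^ 2) (hn : 3 ≤ n) :
    IsCyclic (outDiagU n F q) ∧ Nat.card (outDiagU n F q) = Nat.gcd n (q + 1) := by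
  obtain ⟨σ, hσ, hσ2, hσ1⟩ := exists_frob hF
  haveI : NeZero n := ⟨by omega⟩
  let π : GU n F q →* Out (PSU n F q) := (QuotientGroup.mk' (Inn (PSU n F q))).comp (cU n F q)
  have hrange : π.range = outDiagU n F q := by
    rw [outDiagU, MonoidHom.range_comp]
  have hker : ∀ g, π g = 1 ↔ ∃ c : F, σ c * c = 1 ∧ ((g : GL (Fin n) F) : Matrix (Fin n) (Fin n) F).det = c ^ n := by
    intro g
    rw [← cU_mem_Inn_iff hF hσ hn]
    exact QuotientGroup.eq_one_iff _
  have hdker : (detGU n F q).ker ≤ π.ker := by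
    intro g hg
    rw [MonoidHom.mem_ker, hker]
    refine ⟨1, by rw [map_one, mul_one], ?_⟩
    have h1 := congrArg (fun u : Fˣ => (u : F)) (MonoidHom.mem_ker.mp hg)
    rw [one_pow]
    exact h1
  -- factor through the determinant
  let δ : (detGU n F q).range →* Out (PSU n F q) :=
    ((QuotientGroup.lift (detGU n F q).ker π hdker)).comp (QuotientGroup.quotientKerEquivRange (detGU n F q)).symm.toMonoidHom
  have hδ : ∀ g, δ ⟨detGU n F q g, g, rfl⟩ = π g := by
    intro g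
    change (QuotientGroup.lift (detGU n F q).ker π hdker) ((QuotientGroup.quotientKerEquivRange (detGU n F q)).symm
      ⟨detGU n F q g, g, rfl⟩) = π g
    have h1 : (QuotientGroup.quotientKerEquivRange (detGU n F q)).symm ⟨detGU n F q g, g, rfl⟩ = QuotientGroup.mk g := by
      rw [MulEquiv.symm_apply_eq]; rfl
    rw [h1]; rfl
  have hδr : δ.range = outDiagU n F q := by
    rw [← hrange]
    apply le_antisymm
    · rintro _ ⟨⟨_, g, rfl⟩, rfl⟩
      exact ⟨g, (hδ g).symm⟩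
    · rintro _ ⟨g, rfl⟩
      exact ⟨_, hδ g⟩
  have hcyc : IsCyclic (detGU n F q).range := inferInstance
  rw [← hδr]
  refine ⟨isCyclic_of_surjective δ.rangeRestrict δ.rangeRestrict_surjective, ?_⟩
  have h1 : δ.ker = (powMonoidHom n : (detGU n F q).range →* (detGU n F q).range).range := by
    ext ⟨a, g, hg⟩
    subst hg
    rw [MonoidHom.mem_ker, hδ, hker]
    constructor
    · rintro ⟨c, hc1, hc2⟩
      refine ⟨⟨unitOfNorm hc1, (detGU_range hσ (by omega) _).mpr hc1⟩, ?_⟩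
      apply Subtype.ext
      apply Units.ext
      change ((unitOfNorm hc1 ^ n : Fˣ) : F) = _
      rw [Units.val_pow_eq_pow_val]
      exact hc2.symm
    · rintro ⟨⟨u, hu⟩, hg⟩
      refine ⟨u, (detGU_range hσ (by omega) _).mp hu, ?_⟩
      have h2 := congrArg (fun x : (detGU n F q).range => ((x : Fˣ) : F)) hg
      change ((u ^ n : Fˣ) : F) = _ at h2
      rw [Units.val_pow_eq_pow_val] at h2
      exact h2.symm
  have h2 : Nat.card δ.range = δ.ker.index := (Subgroup.index_ker δ).symm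
  rw [h2, h1, IsCyclic.index_powMonoidHom_range, card_detGU_range hF hσ (by omega), Nat.gcd_comm]

end Cfsg.Agent.H17
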