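import Mathlib
import Cfsg.Agent.H17.GFCent
import Cfsg.Agent.H17.SUAut3

set_option autoImplicit false

/-! Field automorphisms of `PSU`: Hilbert 90 for unitary groups. -/

open scoped MatrixGroups Matrix

namespace Cfsg.Agent.H17

open Cfsg

section gen

/-- generic class splitting count -/
theorem splitCount_gen {X C D : Type*} [Group X] [Group C] [CommGroup D] [Finite D] [IsCyclic D] (cP : C →* X)
    (I : Subgroup X) [hIn : I.Normal] (hI : I ≤ cP.range) (det : C →* D) (hdet : Function.Surjective det) (n : ℕ)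
    (hmem : ∀ g, cP g ∈ I ↔ det g ∈ (powMonoidHom n : D →* D).range) (x : X) (E : Subgroup D)
    (hE : ∀ g, x * cP g = cP g * x → det g ∈ (powMonoidHom n : D →* D).range ⊔ E)
    (hE' : ∀ e ∈ E, ∃ g, x * cP g = cP g * x ∧ det g = e) :
    splitClassCount cP.range I x = Nat.gcd n E.index := by
  rw [splitClassCount_eq hI, ← Subgroup.index_comap]
  have h1 : Subgroup.comap cP (I ⊔ (cP.range ⊓ Subgroup.centralizer {x})) =
      ((powMonoidHom n : D →* D).range ⊔ E).comap det := by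
    ext g
    rw [Subgroup.mem_comap, Subgroup.mem_comap, Subgroup.mem_sup_of_normal_left]
    constructor
    · rintro ⟨i, hi, c, ⟨⟨h, rfl⟩, hc⟩, he⟩
      replace hc := Subgroup.mem_centralizer_singleton_iff.mp hc
      have h2 := hE h hc.symm
      have h3 : cP (g * h⁻¹) ∈ I := by
        have : cP (g * h⁻¹) = i := by
          rw [map_mul, map_inv, mul_inv_eq_iff_eq_mul]
          exact he.symm
        rw [this]; exact hi
      have h4 := (hmem _).mp h3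
      have h5 : det g = det (g * h⁻¹) * det h := by
        rw [← map_mul, inv_mul_cancel_right]
      rw [h5]
      exact Subgroup.mul_mem _ (Subgroup.mem_sup_left h4) h2
    · intro h
      rw [Subgroup.mem_sup] at h
      obtain ⟨c, hc, e, he, hce⟩ := h
      obtain ⟨h, hh, hdet⟩ := hE' e he
      refine ⟨cP (g * h⁻¹), ?_, cP h, ⟨⟨h, rfl⟩, ?_⟩, ?_⟩
      · rw [hmem, map_mul, map_inv, hdet, ← hce, mul_inv_cancel_right]
        exact hc
      · exact Subgroup.mem_centralizer_singleton_iff.mpr hh.symm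
      · rw [← map_mul, inv_mul_cancel_right]
  rw [h1, Subgroup.index_comap_of_surjective _ hdet, index_range_pow_sup]

end gen

section desc

variable {F F₀ : Type*} [Field F] [Field F₀] {n : ℕ}

/-- extension of scalars -/
def jM (n : ℕ) (j : F₀ →+* F) : GL (Fin n) F₀ →* GL (Fin n) F := Matrix.GeneralLinearGroup.map j

theorem coe_jM (j : F₀ →+* F) (g : GL (Fin n) F₀) :
    ((jM n j g : GL (Fin n) F) : Matrix (Fin n) (Fin n) F) = (g : Matrix (Fin n) (Fin n) F₀).map j := rfl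

theorem jM_injective (j : F₀ →+* F) : Function.Injective (jM n j) := by
  intro g h hgh
  apply Units.ext
  ext a b
  have := congrArg (fun z : GL (Fin n) F => (z : Matrix (Fin n) (Fin n) F) a b) hgh
  exact j.injective this

theorem exists_descend {τ : F ≃+* F} {j : F₀ →+* F} (hj : ∀ x, τ x = x ↔ ∃ y, j y = x) {k : GL (Fin n) F}
    (hk : glMap τ k = k) : ∃ k0, jM n j k0 = k := by
  have h1 : ∀ a b, ∃ y, j y = (k : Matrix (Fin n) (Fin n) F) a b := by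
    intro a b
    rw [← hj]
    exact congrFun (congrFun (congrArg (fun z : GL (Fin n) F => (z : Matrix (Fin n) (Fin n) F)) hk) a) b
  choose M hM using h1
  have h2 : (Matrix.of M).map j = (k : Matrix (Fin n) (Fin n) F) := by
    ext a b
    exact hM a b
  have hdet : (Matrix.of M).det ≠ 0 := by
    intro h0
    have h3 := congrArg Matrix.det h2
    have h4 : ((Matrix.of M).map j).det = j (Matrix.of M).det := (j.map_det _).symm
    rw [h4, h0, map_zero] at h3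
    have h5 : IsUnit (k : Matrix (Fin n) (Fin n) F).det := (Matrix.isUnit_iff_isUnit_det _).mp k.isUnit
    rw [← h3] at h5
    exact not_isUnit_zero h5
  exact ⟨Matrix.GeneralLinearGroup.mkOfDetNeZero (Matrix.of M) hdet, Units.ext h2⟩

theorem glMap_jM {τ : F ≃+* F} {j : F₀ →+* F} (hj : ∀ y, τ (j y) = j y) (g : GL (Fin n) F₀) :
    glMap τ (jM n j g) = jM n j g := by
  apply Units.ext
  ext a b
  exact hj _

theorem gfM_jM {κ : F ≃+* F} {κ₀ : F₀ ≃+* F₀} {j : F₀ →+* F} (h : ∀ y, κ (j y) = j (κ₀ y)) (g : GL (Fin n) F₀) :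
    gfM κ (jM n j g) = jM n j (gfM κ₀ g) := by
  apply Units.ext
  ext a b
  change κ (((jM n j g)⁻¹ : GL (Fin n) F) b a) = j (κ₀ ((g⁻¹ : GL (Fin n) F₀) b a))
  rw [← map_inv]
  exact h _

theorem gfM_glMap {κ τ : F ≃+* F} (h : ∀ x, κ (τ x) = τ (κ x)) (g : GL (Fin n) F) :
    gfM κ (glMap τ g) = glMap τ (gfM κ g) := by
  change glMap κ (invTrGL (glMap τ g)) = glMap τ (glMap κ (invTrGL g))
  rw [invTrGL_glMap]
  apply Units.ext
  ext a b
  exact h _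

theorem uM_uN_comm {κ τ : F ≃+* F} (h : ∀ x, κ (τ x) = τ (κ x)) (c : Fˣ) (i : ℕ) :
    uM κ (uN τ c i) = uN τ (uM κ c) i := by
  induction i with
  | zero => rw [uN_zero, uN_zero, map_one]
  | succ i ih =>
    rw [uN_succ, uN_succ, map_mul, ← ih]
    congr 1
    apply Units.ext
    exact h _

end desc

/-- the situation of a field automorphism `τ` of odd order `r` of the unitary group over `F`, with fixed field `F₀`. -/
structure UFix (F F₀ : Type*) [Field F] [Field F₀] (q q0 r : ℕ) where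
  κ : F ≃+* F
  κ₀ : F₀ ≃+* F₀
  τ : F ≃+* F
  j : F₀ →+* F
  hκ : ∀ x, κ x = x ^ q
  hκ2 : κ * κ = 1
  hκ1 : κ ≠ 1
  hκ₀ : ∀ x, κ₀ x = x ^ q0
  hκ₀2 : κ₀ * κ₀ = 1
  hκ₀1 : κ₀ ≠ 1
  κj : ∀ y, κ (j y) = j (κ₀ y)
  hτ : orderOf τ = r
  hr : 0 < r
  hj : ∀ x, τ x = x ↔ ∃ y, j y = x

theorem exists_frobE {F : Type*} [Field F] [Fintype F] {q : ℕ} (hF : Fintype.card F = q ^ 2) :
    ∃ κ : F ≃+* F, (∀ x, κ x = x ^ q) ∧ κ * κ = 1 ∧ κ ≠ 1 := by
  obtain ⟨σ, hσ, hσ2, hσ1⟩ := H5.exists_frob hF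
  refine ⟨RingEquiv.ofBijective σ (Finite.injective_iff_bijective.mp σ.injective), hσ, RingEquiv.ext hσ2, ?_⟩
  intro h
  apply hσ1
  ext x
  exact congrArg (fun f : F ≃+* F => f x) h

theorem exists_UFix {F : Type*} [Field F] [Fintype F] {p f q : ℕ} [Fact p.Prime] (hq : q = p ^ f) (hf : 1 ≤ f)
    (hF : Fintype.card F = q ^ 2) {τ : F ≃+* F} {r : ℕ} (hr : orderOf τ = r) (hodd : Odd r)
    (F₀ : Type*) [Field F₀] [Fintype F₀] (hF₀ : Fintype.card F₀ = p ^ (2 * (f / r))) :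
    r ∣ f ∧ ∃ U : UFix F F₀ q (p ^ (f / r)) r, U.τ = τ := by
  have hF' : Nat.card F = p ^ (2 * f) := by rw [Nat.card_eq_fintype_card, hF, hq, ← pow_mul, mul_comm]
  have h1 : r ∣ 2 * f := by
    rw [← (ringAut_cyclic p (2 * f) (by omega) hF').2, ← hr]
    exact orderOf_dvd_natCard τ
  have hrf : r ∣ f := (Nat.Coprime.dvd_mul_left (Nat.Coprime.symm (Nat.coprime_two_left.mpr hodd))).mp h1
  refine ⟨hrf, ?_⟩
  obtain ⟨m, hm⟩ := hrf
  obtain ⟨k, hk⟩ := hodd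
  have hr0 : 0 < r := by omega
  have hfr : f / r = m := by rw [hm, Nat.mul_div_cancel_left _ hr0]
  have h2fr : 2 * f / r = 2 * m := by
    rw [hm, show 2 * (r * m) = r * (2 * m) by ring, Nat.mul_div_cancel_left _ hr0]
  rw [hfr] at hF₀ ⊢
  have hF₀' : Nat.card F₀ = p ^ (2 * f / r) := by rw [Nat.card_eq_fintype_card, hF₀, h2fr]
  obtain ⟨_, j, hj⟩ := exists_fixed_emb hF' τ hr F₀ hF₀'
  obtain ⟨κ, h1, h2, h3⟩ := exists_frobE hF
  have hF₀2 : Fintype.card F₀ = (p ^ m) ^ 2 := by rw [hF₀, ← pow_mul, mul_comm]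
  obtain ⟨κ₀, g1, g2, g3⟩ := exists_frobE hF₀2
  have hpow : ∀ y : F₀, y ^ q = y ^ (p ^ m) := by
    intro y
    have h4 : q = (p ^ m) * ((p ^ m) ^ 2) ^ k := by
      rw [hq, hm, hk, ← pow_mul, ← pow_mul, ← pow_add]
      congr 1; ring
    rw [h4, mul_comm, pow_mul]
    congr 1
    have h5 : ∀ i : ℕ, y ^ (((p ^ m) ^ 2) ^ i) = y := by
      intro i
      induction i with
      | zero => rw [pow_zero, pow_one]
      | succ i ih => rw [pow_succ, pow_mul, ih, ← hF₀2, FiniteField.pow_card]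
    exact h5 k
  exact ⟨⟨κ, κ₀, τ, j, h1, h2, h3, g1, g2, g3, fun y => by rw [h1, ← map_pow, hpow, g1], hr, hr0, hj⟩, rfl⟩

namespace UFix

variable {F F₀ : Type*} [Field F] [Field F₀] {q q0 r n : ℕ} (U : UFix F F₀ q q0 r)

theorem κτ (x : F) : U.κ (U.τ x) = U.τ (U.κ x) := by rw [U.hκ, U.hκ, map_pow]

theorem τj (y : F₀) : U.τ (U.j y) = U.j y := (U.hj _).mpr ⟨y, rfl⟩

theorem κκ (x : F) : U.κ (U.κ x) = x := congrArg (fun f : F ≃+* F => f x) U.hκ2

theorem κ₀κ₀ (x : F₀) : U.κ₀ (U.κ₀ x) = x := congrArg (fun f : F₀ ≃+* F₀ => f x) U.hκ₀2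

theorem κ₀ne : (U.κ₀ : F₀ →+* F₀) ≠ RingHom.id F₀ := by
  intro h
  apply U.hκ₀1
  ext x
  exact congrArg (fun f : F₀ →+* F₀ => f x) h

variable [Finite F] [Finite F₀]

/-- Hilbert 90 for the unitary group -/
theorem hilbert90_GU {a : GL (Fin n) F} (ha : gfM U.κ a = a) (hN : tN U.τ a r = 1) :
    ∃ b : GL (Fin n) F, gfM U.κ b = b ∧ a * glMap U.τ b = b := by
  obtain ⟨b, hb⟩ := hilbert90_gl U.τ U.hτ U.hr a hN
  obtain ⟨k, hk⟩ : ∃ k, k = b⁻¹ * gfM U.κ b := ⟨_, rfl⟩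
  have hτb : glMap U.τ b = a⁻¹ * b := by rw [eq_inv_mul_iff_mul_eq]; exact hb
  have hkτ : glMap U.τ k = k := by
    rw [hk, map_mul, map_inv, ← gfM_glMap U.κτ, hτb, map_mul, map_inv, ha]
    group
  have hkκ : gfM U.κ k = k⁻¹ := by
    rw [hk, map_mul, map_inv, gfM_gfM U.hκ2]
    group
  obtain ⟨k0, hk0⟩ := exists_descend U.hj hkτ
  have hk0κ : gfM U.κ₀ k0 = k0⁻¹ := by
    apply jM_injective U.j
    rw [← gfM_jM U.κj, hk0, hkκ, map_inv, hk0]
  obtain ⟨b0, hb0⟩ := herm_factor U.hκ₀1 U.hκ₀2 k0 hk0κ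
  refine ⟨b * jM n U.j b0, ?_, ?_⟩
  · rw [map_mul, gfM_jM U.κj]
    have h1 : jM n U.j (gfM U.κ₀ b0) = k⁻¹ * jM n U.j b0 := by
      rw [eq_inv_mul_iff_mul_eq, ← hk0, ← map_mul, hb0]
    rw [h1, hk]
    group
  · rw [map_mul, glMap_jM U.τj, ← mul_assoc, hb]

/-- scalars of norm one -/
theorem exists_norm_scale {c : Fˣ} (hc1 : c * uM U.κ c = 1) (hc2 : uM U.τ c = c) :
    ∃ y : Fˣ, y * uM U.κ y = 1 ∧ uN U.τ y r = c⁻¹ := by
  obtain ⟨c0, hc0⟩ := (U.hj c).mp (congrArg Units.val hc2)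
  have hc01 : c0 * (U.κ₀ : F₀ →+* F₀) c0 = 1 := by
    apply U.j.injective
    rw [map_mul, map_one]
    change U.j c0 * U.j (U.κ₀ c0) = 1
    rw [← U.κj, hc0]
    exact congrArg Units.val hc1
  obtain ⟨d, hd0, hd⟩ := H5.hilbert90 U.κ₀ne U.κ₀κ₀ hc01
  have hjd : U.j d ≠ 0 := fun h => hd0 ((map_eq_zero U.j).mp h)
  obtain ⟨Y, hY⟩ := uNorm_surj U.τ U.hτ U.hr (Units.mk0 _ hjd)⁻¹ (by
    rw [Units.val_inv_eq_inv_val, map_inv₀, Units.val_mk0, U.τj])
  refine ⟨Y * (uM U.κ Y)⁻¹, ?_, ?_⟩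
  · rw [map_mul, map_inv]
    have : uM U.κ (uM U.κ Y) = Y := Units.ext (U.κκ _)
    rw [this]
    calc Y * (uM U.κ Y)⁻¹ * (uM U.κ Y * Y⁻¹) = Y * ((uM U.κ Y)⁻¹ * uM U.κ Y) * Y⁻¹ := by simp only [mul_assoc]
      _ = 1 := by rw [inv_mul_cancel, mul_one, mul_inv_cancel]
  · rw [uN_mul]
    have h1 : uN U.τ (uM U.κ Y)⁻¹ r = (uM U.κ (uN U.τ Y r))⁻¹ := by
      have h2 : uN U.τ (uM U.κ Y)⁻¹ r = (uN U.τ (uM U.κ Y) r)⁻¹ := map_inv (uNh U.τ r) _
      rw [h2, ← uM_uN_comm U.κτ]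
    rw [h1, hY]
    apply Units.ext
    rw [Units.val_mul, Units.val_inv_eq_inv_val, Units.val_inv_eq_inv_val, Units.val_inv_eq_inv_val, coe_uM,
      Units.val_inv_eq_inv_val, Units.val_mk0, map_inv₀, inv_inv, U.κj]
    have h3 : U.j d = U.j c0 * U.j (U.κ₀ d) := by rw [← map_mul]; exact congrArg U.j hd
    have h4 : U.j (U.κ₀ d) ≠ 0 := by
      intro h
      rw [h, mul_zero] at h3
      exact hjd h3
    rw [h3, hc0]
    have h5 := c.ne_zero
    field_simp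

theorem exists_norm_split {c : Fˣ} (hc1 : c * uM U.κ c = 1) (hc2 : uN U.τ c r = 1) :
    ∃ y : Fˣ, y * uM U.κ y = 1 ∧ c * uM U.τ y = y := by
  obtain ⟨y, hy⟩ := hilbert90_u U.τ U.hτ U.hr c hc2
  have hs : uM U.τ (y * uM U.κ y) = y * uM U.κ y := by
    have h1 : uM U.τ y = c⁻¹ * y := by rw [eq_inv_mul_iff_mul_eq]; exact hy
    have h2 : uM U.τ (uM U.κ y) = uM U.κ (uM U.τ y) := Units.ext (U.κτ _).symm
    rw [map_mul, h2, h1, map_mul, map_inv]
    calc c⁻¹ * y * ((uM U.κ c)⁻¹ * uM U.κ y) = (c * uM U.κ c)⁻¹ * (y * uM U.κ y) := by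
          rw [mul_inv]; exact mul_mul_mul_comm _ _ _ _
      _ = _ := by rw [hc1, inv_one, one_mul]
  obtain ⟨s0, hs0⟩ := (U.hj _).mp (congrArg Units.val hs)
  have hs0n : s0 ≠ 0 := by
    rintro rfl
    rw [map_zero] at hs0
    exact (y * uM U.κ y).ne_zero hs0.symm
  have hs0κ : (U.κ₀ : F₀ →+* F₀) s0 = s0 := by
    apply U.j.injective
    change U.j (U.κ₀ s0) = U.j s0
    rw [← U.κj, hs0, Units.val_mul, map_mul, coe_uM, U.κκ, mul_comm]
  obtain ⟨t0, ht0, ht⟩ := H5.norm_surj U.κ₀ne U.κ₀κ₀ hs0κ hs0n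
  have hjt : U.j t0 ≠ 0 := fun h => ht0 ((map_eq_zero U.j).mp h)
  obtain ⟨t, htd⟩ : ∃ t : Fˣ, t = Units.mk0 _ hjt := ⟨_, rfl⟩
  have htt : t * uM U.κ t = y * uM U.κ y := by
    apply Units.ext
    rw [Units.val_mul, coe_uM, htd, Units.val_mk0, U.κj, ← map_mul, ← hs0]
    exact congrArg U.j ht
  have hτt : uM U.τ t = t := by
    apply Units.ext
    rw [coe_uM, htd, Units.val_mk0, U.τj]
  refine ⟨y * t⁻¹, ?_, ?_⟩
  · rw [map_mul, map_inv]
    calc y * t⁻¹ * (uM U.κ y * (uM U.κ t)⁻¹) = (y * uM U.κ y) * (t * uM U.κ t)⁻¹ := by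
          rw [mul_inv]; exact mul_mul_mul_comm _ _ _ _
      _ = 1 := by rw [htt, mul_inv_cancel]
  · rw [map_mul, map_inv, hτt, ← mul_assoc, hy]

end UFix

end Cfsg.Agent.H17
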