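import Mathlib
import Cfsg.Agent.H17.UH90

set_option autoImplicit false

/-! Hilbert 90 for `GL ι F` over an arbitrary finite index type. -/

open scoped MatrixGroups Matrix

namespace Cfsg.Agent.H17

open Matrix Cfsg

section tw

variable {F : Type*} [Field F] {ι : Type*} [Fintype ι] [DecidableEq ι]

/-- field automorphisms on `GL ι F` -/
def glI (σ : F ≃+* F) : GL ι F →* GL ι F := Matrix.GeneralLinearGroup.map (σ : F →+* F)

theorem coe_glI (σ : F ≃+* F) (g : GL ι F) : ((glI σ g : GL ι F) : Matrix ι ι F) = (g : Matrix ι ι F).map σ := rfl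

theorem glI_mul (σ τ : F ≃+* F) (g : GL ι F) : glI (σ * τ) g = glI σ (glI τ g) := by
  apply Units.ext
  ext i j
  rfl

theorem glI_one (g : GL ι F) : glI (1 : F ≃+* F) g = g := by
  apply Units.ext
  ext i j
  rfl

theorem glI_pow_succ (σ : F ≃+* F) (i : ℕ) (a : GL ι F) : glI (σ ^ (i + 1)) a = glI σ (glI (σ ^ i) a) := by
  rw [pow_succ', glI_mul]

/-- twisted norm `a σ(a) ⋯ σ^{i-1}(a)` -/
def tI (σ : F ≃+* F) (a : GL ι F) : ℕ → GL ι F
  | 0 => 1
  | i + 1 => a * glI σ (tI σ a i)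

theorem tI_zero (σ : F ≃+* F) (a : GL ι F) : tI σ a 0 = 1 := rfl

theorem tI_succ (σ : F ≃+* F) (a : GL ι F) (i : ℕ) : tI σ a (i + 1) = a * glI σ (tI σ a i) := rfl

theorem tI_succ' (σ : F ≃+* F) (a : GL ι F) (i : ℕ) : tI σ a (i + 1) = tI σ a i * glI (σ ^ i) a := by
  induction i with
  | zero => rw [tI_succ, tI_zero, map_one, mul_one, one_mul, pow_zero, glI_one]
  | succ i ih =>
    rw [tI_succ, ih, map_mul, ← mul_assoc, ← tI_succ, ← glI_pow_succ]
    rw [ih]

/-- `σ`-semilinear action on vectors -/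
def svI (σ : F ≃+* F) (v : ι → F) : ι → F := fun i => σ (v i)

theorem svI_mulVec (σ : F ≃+* F) (a : GL ι F) (v : ι → F) :
    svI σ ((a : Matrix ι ι F) *ᵥ v) = (glI σ a : Matrix ι ι F) *ᵥ svI σ v := by
  ext i
  simp only [svI, Matrix.mulVec, dotProduct, map_sum, map_mul]
  rfl

theorem svI_mulVec' (σ : F ≃+* F) (a : Matrix ι ι F) (v : ι → F) :
    svI σ (a *ᵥ v) = (a.map σ) *ᵥ svI σ v := by
  ext i
  simp only [svI, Matrix.mulVec, dotProduct, map_sum, map_mul]
  rfl

theorem svI_svI (σ τ : F ≃+* F) (v : ι → F) : svI σ (svI τ v) = svI (σ * τ) v := rfl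

theorem svI_one (v : ι → F) : svI (1 : F ≃+* F) v = v := rfl

theorem svI_add (σ : F ≃+* F) (x y : ι → F) : svI σ (x + y) = svI σ x + svI σ y := by
  ext i; simp [svI]

theorem svI_smul (σ : F ≃+* F) (c : F) (v : ι → F) : svI σ (c • v) = σ c • svI σ v := by
  ext i; simp [svI]

theorem svI_inv (σ : F ≃+* F) (v : ι → F) : svI σ (svI σ⁻¹ v) = v := by
  rw [svI_svI, mul_inv_cancel, svI_one]

theorem svI_inv' (σ : F ≃+* F) (v : ι → F) : svI σ⁻¹ (svI σ v) = v := by
  rw [svI_svI, inv_mul_cancel, svI_one]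

theorem svI_sum {κ : Type*} (σ : F ≃+* F) (s : Finset κ) (v : κ → ι → F) :
    svI σ (∑ i ∈ s, v i) = ∑ i ∈ s, svI σ (v i) := by
  ext i; simp [svI, Finset.sum_apply]

theorem hilbert90_I (σ : F ≃+* F) {r : ℕ} (hr : orderOf σ = r) (hr0 : 0 < r) (a : GL ι F)
    (ha : tI σ a r = 1) : ∃ b : GL ι F, a * glI σ b = b := by
  classical
  let B : (ι → F) → (ι → F) := fun v =>
    ∑ i ∈ Finset.range r, (tI σ a i : Matrix ι ι F) *ᵥ svI (σ ^ i) v
  have hBfix : ∀ v, (a : Matrix ι ι F) *ᵥ svI σ (B v) = B v := by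
    intro v
    have h1 : ∀ i, (a : Matrix ι ι F) *ᵥ svI σ ((tI σ a i : Matrix ι ι F) *ᵥ svI (σ ^ i) v) =
        (tI σ a (i + 1) : Matrix ι ι F) *ᵥ svI (σ ^ (i + 1)) v := by
      intro i
      rw [svI_mulVec, Matrix.mulVec_mulVec, svI_svI, ← pow_succ', tI_succ, Units.val_mul]
    simp only [B]
    rw [svI_sum, Matrix.mulVec_sum, Finset.sum_congr rfl (fun i _ => h1 i)]
    have h2 := Finset.sum_range_succ' (fun i => (tI σ a i : Matrix ι ι F) *ᵥ svI (σ ^ i) v) r
    have h3 := Finset.sum_range_succ (fun i => (tI σ a i : Matrix ι ι F) *ᵥ svI (σ ^ i) v) r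
    rw [h2] at h3
    have h4 : (tI σ a r : Matrix ι ι F) *ᵥ svI (σ ^ r) v =
        (tI σ a 0 : Matrix ι ι F) *ᵥ svI (σ ^ 0) v := by
      rw [ha, ← hr, pow_orderOf_eq_one, tI_zero, pow_zero]
    rw [h4] at h3
    exact add_right_cancel h3
  have hspan : Submodule.span F (Set.range B) = ⊤ := by
    by_contra hne
    obtain ⟨u, hu0, hu⟩ := Submodule.exists_le_ker_of_lt_top _ (lt_top_iff_ne_top.mpr hne)
    apply hu0
    apply LinearMap.ext
    intro v
    have h1 : ∀ c : F, ∑ i ∈ Finset.range r, u ((tI σ a i : Matrix ι ι F) *ᵥ svI (σ ^ i) v) * (σ ^ i) c = 0 := by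
      intro c
      have h2 : u (B (c • v)) = 0 := hu (Submodule.subset_span ⟨_, rfl⟩)
      simp only [B] at h2
      rw [map_sum] at h2
      rw [← h2]
      apply Finset.sum_congr rfl
      intro i _
      rw [svI_smul, Matrix.mulVec_smul, map_smul, smul_eq_mul, mul_comm]
    have hli := (linearIndependent_monoidHom F F).comp
      (fun i : Fin r => (((σ ^ (i : ℕ) : F ≃+* F) : F →+* F) : F →* F)) (by
        intro i j hij
        have h2 : σ ^ (i : ℕ) = σ ^ (j : ℕ) := by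
          apply RingEquiv.ext
          intro x
          exact congrArg (fun f : F →* F => f x) hij
        have hi : (i : ℕ) < orderOf σ := i.2.trans_eq hr.symm
        have hj : (j : ℕ) < orderOf σ := j.2.trans_eq hr.symm
        exact Fin.ext (pow_injOn_Iio_orderOf hi hj h2))
    rw [Fintype.linearIndependent_iff] at hli
    have h3 := hli (fun i => u ((tI σ a i : Matrix ι ι F) *ᵥ svI (σ ^ (i : ℕ)) v)) (by
      funext c
      rw [Finset.sum_apply]
      have h4 := h1 c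
      rw [Finset.sum_range] at h4
      exact h4) ⟨0, hr0⟩
    simp only [tI_zero, pow_zero, Units.val_one, Matrix.one_mulVec, svI_one] at h3
    exact h3
  obtain ⟨f, hf1, hf2, hf3⟩ := Submodule.exists_fun_fin_finrank_span_eq F (Set.range B)
  have hfin : Module.finrank F (Submodule.span F (Set.range B)) = Fintype.card ι := by
    rw [hspan, finrank_top, Module.finrank_fintype_fun_eq_card]
  obtain ⟨f', hf'⟩ : ∃ f' : ι → (ι → F), f' = fun i => f (Fin.cast hfin.symm (Fintype.equivFin ι i)) := ⟨_, rfl⟩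
  have hli' : LinearIndependent F f' := by
    rw [hf']
    exact hf3.comp _ ((Fin.cast_injective _).comp (Fintype.equivFin ι).injective)
  have hunit : IsUnit (Matrix.of f')ᵀ := by
    rw [Matrix.isUnit_transpose, ← Matrix.linearIndependent_rows_iff_isUnit]
    exact hli'
  obtain ⟨b, hb⟩ := hunit
  refine ⟨b, ?_⟩
  apply Units.ext
  rw [Units.val_mul, coe_glI, hb]
  ext i j
  have h5 : f' j ∈ Set.range B := by rw [hf']; exact hf1 _
  obtain ⟨v, hv⟩ := h5
  have h6 := congrFun (hBfix v) i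
  rw [hv] at h6
  rw [Matrix.mul_apply]
  rw [Matrix.mulVec, dotProduct] at h6
  exact h6

/-- scalar matrices -/
def sI (ι : Type*) [Fintype ι] [DecidableEq ι] : Fˣ →* GL ι F := Matrix.GeneralLinearGroup.scalar ι

theorem coe_sI (c : Fˣ) : (sI ι c : Matrix ι ι F) = Matrix.scalar ι (c : F) := rfl

theorem coe_sI' (c : Fˣ) : (sI ι c : Matrix ι ι F) = (c : F) • (1 : Matrix ι ι F) := by
  rw [coe_sI, Matrix.scalar_apply, Matrix.smul_one_eq_diagonal]

theorem sI_mulVec (c : Fˣ) (v : ι → F) : (sI ι c : Matrix ι ι F) *ᵥ v = (c : F) • v := by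
  rw [coe_sI', Matrix.smul_mulVec, Matrix.one_mulVec]

theorem det_sI (c : Fˣ) : Matrix.GeneralLinearGroup.det (sI ι c) = c ^ (Fintype.card ι) := by
  rw [sI, Matrix.GeneralLinearGroup.det_scalar]

theorem det_glI (σ : F ≃+* F) (g : GL ι F) :
    (Matrix.GeneralLinearGroup.det (glI σ g) : F) = σ (Matrix.GeneralLinearGroup.det g : F) := by
  rw [Matrix.GeneralLinearGroup.val_det_apply, Matrix.GeneralLinearGroup.val_det_apply, coe_glI]
  exact ((σ : F →+* F).map_det _).symm

theorem sI_comm (c : Fˣ) (g : GL ι F) : sI ι c * g = g * sI ι c :=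
  Matrix.GeneralLinearGroup.scalar_commute _ _

theorem det_glI' (σ : F ≃+* F) (g : GL ι F) :
    Matrix.GeneralLinearGroup.det (glI σ g) = uM σ (Matrix.GeneralLinearGroup.det g) :=
  Units.ext (det_glI σ g)

theorem glI_sI (σ : F ≃+* F) (c : Fˣ) : glI σ (sI ι c) = sI ι (uM σ c) :=
  Matrix.GeneralLinearGroup.map_scalar _ _

theorem sI_inj [Nonempty ι] {c d : Fˣ} (h : sI ι c = sI ι d) : c = d := by
  apply Units.ext
  obtain ⟨i⟩ := ‹Nonempty ι›
  have h1 := congrArg (fun g : GL ι F => (g : Matrix ι ι F) i i) h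
  simpa [coe_sI, Matrix.scalar_apply] using h1

theorem tI_sI_mul (σ : F ≃+* F) (c : Fˣ) (a : GL ι F) (i : ℕ) :
    tI σ (sI ι c * a) i = sI ι (uN σ c i) * tI σ a i := by
  induction i with
  | zero => rw [tI_zero, tI_zero, uN_zero, map_one, mul_one]
  | succ i ih =>
    rw [tI_succ, ih, tI_succ, uN_succ, map_mul, glI_sI, map_mul]
    calc sI ι c * a * (sI ι (uM σ (uN σ c i)) * glI σ (tI σ a i))
        = sI ι c * (a * sI ι (uM σ (uN σ c i))) * glI σ (tI σ a i) := by simp only [mul_assoc]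
      _ = sI ι c * (sI ι (uM σ (uN σ c i)) * a) * glI σ (tI σ a i) := by
          rw [sI_comm (uM σ (uN σ c i)) a]
      _ = _ := by simp only [mul_assoc]

theorem mem_scalarsI {ι : Type} [Fintype ι] [DecidableEq ι] (g : GL ι F) : g ∈ Geo.scalars ι F ↔ ∃ c : Fˣ, g = sI ι c := by
  constructor
  · rintro ⟨c, rfl⟩
    exact ⟨c, rfl⟩
  · rintro ⟨c, rfl⟩
    exact ⟨c, rfl⟩

end tw

section desc

variable {F F₀ : Type*} [Field F] [Field F₀] {ι : Type*} [Fintype ι] [DecidableEq ι]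

/-- extension of scalars -/
def jI (ι : Type*) [Fintype ι] [DecidableEq ι] (j : F₀ →+* F) : GL ι F₀ →* GL ι F := Matrix.GeneralLinearGroup.map j

theorem coe_jI (j : F₀ →+* F) (g : GL ι F₀) :
    ((jI ι j g : GL ι F) : Matrix ι ι F) = (g : Matrix ι ι F₀).map j := rfl

theorem jI_injective (j : F₀ →+* F) : Function.Injective (jI ι j) := by
  intro g h hgh
  apply Units.ext
  ext a b
  have := congrArg (fun z : GL ι F => (z : Matrix ι ι F) a b) hgh
  exact j.injective this

theorem exists_descend_mat {τ : F ≃+* F} {j : F₀ →+* F} (hj : ∀ x, τ x = x ↔ ∃ y, j y = x) {k : Matrix ι ι F}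
    (hk : k.map τ = k) : ∃ k0 : Matrix ι ι F₀, k0.map j = k := by
  have h1 : ∀ a b, ∃ y, j y = k a b := by
    intro a b
    rw [← hj]
    exact congrFun (congrFun hk a) b
  choose M hM using h1
  exact ⟨Matrix.of M, by ext a b; exact hM a b⟩

theorem exists_descendI {τ : F ≃+* F} {j : F₀ →+* F} (hj : ∀ x, τ x = x ↔ ∃ y, j y = x) {k : GL ι F}
    (hk : glI τ k = k) : ∃ k0, jI ι j k0 = k := by
  obtain ⟨M, h2⟩ := exists_descend_mat hj (k := (k : Matrix ι ι F)) (congrArg Units.val hk)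
  have hdet : M.det ≠ 0 := by
    intro h0
    have h3 := congrArg Matrix.det h2
    have h4 : (M.map j).det = j M.det := (j.map_det _).symm
    rw [h4, h0, map_zero] at h3
    have h5 : IsUnit (k : Matrix ι ι F).det := (Matrix.isUnit_iff_isUnit_det _).mp k.isUnit
    rw [← h3] at h5
    exact not_isUnit_zero h5
  exact ⟨Matrix.GeneralLinearGroup.mkOfDetNeZero M hdet, Units.ext h2⟩

theorem glI_jI {τ : F ≃+* F} {j : F₀ →+* F} (hj : ∀ y, τ (j y) = j y) (g : GL ι F₀) :
    glI τ (jI ι j g) = jI ι j g := by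
  apply Units.ext
  ext a b
  exact hj _

theorem jI_sI (j : F₀ →+* F) (c : F₀ˣ) : jI ι j (sI ι c) = sI ι (Units.map (j : F₀ →* F) c) :=
  Matrix.GeneralLinearGroup.map_scalar _ _

theorem jI_eq_sI [Nonempty ι] {j : F₀ →+* F} {h : GL ι F₀} {c : Fˣ} (hc : jI ι j h = sI ι c) :
    ∃ c0 : F₀ˣ, h = sI ι c0 := by
  obtain ⟨i0⟩ := ‹Nonempty ι›
  have h1 : ∀ a b, j ((h : Matrix ι ι F₀) a b) = Matrix.scalar ι (c : F) a b := by
    intro a b
    exact congrFun (congrFun (congrArg (fun z : GL ι F => (z : Matrix ι ι F)) hc) a) b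
  have h2 : ∀ a b, (h : Matrix ι ι F₀) a b =
      Matrix.scalar ι ((h : Matrix ι ι F₀) i0 i0) a b := by
    intro a b
    apply j.injective
    rw [h1, Matrix.scalar_apply, Matrix.scalar_apply, Matrix.diagonal_apply, Matrix.diagonal_apply]
    split_ifs with hab
    · rw [h1, Matrix.scalar_apply, Matrix.diagonal_apply, if_pos rfl]
    · rw [map_zero]
  have h3 : (h : Matrix ι ι F₀) i0 i0 ≠ 0 := by
    intro h0
    have h4 := h1 i0 i0
    rw [h0, map_zero, Matrix.scalar_apply, Matrix.diagonal_apply, if_pos rfl] at h4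
    exact c.ne_zero h4.symm
  refine ⟨Units.mk0 _ h3, ?_⟩
  apply Units.ext
  ext a b
  exact h2 a b

end desc

end Cfsg.Agent.H17
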