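import Mathlib
import Cfsg.Agent.H17.PolGen
import Cfsg.Agent.H17.PolJ
import Cfsg.Agent.H5.SpSimple

set_option autoImplicit false

/-! The symplectic instance of the abstract classical group framework. -/

namespace Cfsg.Agent.H17

open Cfsg Cfsg.Agent.H5

variable {F : Type*} [Field F] {m : ℕ}

/-- action of `Sp` on vectors -/
def pv (A : Matrix.symplecticGroup (Fin m) F) (x : Fin m ⊕ Fin m → F) : Fin m ⊕ Fin m → F :=
  (A : Matrix (Fin m ⊕ Fin m) (Fin m ⊕ Fin m) F).mulVec x

theorem pv_mul (A B : Matrix.symplecticGroup (Fin m) F) (x : Fin m ⊕ Fin m → F) : pv (A * B) x = pv A (pv B x) := by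
  unfold pv
  rw [Matrix.mulVec_mulVec]
  rfl

theorem pv_one (x : Fin m ⊕ Fin m → F) : pv (1 : Matrix.symplecticGroup (Fin m) F) x = x := Matrix.one_mulVec x

theorem pv_ext {A B : Matrix.symplecticGroup (Fin m) F} (h : ∀ x, pv A x = pv B x) : A = B := sp_ext h

theorem pv_isom (A : Matrix.symplecticGroup (Fin m) F) (x y : Fin m ⊕ Fin m → F) :
    sympB m F (pv A x) (pv A y) = sympB m F x y := (mem_Sp_iff.mp A.2) x y

theorem pv_smul (A : Matrix.symplecticGroup (Fin m) F) (a : F) (x : Fin m ⊕ Fin m → F) : pv A (a • x) = a • pv A x :=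
  Matrix.mulVec_smul _ _ _

theorem pv_add (A : Matrix.symplecticGroup (Fin m) F) (x y : Fin m ⊕ Fin m → F) : pv A (x + y) = pv A x + pv A y :=
  Matrix.mulVec_add _ _ _

/-- linear isometries are symplectic -/
theorem exists_pv (f : (Fin m ⊕ Fin m → F) →ₗ[F] (Fin m ⊕ Fin m → F))
    (hf : ∀ x y, sympB m F (f x) (f y) = sympB m F x y) : ∃ A : Matrix.symplecticGroup (Fin m) F, ∀ x, pv A x = f x := by
  have h1 : ∀ x, (LinearMap.toMatrix' f).mulVec x = f x := by
    intro x; rw [LinearMap.toMatrix'_mulVec]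
  refine ⟨⟨LinearMap.toMatrix' f, ?_⟩, h1⟩
  rw [mem_Sp_iff]
  intro u v
  rw [h1, h1, hf]

/-- action of `Sp` on vectors -/
def actSp (m : ℕ) (F : Type*) [Field F] :
    Matrix.symplecticGroup (Fin m) F →* ((Fin m ⊕ Fin m → F) →ₗ[F] (Fin m ⊕ Fin m → F)) where
  toFun A := Matrix.mulVecLin (A : Matrix (Fin m ⊕ Fin m) (Fin m ⊕ Fin m) F)
  map_one' := by
    apply LinearMap.ext
    intro y
    exact pv_one y
  map_mul' A B := by
    apply LinearMap.ext
    intro y
    exact pv_mul A B y

theorem actSp_apply (A : Matrix.symplecticGroup (Fin m) F) (x : Fin m ⊕ Fin m → F) : actSp m F A x = pv A x := rfl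

theorem pr_eq_Sp (hm : 1 ≤ m) (g h : Matrix.symplecticGroup (Fin m) F) :
    (QuotientGroup.mk' (Subgroup.center (Matrix.symplecticGroup (Fin m) F)) g =
      QuotientGroup.mk' (Subgroup.center (Matrix.symplecticGroup (Fin m) F)) h) ↔
      ∃ c : F, ∀ x, pv g x = c • pv h x := by
  have hinv : ∀ (A : Matrix.symplecticGroup (Fin m) F) x, pv A⁻¹ (pv A x) = x := by
    intro A x; rw [← pv_mul, inv_mul_cancel, pv_one]
  constructor
  · intro h1
    have h2 : h⁻¹ * g ∈ Subgroup.center (Matrix.symplecticGroup (Fin m) F) := QuotientGroup.eq.mp h1.symm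
    obtain ⟨c, _, hc⟩ := sp_center_scalar hm h2
    refine ⟨c, fun x => ?_⟩
    have h3 : pv (h⁻¹ * g) x = c • x := by
      unfold pv
      rw [hc, Matrix.smul_mulVec, Matrix.one_mulVec]
    rw [← pv_smul, ← h3, ← pv_mul]
    congr 1; group
  · rintro ⟨c, hc⟩
    have h2 : h⁻¹ * g ∈ Subgroup.center (Matrix.symplecticGroup (Fin m) F) := by
      rw [Subgroup.mem_center_iff]
      intro k
      apply pv_ext
      intro x
      have h3 : ∀ y, pv (h⁻¹ * g) y = c • y := by
        intro y
        rw [pv_mul, hc, pv_smul, hinv]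
      rw [pv_mul, h3, pv_mul, h3, pv_smul]
    exact (QuotientGroup.eq.mpr h2).symm

theorem indep_symp {u v : Fin m ⊕ Fin m → F} (huv : sympB m F u v ≠ 0) : LinearIndependent F ![u, v] := by
  rw [LinearIndependent.pair_iff]
  intro s t hst
  have huu : ∀ u, sympB m F u u = 0 := sympB_isAlt
  have e1 := congrArg (fun x => sympB m F u x) hst
  have e2 := congrArg (fun x => sympB m F x v) hst
  simp only [map_add, map_smul, LinearMap.add_apply, LinearMap.smul_apply, huu, smul_eq_mul, mul_zero,
    zero_add, add_zero, map_zero, LinearMap.zero_apply, mul_eq_zero, huv, or_false] at e1 e2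
  exact ⟨e2, e1⟩

/-- the symplectic polar geometry -/
noncomputable def pspPol (m : ℕ) (F : Type*) [Field F] (hm : 1 ≤ m) :
    Pol F (Fin m ⊕ Fin m → F) (Matrix.symplecticGroup (Fin m) F) (PSp m F) where
  τ := RingHom.id F
  B := sympB m F
  N := fun _ => 0
  t := 0
  ε := -1
  act := actSp m F
  pr := QuotientGroup.mk' _
  ττ := fun _ => rfl
  hε := Or.inr rfl
  symm x y := by rw [sympB_neg]; simp
  nd := sp_formData.nd
  N_add x y := by simp
  N_smul a x := by simp
  N_self x h := sympB_isAlt x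
  t_norm a b := by simp
  t_symm a := by simp
  exz w := ⟨0, by simp⟩
  act_inj g h hgh := pv_ext hgh
  act_B g x y := pv_isom g x y
  act_N g x := rfl
  pr_surj := QuotientGroup.mk'_surjective _
  pr_eq g h := pr_eq_Sp hm g h
  exX e w z he hew hz := by
    have hee : sympB m F e e = 0 := sympB_isAlt e
    have hww : sympB m F w w = 0 := sympB_isAlt w
    have hwe : sympB m F w e = 0 := by rw [sympB_neg, hew, neg_zero]
    obtain ⟨A, hA⟩ := exists_pv (LinearMap.id + (sympB m F e).smulRight (w + z • e) + (sympB m F w).smulRight e) (by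
      intro x y
      have e1 : sympB m F x e = - sympB m F e x := sympB_neg _ _
      have e2 : sympB m F x w = - sympB m F w x := sympB_neg _ _
      simp only [LinearMap.add_apply, LinearMap.id_apply, LinearMap.smulRight_apply, map_add, map_smul,
        LinearMap.add_apply, LinearMap.smul_apply, smul_eq_mul, hee, hew, hwe, hww, e1, e2]
      ring)
    refine ⟨A, fun x => ?_⟩
    rw [actSp_apply, hA]
    simp only [LinearMap.add_apply, LinearMap.id_apply, LinearMap.smulRight_apply]
    module
  trans e f e' f' he hf hef he' hf' hef' := by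
    have h1 : sympB m F e' ((sympB m F e f / sympB m F e' f') • f') = sympB m F e f := by
      rw [map_smul, smul_eq_mul]; field_simp
    obtain ⟨A, hA1, hA2⟩ := sp_trans2 (indep_symp hef) (indep_symp (v := (sympB m F e f / sympB m F e' f') • f')
      (by rw [h1]; exact hef)) h1.symm
    refine ⟨A, 1, sympB m F e f / sympB m F e' f', one_ne_zero, div_ne_zero hef hef', ?_, ?_⟩
    · rw [one_smul]; exact hA1
    · exact hA2

theorem ctype_Sp (hm : 1 ≤ m) (h2 : (2 : F) ≠ 0) : (pspPol m F hm).CType where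
  cases := Or.inl ⟨rfl, fun _ => rfl, h2, fun _ => rfl, fun _ => rfl⟩
  tz z := by
    constructor
    · intro _
      refine ⟨z / 2, ?_⟩
      change z = z / 2 - -1 * (z / 2)
      field_simp
      ring
    · rintro ⟨r, rfl⟩
      rfl
  comm σ' a := rfl

/-- torus elements -/
theorem exists_D_Sp {e f : Fin m ⊕ Fin m → F} (hef : sympB m F e f = 1) {a : F} (ha : a ≠ 0) :
    ∃ A : Matrix.symplecticGroup (Fin m) F, pv A e = a • e ∧ pv A f = a⁻¹ • f ∧
      ∀ x, sympB m F e x = 0 → sympB m F f x = 0 → pv A x = x := by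
  have hee : sympB m F e e = 0 := sympB_isAlt e
  have hff : sympB m F f f = 0 := sympB_isAlt f
  have hfe : sympB m F f e = -1 := by rw [sympB_neg, hef]
  obtain ⟨A, hA⟩ := exists_pv (LinearMap.id + (sympB m F f).smulRight ((1 - a) • e) + (sympB m F e).smulRight ((a⁻¹ - 1) • f)) (by
    intro x y
    have e1 : sympB m F x e = - sympB m F e x := sympB_neg _ _
    have e2 : sympB m F x f = - sympB m F f x := sympB_neg _ _
    simp only [LinearMap.add_apply, LinearMap.id_apply, LinearMap.smulRight_apply, map_add, map_smul,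
      LinearMap.add_apply, LinearMap.smul_apply, smul_eq_mul, hee, hef, hfe, hff, e1, e2]
    field_simp
    ring)
  refine ⟨A, ?_, ?_, ?_⟩
  · rw [hA]
    simp only [LinearMap.add_apply, LinearMap.id_apply, LinearMap.smulRight_apply, hfe, hee]
    module
  · rw [hA]
    simp only [LinearMap.add_apply, LinearMap.id_apply, LinearMap.smulRight_apply, hff, hef]
    module
  · intro x h1 h2
    rw [hA]
    simp only [LinearMap.add_apply, LinearMap.id_apply, LinearMap.smulRight_apply, h1, h2]
    module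

theorem big_Sp (hm : 2 ≤ m) (hm1 : 1 ≤ m) : (pspPol m F hm1).Big := by
  intro e he
  have hV : 3 ≤ Module.finrank F (Fin m ⊕ Fin m → F) := by
    rw [Module.finrank_fintype_fun_eq_card]
    simp
    omega
  by_contra hcon
  push Not at hcon
  have h1 : LinearMap.ker (sympB m F e) ≤ Submodule.span F {e} := by
    intro w hw
    obtain ⟨c, hc⟩ := hcon w hw
    rw [Submodule.mem_span_singleton]
    exact ⟨c, hc.symm⟩
  have h2 := Submodule.finrank_mono h1
  have h3 : Module.finrank F (Submodule.span F {e}) ≤ 1 := by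
    have := finrank_span_le_card (R := F) ({e} : Set (Fin m ⊕ Fin m → F))
    simpa using this
  have h4 := LinearMap.finrank_range_add_finrank_ker (sympB m F e)
  have h5 : Module.finrank F (LinearMap.range (sympB m F e)) ≤ 1 := by
    have := Submodule.finrank_le (LinearMap.range (sympB m F e))
    rwa [Module.finrank_self] at this
  omega

/-- the Levi factor acts transitively on the nonzero vectors of `W` -/
theorem exists_levi_Sp {e f w w' : Fin m ⊕ Fin m → F} (hef : sympB m F e f = 1) (hew : sympB m F e w = 0)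
    (hfw : sympB m F f w = 0) (hw : w ≠ 0) (hew' : sympB m F e w' = 0) (hfw' : sympB m F f w' = 0) (hw' : w' ≠ 0) :
    ∃ A : Matrix.symplecticGroup (Fin m) F, pv A e = e ∧ pv A f = f ∧ pv A w = w' := by
  have hli : ∀ w, sympB m F e w = 0 → sympB m F f w = 0 → w ≠ 0 → LinearIndependent F ![e, f, w] := by
    intro w h1 h2 h3
    rw [Fintype.linearIndependent_iff]
    intro g hg0
    rw [Fin.sum_univ_three] at hg0
    have hg : g 0 • e + g 1 • f + g 2 • w = 0 := hg0
    have hee : sympB m F e e = 0 := sympB_isAlt e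
    have hff : sympB m F f f = 0 := sympB_isAlt f
    have hfe : sympB m F f e = -1 := by rw [sympB_neg, hef]
    have e1 := congrArg (fun x => sympB m F e x) hg
    have e2 := congrArg (fun x => sympB m F f x) hg
    simp only [map_add, map_smul, smul_eq_mul, hee, hef, h1, mul_zero, mul_one, zero_add, add_zero, map_zero] at e1
    simp only [map_add, map_smul, smul_eq_mul, hfe, hff, h2, mul_zero, mul_neg, mul_one, add_zero, map_zero, neg_eq_zero] at e2
    rw [e1, e2, zero_smul, zero_smul, zero_add, zero_add] at hg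
    have e3 := (smul_eq_zero.mp hg).resolve_right h3
    intro i
    fin_cases i
    · exact e2
    · exact e1
    · exact e3
  obtain ⟨A, hA⟩ := sp_witt_family ![e, f, w] ![e, f, w'] (hli w hew hfw hw) (hli w' hew' hfw' hw') (by
    have hvv : ∀ v, sympB m F v v = 0 := sympB_isAlt
    intro i j
    fin_cases i <;> fin_cases j
    · rfl
    · rfl
    · show sympB m F e w' = sympB m F e w
      rw [hew, hew']
    · rfl
    · rfl
    · show sympB m F f w' = sympB m F f w
      rw [hfw, hfw']
    · show sympB m F w' e = sympB m F w e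
      rw [sympB_neg, sympB_neg w e, hew, hew']
    · show sympB m F w' f = sympB m F w f
      rw [sympB_neg, sympB_neg w f, hfw, hfw']
    · show sympB m F w' w' = sympB m F w w
      rw [hvv, hvv])
  exact ⟨A, hA 0, hA 1, hA 2⟩

theorem irr_Sp (hm : 1 ≤ m) (e f : Fin m ⊕ Fin m → F) (h : (pspPol m F hm).Hyp e f) : (pspPol m F hm).Irr e f := by
  have hef : sympB m F e f = 1 := h.ef
  rintro K hK ⟨w, hwK, hwW, hwn⟩ w' hw'
  by_cases hw'0 : w' = 0
  · rw [hw'0]; exact K.zero_mem
  obtain ⟨A, h1, h2, h3⟩ := exists_levi_Sp hef hwW.1 hwW.2 hwn hw'.1 hw'.2 hw'0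
  have h4 : pv A w ∈ K := hK A 1 ⟨by rw [one_smul]; exact h1, 1, by rw [one_smul]; exact h2⟩ w hwK hwW
  rwa [h3] at h4

theorem nohom_Sp (hm : 1 ≤ m) (h2 : (2 : F) ≠ 0) (e f : Fin m ⊕ Fin m → F) (h : (pspPol m F hm).Hyp e f) :
    (pspPol m F hm).NoHom e f := by
  have hef : sympB m F e f = 1 := h.ef
  intro φ hadd hL w hw
  obtain ⟨A, h1, h3, h4⟩ := exists_D_Sp hef (a := (-1 : F)) (by norm_num)
  have h5 : φ ((-1 : F) • pv A w) = (-1) * (-1) * φ w := hL A (-1) ⟨h1, _, h3⟩ w hw
  rw [h4 w hw.1 hw.2, neg_one_smul, neg_one_mul, neg_neg, one_mul] at h5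
  have h0 : φ 0 = 0 := by
    have := hadd 0 0 Pol.InW.zero Pol.InW.zero
    rw [add_zero] at this
    exact left_eq_add.mp this
  have h6 := hadd w (-w) hw hw.neg
  rw [add_neg_cancel, h0, h5] at h6
  have h7 : (2 : F) * φ w = 0 := by linear_combination -h6
  exact (mul_eq_zero.mp h7).resolve_left h2

theorem comm_Sp (hm : 1 ≤ m) (e f : Fin m ⊕ Fin m → F) (h : (pspPol m F hm).Hyp e f) : (pspPol m F hm).Comm e f := by
  have hef : sympB m F e f = 1 := h.ef
  have hfe : sympB m F f e = -1 := by rw [sympB_neg, hef]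
  intro c hcW hadd hL
  have hc0 : c 0 = 0 := by
    have := hadd 0 0 Pol.InW.zero Pol.InW.zero
    rw [add_zero] at this
    exact left_eq_add.mp this
  have hlin : ∀ (a : F) w, (pspPol m F hm).InW e f w → c (a • w) = a • c w := by
    intro a w hw
    by_cases ha : a = 0
    · rw [ha, zero_smul, zero_smul, hc0]
    obtain ⟨A, h1, h3, h4⟩ := exists_D_Sp hef ha
    have h5 : c (a • pv A w) = a • pv A (c w) := hL A a ⟨h1, _, h3⟩ w hw
    rwa [h4 w hw.1 hw.2, h4 (c w) (hcW w hw).1 (hcW w hw).2] at h5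
  -- transvections
  have htr : ∀ u w, (pspPol m F hm).InW e f u → (pspPol m F hm).InW e f w → sympB m F w u • c u = sympB m F (c w) u • u := by
    intro u w hu hw
    have hue : sympB m F e u = 0 := hu.1
    have huf : sympB m F f u = 0 := hu.2
    have h1 : pv (spT u 1) e = (1 : F) • e := by
      unfold pv
      rw [spT_mulVec, hue, mul_zero, zero_smul, add_zero, one_smul]
    have h2 : pv (spT u 1) f = (1 : F) • f := by
      unfold pv
      rw [spT_mulVec, huf, mul_zero, zero_smul, add_zero, one_smul]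
    have h3 : c ((1 : F) • pv (spT u 1) w) = (1 : F) • pv (spT u 1) (c w) := hL (spT u 1) 1 ⟨h1, _, h2⟩ w hw
    unfold pv at h3
    rw [one_smul, one_smul, spT_mulVec, spT_mulVec, one_mul, one_mul, hadd _ _ hw (hu.smul _), hlin _ _ hu] at h3
    exact add_left_cancel h3
  have heig : ∀ u, (pspPol m F hm).InW e f u → u ≠ 0 → ∃ l : F, c u = l • u := by
    intro u hu hun
    obtain ⟨w, hw, hwu⟩ := Pol.ndW h hu hun
    have hwu' : sympB m F w u ≠ 0 := by
      rw [sympB_neg]
      exact neg_ne_zero.mpr hwu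
    refine ⟨(sympB m F w u)⁻¹ * sympB m F (c w) u, ?_⟩
    rw [mul_smul, ← htr u w hu hw, smul_smul, inv_mul_cancel₀ hwu', one_smul]
  by_cases hW : ∃ w0, (pspPol m F hm).InW e f w0 ∧ w0 ≠ 0
  · obtain ⟨w0, hw0, hw0n⟩ := hW
    obtain ⟨l, hl⟩ := heig w0 hw0 hw0n
    refine ⟨l, ?_⟩
    -- vectors not perpendicular have the same eigenvalue
    have hkey : ∀ u w (l : F), (pspPol m F hm).InW e f u → (pspPol m F hm).InW e f w → sympB m F w u ≠ 0 →
        c w = l • w → c u = l • u := by
      intro u w l hu hw hne hcw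
      have h1 := htr u w hu hw
      rw [hcw, map_smul, LinearMap.smul_apply, smul_eq_mul, mul_comm, mul_smul] at h1
      exact smul_right_injective _ hne h1
    intro u hu
    by_cases hun : u = 0
    · rw [hun, hc0, smul_zero]
    by_cases h1 : sympB m F w0 u = 0
    · obtain ⟨x, hx, hx1⟩ := Pol.ndW h hw0 hw0n
      obtain ⟨y, hy, hy1⟩ := Pol.ndW h hu hun
      have hx1' : sympB m F w0 x ≠ 0 := hx1
      have hy1' : sympB m F u y ≠ 0 := hy1
      -- find `v` with `B(w0,v) ≠ 0` and `B(v,u) ≠ 0`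
      obtain ⟨v, hv, hv1, hv2⟩ : ∃ v, (pspPol m F hm).InW e f v ∧ sympB m F w0 v ≠ 0 ∧ sympB m F u v ≠ 0 := by
        by_cases h2 : sympB m F u x = 0
        · by_cases h3 : sympB m F w0 y = 0
          · refine ⟨x + y, hx.add hy, ?_, ?_⟩
            · rw [map_add, h3, add_zero]; exact hx1'
            · rw [map_add, h2, zero_add]; exact hy1'
          · exact ⟨y, hy, h3, hy1'⟩
        · exact ⟨x, hx, hx1', h2⟩
      have h4 := hkey v w0 l hv hw0 hv1 hl
      refine hkey u v l hu hv ?_ h4
      rw [sympB_neg]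
      exact neg_ne_zero.mpr hv2
    · exact hkey u w0 l hu hw0 h1 hl
  · push Not at hW
    exact ⟨1, fun w hw => by rw [hW w hw, hc0, smul_zero]⟩

theorem gen_Sp (hm : 1 ≤ m) (e f : Fin m ⊕ Fin m → F) (h : (pspPol m F hm).Hyp e f) :
    Subgroup.closure (((pspPol m F hm).Qs e : Set (PSp m F)) ∪ ((pspPol m F hm).Qs f : Set (PSp m F))) = ⊤ := by
  apply Pol.gen_of_Zs h
  rw [eq_top_iff]
  intro y _
  obtain ⟨g, rfl⟩ := (pspPol m F hm).pr_surj y
  have h1 : g ∈ spTgroup m F := by rw [spTgroup_eq_top]; exact Subgroup.mem_top g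
  unfold spTgroup at h1
  induction h1 using Subgroup.closure_induction with
  | mem A hA =>
    obtain ⟨v, c, hA⟩ := hA
    have hA' : ∀ x, pv A x = x + (c * sympB m F x v) • v := by
      intro x
      unfold pv
      rw [hA]
      exact sympTransvection_mulVec v c x
    by_cases hv0 : v = 0
    · have : A = 1 := by
        apply pv_ext
        intro x
        rw [hA', hv0, smul_zero, add_zero, pv_one]
      rw [this, map_one]
      exact Subgroup.one_mem _
    · apply Subgroup.subset_closure
      simp only [Set.mem_iUnion]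
      have hok : (pspPol m F hm).Ok v 0 (-c) := by
        refine ⟨rfl, map_zero _, ?_⟩
        change (0 : F) + 0 = 0
        rw [add_zero]
      refine ⟨v, ⟨hv0, rfl⟩, (Pol.mem_Zs rfl).mpr ⟨-c, hok, ?_⟩⟩
      congr 1
      apply pv_ext
      intro x
      have h3 : pv ((pspPol m F hm).X v 0 (-c)) x = x + sympB m F v x • (0 + (-c) • v) - (-1 * sympB m F 0 x) • v :=
        Pol.X_act hok x
      rw [h3, hA', sympB_neg x v]
      have h4 : sympB m F (0 : Fin m ⊕ Fin m → F) x = 0 := by rw [map_zero]; rfl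
      rw [h4]
      module
  | one => rw [map_one]; exact Subgroup.one_mem _
  | mul a b _ _ ha hb =>
    rw [map_mul]
    exact Subgroup.mul_mem _ (ha (by trivial)) (hb (by trivial))
  | inv a _ ha =>
    rw [map_inv]
    exact Subgroup.inv_mem _ (ha (by trivial))

end Cfsg.Agent.H17
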