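import Mathlib
import Cfsg.Agent.H17.GenI
import Cfsg.Agent.H17.QuotAut
import Cfsg.Agent.H17.PolSp

set_option autoImplicit false

/-! Automorphisms of `PSp_{2m}(F)` induced by similarities and field automorphisms. -/

namespace Cfsg.Agent.H17

open Cfsg Cfsg.Agent.H5
open scoped MatrixGroups Matrix

variable {F : Type*} [Field F] {m : ℕ}

theorem sympB_svI (σ : F ≃+* F) (u v : Fin m ⊕ Fin m → F) : sympB m F (svI σ u) (svI σ v) = σ (sympB m F u v) := by
  rw [sympB_apply, sympB_apply, sympForm_eq, sympForm_eq, map_sum]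
  apply Finset.sum_congr rfl
  intro i _
  simp [svI]

theorem mem_GSp_iff {g : GL (Fin m ⊕ Fin m) F} : g ∈ GSp m F ↔ ∃ c : Fˣ, ∀ u v,
    sympB m F ((g : Matrix (Fin m ⊕ Fin m) (Fin m ⊕ Fin m) F) *ᵥ u) ((g : Matrix (Fin m ⊕ Fin m) (Fin m ⊕ Fin m) F) *ᵥ v) =
      (c : F) * sympB m F u v := by
  constructor
  · rintro ⟨c, hc⟩
    exact ⟨c, fun u v => by rw [sympB_apply, sympB_apply]; exact hc u v⟩
  · rintro ⟨c, hc⟩
    exact ⟨c, fun u v => by rw [← sympB_apply, ← sympB_apply]; exact hc u v⟩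

theorem sI_mem_GSp (c : Fˣ) : sI (Fin m ⊕ Fin m) c ∈ GSp m F := by
  rw [mem_GSp_iff]
  refine ⟨c * c, fun u v => ?_⟩
  rw [sI_mulVec, sI_mulVec, map_smul, map_smul, LinearMap.smul_apply, smul_eq_mul, smul_eq_mul, Units.val_mul, mul_assoc]

theorem glI_mem_GSp {σ : F ≃+* F} {g : GL (Fin m ⊕ Fin m) F} (h : g ∈ GSp m F) : glI σ g ∈ GSp m F := by
  rw [mem_GSp_iff] at h ⊢
  obtain ⟨c, hc⟩ := h
  refine ⟨uM σ c, fun u v => ?_⟩
  rw [← svI_inv σ u, ← svI_inv σ v, ← svI_mulVec, ← svI_mulVec, sympB_svI, sympB_svI, hc, map_mul]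
  rfl

/-- conjugation by `GSp` -/
def conjSp (m : ℕ) (F : Type*) [Field F] : GSp m F →* MulAut (Matrix.symplecticGroup (Fin m) F) := by
  have key : ∀ (g : GSp m F) (s : Matrix.symplecticGroup (Fin m) F),
      ((g : GL (Fin m ⊕ Fin m) F) : Matrix (Fin m ⊕ Fin m) (Fin m ⊕ Fin m) F) * (s : Matrix (Fin m ⊕ Fin m) (Fin m ⊕ Fin m) F) *
        (((g : GL (Fin m ⊕ Fin m) F)⁻¹ : GL (Fin m ⊕ Fin m) F) : Matrix (Fin m ⊕ Fin m) (Fin m ⊕ Fin m) F) ∈
        Matrix.symplecticGroup (Fin m) F := by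
    intro g s
    rw [mem_Sp_iff]
    intro u v
    obtain ⟨c, hc⟩ := mem_GSp_iff.mp g.2
    obtain ⟨d, hd⟩ := mem_GSp_iff.mp (g⁻¹).2
    have h1 : (c : F) * d = 1 ∨ ∀ u v, sympB m F u v = 0 := by
      by_cases h : ∀ u v, sympB m F u v = 0
      · exact Or.inr h
      · push Not at h
        obtain ⟨u, v, huv⟩ := h
        left
        have h2 := hc ((((g⁻¹ : GSp m F) : GL (Fin m ⊕ Fin m) F) : Matrix (Fin m ⊕ Fin m) (Fin m ⊕ Fin m) F) *ᵥ u)
          ((((g⁻¹ : GSp m F) : GL (Fin m ⊕ Fin m) F) : Matrix (Fin m ⊕ Fin m) (Fin m ⊕ Fin m) F) *ᵥ v)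
        rw [hd, Matrix.mulVec_mulVec, Matrix.mulVec_mulVec, Subgroup.coe_inv, ← Units.val_mul, mul_inv_cancel,
          Units.val_one, Matrix.one_mulVec, Matrix.one_mulVec, ← mul_assoc] at h2
        exact mul_right_cancel₀ huv (by rw [← h2, one_mul])
    rw [← Matrix.mulVec_mulVec, ← Matrix.mulVec_mulVec, ← Matrix.mulVec_mulVec, ← Matrix.mulVec_mulVec, hc, mem_Sp_iff.mp s.2]
    have h3 := hd u v
    rw [Subgroup.coe_inv] at h3
    rw [h3, ← mul_assoc]
    rcases h1 with h1 | h1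
    · rw [h1, one_mul]
    · rw [h1, mul_zero]
  exact
  { toFun := fun g =>
      { toFun := fun s => ⟨_, key g s⟩
        invFun := fun s => ⟨_, key g⁻¹ s⟩
        left_inv := fun s => Subtype.ext (by
          change (((g⁻¹ : GSp m F) : GL (Fin m ⊕ Fin m) F) : Matrix (Fin m ⊕ Fin m) (Fin m ⊕ Fin m) F) * (_ * _ * _) * _ = _
          rw [Subgroup.coe_inv, inv_inv, ← Matrix.mul_assoc, ← Matrix.mul_assoc, ← Units.val_mul, inv_mul_cancel, Units.val_one,
            Matrix.one_mul, Matrix.mul_assoc, ← Units.val_mul, inv_mul_cancel, Units.val_one, Matrix.mul_one])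
        right_inv := fun s => Subtype.ext (by
          change (_ * ((((g⁻¹ : GSp m F) : GL (Fin m ⊕ Fin m) F) : Matrix (Fin m ⊕ Fin m) (Fin m ⊕ Fin m) F) * _ * _) * _) = _
          rw [Subgroup.coe_inv, inv_inv, ← Matrix.mul_assoc, ← Matrix.mul_assoc, ← Units.val_mul, mul_inv_cancel, Units.val_one,
            Matrix.one_mul, Matrix.mul_assoc, ← Units.val_mul, mul_inv_cancel, Units.val_one, Matrix.mul_one])
        map_mul' := fun s t => Subtype.ext (by
          change _ * (_ * _) * _ = (_ * _ * _) * (_ * _ * _)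
          simp only [Matrix.mul_assoc]
          rw [← Matrix.mul_assoc (((g : GL (Fin m ⊕ Fin m) F)⁻¹ : GL (Fin m ⊕ Fin m) F) : Matrix (Fin m ⊕ Fin m) (Fin m ⊕ Fin m) F),
            ← Units.val_mul, inv_mul_cancel, Units.val_one, Matrix.one_mul]) }
    map_one' := by
      ext1 s
      apply Subtype.ext
      change (((1 : GSp m F) : GL (Fin m ⊕ Fin m) F) : Matrix (Fin m ⊕ Fin m) (Fin m ⊕ Fin m) F) * _ *
        ((((1 : GSp m F) : GL (Fin m ⊕ Fin m) F)⁻¹ : GL (Fin m ⊕ Fin m) F) : Matrix (Fin m ⊕ Fin m) (Fin m ⊕ Fin m) F) = _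
      rw [Subgroup.coe_one, inv_one, Units.val_one, Matrix.one_mul, Matrix.mul_one]
      rfl
    map_mul' := fun g h => by
      ext1 s
      apply Subtype.ext
      change (((g * h : GSp m F) : GL (Fin m ⊕ Fin m) F) : Matrix (Fin m ⊕ Fin m) (Fin m ⊕ Fin m) F) * _ *
        ((((g * h : GSp m F) : GL (Fin m ⊕ Fin m) F)⁻¹ : GL (Fin m ⊕ Fin m) F) : Matrix (Fin m ⊕ Fin m) (Fin m ⊕ Fin m) F) = _ * (_ * _ * _) * _
      rw [Subgroup.coe_mul, _root_.mul_inv_rev, Units.val_mul, Units.val_mul]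
      simp only [Matrix.mul_assoc] }

/-- field automorphisms -/
def fieldSp (m : ℕ) (F : Type*) [Field F] : (F ≃+* F) →* MulAut (Matrix.symplecticGroup (Fin m) F) := by
  have key : ∀ (σ : F ≃+* F) (s : Matrix.symplecticGroup (Fin m) F),
      (s : Matrix (Fin m ⊕ Fin m) (Fin m ⊕ Fin m) F).map σ ∈ Matrix.symplecticGroup (Fin m) F := by
    intro σ s
    rw [mem_Sp_iff]
    intro u v
    rw [← svI_inv σ u, ← svI_inv σ v, ← svI_mulVec', ← svI_mulVec', sympB_svI, mem_Sp_iff.mp s.2, ← sympB_svI σ (svI σ⁻¹ u)]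
  exact
  { toFun := fun σ =>
      { toFun := fun s => ⟨_, key σ s⟩
        invFun := fun s => ⟨_, key σ⁻¹ s⟩
        left_inv := fun s => Subtype.ext (by
          ext i j
          change σ⁻¹ (σ _) = _
          exact σ.symm_apply_apply _)
        right_inv := fun s => Subtype.ext (by
          ext i j
          change σ (σ⁻¹ _) = _
          exact σ.apply_symm_apply _)
        map_mul' := fun s t => Subtype.ext (map_mul (RingHom.mapMatrix (σ : F →+* F)) _ _) }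
    map_one' := by
      ext1 s
      apply Subtype.ext
      rfl
    map_mul' := fun g h => by
      ext1 s
      apply Subtype.ext
      rfl }

theorem coe_conjSp (g : GSp m F) (s : Matrix.symplecticGroup (Fin m) F) :
    ((conjSp m F g s : Matrix.symplecticGroup (Fin m) F) : Matrix (Fin m ⊕ Fin m) (Fin m ⊕ Fin m) F) =
      ((g : GL (Fin m ⊕ Fin m) F) : Matrix (Fin m ⊕ Fin m) (Fin m ⊕ Fin m) F) * (s : Matrix (Fin m ⊕ Fin m) (Fin m ⊕ Fin m) F) *
        (((g : GL (Fin m ⊕ Fin m) F)⁻¹ : GL (Fin m ⊕ Fin m) F) : Matrix (Fin m ⊕ Fin m) (Fin m ⊕ Fin m) F) := rfl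

theorem coe_fieldSp (σ : F ≃+* F) (s : Matrix.symplecticGroup (Fin m) F) :
    ((fieldSp m F σ s : Matrix.symplecticGroup (Fin m) F) : Matrix (Fin m ⊕ Fin m) (Fin m ⊕ Fin m) F) =
      (s : Matrix (Fin m ⊕ Fin m) (Fin m ⊕ Fin m) F).map σ := rfl

/-- on `PSp` -/
def cS (m : ℕ) (F : Type*) [Field F] : GSp m F →* MulAut (PSp m F) :=
  (congrC (Matrix.symplecticGroup (Fin m) F)).comp (conjSp m F)

/-- on `PSp` -/
def fS (m : ℕ) (F : Type*) [Field F] : (F ≃+* F) →* MulAut (PSp m F) :=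
  (congrC (Matrix.symplecticGroup (Fin m) F)).comp (fieldSp m F)

theorem cS_mk (g : GSp m F) (s : Matrix.symplecticGroup (Fin m) F) :
    cS m F g (QuotientGroup.mk s) = QuotientGroup.mk (conjSp m F g s) := rfl
theorem fS_mk (σ : F ≃+* F) (s : Matrix.symplecticGroup (Fin m) F) :
    fS m F σ (QuotientGroup.mk s) = QuotientGroup.mk (fieldSp m F σ s) := rfl

theorem autPSp_ext {α β : MulAut (PSp m F)} (h : ∀ s : Matrix.symplecticGroup (Fin m) F,
    α (QuotientGroup.mk s) = β (QuotientGroup.mk s)) : α = β := by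
  ext x
  induction x using QuotientGroup.induction_on with
  | H z => exact h z

theorem map_refl' {ι : Type*} (A : Matrix ι ι F) : A.map (RingEquiv.refl F) = A := by
  ext i j; rfl

theorem innDiagSp_iff {β : MulAut (PSp m F)} : IsInnerDiagonalAutPSp β ↔ ∃ g : GSp m F, β = cS m F g := by
  constructor
  · rintro ⟨g, hg, h⟩
    exact ⟨⟨g, hg⟩, autPSp_ext fun s => h s (conjSp m F ⟨g, hg⟩ s) (by rw [map_refl']; rfl)⟩
  · rintro ⟨g, rfl⟩
    refine ⟨g, g.2, fun s s' h => ?_⟩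
    rw [cS_mk]
    congr 1
    apply Subtype.ext
    rw [h, map_refl']; rfl

theorem fieldSp_iff {σ : F ≃+* F} {β : MulAut (PSp m F)} : IsStdFieldAutPSp σ β ↔ β = fS m F σ := by
  constructor
  · intro h
    exact autPSp_ext fun s => h s (fieldSp m F σ s) rfl
  · rintro rfl s s' h
    rw [fS_mk]
    congr 1
    apply Subtype.ext
    rw [h]; rfl

theorem semilinSp_iff {g : GSp m F} {σ : F ≃+* F} {β : MulAut (PSp m F)} :
    IsInducedBySemilinearPSp (g : GL (Fin m ⊕ Fin m) F) σ β ↔ β = cS m F g * fS m F σ := by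
  constructor
  · intro h
    exact autPSp_ext fun s => h s (conjSp m F g (fieldSp m F σ s)) rfl
  · rintro rfl s s' h
    rw [MulAut.mul_apply, fS_mk, cS_mk]
    congr 1
    apply Subtype.ext
    rw [h]; rfl

/-- field automorphisms on `GSp` -/
def gspMap (m : ℕ) (σ : F ≃+* F) (g : GSp m F) : GSp m F := ⟨glI σ g, glI_mem_GSp g.2⟩

theorem fS_cS (σ : F ≃+* F) (g : GSp m F) : fS m F σ * cS m F g = cS m F (gspMap m σ g) * fS m F σ := by
  apply autPSp_ext
  intro s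
  rw [MulAut.mul_apply, MulAut.mul_apply, fS_mk, cS_mk, fS_mk, cS_mk]
  congr 1
  apply Subtype.ext
  rw [coe_fieldSp, coe_conjSp, coe_conjSp, coe_fieldSp]
  have : ∀ A B : Matrix (Fin m ⊕ Fin m) (Fin m ⊕ Fin m) F, (A * B).map σ = A.map σ * B.map σ := fun A B =>
    map_mul (RingHom.mapMatrix (σ : F →+* F)) A B
  rw [this, this]
  rfl

theorem inndiagPSp_eq : inndiagPSp m F = (cS m F).range := by
  apply le_antisymm
  · rw [inndiagPSp, autSubgroupOf, Subgroup.closure_le]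
    intro β hβ
    obtain ⟨g, rfl⟩ := innDiagSp_iff.mp hβ
    exact ⟨g, rfl⟩
  · rintro _ ⟨g, rfl⟩
    exact Subgroup.subset_closure (innDiagSp_iff.mpr ⟨g, rfl⟩)

/-- two linear functionals on a space of dimension at least three have a common nonzero zero -/
theorem exists_two_ker {V : Type*} [AddCommGroup V] [Module F V] [FiniteDimensional F V] (h : 3 ≤ Module.finrank F V) (f g : V →ₗ[F] F) :
    ∃ x, x ≠ 0 ∧ f x = 0 ∧ g x = 0 := by
  have h1 : LinearMap.ker (f.prod g) ≠ ⊥ := by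
    apply LinearMap.ker_ne_bot_of_finrank_lt
    rw [Module.finrank_prod, Module.finrank_self]
    omega
  obtain ⟨x, hx, hx0⟩ := Submodule.exists_mem_ne_zero_of_ne_bot h1
  have h2 : (f x, g x) = (0, 0) := hx
  exact ⟨x, hx0, (Prod.mk.inj h2).1, (Prod.mk.inj h2).2⟩

/-- a semilinear map with all vectors as eigenvectors is linear and scalar -/
theorem eig_all {ι : Type*} [Fintype ι] [DecidableEq ι] [Nontrivial ι] (g : GL ι F) (σ : F ≃+* F)
    (h : ∀ w : ι → F, ∃ a : F, (g : Matrix ι ι F) *ᵥ svI σ w = a • w) : σ = 1 ∧ ∃ c : Fˣ, g = sI ι c := by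
  have hsv : ∀ i, svI σ (Pi.single i (1 : F) : ι → F) = Pi.single i 1 := by
    intro i
    ext j
    by_cases hj : j = i
    · subst hj; simp [svI]
    · simp [svI, Pi.single_eq_of_ne hj]
  have h1 : ∀ i, ∃ a : F, (g : Matrix ι ι F) *ᵥ Pi.single i 1 = a • Pi.single i 1 := by
    intro i
    obtain ⟨a, ha⟩ := h (Pi.single i 1)
    rw [hsv] at ha
    exact ⟨a, ha⟩
  choose c hc using h1
  have hc2 : ∀ i j, i ≠ j → ∀ t : F, σ t * c j = c i * t := by
    intro i j hij t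
    obtain ⟨a, ha⟩ := h (Pi.single i 1 + t • Pi.single j 1)
    rw [svI_add, svI_smul, hsv, hsv, Matrix.mulVec_add, Matrix.mulVec_smul, hc, hc] at ha
    have e1 := congrFun ha i
    have e2 := congrFun ha j
    simp only [Pi.add_apply, Pi.smul_apply, Pi.single_eq_same, smul_eq_mul, mul_one, Pi.single_eq_of_ne hij,
      Pi.single_eq_of_ne (Ne.symm hij), mul_zero, add_zero, zero_add] at e1 e2
    rw [e1, e2]
  obtain ⟨i0, j0, hij0⟩ := exists_pair_ne ι
  have hcc : ∀ i j, c i = c j := by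
    intro i j
    by_cases hij : i = j
    · rw [hij]
    · have := hc2 i j hij 1
      rw [map_one, one_mul, mul_one] at this
      exact this.symm
  have hg : (g : Matrix ι ι F) = c i0 • (1 : Matrix ι ι F) := by
    apply Matrix.ext_of_mulVec_single
    intro i
    rw [hc, hcc i i0, Matrix.smul_mulVec, Matrix.one_mulVec]
  have hc0 : c i0 ≠ 0 := by
    intro h0
    rw [h0, zero_smul] at hg
    have h2 := congrArg Matrix.det hg
    rw [Matrix.det_zero] at h2
    have h3 := Matrix.isUnits_det_units g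
    rw [h2] at h3
    exact not_isUnit_zero h3
  refine ⟨?_, Units.mk0 _ hc0, ?_⟩
  · ext t
    have := hc2 i0 j0 hij0 t
    rw [hcc j0 i0, mul_comm] at this
    exact mul_left_cancel₀ hc0 this
  · apply Units.ext
    rw [hg, coe_sI']
    rfl

theorem cS_fS_eq_one (hm : 2 ≤ m) (g : GSp m F) (σ : F ≃+* F) (h : cS m F g * fS m F σ = 1) :
    σ = 1 ∧ ∃ c : Fˣ, (g : GL (Fin m ⊕ Fin m) F) = sI _ c := by
  haveI : Nontrivial (Fin m ⊕ Fin m) := ⟨⟨Sum.inl ⟨0, by omega⟩, Sum.inr ⟨0, by omega⟩, by simp⟩⟩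
  apply eig_all
  intro w
  by_cases hw : w = 0
  · exact ⟨0, by rw [hw, zero_smul]; have : svI σ (0 : Fin m ⊕ Fin m → F) = 0 := by { ext i; simp [svI] }
                 rw [this, Matrix.mulVec_zero]⟩
  have hfr : 3 ≤ Module.finrank F (Fin m ⊕ Fin m → F) := by
    rw [Module.finrank_fintype_fun_eq_card]; simp; omega
  obtain ⟨M, hM⟩ : ∃ M : Matrix (Fin m ⊕ Fin m) (Fin m ⊕ Fin m) F, M = ((g : GL (Fin m ⊕ Fin m) F) : Matrix _ _ F) := ⟨_, rfl⟩
  obtain ⟨N, hN⟩ : ∃ N : Matrix (Fin m ⊕ Fin m) (Fin m ⊕ Fin m) F, N = (((g : GL (Fin m ⊕ Fin m) F)⁻¹ : GL (Fin m ⊕ Fin m) F) : Matrix _ _ F) := ⟨_, rfl⟩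
  have hMN : ∀ x, M *ᵥ (N *ᵥ x) = x := by
    intro x
    rw [Matrix.mulVec_mulVec, hM, hN, ← Units.val_mul, mul_inv_cancel, Units.val_one, Matrix.one_mulVec]
  have h1 : (QuotientGroup.mk (conjSp m F g (fieldSp m F σ (spT w 1))) : PSp m F) = QuotientGroup.mk (spT w 1) :=
    congrArg (fun α : MulAut (PSp m F) => α (QuotientGroup.mk (spT w 1))) h
  obtain ⟨c, hc⟩ := (pr_eq_Sp (by omega) _ _).mp h1
  have h2 : ∀ x, pv (conjSp m F g (fieldSp m F σ (spT w 1))) x = x + (sympB m F (N *ᵥ x) (svI σ w)) • (M *ᵥ svI σ w) := by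
    intro x
    unfold pv
    rw [coe_conjSp, coe_fieldSp, ← hM, ← hN, ← Matrix.mulVec_mulVec, ← Matrix.mulVec_mulVec]
    conv_lhs => rw [← svI_inv σ (N *ᵥ x)]
    rw [← svI_mulVec', spT_mulVec, one_mul, svI_add, svI_smul, svI_inv, Matrix.mulVec_add, hMN, Matrix.mulVec_smul]
    congr 2
    rw [← sympB_svI, svI_inv]
  have h3 : ∀ x, x + (sympB m F (N *ᵥ x) (svI σ w)) • (M *ᵥ svI σ w) = c • (x + (sympB m F x w) • w) := by
    intro x
    rw [← h2, hc]
    unfold pv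
    rw [spT_mulVec, one_mul]
  obtain ⟨x, hx0, hx1, hx2⟩ := exists_two_ker hfr ((sympB m F).flip w) (((sympB m F).flip (svI σ w)).comp N.mulVecLin)
  have hx1' : sympB m F x w = 0 := hx1
  have hx2' : sympB m F (N *ᵥ x) (svI σ w) = 0 := hx2
  have h4 := h3 x
  rw [hx1', hx2', zero_smul, zero_smul, add_zero] at h4
  have hc1 : c = 1 := by
    have h5 : (1 - c) • x = 0 := by rw [sub_smul, one_smul, sub_eq_zero]; exact h4
    exact (sub_eq_zero.mp ((smul_eq_zero.mp h5).resolve_right hx0)).symm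
  obtain ⟨z, hz⟩ := sp_exists_one hw
  have hz' : sympB m F (-z) w = 1 := by rw [map_neg, LinearMap.neg_apply, sympB_neg, hz, neg_neg]
  have h6 := h3 (-z)
  rw [hc1, one_smul, hz', one_smul] at h6
  have h7 := add_left_cancel h6
  have h8 : sympB m F (N *ᵥ (-z)) (svI σ w) ≠ 0 := by
    intro h0
    rw [h0, zero_smul] at h7
    exact hw h7.symm
  refine ⟨(sympB m F (N *ᵥ (-z)) (svI σ w))⁻¹, ?_⟩
  rw [← hM, eq_inv_smul_iff₀ h8]
  exact h7

end Cfsg.Agent.H17
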