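import Mathlib
import Cfsg.Agent.H17.SpAut
import Cfsg.Agent.H17.FixUnits

set_option autoImplicit false

/-! Every automorphism of `PSp_{2m}(F)`, `|F|` odd, is induced by a semisimilarity. -/

namespace Cfsg.Agent.H17

open Cfsg Cfsg.Agent.H5
open scoped MatrixGroups Matrix

variable {F : Type*} [Field F] {m : ℕ}

/-- a semilinear map given by its matrix -/
theorem semilin_matrix {ι : Type*} [Fintype ι] [DecidableEq ι] (σ : F ≃+* F) (T : (ι → F) → (ι → F))
    (hadd : ∀ x y, T (x + y) = T x + T y) (hsmul : ∀ (a : F) x, T (a • x) = σ a • T x) :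
    ∀ x, T x = (Matrix.of fun i j => T (Pi.single j 1) i) *ᵥ svI σ x := by
  have h0 : T 0 = 0 := by
    have := hadd 0 0
    rw [add_zero] at this
    exact left_eq_add.mp this
  have hSsum : ∀ (s : Finset ι) (x : ι → ι → F), T (∑ i ∈ s, x i) = ∑ i ∈ s, T (x i) := by
    intro s x
    classical
    induction s using Finset.induction_on with
    | empty => rw [Finset.sum_empty, Finset.sum_empty, h0]
    | insert a s ha ih => rw [Finset.sum_insert ha, Finset.sum_insert ha, hadd, ih]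
  intro x
  have h1 : x = ∑ j, x j • (Pi.single j (1 : F) : ι → F) := by
    ext i
    simp [Finset.sum_apply, Pi.single_apply]
  conv_lhs => rw [h1]
  rw [hSsum]
  ext i
  rw [Finset.sum_apply, Matrix.mulVec, dotProduct]
  apply Finset.sum_congr rfl
  intro j _
  rw [hsmul, Pi.smul_apply, smul_eq_mul, Matrix.of_apply, mul_comm]
  rfl

theorem semisim_Sp (hm : 1 ≤ m) (S : SemiSim (pspPol m F hm)) :
    ∃ g : GSp m F, ∀ x, S.T x = ((g : GL (Fin m ⊕ Fin m) F) : Matrix _ _ F) *ᵥ svI S.σ x := by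
  obtain ⟨M, hM⟩ : ∃ M : Matrix (Fin m ⊕ Fin m) (Fin m ⊕ Fin m) F, M = Matrix.of fun i j => S.T (Pi.single j 1) i := ⟨_, rfl⟩
  have hMT : ∀ x, S.T x = M *ᵥ svI S.σ x := by
    intro x
    rw [hM]
    exact semilin_matrix S.σ S.T S.T_add S.T_smul x
  have hiso : ∀ u v, sympB m F (M *ᵥ u) (M *ᵥ v) = S.κ * sympB m F u v := by
    intro u v
    conv_lhs => rw [← svI_inv S.σ u, ← svI_inv S.σ v]
    rw [← hMT, ← hMT]
    have h2 : sympB m F (S.T (svI S.σ⁻¹ u)) (S.T (svI S.σ⁻¹ v)) = S.κ * S.σ (sympB m F (svI S.σ⁻¹ u) (svI S.σ⁻¹ v)) := S.T_B _ _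
    rw [h2, ← sympB_svI, svI_inv, svI_inv]
  have hdet : M.det ≠ 0 := by
    intro h0
    obtain ⟨v, hv0, hv⟩ := Matrix.exists_mulVec_eq_zero_iff.mpr h0
    apply hv0
    apply sp_formData.nd
    intro y
    have h3 := hiso v y
    rw [hv, map_zero, LinearMap.zero_apply] at h3
    exact (mul_eq_zero.mp h3.symm).resolve_left S.hκ
  refine ⟨⟨Matrix.GeneralLinearGroup.mkOfDetNeZero M hdet, mem_GSp_iff.mpr ⟨Units.mk0 S.κ S.hκ, hiso⟩⟩, hMT⟩

theorem induced_Sp (hm : 1 ≤ m) (S : SemiSim (pspPol m F hm)) :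
    ∃ g : GSp m F, ∀ β : MulAut (PSp m F), Pol.Induced S β ↔ β = cS m F g * fS m F S.σ := by
  obtain ⟨g, hT⟩ := semisim_Sp hm S
  refine ⟨g, ?_⟩
  have key : ∀ s : Matrix.symplecticGroup (Fin m) F, ∀ x, pv (conjSp m F g (fieldSp m F S.σ s)) (S.T x) = S.T (pv s x) := by
    intro s x
    rw [hT, hT]
    unfold pv
    rw [coe_conjSp, coe_fieldSp, Matrix.mulVec_mulVec]
    have h1 : (((g : GL (Fin m ⊕ Fin m) F)⁻¹ : GL (Fin m ⊕ Fin m) F) : Matrix (Fin m ⊕ Fin m) (Fin m ⊕ Fin m) F) * ((g : GL (Fin m ⊕ Fin m) F) : Matrix _ _ F) = 1 := by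
      rw [← Units.val_mul, inv_mul_cancel, Units.val_one]
    rw [Matrix.mul_assoc _ _ ((g : GL (Fin m ⊕ Fin m) F) : Matrix (Fin m ⊕ Fin m) (Fin m ⊕ Fin m) F), h1, Matrix.mul_one, ← Matrix.mulVec_mulVec, svI_mulVec']
  have huniq : ∀ s s' : Matrix.symplecticGroup (Fin m) F, (∀ x, pv s' (S.T x) = S.T (pv s x)) →
      s' = conjSp m F g (fieldSp m F S.σ s) := by
    intro s s' h
    apply pv_ext
    intro y
    obtain ⟨x, rfl⟩ := S.T_surj y
    rw [h, key]
  intro β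
  constructor
  · intro hβ
    apply autPSp_ext
    intro s
    exact hβ s _ (key s)
  · rintro rfl s s' h
    change (cS m F g * fS m F S.σ) (QuotientGroup.mk s) = QuotientGroup.mk s'
    rw [huniq s s' h]
    rfl

theorem good_Sp (hm : 2 ≤ m) (hm1 : 1 ≤ m) (h2 : (2 : F) ≠ 0) : (pspPol m F hm1).Good := by
  refine ⟨big_Sp hm hm1, ctype_Sp hm1 h2, comm_Sp hm1, irr_Sp hm1, nohom_Sp hm1 h2, gen_Sp hm1, ?_⟩
  intro S
  obtain ⟨g, hg⟩ := induced_Sp hm1 S
  exact ⟨_, (hg _).mpr rfl⟩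

theorem exists_hyp_Sp (hm : 1 ≤ m) : ∃ e f, (pspPol m F hm).Hyp e f := by
  have hne : (Pi.single (Sum.inl ⟨0, hm⟩) 1 : Fin m ⊕ Fin m → F) ≠ 0 :=
    Pi.single_ne_zero_iff.mpr one_ne_zero
  obtain ⟨f, hf⟩ := sp_exists_one hne
  exact ⟨_, f, ⟨rfl, rfl, hf⟩⟩

/-- the automorphism group of `PSp_{2m}(q)`, `q` odd -/
theorem aut_PSp [Finite F] (hm : 2 ≤ m) (h2 : (2 : F) ≠ 0) (α : MulAut (PSp m F)) :
    ∃ (g : GSp m F) (τ : F ≃+* F), α = cS m F g * fS m F τ := by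
  obtain ⟨p, hp⟩ := CharP.exists F
  haveI : Fact p.Prime := ⟨CharP.char_is_prime F p⟩
  have hm1 : 1 ≤ m := by omega
  obtain ⟨e, f, h⟩ := exists_hyp_Sp (F := F) hm1
  haveI : Finite (Matrix.symplecticGroup (Fin m) F) := inferInstance
  obtain ⟨S, hS⟩ := Pol.all_induced p (good_Sp hm hm1 h2) h α
  obtain ⟨g, hg⟩ := induced_Sp hm1 S
  exact ⟨g, S.σ, (hg α).mp hS⟩

theorem cS_eq_one_iff (hm : 2 ≤ m) (g : GSp m F) : cS m F g = 1 ↔ ∃ c : Fˣ, (g : GL (Fin m ⊕ Fin m) F) = sI _ c := by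
  constructor
  · intro h
    exact (cS_fS_eq_one hm g 1 (by rw [h, map_one, mul_one])).2
  · rintro ⟨c, hc⟩
    apply autPSp_ext
    intro s
    rw [cS_mk, MulAut.one_apply]
    congr 1
    apply Subtype.ext
    rw [coe_conjSp]
    have h1 : ((g : GL (Fin m ⊕ Fin m) F) : Matrix _ _ F) * (s : Matrix (Fin m ⊕ Fin m) (Fin m ⊕ Fin m) F) =
        (s : Matrix (Fin m ⊕ Fin m) (Fin m ⊕ Fin m) F) * ((g : GL (Fin m ⊕ Fin m) F) : Matrix _ _ F) := by
      rw [hc, coe_sI', Matrix.smul_mul, Matrix.mul_smul, one_mul, mul_one]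
    rw [h1, Matrix.mul_assoc, ← Units.val_mul, mul_inv_cancel, Units.val_one, Matrix.mul_one]

theorem fS_injective (hm : 2 ≤ m) : Function.Injective (fS m F) := by
  rw [injective_iff_map_eq_one]
  intro σ h
  exact (cS_fS_eq_one hm 1 σ (by rw [map_one, one_mul]; exact h)).1

theorem cS_sI (hm : 2 ≤ m) (c : Fˣ) : cS m F ⟨sI _ c, sI_mem_GSp c⟩ = 1 := (cS_eq_one_iff hm _).mpr ⟨c, rfl⟩

/-- the inclusion of `Sp` in `GSp` -/
def spGSp (m : ℕ) (F : Type*) [Field F] (s : Matrix.symplecticGroup (Fin m) F) : GSp m F :=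
  ⟨⟨(s : Matrix (Fin m ⊕ Fin m) (Fin m ⊕ Fin m) F), ((s⁻¹ : Matrix.symplecticGroup (Fin m) F) : Matrix (Fin m ⊕ Fin m) (Fin m ⊕ Fin m) F),
    congrArg Subtype.val (mul_inv_cancel s), congrArg Subtype.val (inv_mul_cancel s)⟩,
    mem_GSp_iff.mpr ⟨1, fun u v => by rw [Units.val_one, one_mul]; exact mem_Sp_iff.mp s.2 u v⟩⟩

theorem coe_spGSp (s : Matrix.symplecticGroup (Fin m) F) :
    ((spGSp m F s : GL (Fin m ⊕ Fin m) F) : Matrix (Fin m ⊕ Fin m) (Fin m ⊕ Fin m) F) = s := rfl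

theorem conj_mkSp (s : Matrix.symplecticGroup (Fin m) F) :
    MulAut.conj (QuotientGroup.mk s : PSp m F) = cS m F (spGSp m F s) := by
  apply autPSp_ext
  intro t
  rw [MulAut.conj_apply, cS_mk]
  change QuotientGroup.mk (s * t * s⁻¹) = _
  congr 1

theorem Inn_le_rangeSp : Inn (PSp m F) ≤ (cS m F).range := by
  rintro _ ⟨x, rfl⟩
  induction x using QuotientGroup.induction_on with
  | H s => exact ⟨_, (conj_mkSp s).symm⟩

/-- the multiplier -/
noncomputable def muS (hm : 1 ≤ m) : GSp m F →* Fˣ := by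
  have huv : ∃ u v, sympB m F u v ≠ 0 := by
    obtain ⟨e, f, h⟩ := exists_hyp_Sp (F := F) hm
    have h1 : sympB m F e f = 1 := h.ef
    exact ⟨e, f, by rw [h1]; exact one_ne_zero⟩
  have huniq : ∀ (c d : Fˣ) , (∀ u v, (c : F) * sympB m F u v = d * sympB m F u v) → c = d := by
    intro c d h
    obtain ⟨u, v, huv⟩ := huv
    exact Units.ext (mul_right_cancel₀ huv (h u v))
  exact
  { toFun := fun g => (mem_GSp_iff.mp g.2).choose
    map_one' := by
      apply huniq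
      intro u v
      rw [← (mem_GSp_iff.mp (1 : GSp m F).2).choose_spec]
      rw [Subgroup.coe_one, Units.val_one, Matrix.one_mulVec, Matrix.one_mulVec, Units.val_one, one_mul]
    map_mul' := fun g h => by
      apply huniq
      intro u v
      rw [← (mem_GSp_iff.mp (g * h : GSp m F).2).choose_spec]
      rw [Subgroup.coe_mul, Units.val_mul, ← Matrix.mulVec_mulVec, ← Matrix.mulVec_mulVec,
        (mem_GSp_iff.mp g.2).choose_spec, (mem_GSp_iff.mp h.2).choose_spec, Units.val_mul, mul_assoc] }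

theorem muS_spec (hm : 1 ≤ m) (g : GSp m F) (u v : Fin m ⊕ Fin m → F) :
    sympB m F (((g : GL (Fin m ⊕ Fin m) F) : Matrix _ _ F) *ᵥ u) (((g : GL (Fin m ⊕ Fin m) F) : Matrix _ _ F) *ᵥ v) =
      (muS hm g : F) * sympB m F u v := (mem_GSp_iff.mp g.2).choose_spec u v

theorem muS_unique (hm : 1 ≤ m) (g : GSp m F) (c : F) (h : ∀ u v,
    sympB m F (((g : GL (Fin m ⊕ Fin m) F) : Matrix _ _ F) *ᵥ u) (((g : GL (Fin m ⊕ Fin m) F) : Matrix _ _ F) *ᵥ v) =
      c * sympB m F u v) : (muS hm g : F) = c := by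
  obtain ⟨e, f, hef⟩ := exists_hyp_Sp (F := F) hm
  have h1 : sympB m F e f = 1 := hef.ef
  have h2 := h e f
  rw [muS_spec hm, h1, mul_one, mul_one] at h2
  exact h2

theorem cS_mem_Inn_iff (hm : 2 ≤ m) (hm1 : 1 ≤ m) (g : GSp m F) :
    cS m F g ∈ Inn (PSp m F) ↔ muS hm1 g ∈ (powMonoidHom 2 : Fˣ →* Fˣ).range := by
  constructor
  · rintro ⟨x, hx⟩
    induction x using QuotientGroup.induction_on with
    | H s =>
      change MulAut.conj (QuotientGroup.mk s : PSp m F) = _ at hx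
      rw [conj_mkSp] at hx
      have h1 : cS m F ((spGSp m F s)⁻¹ * g) = 1 := by rw [map_mul, map_inv, hx, inv_mul_cancel]
      obtain ⟨c, hc⟩ := (cS_eq_one_iff hm _).mp h1
      refine ⟨c, ?_⟩
      have h2 : g = spGSp m F s * ⟨sI _ c, sI_mem_GSp c⟩ := by
        rw [← inv_mul_eq_iff_eq_mul]
        exact Subtype.ext hc
      rw [h2, map_mul]
      have h3 : muS hm1 (spGSp m F s) = 1 := by
        apply Units.ext
        apply muS_unique
        intro u v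
        rw [Units.val_one, one_mul]
        exact mem_Sp_iff.mp s.2 u v
      have h4 : muS hm1 (⟨sI _ c, sI_mem_GSp c⟩ : GSp m F) = c ^ 2 := by
        apply Units.ext
        apply muS_unique
        intro u v
        have e1 : (((⟨sI _ c, sI_mem_GSp c⟩ : GSp m F) : GL (Fin m ⊕ Fin m) F) : Matrix (Fin m ⊕ Fin m) (Fin m ⊕ Fin m) F) =
          ((sI (Fin m ⊕ Fin m) c : GL (Fin m ⊕ Fin m) F) : Matrix (Fin m ⊕ Fin m) (Fin m ⊕ Fin m) F) := rfl
        rw [e1, sI_mulVec, sI_mulVec, map_smul, map_smul, LinearMap.smul_apply, smul_eq_mul, smul_eq_mul, Units.val_pow_eq_pow_val]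
        ring
      rw [h3, h4, one_mul]
      rfl
  · rintro ⟨c, hc⟩
    have hc' : muS hm1 g = c ^ 2 := hc.symm
    have h1 : ((c⁻¹ : Fˣ) : F) • (((g : GL (Fin m ⊕ Fin m) F)) : Matrix (Fin m ⊕ Fin m) (Fin m ⊕ Fin m) F) ∈ Matrix.symplecticGroup (Fin m) F := by
      rw [mem_Sp_iff]
      intro u v
      rw [Matrix.smul_mulVec, Matrix.smul_mulVec, map_smul, map_smul, LinearMap.smul_apply, smul_eq_mul, smul_eq_mul, muS_spec hm1,
        hc', Units.val_inv_eq_inv_val, Units.val_pow_eq_pow_val]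
      have := c.ne_zero
      field_simp
    obtain ⟨s, hs⟩ : ∃ s : Matrix.symplecticGroup (Fin m) F, (s : Matrix (Fin m ⊕ Fin m) (Fin m ⊕ Fin m) F) =
      ((c⁻¹ : Fˣ) : F) • (((g : GL (Fin m ⊕ Fin m) F)) : Matrix (Fin m ⊕ Fin m) (Fin m ⊕ Fin m) F) := ⟨⟨_, h1⟩, rfl⟩
    have h2 : g = spGSp m F s * ⟨sI _ c, sI_mem_GSp c⟩ := by
      apply Subtype.ext
      apply Units.ext
      rw [Subgroup.coe_mul, Units.val_mul, coe_spGSp, hs, coe_sI', Matrix.mul_smul, Matrix.mul_one, smul_smul,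
        Units.val_inv_eq_inv_val, mul_inv_cancel₀ c.ne_zero, one_smul]
    have h3 : cS m F g = MulAut.conj (QuotientGroup.mk s : PSp m F) := by
      rw [conj_mkSp, h2, map_mul, cS_sI hm, mul_one]
    rw [h3]
    exact ⟨QuotientGroup.mk s, rfl⟩

/-- diagonal similarities -/
def dMat (m : ℕ) (a : F) : Matrix (Fin m ⊕ Fin m) (Fin m ⊕ Fin m) F := Matrix.diagonal (Sum.elim (fun _ => a) (fun _ => 1))

theorem dMat_sim (a : F) (u v : Fin m ⊕ Fin m → F) : sympB m F (dMat m a *ᵥ u) (dMat m a *ᵥ v) = a * sympB m F u v := by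
  rw [sympB_apply, sympB_apply, sympForm_eq, sympForm_eq, Finset.mul_sum]
  apply Finset.sum_congr rfl
  intro i _
  unfold dMat
  rw [Matrix.mulVec_diagonal, Matrix.mulVec_diagonal, Matrix.mulVec_diagonal, Matrix.mulVec_diagonal]
  simp only [Sum.elim_inl, Sum.elim_inr]
  ring

theorem dMat_mul {a b : F} (h : a * b = 1) : dMat m a * dMat m b = 1 := by
  unfold dMat
  rw [Matrix.diagonal_mul_diagonal, ← Matrix.diagonal_one]
  congr 1
  funext i
  rcases i with i | i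
  · exact h
  · exact mul_one 1

/-- a section of the multiplier -/
def dS (m : ℕ) (F : Type*) [Field F] (a : Fˣ) : GSp m F :=
  ⟨⟨dMat m a, dMat m ((a⁻¹ : Fˣ) : F), dMat_mul (Units.mul_inv a), dMat_mul (Units.inv_mul a)⟩,
    mem_GSp_iff.mpr ⟨a, dMat_sim _⟩⟩

theorem muS_dS (hm : 1 ≤ m) (a : Fˣ) : muS hm (dS m F a) = a := by
  apply Units.ext
  apply muS_unique
  exact dMat_sim _

theorem gspMap_dS (σ : F ≃+* F) (a : Fˣ) : gspMap m σ (dS m F a) = dS m F (uM σ a) := by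
  apply Subtype.ext
  apply Units.ext
  change (dMat m (a : F)).map σ = dMat m (uM σ a : F)
  unfold dMat
  rw [Matrix.diagonal_map (map_zero σ)]
  congr 1
  funext i
  rcases i with i | i
  · rfl
  · exact map_one σ

end Cfsg.Agent.H17
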