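import Mathlib
import Cfsg.Agent.H17.SSG
import Cfsg.Agent.H17.SpAut2

set_option autoImplicit false

/-! Semisimilarity groups: the concrete matrix side. -/

namespace Cfsg.Agent.H17

open Cfsg Cfsg.Agent.H5
open scoped MatrixGroups Matrix

variable {F : Type*} [Field F] {ι : Type} [Fintype ι] [DecidableEq ι] {Q : QuadraticForm F (ι → F)}

/-- the semisimilarity attached to a semilinear pair -/
def pairSS (Q : QuadraticForm F (ι → F)) (g : GL ι F) (σ : F ≃+* F) (h : IsSemisimilarityPair ⇑Q g σ) : SSG Q :=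
  ⟨({ toFun := fun x => (g : Matrix ι ι F) *ᵥ svI σ x
      invFun := fun x => svI σ⁻¹ (((g⁻¹ : GL ι F) : Matrix ι ι F) *ᵥ x)
      left_inv := fun x => by
        show svI σ⁻¹ (((g⁻¹ : GL ι F) : Matrix ι ι F) *ᵥ ((g : Matrix ι ι F) *ᵥ svI σ x)) = x
        rw [Matrix.mulVec_mulVec, ← Units.val_mul, inv_mul_cancel, Units.val_one, Matrix.one_mulVec, svI_inv']
      right_inv := fun x => by
        show (g : Matrix ι ι F) *ᵥ svI σ (svI σ⁻¹ (((g⁻¹ : GL ι F) : Matrix ι ι F) *ᵥ x)) = x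
        rw [svI_inv, Matrix.mulVec_mulVec, ← Units.val_mul, mul_inv_cancel, Units.val_one, Matrix.one_mulVec] }, σ),
   fun x y => by
     show (g : Matrix ι ι F) *ᵥ svI σ (x + y) = (g : Matrix ι ι F) *ᵥ svI σ x + (g : Matrix ι ι F) *ᵥ svI σ y
     rw [svI_add, Matrix.mulVec_add],
   fun a x => by
     show (g : Matrix ι ι F) *ᵥ svI σ (a • x) = σ a • (g : Matrix ι ι F) *ᵥ svI σ x
     rw [svI_smul, Matrix.mulVec_smul],
   h⟩

theorem pairSS_apply (g : GL ι F) (σ : F ≃+* F) (h : IsSemisimilarityPair ⇑Q g σ) (x : ι → F) :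
    (pairSS Q g σ h).1.1 x = (g : Matrix ι ι F) *ᵥ svI σ x := rfl

theorem exists_pair (p : SSG Q) : ∃ (g : GL ι F) (h : IsSemisimilarityPair ⇑Q g p.1.2), p = pairSS Q g p.1.2 h := by
  obtain ⟨M, hM⟩ : ∃ M : Matrix ι ι F, M = Matrix.of fun i j => p.1.1 (Pi.single j 1) i := ⟨_, rfl⟩
  have hMT : ∀ x, p.1.1 x = M *ᵥ svI p.1.2 x := by
    intro x
    rw [hM]
    exact semilin_matrix p.1.2 p.1.1 (ss_add p) (ss_smul p) x
  have hdet : M.det ≠ 0 := by
    intro h0
    obtain ⟨v, hv0, hv⟩ := Matrix.exists_mulVec_eq_zero_iff.mpr h0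
    apply hv0
    have h1 : p.1.1 (svI p.1.2⁻¹ v) = 0 := by rw [hMT, svI_inv, hv]
    have h2 : svI p.1.2⁻¹ v = 0 := p.1.1.injective (h1.trans (ss_zero p).symm)
    rw [← svI_inv p.1.2 v, h2]
    ext i
    simp [svI]
  have h : IsSemisimilarityPair ⇑Q (Matrix.GeneralLinearGroup.mkOfDetNeZero M hdet) p.1.2 := by
    refine ⟨ssK p, fun v => ?_⟩
    rw [← ss_Q, hMT]
    rfl
  exact ⟨_, h, ss_ext hMT rfl⟩

variable [Finite F]

theorem om_apply (hnd : ND Q) (hn : 5 ≤ Fintype.card ι) (s : Omega F ⇑Q) (x : ι → F) :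
    (omEquiv hnd hn s).1 x = (((s : isometryGroup F ⇑Q) : GL ι F) : Matrix ι ι F) *ᵥ x := rfl

theorem inducedPOm_iff (hnd : ND Q) (hn : 5 ≤ Fintype.card ι) {g : GL ι F} {σ : F ≃+* F} (h : IsSemisimilarityPair ⇑Q g σ)
    (β : MulAut (POmega F ⇑Q)) :
    IsInducedBySemilinearPOmega ⇑Q g σ β ↔ MulAut.congr (pomEquiv hnd hn) β = aE Q (pairSS Q g σ h) := by
  have key : ∀ s s' : Omega F ⇑Q, (((s' : ↥(isometryGroup F ⇑Q)) : GL ι F) : Matrix ι ι F) =
        (g : Matrix ι ι F) * ((((s : ↥(isometryGroup F ⇑Q)) : GL ι F) : Matrix ι ι F)).map σ *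
          ((g⁻¹ : GL ι F) : Matrix ι ι F) ↔ omEquiv hnd hn s' = conjEG Q (pairSS Q g σ h) (omEquiv hnd hn s) := by
    intro s s'
    have e1 : ∀ x, ((g : Matrix ι ι F) * ((((s : ↥(isometryGroup F ⇑Q)) : GL ι F) : Matrix ι ι F)).map σ *
          ((g⁻¹ : GL ι F) : Matrix ι ι F)) *ᵥ ((g : Matrix ι ι F) *ᵥ svI σ x) =
        (g : Matrix ι ι F) *ᵥ svI σ ((((s : ↥(isometryGroup F ⇑Q)) : GL ι F) : Matrix ι ι F) *ᵥ x) := by
      intro x
      rw [Matrix.mulVec_mulVec, Matrix.mul_assoc _ _ (g : Matrix ι ι F), ← Units.val_mul, inv_mul_cancel, Units.val_one,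
        Matrix.mul_one, ← Matrix.mulVec_mulVec, svI_mulVec']
    constructor
    · intro h1
      apply Subtype.ext
      apply og_ext
      intro y
      obtain ⟨x, rfl⟩ := (pairSS Q g σ h).1.1.surjective y
      rw [conjEG_apply, conjOG_apply, Equiv.symm_apply_apply, om_apply, om_apply, pairSS_apply, h1, e1, pairSS_apply]
    · intro h1
      apply Matrix.ext_of_mulVec_single
      intro i
      obtain ⟨x, hx⟩ := (pairSS Q g σ h).1.1.surjective (Pi.single i 1)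
      rw [← hx, pairSS_apply, e1, ← pairSS_apply (h := h), ← om_apply hnd hn s', h1, conjEG_apply, conjOG_apply,
        Equiv.symm_apply_apply, om_apply, pairSS_apply]
  have hmk : ∀ s : Omega F ⇑Q, pomEquiv hnd hn (QuotientGroup.mk s) = QuotientGroup.mk (omEquiv hnd hn s) := fun s => rfl
  constructor
  · intro h1
    apply autPE_ext
    intro s0
    obtain ⟨s, rfl⟩ := (omEquiv hnd hn).surjective s0
    obtain ⟨s', hs'⟩ := (omEquiv hnd hn).surjective (conjEG Q (pairSS Q g σ h) (omEquiv hnd hn s))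
    have h2 := h1 s s' ((key s s').mpr hs')
    rw [aE_mk, ← hs', ← hmk, ← hmk, ← h2]
    change pomEquiv hnd hn (β ((pomEquiv hnd hn).symm (pomEquiv hnd hn (QuotientGroup.mk s)))) = _
    rw [MulEquiv.symm_apply_apply]
  · intro h1 s s' hs
    have h2 := (key s s').mp hs
    apply (pomEquiv hnd hn).injective
    have h3 : pomEquiv hnd hn (β (QuotientGroup.mk s)) = MulAut.congr (pomEquiv hnd hn) β (pomEquiv hnd hn (QuotientGroup.mk s)) := by
      change _ = pomEquiv hnd hn (β ((pomEquiv hnd hn).symm (pomEquiv hnd hn (QuotientGroup.mk s))))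
      rw [MulEquiv.symm_apply_apply]
    rw [h3, h1, hmk, hmk, aE_mk, h2]

theorem semi_card (hn : 5 ≤ Fintype.card ι) : 5 ≤ Module.finrank F (ι → F) := by
  rw [Module.finrank_fintype_fun_eq_card]; exact hn

theorem gammaPOmega_eq_top (hnd : ND Q) (hn : 5 ≤ Fintype.card ι)
    (hL : (∀ R : Submodule F (ι → F), (∀ x ∈ R, Q x = 0) → Fintype.card ι ≠ 2 * Module.finrank F R) ∨
      10 ≤ Fintype.card ι) : gammaPOmega F ⇑Q = ⊤ := by
  rw [eq_top_iff]
  intro β _
  apply Subgroup.subset_closure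
  obtain ⟨p, hp⟩ := aE_surj hnd (semi_card hn) (by
    rw [Module.finrank_fintype_fun_eq_card]; exact hL) (MulAut.congr (pomEquiv hnd hn) β)
  obtain ⟨g, h, hg⟩ := exists_pair p
  refine ⟨g, p.1.2, h, (inducedPOm_iff hnd hn h β).mpr ?_⟩
  rw [← hg, hp]

end Cfsg.Agent.H17
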