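import Mathlib
import Cfsg.Agent.H17.SSGCount2
import Cfsg.Prelude.Def_KGroupFacts

set_option autoImplicit false

/-! Outer automorphism groups of simple orthogonal groups via semisimilarities. -/

namespace Cfsg.Agent.H17

open Cfsg Cfsg.Agent.H5

universe u v

theorem map_inn {G : Type u} {H : Type v} [Group G] [Group H] (e : G ≃* H) :
    (Inn G).map (MulAut.congr e : MulAut G →* MulAut H) = Inn H := by
  ext α
  constructor
  · rintro ⟨_, ⟨g, rfl⟩, rfl⟩
    refine ⟨e g, ?_⟩
    ext x
    change e g * x * (e g)⁻¹ = e (g * e.symm x * g⁻¹)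
    rw [map_mul, map_mul, map_inv, MulEquiv.apply_symm_apply]
  · rintro ⟨h, rfl⟩
    refine ⟨MulAut.conj (e.symm h), ⟨_, rfl⟩, ?_⟩
    ext x
    change e (e.symm h * e.symm x * (e.symm h)⁻¹) = h * x * h⁻¹
    rw [map_mul, map_mul, map_inv, MulEquiv.apply_symm_apply, MulEquiv.apply_symm_apply]

/-- outer automorphism groups of isomorphic groups -/
noncomputable def outCongr {G : Type u} {H : Type v} [Group G] [Group H] (e : G ≃* H) : Out G ≃* Out H :=
  QuotientGroup.congr (Inn G) (Inn H) (MulAut.congr e) (map_inn e)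

theorem card_out {G : Type u} [Group G] [Finite G] (hZ : Subgroup.center G = ⊥) :
    Nat.card (Out G) * Nat.card G = Nat.card (MulAut G) := by
  have h1 := Subgroup.card_eq_card_quotient_mul_card_subgroup (Inn G)
  have h2 : Nat.card (Inn G) = Nat.card G := by
    have hinj : Function.Injective (MulAut.conj : G →* MulAut G) := by
      rw [← MonoidHom.ker_eq_bot_iff, eq_bot_iff, ← hZ]
      intro g hg
      rw [Subgroup.mem_center_iff]
      intro x
      have h3 : g * x * g⁻¹ = x := congrArg (fun α : MulAut G => α x) (MonoidHom.mem_ker.mp hg)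
      exact (mul_inv_eq_iff_eq_mul.mp h3).symm
    exact (Nat.card_congr (MonoidHom.ofInjective hinj).toEquiv).symm
  rw [h1, h2]

theorem center_bot_of_simple {G : Type u} [Group G] [IsSimpleGroup G] (h : ¬ ∀ a b : G, a * b = b * a) :
    Subgroup.center G = ⊥ := by
  rcases (inferInstance : (Subgroup.center G).Normal).eq_bot_or_eq_top with h1 | h1
  · exact h1
  · exfalso
    apply h
    intro a b
    have : b ∈ Subgroup.center G := by rw [h1]; exact Subgroup.mem_top b
    exact (Subgroup.mem_center_iff.mp this a)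

section main

variable {F V : Type*} [Field F] [Finite F] [AddCommGroup V] [Module F V] [FiniteDimensional F V]
  {Q : QuadraticForm F V}

theorem PE_center (hnd : ND Q) (hn : 5 ≤ Module.finrank F V) : Subgroup.center (PE Q) = ⊥ := by
  haveI := eg_simple hnd hn
  apply center_bot_of_simple
  intro hcomm
  -- the group is perfect
  have h1 := eg_perfect hnd hn
  have h2 : commutator (PE Q) = ⊤ := by
    have h3 : (commutator (EG Q)).map (QuotientGroup.mk' (Subgroup.center (EG Q))) = ⊤ := by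
      rw [h1, ← MonoidHom.range_eq_map]
      exact MonoidHom.range_eq_top.mpr (QuotientGroup.mk'_surjective _)
    rw [commutator_def, Subgroup.map_commutator, ← MonoidHom.range_eq_map,
      MonoidHom.range_eq_top.mpr (QuotientGroup.mk'_surjective _)] at h3
    exact h3
  have h3 : commutator (PE Q) = ⊥ := by
    rw [commutator_def, Subgroup.commutator_eq_bot_iff_le_centralizer]
    intro a _ b _
    exact hcomm _ _
  rw [h3] at h2
  haveI : Nontrivial (PE Q) := inferInstance
  exact bot_ne_top h2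

omit [Finite F] [FiniteDimensional F V] in
theorem aE_ogSS (g : EG Q) : aE Q (ogSS Q g.1) = MulAut.conj (QuotientGroup.mk g : PE Q) := by
  apply autPE_ext
  intro s
  rw [aE_mk]
  change (QuotientGroup.mk _ : PE Q) = QuotientGroup.mk (g * s * g⁻¹)
  congr 1

omit [Finite F] [FiniteDimensional F V] in
/-- the outer automorphism induced by a semisimilarity -/
def outE (Q : QuadraticForm F V) : SSG Q →* Out (PE Q) := (QuotientGroup.mk' (Inn (PE Q))).comp (aE Q)

omit [Finite F] [FiniteDimensional F V] in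
theorem outE_apply (p : SSG Q) : outE Q p = QuotientGroup.mk (aE Q p) := rfl

theorem outE_surj (hsurj : Function.Surjective (aE Q)) : Function.Surjective (outE Q) :=
  (QuotientGroup.mk'_surjective _).comp hsurj

theorem outE_eq_one_iff (hnd : ND Q) (hn : 5 ≤ Module.finrank F V) (p : SSG Q) :
    outE Q p = 1 ↔ ∃ (c : Fˣ) (g : EG Q), p = scSS Q c * ogSS Q g.1 := by
  rw [outE_apply, QuotientGroup.eq_one_iff]
  constructor
  · rintro ⟨x, hx⟩
    obtain ⟨g, rfl⟩ := QuotientGroup.mk_surjective x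
    rw [← aE_ogSS] at hx
    have h1 : p * (ogSS Q g.1)⁻¹ ∈ (aE Q).ker := by
      rw [MonoidHom.mem_ker, map_mul, map_inv, hx, mul_inv_cancel]
    rw [aE_ker hnd hn] at h1
    obtain ⟨c, hc⟩ := h1
    exact ⟨c, g, by rw [hc, inv_mul_cancel_right]⟩
  · rintro ⟨c, g, rfl⟩
    have h1 : aE Q (scSS Q c) = 1 := by
      have : scSS Q c ∈ (aE Q).ker := by rw [aE_ker hnd hn]; exact ⟨c, rfl⟩
      exact this
    rw [map_mul, h1, one_mul, aE_ogSS]
    exact ⟨_, rfl⟩

/-- the field part of an outer automorphism -/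
theorem exists_outπ (hnd : ND Q) (hn : 5 ≤ Module.finrank F V) (hsurj : Function.Surjective (aE Q)) :
    ∃ Φ : Out (PE Q) →* (F ≃+* F), ∀ p, Φ (outE Q p) = p.1.2 := by
  have hker : (outE Q).ker ≤ (ssπ Q).ker := by
    intro p hp
    obtain ⟨c, g, rfl⟩ := (outE_eq_one_iff hnd hn p).mp hp
    rfl
  refine ⟨(QuotientGroup.lift (outE Q).ker (ssπ Q) hker).comp
    (QuotientGroup.quotientKerEquivOfSurjective (outE Q) (outE_surj hsurj)).symm.toMonoidHom, fun p => ?_⟩
  have h1 : (QuotientGroup.quotientKerEquivOfSurjective (outE Q) (outE_surj hsurj)).symm (outE Q p) = QuotientGroup.mk p := by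
    rw [MulEquiv.symm_apply_eq]; rfl
  show QuotientGroup.lift (outE Q).ker (ssπ Q) hker ((QuotientGroup.quotientKerEquivOfSurjective (outE Q) (outE_surj hsurj)).symm (outE Q p)) = _
  rw [h1]
  rfl

end main

/-- split extension of a group of order two -/
theorem split_order_two {G : Type*} {S : Type*} [Group G] [Group S] (Φ : G →* S) (s : S →* G) (hs : ∀ x, Φ (s x) = x)
    (h2 : Nat.card Φ.ker = 2) : Nonempty (G ≃* Multiplicative (ZMod 2) × S) := by
  have hcent : ∀ k ∈ Φ.ker, ∀ g : G, g * k = k * g := by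
    intro k hk g
    obtain ⟨a, b, hab, huniv⟩ := Nat.card_eq_two_iff.mp h2
    have hcase : ∀ x ∈ Φ.ker, x = 1 ∨ x = k ∨ k = 1 := by
      intro x hx
      have h1 : (1 : Φ.ker) ∈ ({a, b} : Set Φ.ker) := by rw [huniv]; trivial
      have h3 : (⟨k, hk⟩ : Φ.ker) ∈ ({a, b} : Set Φ.ker) := by rw [huniv]; trivial
      have h4 : (⟨x, hx⟩ : Φ.ker) ∈ ({a, b} : Set Φ.ker) := by rw [huniv]; trivial
      have e1 : ∀ {y z : Φ.ker}, y = z → y.1 = z.1 := fun h => congrArg _ h
      rcases h1 with h1 | h1 <;> rcases h3 with h3 | h3 <;> rcases h4 with h4 | h4 <;>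
      first
      | (left; exact e1 (h4.trans h1.symm))
      | (right; left; exact e1 (h4.trans h3.symm))
      | (right; right; exact e1 (h3.trans h1.symm))
    have hx : g * k * g⁻¹ ∈ Φ.ker := (inferInstance : Φ.ker.Normal).conj_mem k hk g
    rcases hcase _ hx with h | h | h
    · have h5 : k = 1 := by
        have : g * k = g := by rw [mul_inv_eq_one] at h; exact h
        exact mul_eq_left.mp this
      rw [h5, mul_one, one_mul]
    · exact mul_inv_eq_iff_eq_mul.mp h
    · rw [h, mul_one, one_mul]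
  haveI : Fact (Nat.Prime 2) := ⟨Nat.prime_two⟩
  obtain ⟨e⟩ : Nonempty (Φ.ker ≃* Multiplicative (ZMod 2)) :=
    ⟨mulEquivOfPrimeCardEq (p := 2) h2 (by rw [Nat.card_eq_fintype_card]; rfl)⟩
  have hmem : ∀ g, g * (s (Φ g))⁻¹ ∈ Φ.ker := by
    intro g
    rw [MonoidHom.mem_ker, map_mul, map_inv, hs, mul_inv_cancel]
  refine ⟨MulEquiv.trans (MulEquiv.ofBijective (⟨⟨fun g => ((⟨g * (s (Φ g))⁻¹, hmem g⟩ : Φ.ker), Φ g), ?_⟩, ?_⟩ : G →* Φ.ker × S) ⟨?_, ?_⟩)
    (MulEquiv.prodCongr e (MulEquiv.refl S))⟩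
  · apply Prod.ext
    · apply Subtype.ext
      show 1 * (s (Φ 1))⁻¹ = 1
      rw [map_one, map_one, inv_one, one_mul]
    · exact map_one Φ
  · intro g h
    apply Prod.ext
    · apply Subtype.ext
      show g * h * (s (Φ (g * h)))⁻¹ = (g * (s (Φ g))⁻¹) * (h * (s (Φ h))⁻¹)
      have h1 := hcent _ (hmem h) (s (Φ g))⁻¹
      rw [map_mul, map_mul, mul_inv_rev]
      calc g * h * ((s (Φ h))⁻¹ * (s (Φ g))⁻¹) = g * ((h * (s (Φ h))⁻¹) * (s (Φ g))⁻¹) := by group
        _ = _ := by rw [← h1]; group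
    · exact map_mul Φ g h
  · intro g h hgh
    have h1 : Φ g = Φ h := congrArg Prod.snd hgh
    have h3 : g * (s (Φ g))⁻¹ = h * (s (Φ h))⁻¹ := congrArg (fun x : Φ.ker × S => x.1.1) hgh
    rw [h1] at h3
    exact mul_right_cancel h3
  · rintro ⟨⟨k, hk⟩, x⟩
    have h1 : Φ (k * s x) = x := by rw [map_mul, MonoidHom.mem_ker.mp hk, one_mul, hs]
    refine ⟨k * s x, ?_⟩
    apply Prod.ext
    · apply Subtype.ext
      show k * s x * (s (Φ (k * s x)))⁻¹ = k
      rw [h1, mul_inv_cancel_right]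
    · exact h1

end Cfsg.Agent.H17
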