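import Mathlib
import Cfsg.Agent.H17.SSGOut
import Cfsg.Agent.H17.SSGConc
import Cfsg.Agent.H5.OrthForms

set_option autoImplicit false

/-! Standard field automorphisms as semisimilarities. -/

namespace Cfsg.Agent.H17

open Cfsg Cfsg.Agent.H5
open scoped MatrixGroups Matrix

variable {F : Type*} [Field F] {ι : Type} [Fintype ι] [DecidableEq ι] {Q : QuadraticForm F (ι → F)}

/-- standard field automorphisms -/
def stdSS (Q : QuadraticForm F (ι → F)) (hQ : ∀ (σ : F ≃+* F) x, Q (svI σ x) = σ (Q x)) : (F ≃+* F) →* SSG Q where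
  toFun σ := ⟨(Equiv.piCongrRight fun _ => σ.toEquiv, σ), svI_add σ, svI_smul σ, 1, fun x => by
    rw [Units.val_one, one_mul]; exact hQ σ x⟩
  map_one' := rfl
  map_mul' σ τ := rfl

theorem stdSS_apply (hQ : ∀ (σ : F ≃+* F) x, Q (svI σ x) = σ (Q x)) (σ : F ≃+* F) (x : ι → F) : (stdSS Q hQ σ).1.1 x = svI σ x := rfl

theorem qOdd_svI {m : ℕ} (σ : F ≃+* F) (x : Unit ⊕ (Fin m ⊕ Fin m) → F) : qOdd m F (svI σ x) = σ (qOdd m F x) := by
  rw [qOdd_coe, quadFormOdd, quadFormOdd]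
  simp only [map_add, map_sum, map_mul, map_pow]
  rfl

theorem qPlus_svI {m : ℕ} (σ : F ≃+* F) (x : Fin m ⊕ Fin m → F) : qPlus m F (svI σ x) = σ (qPlus m F x) := by
  rw [qPlus_coe, quadFormPlus, quadFormPlus]
  simp only [map_sum, map_mul]
  rfl

end Cfsg.Agent.H17
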