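import Mathlib
import Cfsg.Agent.H17.SpAut2
import Cfsg.Agent.H5.AltBasis

set_option autoImplicit false

/-! Field automorphisms of `PSp`: Hilbert 90 for conformal symplectic groups, conjugacy, centralizers, class splitting. -/

namespace Cfsg.Agent.H17

open Cfsg Cfsg.Agent.H5
open scoped MatrixGroups Matrix

section gl

/-- an injective endomorphism as an element of `GL` -/
theorem exists_gl_of_inj {F : Type*} [Field F] {ι : Type*} [Fintype ι] [DecidableEq ι] (L : (ι → F) →ₗ[F] (ι → F))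
    (hL : ∀ x, L x = 0 → x = 0) : ∃ g : GL ι F, ∀ x, (g : Matrix ι ι F) *ᵥ x = L x := by
  have hdet : (LinearMap.toMatrix' L).det ≠ 0 := by
    intro h0
    obtain ⟨v, hv0, hv⟩ := Matrix.exists_mulVec_eq_zero_iff.mpr h0
    rw [LinearMap.toMatrix'_mulVec] at hv
    exact hv0 (hL v hv)
  exact ⟨Matrix.GeneralLinearGroup.mkOfDetNeZero _ hdet, fun x => LinearMap.toMatrix'_mulVec _ _⟩

end gl

section desc

variable {F F₀ : Type*} [Field F] [Field F₀] {ι : Type*}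

/-- extension of vectors -/
def jV (j : F₀ →+* F) (v : ι → F₀) : ι → F := fun i => j (v i)

theorem jV_add (j : F₀ →+* F) (u v : ι → F₀) : jV j (u + v) = jV j u + jV j v := by ext i; simp [jV]
theorem jV_smul (j : F₀ →+* F) (c : F₀) (v : ι → F₀) : jV j (c • v) = j c • jV j v := by ext i; simp [jV]
theorem jV_zero (j : F₀ →+* F) : jV j (0 : ι → F₀) = 0 := by ext i; simp [jV]
theorem jV_inj (j : F₀ →+* F) {u v : ι → F₀} (h : jV j u = jV j v) : u = v := by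
  ext i
  exact j.injective (congrFun h i)
theorem jI_mulVec [Fintype ι] [DecidableEq ι] (j : F₀ →+* F) (g : GL ι F₀) (v : ι → F₀) :
    (jI ι j g : Matrix ι ι F) *ᵥ jV j v = jV j ((g : Matrix ι ι F₀) *ᵥ v) := by
  ext i
  simp only [jV, Matrix.mulVec, dotProduct, map_sum, map_mul]
  rfl
theorem svI_jV {τ : F ≃+* F} {j : F₀ →+* F} (hj : ∀ y, τ (j y) = j y) (v : ι → F₀) : svI τ (jV j v) = jV j v := by
  ext i
  exact hj _
theorem jV_single [DecidableEq ι] (j : F₀ →+* F) (i : ι) : jV j (Pi.single i (1 : F₀)) = Pi.single i (1 : F) := by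
  ext k
  by_cases hk : k = i
  · subst hk; simp [jV]
  · simp [jV, Pi.single_eq_of_ne hk]

/-- descending a bilinear form -/
theorem descend_bil {τ : F ≃+* F} {j : F₀ →+* F} (hj : ∀ x, τ x = x ↔ ∃ y, j y = x)
    (K : LinearMap.BilinForm F (ι → F)) (hK : ∀ u v, τ (K u v) = K (svI τ u) (svI τ v)) :
    ∃ B : LinearMap.BilinForm F₀ (ι → F₀), ∀ u v, j (B u v) = K (jV j u) (jV j v) := by
  have hj' : ∀ y, τ (j y) = j y := fun y => (hj _).mpr ⟨y, rfl⟩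
  have h1 : ∀ u v : ι → F₀, ∃ y, j y = K (jV j u) (jV j v) := by
    intro u v
    rw [← hj, hK, svI_jV hj', svI_jV hj']
  choose f hf using h1
  refine ⟨LinearMap.mk₂ F₀ f ?_ ?_ ?_ ?_, hf⟩
  · intro u v w
    apply j.injective
    rw [map_add, hf, hf, hf, jV_add, map_add, LinearMap.add_apply]
  · intro c u v
    apply j.injective
    rw [smul_eq_mul, map_mul, hf, hf, jV_smul, map_smul, LinearMap.smul_apply, smul_eq_mul]
  · intro u v w
    apply j.injective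
    rw [map_add, hf, hf, hf, jV_add, map_add]
  · intro c u v
    apply j.injective
    rw [smul_eq_mul, map_mul, hf, hf, jV_smul, map_smul, smul_eq_mul]

end desc

variable {F F₀ : Type*} [Field F] [Field F₀] {m : ℕ}

/-- all nondegenerate alternating forms are equivalent -/
theorem alt_equiv {F : Type*} [Field F] {m : ℕ} (B : LinearMap.BilinForm F (Fin m ⊕ Fin m → F)) (hB : B.IsAlt)
    (hnd : ∀ u, (∀ v, B u v = 0) → u = 0) :
    ∃ c : GL (Fin m ⊕ Fin m) F, ∀ u v, sympB m F ((c : Matrix (Fin m ⊕ Fin m) (Fin m ⊕ Fin m) F) *ᵥ u)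
      ((c : Matrix (Fin m ⊕ Fin m) (Fin m ⊕ Fin m) F) *ᵥ v) = B u v := by
  obtain ⟨m', k, b, h1, h2, h3, h4⟩ := alt_basis _ B hB rfl
  have hk : k = 0 := by
    by_contra hk0
    have h5 := hnd _ (h4 ⟨0, Nat.pos_of_ne_zero hk0⟩)
    exact b.ne_zero _ h5
  subst hk
  have hmm : m' = m := by
    have h5 := Module.finrank_eq_card_basis b
    rw [Module.finrank_fintype_fun_eq_card] at h5
    simp at h5
    omega
  subst hmm
  let b' : Module.Basis (Fin m' ⊕ Fin m') F (Fin m' ⊕ Fin m' → F) := b.reindex (Equiv.sumEmpty _ _)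
  have hb' : ∀ i, b' i = b (Sum.inl i) := fun i => by
    rw [Module.Basis.reindex_apply]
    rfl
  let L : (Fin m' ⊕ Fin m' → F) ≃ₗ[F] (Fin m' ⊕ Fin m' → F) := b'.equiv (Pi.basisFun F _) (Equiv.sumComm _ _)
  have hL : ∀ i, L (b' i) = Pi.single (Sum.swap i) 1 := by
    intro i
    rw [Module.Basis.equiv_apply, Pi.basisFun_apply]
    rfl
  obtain ⟨c, hc⟩ := exists_gl_of_inj (L : (Fin m' ⊕ Fin m' → F) →ₗ[F] (Fin m' ⊕ Fin m' → F)) (fun x hx => by
    exact (LinearEquiv.map_eq_zero_iff L).mp hx)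
  refine ⟨c, fun u v => ?_⟩
  rw [hc, hc]
  have hsf : ∀ i j : Fin m' ⊕ Fin m', sympB m' F (Pi.single i 1) (Pi.single j 1) =
      ∑ k, ((Pi.single i 1 : Fin m' ⊕ Fin m' → F) (Sum.inr k) * (Pi.single j 1 : Fin m' ⊕ Fin m' → F) (Sum.inl k) -
        (Pi.single i 1 : Fin m' ⊕ Fin m' → F) (Sum.inl k) * (Pi.single j 1 : Fin m' ⊕ Fin m' → F) (Sum.inr k)) := by
    intro i j
    rw [sympB_apply, sympForm_eq]
  have key : (sympB m' F).compl₁₂ (L : (Fin m' ⊕ Fin m' → F) →ₗ[F] (Fin m' ⊕ Fin m' → F))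
      (L : (Fin m' ⊕ Fin m' → F) →ₗ[F] (Fin m' ⊕ Fin m' → F)) = B := by
    apply LinearMap.ext_basis b' b'
    intro i j
    rw [LinearMap.compl₁₂_apply, LinearEquiv.coe_coe, hL, hL, hb', hb', hsf]
    rcases i with i | i <;> rcases j with j | j
    · rw [h2]
      apply Finset.sum_eq_zero
      intro k _
      simp
    · rw [h1]
      simp [Pi.single_apply, Finset.sum_ite_eq]
      simp only [eq_comm]
    · rw [← LinearMap.BilinForm.IsAlt.neg_eq hB, h1]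
      simp [Pi.single_apply, Finset.sum_ite_eq, eq_comm]
    · rw [h3]
      apply Finset.sum_eq_zero
      intro k _
      simp
  have := congrArg (fun f : LinearMap.BilinForm F (Fin m' ⊕ Fin m' → F) => f u v) key
  exact this

theorem muS_gspMap (hm : 1 ≤ m) (τ : F ≃+* F) (s : GSp m F) : muS hm (gspMap m τ s) = uM τ (muS hm s) := by
  apply Units.ext
  apply muS_unique
  intro u v
  change sympB m F (((glI τ (s : GL (Fin m ⊕ Fin m) F) : GL (Fin m ⊕ Fin m) F) : Matrix (Fin m ⊕ Fin m) (Fin m ⊕ Fin m) F) *ᵥ u)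
    (((glI τ (s : GL (Fin m ⊕ Fin m) F) : GL (Fin m ⊕ Fin m) F) : Matrix (Fin m ⊕ Fin m) (Fin m ⊕ Fin m) F) *ᵥ v) = _
  rw [← svI_inv τ u, ← svI_inv τ v, ← svI_mulVec, ← svI_mulVec, sympB_svI, muS_spec hm, map_mul, ← sympB_svI τ (svI τ⁻¹ u)]
  rfl

/-- Hilbert 90 for the conformal symplectic group -/
theorem hilbert90_GSp (hm : 1 ≤ m) {τ : F ≃+* F} {r : ℕ} (hτ : orderOf τ = r) (hr : 0 < r) {j : F₀ →+* F}
    (hj : ∀ x, τ x = x ↔ ∃ y, j y = x) {a : GSp m F} (hN : tI τ (a : GL (Fin m ⊕ Fin m) F) r = 1) :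
    ∃ b : GSp m F, (a : GL (Fin m ⊕ Fin m) F) * glI τ (b : GL (Fin m ⊕ Fin m) F) = b := by
  have hj' : ∀ y, τ (j y) = j y := fun y => (hj _).mpr ⟨y, rfl⟩
  obtain ⟨b0, hb0⟩ := hilbert90_I τ hτ hr (a : GL (Fin m ⊕ Fin m) F) hN
  -- the multiplier of `a` has norm one
  have hmu : ∀ i (t : GSp m F), (t : GL (Fin m ⊕ Fin m) F) = tI τ (a : GL (Fin m ⊕ Fin m) F) i → muS hm t = uN τ (muS hm a) i := by
    intro i
    induction i with
    | zero =>
      intro t ht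
      rw [tI_zero] at ht
      have : t = 1 := Subtype.ext ht
      rw [this, map_one, uN_zero]
    | succ i ih =>
      intro t ht
      have hex : ∀ i, ∃ s : GSp m F, (s : GL (Fin m ⊕ Fin m) F) = tI τ (a : GL (Fin m ⊕ Fin m) F) i := by
        intro i
        induction i with
        | zero => exact ⟨1, rfl⟩
        | succ i ih =>
          obtain ⟨s, hs⟩ := ih
          exact ⟨a * gspMap m τ s, by rw [tI_succ, ← hs]; rfl⟩
      obtain ⟨s, hs⟩ := hex i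
      have h1 : t = a * gspMap m τ s := by
        apply Subtype.ext
        rw [ht, tI_succ, ← hs]; rfl
      rw [h1, map_mul, muS_gspMap, ih s hs, uN_succ]
  have hmu1 : uN τ (muS hm a) r = 1 := by
    rw [← hmu r 1 (by rw [hN]; rfl), map_one]
  obtain ⟨y, hy⟩ := hilbert90_u τ hτ hr (muS hm a) hmu1
  -- the form in the new basis
  let K : LinearMap.BilinForm F (Fin m ⊕ Fin m → F) :=
    ((y⁻¹ : Fˣ) : F) • (sympB m F).compl₁₂ (b0 : Matrix (Fin m ⊕ Fin m) (Fin m ⊕ Fin m) F).mulVecLin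
      (b0 : Matrix (Fin m ⊕ Fin m) (Fin m ⊕ Fin m) F).mulVecLin
  have hKdef : ∀ u v, K u v = ((y⁻¹ : Fˣ) : F) * sympB m F ((b0 : Matrix (Fin m ⊕ Fin m) (Fin m ⊕ Fin m) F) *ᵥ u)
      ((b0 : Matrix (Fin m ⊕ Fin m) (Fin m ⊕ Fin m) F) *ᵥ v) := fun u v => rfl
  have hK : ∀ u v, τ (K u v) = K (svI τ u) (svI τ v) := by
    intro u v
    rw [hKdef, hKdef, map_mul, ← sympB_svI, svI_mulVec, svI_mulVec]
    conv_rhs => rw [← hb0]
    rw [Units.val_mul, ← Matrix.mulVec_mulVec, ← Matrix.mulVec_mulVec, muS_spec hm, ← mul_assoc]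
    congr 1
    have h1 : uM τ y⁻¹ = y⁻¹ * muS hm a := by
      rw [map_inv, ← hy, _root_.mul_inv_rev, hy, inv_mul_cancel_right]
    exact congrArg Units.val h1
  obtain ⟨B, hB⟩ := descend_bil hj K hK
  have hBalt : B.IsAlt := by
    intro v
    apply j.injective
    rw [hB, map_zero, hKdef]
    have : sympB m F ((b0 : Matrix (Fin m ⊕ Fin m) (Fin m ⊕ Fin m) F) *ᵥ jV j v) ((b0 : Matrix (Fin m ⊕ Fin m) (Fin m ⊕ Fin m) F) *ᵥ jV j v) = 0 :=
      sympB_isAlt _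
    rw [this, mul_zero]
  have hb0inj : ∀ x, (b0 : Matrix (Fin m ⊕ Fin m) (Fin m ⊕ Fin m) F) *ᵥ x = 0 → x = 0 := by
    intro x hx
    have h1 := congrArg (fun z => ((b0⁻¹ : GL (Fin m ⊕ Fin m) F) : Matrix (Fin m ⊕ Fin m) (Fin m ⊕ Fin m) F) *ᵥ z) hx
    simp only [Matrix.mulVec_mulVec, Matrix.mulVec_zero] at h1
    rwa [← Units.val_mul, inv_mul_cancel, Units.val_one, Matrix.one_mulVec] at h1
  have hBnd : ∀ u, (∀ v, B u v = 0) → u = 0 := by
    intro u hu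
    apply jV_inj j
    rw [jV_zero]
    apply hb0inj
    apply sp_formData.nd
    intro z
    obtain ⟨w, hw⟩ : ∃ w, w = ((b0⁻¹ : GL (Fin m ⊕ Fin m) F) : Matrix (Fin m ⊕ Fin m) (Fin m ⊕ Fin m) F) *ᵥ z := ⟨_, rfl⟩
    have hz : z = (b0 : Matrix (Fin m ⊕ Fin m) (Fin m ⊕ Fin m) F) *ᵥ w := by
      rw [hw, Matrix.mulVec_mulVec, ← Units.val_mul, mul_inv_cancel, Units.val_one, Matrix.one_mulVec]
    have hw2 : w = ∑ i, w i • (Pi.single i (1 : F) : Fin m ⊕ Fin m → F) := by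
      ext k
      simp [Finset.sum_apply, Pi.single_apply]
    rw [hz, hw2, Matrix.mulVec_sum, map_sum]
    apply Finset.sum_eq_zero
    intro i _
    rw [Matrix.mulVec_smul, map_smul, smul_eq_mul]
    have h2 := hB u (Pi.single i 1)
    rw [hu, map_zero, hKdef, jV_single] at h2
    rw [(mul_eq_zero.mp h2.symm).resolve_left (Units.ne_zero _), mul_zero]
  obtain ⟨c, hc⟩ := alt_equiv B hBalt hBnd
  -- `b = b0 c⁻¹`
  have hcj : ∀ u v, sympB m F ((jI _ j c : Matrix (Fin m ⊕ Fin m) (Fin m ⊕ Fin m) F) *ᵥ u) ((jI _ j c : Matrix (Fin m ⊕ Fin m) (Fin m ⊕ Fin m) F) *ᵥ v) = K u v := by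
    have hJ : (sympB m F).compl₁₂ (jI _ j c : Matrix (Fin m ⊕ Fin m) (Fin m ⊕ Fin m) F).mulVecLin
        (jI _ j c : Matrix (Fin m ⊕ Fin m) (Fin m ⊕ Fin m) F).mulVecLin = K := by
      apply LinearMap.ext_basis (Pi.basisFun F _) (Pi.basisFun F _)
      intro s t
      rw [Pi.basisFun_apply, Pi.basisFun_apply]
      change sympB m F ((jI _ j c : Matrix (Fin m ⊕ Fin m) (Fin m ⊕ Fin m) F) *ᵥ Pi.single s 1)
        ((jI _ j c : Matrix (Fin m ⊕ Fin m) (Fin m ⊕ Fin m) F) *ᵥ Pi.single t 1) = _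
      rw [← jV_single j s, ← jV_single j t, jI_mulVec, jI_mulVec, ← hB, ← hc]
      rw [sympB_apply, sympB_apply, sympForm_eq, sympForm_eq, map_sum]
      apply Finset.sum_congr rfl
      intro i _
      rw [map_sub, map_mul, map_mul]
      rfl
    intro u v
    exact congrArg (fun f : LinearMap.BilinForm F (Fin m ⊕ Fin m → F) => f u v) hJ
  have hbG : b0 * (jI _ j c)⁻¹ ∈ GSp m F := by
    rw [mem_GSp_iff]
    refine ⟨y, fun u v => ?_⟩
    have h3 : ∀ x, (jI _ j c : Matrix (Fin m ⊕ Fin m) (Fin m ⊕ Fin m) F) *ᵥ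
        ((((jI _ j c)⁻¹ : GL (Fin m ⊕ Fin m) F) : Matrix (Fin m ⊕ Fin m) (Fin m ⊕ Fin m) F) *ᵥ x) = x := by
      intro x
      rw [Matrix.mulVec_mulVec, ← Units.val_mul, mul_inv_cancel, Units.val_one, Matrix.one_mulVec]
    have h4 := hcj ((((jI _ j c)⁻¹ : GL (Fin m ⊕ Fin m) F) : Matrix (Fin m ⊕ Fin m) (Fin m ⊕ Fin m) F) *ᵥ u)
      ((((jI _ j c)⁻¹ : GL (Fin m ⊕ Fin m) F) : Matrix (Fin m ⊕ Fin m) (Fin m ⊕ Fin m) F) *ᵥ v)
    rw [h3, h3, hKdef] at h4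
    rw [Units.val_mul, ← Matrix.mulVec_mulVec, ← Matrix.mulVec_mulVec, h4, ← mul_assoc, Units.val_inv_eq_inv_val,
      mul_inv_cancel₀ y.ne_zero, one_mul]
  refine ⟨⟨_, hbG⟩, ?_⟩
  change (a : GL (Fin m ⊕ Fin m) F) * glI τ (b0 * (jI _ j c)⁻¹) = b0 * (jI _ j c)⁻¹
  rw [map_mul, map_inv, glI_jI hj', ← mul_assoc, hb0]

theorem cS_fS_pow (τ : F ≃+* F) (a : GSp m F) (i : ℕ) :
    ∃ t : GSp m F, (t : GL (Fin m ⊕ Fin m) F) = tI τ a i ∧ (cS m F a * fS m F τ) ^ i = cS m F t * fS m F (τ ^ i) := by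
  induction i with
  | zero => exact ⟨1, rfl, by rw [pow_zero, pow_zero, map_one, map_one, one_mul]⟩
  | succ i ih =>
    obtain ⟨t, ht, h⟩ := ih
    refine ⟨a * gspMap m τ t, ?_, ?_⟩
    · rw [tI_succ, ← ht]; rfl
    · rw [pow_succ', h, pow_succ', map_mul, map_mul]
      calc cS m F a * fS m F τ * (cS m F t * fS m F (τ ^ i)) =
          cS m F a * (fS m F τ * cS m F t) * fS m F (τ ^ i) := by simp only [mul_assoc]
        _ = _ := by rw [fS_cS]; simp only [mul_assoc]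

theorem field_conj_Sp [Finite F] (hm : 2 ≤ m) {τ : F ≃+* F} {r : ℕ} (hτ : orderOf τ = r) (hr : 0 < r) {j : F₀ →+* F}
    (hj : ∀ x, τ x = x ↔ ∃ y, j y = x) (a : GSp m F) (h : (cS m F a * fS m F τ) ^ r = 1) :
    ∃ b : GSp m F, cS m F a * fS m F τ = cS m F b * fS m F τ * (cS m F b)⁻¹ := by
  haveI : Nonempty (Fin m ⊕ Fin m) := ⟨Sum.inl ⟨0, by omega⟩⟩
  obtain ⟨t, ht, hpow⟩ := cS_fS_pow τ a r
  have hτr : τ ^ r = 1 := by rw [← hτ, pow_orderOf_eq_one]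
  rw [hpow, hτr, map_one, mul_one, cS_eq_one_iff hm] at h
  obtain ⟨c, hc⟩ := h
  rw [ht] at hc
  have h1 := tI_succ τ (a : GL (Fin m ⊕ Fin m) F) r
  have h2 := tI_succ' τ (a : GL (Fin m ⊕ Fin m) F) r
  rw [hτr, glI_one, hc] at h2
  rw [h2, hc, glI_sI, ← sI_comm] at h1
  have h3 := sI_inj (mul_right_cancel h1)
  obtain ⟨y, hy⟩ := uNorm_surj τ hτ hr c⁻¹ (by
    rw [Units.val_inv_eq_inv_val, map_inv₀]
    rw [← coe_uM, ← h3])
  obtain ⟨b, hb⟩ := hilbert90_GSp (by omega) hτ hr hj (a := ⟨sI _ y, sI_mem_GSp y⟩ * a) (by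
    change tI τ (sI _ y * (a : GL (Fin m ⊕ Fin m) F)) r = 1
    rw [tI_sI_mul, hy, hc, ← map_mul, inv_mul_cancel, map_one])
  refine ⟨b, ?_⟩
  have h4 : cS m F a = cS m F (⟨sI _ y, sI_mem_GSp y⟩ * a) := by rw [map_mul, cS_sI hm, one_mul]
  have h5 : (⟨sI _ y, sI_mem_GSp y⟩ * a) * gspMap m τ b = b := Subtype.ext hb
  rw [h4, eq_mul_inv_iff_mul_eq, mul_assoc, fS_cS, ← mul_assoc, ← map_mul, h5]

theorem comm_fS_iff (hm : 2 ≤ m) {τ : F ≃+* F} {r : ℕ} (hτ : orderOf τ = r) (hr : 0 < r) (g : GSp m F) :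
    fS m F τ * cS m F g = cS m F g * fS m F τ ↔
      ∃ (c : Fˣ) (h : GSp m F), glI τ (h : GL (Fin m ⊕ Fin m) F) = h ∧ g = ⟨sI _ c, sI_mem_GSp c⟩ * h := by
  haveI : Nonempty (Fin m ⊕ Fin m) := ⟨Sum.inl ⟨0, by omega⟩⟩
  constructor
  · intro h
    rw [fS_cS] at h
    have h1 : cS m F (gspMap m τ g * g⁻¹) = 1 := by
      rw [map_mul, map_inv, mul_inv_eq_one]
      exact mul_right_cancel h
    rw [cS_eq_one_iff hm] at h1
    obtain ⟨c, hc⟩ := h1
    have hc' : glI τ (g : GL (Fin m ⊕ Fin m) F) = sI _ c * (g : GL (Fin m ⊕ Fin m) F) := by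
      rw [← mul_inv_eq_iff_eq_mul]; exact hc
    have h2 : ∀ i, glI (τ ^ i) (g : GL (Fin m ⊕ Fin m) F) = sI _ (uN τ c i) * (g : GL (Fin m ⊕ Fin m) F) := by
      intro i
      induction i with
      | zero => rw [pow_zero, glI_one, uN_zero, map_one, one_mul]
      | succ i ih =>
        rw [glI_pow_succ, ih, map_mul, glI_sI, hc', uN_succ, ← mul_assoc, ← map_mul, mul_comm c]
    have h3 := h2 r
    rw [← hτ, pow_orderOf_eq_one, glI_one, hτ] at h3
    have h4 : uN τ c r = 1 := by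
      apply sI_inj (ι := Fin m ⊕ Fin m)
      rw [map_one]
      exact (right_eq_mul.mp h3)
    obtain ⟨y, hy⟩ := hilbert90_u τ hτ hr c h4
    refine ⟨y⁻¹, ⟨sI _ y, sI_mem_GSp y⟩ * g, ?_, ?_⟩
    · change glI τ (sI _ y * (g : GL (Fin m ⊕ Fin m) F)) = sI _ y * (g : GL (Fin m ⊕ Fin m) F)
      rw [map_mul, glI_sI, hc', ← mul_assoc, ← map_mul, mul_comm (uM τ y), hy]
    · apply Subtype.ext
      change (g : GL (Fin m ⊕ Fin m) F) = sI _ y⁻¹ * (sI _ y * (g : GL (Fin m ⊕ Fin m) F))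
      rw [← mul_assoc, ← map_mul, inv_mul_cancel, map_one, one_mul]
  · rintro ⟨c, h, hh, rfl⟩
    have h4 : gspMap m τ h = h := Subtype.ext hh
    rw [map_mul, cS_sI hm, one_mul, fS_cS, h4]

/-- extension of scalars for `GSp` -/
def jS (m : ℕ) (j : F₀ →+* F) : GSp m F₀ →* GSp m F where
  toFun g := ⟨jI _ j g, by
    obtain ⟨c, hc⟩ := mem_GSp_iff.mp g.2
    rw [mem_GSp_iff]
    refine ⟨Units.map (j : F₀ →* F) c, ?_⟩
    have hJ : (sympB m F).compl₁₂ (jI _ j (g : GL (Fin m ⊕ Fin m) F₀) : Matrix (Fin m ⊕ Fin m) (Fin m ⊕ Fin m) F).mulVecLin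
        (jI _ j (g : GL (Fin m ⊕ Fin m) F₀) : Matrix (Fin m ⊕ Fin m) (Fin m ⊕ Fin m) F).mulVecLin = (j (c : F₀)) • sympB m F := by
      apply LinearMap.ext_basis (Pi.basisFun F _) (Pi.basisFun F _)
      intro s t
      rw [Pi.basisFun_apply, Pi.basisFun_apply]
      change sympB m F ((jI _ j (g : GL (Fin m ⊕ Fin m) F₀) : Matrix (Fin m ⊕ Fin m) (Fin m ⊕ Fin m) F) *ᵥ Pi.single s 1)
        ((jI _ j (g : GL (Fin m ⊕ Fin m) F₀) : Matrix (Fin m ⊕ Fin m) (Fin m ⊕ Fin m) F) *ᵥ Pi.single t 1) = (j (c : F₀)) * sympB m F (Pi.single s 1) (Pi.single t 1)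
      have hjB : ∀ u v : Fin m ⊕ Fin m → F₀, sympB m F (jV j u) (jV j v) = j (sympB m F₀ u v) := by
        intro u v
        rw [sympB_apply, sympB_apply, sympForm_eq, sympForm_eq, map_sum]
        apply Finset.sum_congr rfl
        intro i _
        rw [map_sub, map_mul, map_mul]
        rfl
      rw [← jV_single j s, ← jV_single j t, jI_mulVec, jI_mulVec, hjB, hjB, hc, map_mul]
    intro u v
    exact congrArg (fun f : LinearMap.BilinForm F (Fin m ⊕ Fin m → F) => f u v) hJ⟩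
  map_one' := Subtype.ext (map_one (jI _ j))
  map_mul' a b := Subtype.ext (map_mul (jI _ j) _ _)

theorem mem_GSp_of_jI (hm : 1 ≤ m) {j : F₀ →+* F} {g : GL (Fin m ⊕ Fin m) F₀} (h : jI _ j g ∈ GSp m F) : g ∈ GSp m F₀ := by
  have hjB : ∀ u v : Fin m ⊕ Fin m → F₀, sympB m F (jV j u) (jV j v) = j (sympB m F₀ u v) := by
    intro u v
    rw [sympB_apply, sympB_apply, sympForm_eq, sympForm_eq, map_sum]
    apply Finset.sum_congr rfl
    intro i _
    rw [map_sub, map_mul, map_mul]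
    rfl
  obtain ⟨c, hc⟩ := mem_GSp_iff.mp h
  obtain ⟨e, f, hef⟩ := exists_hyp_Sp (F := F₀) hm
  have h1 : sympB m F₀ e f = 1 := hef.ef
  have h2 := hc (jV j e) (jV j f)
  rw [jI_mulVec, jI_mulVec, hjB, hjB, h1, map_one, mul_one] at h2
  have h3 : sympB m F₀ ((g : Matrix (Fin m ⊕ Fin m) (Fin m ⊕ Fin m) F₀) *ᵥ e) ((g : Matrix (Fin m ⊕ Fin m) (Fin m ⊕ Fin m) F₀) *ᵥ f) ≠ 0 := by
    intro h0
    rw [h0, map_zero] at h2
    exact c.ne_zero h2.symm
  rw [mem_GSp_iff]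
  refine ⟨Units.mk0 _ h3, fun u v => ?_⟩
  apply j.injective
  rw [← hjB, ← jI_mulVec, ← jI_mulVec, hc, hjB, map_mul, Units.val_mk0, h2]

theorem cent_field_Sp (hm : 2 ≤ m) {τ : F ≃+* F} {r : ℕ} (hτ : orderOf τ = r) (hr : 0 < r) {j : F₀ →+* F}
    (hj : ∀ x, τ x = x ↔ ∃ y, j y = x) :
    Nonempty (↥(inndiagPSp m F ⊓ Subgroup.centralizer {fS m F τ}) ≃* PGSp m F₀) := by
  haveI : Nonempty (Fin m ⊕ Fin m) := ⟨Sum.inl ⟨0, by omega⟩⟩
  have hj' : ∀ y, τ (j y) = j y := fun y => (hj _).mpr ⟨y, rfl⟩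
  rw [inndiagPSp_eq]
  have h0 := cent_equiv (cS m F).range (fS m F τ) 1 (Subgroup.one_mem _) ((cS m F).comp (jS m j)) ?_
    ((Geo.scalars (Fin m ⊕ Fin m) F₀).subgroupOf (GSp m F₀)) ?_
  · rw [one_mul, inv_one, mul_one] at h0
    exact h0
  · ext y
    constructor
    · rintro ⟨h, rfl⟩
      refine ⟨⟨_, rfl⟩, ?_⟩
      refine Subgroup.mem_centralizer_singleton_iff.mpr ?_
      symm
      change fS m F τ * cS m F (jS m j h) = cS m F (jS m j h) * fS m F τ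
      rw [comm_fS_iff hm hτ hr]
      refine ⟨1, jS m j h, glI_jI hj' _, ?_⟩
      apply Subtype.ext
      change _ = sI _ 1 * _
      rw [map_one, one_mul]
    · rintro ⟨⟨h, rfl⟩, hh⟩
      replace hh := Subgroup.mem_centralizer_singleton_iff.mp hh
      obtain ⟨c, k, hk, he⟩ := (comm_fS_iff hm hτ hr h).mp hh.symm
      obtain ⟨k0, hk0⟩ := exists_descendI hj hk
      refine ⟨⟨k0, mem_GSp_of_jI (by omega) (by rw [hk0]; exact k.2)⟩, ?_⟩
      change cS m F (jS m j ⟨k0, _⟩) = cS m F h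
      have h3 : jS m j ⟨k0, mem_GSp_of_jI (by omega) (by rw [hk0]; exact k.2)⟩ = k := Subtype.ext hk0
      rw [h3, he, map_mul, cS_sI hm, one_mul]
  · ext h
    rw [MonoidHom.mem_ker, Subgroup.mem_subgroupOf, mem_scalarsI]
    change cS m F (jS m j h) = 1 ↔ _
    rw [cS_eq_one_iff hm]
    constructor
    · rintro ⟨c, hc⟩
      exact jI_eq_sI hc
    · rintro ⟨c, hc⟩
      refine ⟨Units.map (j : F₀ →* F) c, ?_⟩
      change jI _ j (h : GL (Fin m ⊕ Fin m) F₀) = _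
      rw [hc, jI_sI]

theorem split_field_Sp [Finite F] (hm : 2 ≤ m) {τ : F ≃+* F} {r : ℕ} (hτ : orderOf τ = r) (hr : 0 < r) :
    splitClassCount (inndiagPSp m F) (Inn (PSp m F)) (fS m F τ) = Nat.gcd 2 (fixU τ).index := by
  haveI := Inn_normal (G := PSp m F)
  have hm1 : 1 ≤ m := by omega
  rw [inndiagPSp_eq]
  refine splitCount_gen (cS m F) (Inn (PSp m F)) Inn_le_rangeSp (muS hm1)
    (fun a => ⟨dS m F a, muS_dS hm1 a⟩) 2 (cS_mem_Inn_iff hm hm1) (fS m F τ) (fixU τ) ?_ ?_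
  · intro g hg
    obtain ⟨c, h, h1, he⟩ := (comm_fS_iff hm hτ hr g).mp hg
    rw [he, map_mul]
    refine Subgroup.mul_mem_sup ?_ ?_
    · rw [← cS_mem_Inn_iff hm hm1, cS_sI hm]
      exact Subgroup.one_mem _
    · rw [mem_fixU, ← muS_gspMap]
      congr 1
      exact Subtype.ext h1
  · intro e he
    refine ⟨dS m F e, ?_, muS_dS hm1 e⟩
    rw [fS_cS, gspMap_dS, mem_fixU.mp he]

end Cfsg.Agent.H17
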