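import Mathlib
import Cfsg.Agent.H17.SSGStd
import Cfsg.Agent.H17.SSGCount2
import Cfsg.Agent.H17.SpField

set_option autoImplicit false

/-! Descent of quadratic forms along a field automorphism; Hilbert 90 for semisimilarities. -/

namespace Cfsg.Agent.H17

open Cfsg Cfsg.Agent.H5
open scoped MatrixGroups Matrix

section ext

variable {F F₀ : Type*} [Field F] [Field F₀] {ι : Type*} [Fintype ι] [DecidableEq ι]

theorem pi_eq_sum (x : ι → F) : x = ∑ i, x i • (Pi.single i (1 : F) : ι → F) := by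
  ext k
  simp [Finset.sum_apply, Pi.single_apply]

theorem quad_ext_jV (j : F₀ →+* F) {Q Q' : QuadraticForm F (ι → F)} (h : ∀ v : ι → F₀, Q (jV j v) = Q' (jV j v))
    (x : ι → F) : Q x = Q' x := by
  obtain ⟨D, hD⟩ : ∃ D : QuadraticForm F (ι → F), D = Q - Q' := ⟨_, rfl⟩
  have hDv : ∀ v : ι → F₀, D (jV j v) = 0 := by
    intro v
    rw [hD, QuadraticMap.sub_apply, h, sub_self]
  have hB : ∀ y z : ι → F, pB D y z = 0 := by
    intro y z
    have h1 : QuadraticMap.polarBilin D = 0 := by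
      apply LinearMap.ext_basis (Pi.basisFun F _) (Pi.basisFun F _)
      intro s t
      rw [Pi.basisFun_apply, Pi.basisFun_apply, ← jV_single j s, ← jV_single j t]
      show QuadraticMap.polar D _ _ = 0
      rw [QuadraticMap.polar, ← jV_add, hDv, hDv, hDv, sub_zero, sub_zero]
    have h2 := congrArg (fun f : LinearMap.BilinForm F (ι → F) => f y z) h1
    exact h2
  have hadd : ∀ y z : ι → F, D (y + z) = D y + D z := by
    intro y z
    rw [q_add, hB, add_zero]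
  have hsum : ∀ (s : Finset ι), D (∑ i ∈ s, x i • (Pi.single i (1 : F) : ι → F)) = 0 := by
    intro s
    induction s using Finset.induction_on with
    | empty => rw [Finset.sum_empty, q_zero]
    | insert a s ha ih =>
      rw [Finset.sum_insert ha, hadd, ih, add_zero, q_smul, ← jV_single j a, hDv, mul_zero]
  have h3 := hsum Finset.univ
  rw [← pi_eq_sum x, hD, QuadraticMap.sub_apply] at h3
  exact sub_eq_zero.mp h3

theorem descend_quad {τ : F ≃+* F} {j : F₀ →+* F} (hj : ∀ x, τ x = x ↔ ∃ y, j y = x) (K : QuadraticForm F (ι → F))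
    (hK : ∀ v, K (svI τ v) = τ (K v)) : ∃ Q₀ : QuadraticForm F₀ (ι → F₀), ∀ v, j (Q₀ v) = K (jV j v) := by
  have hj' : ∀ y, τ (j y) = j y := fun y => (hj _).mpr ⟨y, rfl⟩
  have hKB : ∀ u v, τ (QuadraticMap.polarBilin K u v) = QuadraticMap.polarBilin K (svI τ u) (svI τ v) := by
    intro u v
    show τ (K (u + v) - K u - K v) = K (svI τ u + svI τ v) - K (svI τ u) - K (svI τ v)
    rw [map_sub, map_sub, ← svI_add, hK, hK, hK]
  obtain ⟨B, hB⟩ := descend_bil hj (QuadraticMap.polarBilin K) hKB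
  have h1 : ∀ v : ι → F₀, ∃ y, j y = K (jV j v) := by
    intro v
    rw [← hj, ← hK, svI_jV hj']
  choose f hf using h1
  refine ⟨{ toFun := f, toFun_smul := fun a v => ?_, exists_companion' := ⟨B, fun u v => ?_⟩ }, hf⟩
  · apply j.injective
    rw [hf, jV_smul, q_smul, smul_eq_mul, map_mul, map_mul, hf]
  · apply j.injective
    rw [map_add, map_add, hf, hf, hf, hB, jV_add, q_add]

theorem ext_pB {j : F₀ →+* F} {Q : QuadraticForm F (ι → F)} {Q₀ : QuadraticForm F₀ (ι → F₀)}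
    (h : ∀ v, j (Q₀ v) = Q (jV j v)) (u v : ι → F₀) : j (pB Q₀ u v) = pB Q (jV j u) (jV j v) := by
  have h1 := h (u + v)
  rw [jV_add, q_add, q_add, map_add, map_add, h, h] at h1
  exact add_left_cancel h1

theorem descend_nd {j : F₀ →+* F} {Q : QuadraticForm F (ι → F)} {Q₀ : QuadraticForm F₀ (ι → F₀)}
    (h : ∀ v, j (Q₀ v) = Q (jV j v)) (hnd : ND Q) : ND Q₀ := by
  intro u hu
  apply jV_inj j
  rw [jV_zero]
  apply hnd
  intro y
  rw [pi_eq_sum y, map_sum]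
  apply Finset.sum_eq_zero
  intro i _
  rw [pr_smul, ← jV_single j i, ← ext_pB h, hu, map_zero, mul_zero]

theorem ext_sim {j : F₀ →+* F} {Q Q' : QuadraticForm F (ι → F)} {Q₀ Q₀' : QuadraticForm F₀ (ι → F₀)}
    (h : ∀ v, j (Q₀ v) = Q (jV j v)) (h' : ∀ v, j (Q₀' v) = Q' (jV j v)) (g : GL ι F₀) (c : F₀)
    (hg : ∀ v, Q₀' ((g : Matrix ι ι F₀) *ᵥ v) = c * Q₀ v) (x : ι → F) :
    Q' ((jI ι j g : Matrix ι ι F) *ᵥ x) = j c * Q x := by
  have h1 := quad_ext_jV j (Q := Q'.comp ((jI ι j g : Matrix ι ι F).mulVecLin)) (Q' := (j c) • Q) (by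
    intro v
    rw [QuadraticMap.comp_apply, Matrix.mulVecLin_apply, jI_mulVec, ← h', hg, QuadraticMap.smul_apply, ← h, map_mul,
      smul_eq_mul]) x
  exact h1

end ext

section pairs

variable {F : Type*} [Field F] {ι : Type} [Fintype ι] [DecidableEq ι] {Q : QuadraticForm F (ι → F)}

theorem ss_pow_apply (p : SSG Q) {g : GL ι F} (hg : ∀ x, p.1.1 x = (g : Matrix ι ι F) *ᵥ svI p.1.2 x) (i : ℕ) (x : ι → F) :
    (p ^ i).1.1 x = ((tI p.1.2 g i : GL ι F) : Matrix ι ι F) *ᵥ svI (p.1.2 ^ i) x := by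
  induction i generalizing x with
  | zero =>
    rw [tI_zero, Units.val_one, Matrix.one_mulVec]
    rfl
  | succ i ih =>
    have h1 : (p ^ (i + 1)).1.1 x = p.1.1 ((p ^ i).1.1 x) := by
      rw [pow_succ']; rfl
    rw [h1, ih, hg, svI_mulVec, Matrix.mulVec_mulVec, svI_svI, ← pow_succ', tI_succ, Units.val_mul]

theorem ss_pow_snd (p : SSG Q) (i : ℕ) : (p ^ i).1.2 = p.1.2 ^ i := by
  induction i with
  | zero => rfl
  | succ i ih =>
    rw [pow_succ', pow_succ', ← ih]; rfl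

theorem ssK_pow (hQ : ∃ x, Q x ≠ 0) (p : SSG Q) (i : ℕ) : ssK (p ^ i) = uN p.1.2 (ssK p) i := by
  induction i with
  | zero =>
    rw [uN_zero]
    apply Units.ext
    apply ssK_eq hQ
    intro x
    rw [Units.val_one, one_mul]; rfl
  | succ i ih =>
    rw [uN_succ, ← ih]
    apply Units.ext
    apply ssK_eq hQ
    intro x
    rw [pow_succ']
    show Q (p.1.1 ((p ^ i).1.1 x)) = _ * p.1.2 ((p ^ i).1.2 (Q x))
    rw [ss_Q, ss_Q, map_mul, Units.val_mul, coe_uM, mul_assoc]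

/-- Hilbert 90 for semisimilarities -/
theorem ss_descend {F₀ : Type*} [Field F₀] (hQ : ∃ x, Q x ≠ 0) (p : SSG Q) {r : ℕ} (hτ : orderOf p.1.2 = r) (hr : 0 < r) {j : F₀ →+* F}
    (hj : ∀ x, p.1.2 x = x ↔ ∃ y, j y = x) (hp : p ^ r = 1) :
    ∃ (b : GL ι F) (d : Fˣ) (Q₀ : QuadraticForm F₀ (ι → F₀)),
      (∀ x, p.1.1 ((b : Matrix ι ι F) *ᵥ x) = (b : Matrix ι ι F) *ᵥ svI p.1.2 x) ∧
      (∀ v, j (Q₀ v) = d * Q ((b : Matrix ι ι F) *ᵥ jV j v)) := by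
  obtain ⟨g, h, hg⟩ := exists_pair p
  have hg' : ∀ x, p.1.1 x = (g : Matrix ι ι F) *ᵥ svI p.1.2 x := by
    intro x
    conv_lhs => rw [hg]
    rfl
  have hN : tI p.1.2 g r = 1 := by
    apply Units.ext
    apply Matrix.ext_of_mulVec_single
    intro i
    have h1 := ss_pow_apply p hg' r (Pi.single i 1)
    have h2 : svI (p.1.2 ^ r) (Pi.single i (1 : F)) = Pi.single i 1 := by
      rw [← hτ, pow_orderOf_eq_one]; rfl
    rw [hp, h2] at h1
    rw [← h1, Units.val_one, Matrix.one_mulVec]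
    rfl
  obtain ⟨b, hb⟩ := hilbert90_I p.1.2 hτ hr g hN
  have hbx : ∀ x, p.1.1 ((b : Matrix ι ι F) *ᵥ x) = (b : Matrix ι ι F) *ᵥ svI p.1.2 x := by
    intro x
    rw [hg', svI_mulVec, Matrix.mulVec_mulVec, ← Units.val_mul, hb]
  have hmu : uN p.1.2 (ssK p) r = 1 := by
    rw [← ssK_pow hQ, hp]
    apply Units.ext
    apply ssK_eq hQ
    intro x
    rw [Units.val_one, one_mul]; rfl
  obtain ⟨y, hy⟩ := hilbert90_u p.1.2 hτ hr (ssK p) hmu
  obtain ⟨K, hK⟩ : ∃ K : QuadraticForm F (ι → F), ∀ x, K x = ((y⁻¹ : Fˣ) : F) * Q ((b : Matrix ι ι F) *ᵥ x) :=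
    ⟨((y⁻¹ : Fˣ) : F) • Q.comp (b : Matrix ι ι F).mulVecLin, fun x => rfl⟩
  have hKτ : ∀ v, K (svI p.1.2 v) = p.1.2 (K v) := by
    intro v
    rw [hK, hK, ← hbx, ss_Q, map_mul, ← mul_assoc]
    congr 1
    have h1 : uM p.1.2 y⁻¹ = y⁻¹ * ssK p := by
      rw [map_inv, ← hy, _root_.mul_inv_rev, hy, inv_mul_cancel_right]
    exact (congrArg Units.val h1).symm
  obtain ⟨Q₀, hQ₀⟩ := descend_quad hj K hKτ
  exact ⟨b, y⁻¹, Q₀, hbx, fun v => by rw [hQ₀, hK]⟩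

theorem scSS_pow_comm (p : SSG Q) (y : Fˣ) (i : ℕ) : (scSS Q y * p) ^ i = scSS Q (uN p.1.2 y i) * p ^ i := by
  have hcomm : ∀ (p : SSG Q) (c : Fˣ), p * scSS Q c = scSS Q (uM p.1.2 c) * p := by
    intro p c
    apply ss_ext
    · intro x
      show p.1.1 (c • x) = uM p.1.2 c • p.1.1 x
      rw [Units.smul_def, ss_smul]; rfl
    · show p.1.2 * 1 = 1 * p.1.2
      rw [mul_one, one_mul]
  induction i with
  | zero => rw [pow_zero, pow_zero, uN_zero, map_one, one_mul]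
  | succ i ih =>
    rw [pow_succ', ih, uN_succ, map_mul, pow_succ' p]
    calc scSS Q y * p * (scSS Q (uN p.1.2 y i) * p ^ i) = scSS Q y * (p * scSS Q (uN p.1.2 y i)) * p ^ i := by
          simp only [mul_assoc]
      _ = _ := by rw [hcomm]; simp only [mul_assoc]

end pairs

section main

variable {F : Type*} [Field F] [Finite F] {ι : Type} [Fintype ι] [DecidableEq ι] {Q : QuadraticForm F (ι → F)}

/-- normalising a projective element of order `r` -/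
theorem ss_normalize (hnd : ND Q) (hn : 5 ≤ Module.finrank F (ι → F)) (p : SSG Q) {r : ℕ} (hτ : orderOf p.1.2 = r)
    (hr : 0 < r) (h : aE Q p ^ r = 1) : ∃ y : Fˣ, (scSS Q y * p) ^ r = 1 := by
  rw [← map_pow, aE_eq_one_iff hnd hn] at h
  obtain ⟨h1, c, hc⟩ := h
  have hpc : p ^ r = scSS Q c := by
    apply ss_ext
    · intro x
      rw [hc]; rfl
    · rw [h1]; rfl
  have hfix : p.1.2 (c : F) = c := by
    obtain ⟨v, hv⟩ := exists_ne_q hnd (by omega)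
    have hv0 : v ≠ 0 := by rintro rfl; exact hv (q_zero _)
    have h2 : p.1.1 ((p ^ r).1.1 v) = (p ^ r).1.1 (p.1.1 v) := by
      show (p * p ^ r).1.1 v = (p ^ r * p).1.1 v
      rw [← pow_succ', ← pow_succ]
    rw [hc, hc, Units.smul_def, Units.smul_def, ss_smul] at h2
    have h3 : (p.1.2 (c : F) - c) • p.1.1 v = 0 := by rw [sub_smul, h2, sub_self]
    rcases smul_eq_zero.mp h3 with h4 | h4
    · exact sub_eq_zero.mp h4
    · exact absurd (p.1.1.injective (h4.trans (ss_zero p).symm)) hv0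
  obtain ⟨y, hy⟩ := uNorm_surj p.1.2 hτ hr c⁻¹ (by
    rw [Units.val_inv_eq_inv_val, map_inv₀, hfix])
  refine ⟨y, ?_⟩
  rw [scSS_pow_comm, hy, hpc, ← map_mul, inv_mul_cancel, map_one]

/-- conjugacy to a standard semisimilarity -/
theorem ss_conj_std {F₀ : Type*} [Field F₀] (hQ : ∃ x, Q x ≠ 0) (p : SSG Q) {r : ℕ} (hτ : orderOf p.1.2 = r) (hr : 0 < r) {j : F₀ →+* F}
    (hj : ∀ x, p.1.2 x = x ↔ ∃ y, j y = x) (hp : p ^ r = 1) (Qs : QuadraticForm F (ι → F))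
    {Q1 : QuadraticForm F₀ (ι → F₀)} (h1 : ∀ v, j (Q1 v) = Qs (jV j v))
    (hcl : ∀ Q₀ : QuadraticForm F₀ (ι → F₀), (∃ b : GL ι F, ∃ d : Fˣ, ∀ v, j (Q₀ v) = d * Q ((b : Matrix ι ι F) *ᵥ jV j v)) →
      ∃ c : F₀, c ≠ 0 ∧ ∃ g : GL ι F₀, ∀ v, Q₀ ((g : Matrix ι ι F₀) *ᵥ v) = c * Q1 v) :
    ∃ (b : GL ι F) (e : Fˣ), (∀ x, p.1.1 ((b : Matrix ι ι F) *ᵥ x) = (b : Matrix ι ι F) *ᵥ svI p.1.2 x) ∧
      ∀ x, Q ((b : Matrix ι ι F) *ᵥ x) = e * Qs x := by
  obtain ⟨b, d, Q₀, hb, hQ₀⟩ := ss_descend hQ p hτ hr hj hp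
  obtain ⟨c, hc, g, hg⟩ := hcl Q₀ ⟨b, d, hQ₀⟩
  have hj' : ∀ y, p.1.2 (j y) = j y := fun y => (hj _).mpr ⟨y, rfl⟩
  obtain ⟨K, hK⟩ : ∃ K : QuadraticForm F (ι → F), ∀ x, K x = (d : F) * Q ((b : Matrix ι ι F) *ᵥ x) :=
    ⟨(d : F) • Q.comp (b : Matrix ι ι F).mulVecLin, fun x => rfl⟩
  have h2 := ext_sim (Q := Qs) (Q' := K) h1 (fun v => by rw [hQ₀, hK]) g c hg
  have hjc : j c ≠ 0 := (map_ne_zero j).mpr hc
  refine ⟨b * jI ι j g, d⁻¹ * Units.mk0 _ hjc, fun x => ?_, fun x => ?_⟩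
  · rw [Units.val_mul, ← Matrix.mulVec_mulVec, hb, svI_mulVec, glI_jI hj', Matrix.mulVec_mulVec]
  · have h3 := h2 x
    rw [hK, Matrix.mulVec_mulVec, ← Units.val_mul] at h3
    have e1 : ((d⁻¹ * Units.mk0 _ hjc : Fˣ) : F) = (d : F)⁻¹ * j c := by
      rw [Units.val_mul, Units.val_inv_eq_inv_val, Units.val_mk0]
    rw [e1, mul_assoc, ← h3, ← mul_assoc, inv_mul_cancel₀ (Units.ne_zero _), one_mul]

theorem nd_of_bd {F : Type*} [Field F] {Q : QuadraticForm F (ι → F)} {F₀ : Type*} [Field F₀] {j : F₀ →+* F} (hnd : ND Q) {Q₀ : QuadraticForm F₀ (ι → F₀)} (b : GL ι F) (d : Fˣ)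
    (hbd : ∀ v, j (Q₀ v) = d * Q ((b : Matrix ι ι F) *ᵥ jV j v)) : ND Q₀ := by
  obtain ⟨K, hK⟩ : ∃ K : QuadraticForm F (ι → F), ∀ x, K x = (d : F) * Q ((b : Matrix ι ι F) *ᵥ x) :=
    ⟨(d : F) • Q.comp (b : Matrix ι ι F).mulVecLin, fun x => rfl⟩
  have hb1 : ∀ w, (b : Matrix ι ι F) *ᵥ (((b⁻¹ : GL ι F) : Matrix ι ι F) *ᵥ w) = w := fun w => by
    rw [Matrix.mulVec_mulVec, ← Units.val_mul, mul_inv_cancel, Units.val_one, Matrix.one_mulVec]
  have hb2 : ∀ w, ((b⁻¹ : GL ι F) : Matrix ι ι F) *ᵥ ((b : Matrix ι ι F) *ᵥ w) = w := fun w => by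
    rw [Matrix.mulVec_mulVec, ← Units.val_mul, inv_mul_cancel, Units.val_one, Matrix.one_mulVec]
  have hKnd : ND K := by
    intro x hx
    have hx' : ∀ z, pB Q ((b : Matrix ι ι F) *ᵥ x) z = 0 := by
      intro z
      have h3 := hx (((b⁻¹ : GL ι F) : Matrix ι ι F) *ᵥ z)
      have h4 := sim_B (Q := Q) (Q' := K) (c := d) (φ := ((b⁻¹ : GL ι F) : Matrix ι ι F).mulVecLin) (fun w => by
        rw [hK, Matrix.mulVecLin_apply, hb1]) ((b : Matrix ι ι F) *ᵥ x) z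
      rw [Matrix.mulVecLin_apply, Matrix.mulVecLin_apply, hb2, h3] at h4
      exact (mul_eq_zero.mp h4.symm).resolve_left d.ne_zero
    have h5 := hnd _ hx'
    rw [← hb2 x, h5, Matrix.mulVec_zero]
  exact descend_nd (Q := K) (fun v => by rw [hbd, hK]) hKnd

theorem mulVec_of_lin {F₀ : Type*} [Field F₀] {Q₀ Q1 : QuadraticForm F₀ (ι → F₀)} {c : F₀} (hc : c ≠ 0) (hnd : ND Q1)
    {φ : (ι → F₀) →ₗ[F₀] (ι → F₀)} (h : ∀ x, Q₀ (φ x) = c * Q1 x) :
    ∃ g : GL ι F₀, ∀ v, Q₀ ((g : Matrix ι ι F₀) *ᵥ v) = c * Q1 v := by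
  obtain ⟨g, hg⟩ := exists_gl_of_inj φ (fun x hx => sim_inj hc h hnd (hx.trans (map_zero φ).symm))
  exact ⟨g, fun v => by rw [hg, h]⟩

end main

end Cfsg.Agent.H17
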