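import Mathlib
import Cfsg.Agent.H17.SplitCount

set_option autoImplicit false

/-! Transport of centralizers, class counts and conjugacy along conjugation. -/

namespace Cfsg.Agent.H17

open Cfsg

variable {X : Type*} [Group X]

theorem isConjUnder_transport {H : Subgroup X} {α : X} (hH : ∀ h, α * h * α⁻¹ ∈ H ↔ h ∈ H) (x y : X) :
    IsConjUnder H (α * x * α⁻¹) (α * y * α⁻¹) ↔ IsConjUnder H x y := by
  constructor
  · rintro ⟨h, hh, he⟩
    refine ⟨α⁻¹ * h * α, ?_, ?_⟩
    · rw [← hH]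
      have : α * (α⁻¹ * h * α) * α⁻¹ = h := by group
      rwa [this]
    · calc y = α⁻¹ * (α * y * α⁻¹) * α := by group
        _ = _ := by rw [he]; group
  · rintro ⟨h, hh, rfl⟩
    exact ⟨α * h * α⁻¹, (hH h).mpr hh, by group⟩

theorem cent_transport {H : Subgroup X} {α : X} (hH : ∀ h, α * h * α⁻¹ ∈ H ↔ h ∈ H) (x : X) :
    Nonempty (↥(H ⊓ Subgroup.centralizer {x}) ≃* ↥(H ⊓ Subgroup.centralizer {α * x * α⁻¹})) := by
  have key : (H ⊓ Subgroup.centralizer {x}).map (MulAut.conj α).toMonoidHom = H ⊓ Subgroup.centralizer {α * x * α⁻¹} := by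
    ext y
    rw [Subgroup.mem_map]
    constructor
    · rintro ⟨z, ⟨hz1, hz2⟩, rfl⟩
      refine ⟨(hH z).mpr hz1, ?_⟩
      have hz3 := Subgroup.mem_centralizer_singleton_iff.mp hz2
      refine Subgroup.mem_centralizer_singleton_iff.mpr ?_
      change α * z * α⁻¹ * (α * x * α⁻¹) = α * x * α⁻¹ * (α * z * α⁻¹)
      calc α * z * α⁻¹ * (α * x * α⁻¹) = α * (z * x) * α⁻¹ := by group
        _ = α * (x * z) * α⁻¹ := by rw [hz3]
        _ = _ := by group
    · rintro ⟨hy1, hy2⟩
      have hy3 := Subgroup.mem_centralizer_singleton_iff.mp hy2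
      refine ⟨α⁻¹ * y * α, ⟨?_, ?_⟩, ?_⟩
      · change α⁻¹ * y * α ∈ H
        rw [← hH]
        have : α * (α⁻¹ * y * α) * α⁻¹ = y := by group
        rwa [this]
      · refine Subgroup.mem_centralizer_singleton_iff.mpr ?_
        calc α⁻¹ * y * α * x = α⁻¹ * (y * (α * x * α⁻¹)) * α := by group
          _ = α⁻¹ * (α * x * α⁻¹ * y) * α := by rw [hy3]
          _ = _ := by group
      · change α * (α⁻¹ * y * α) * α⁻¹ = y
        group
  rw [← key]
  exact ⟨Subgroup.equivMapOfInjective _ _ (MulAut.conj α).injective⟩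

theorem split_transport {H K : Subgroup X} {α : X} (hH : ∀ h, α * h * α⁻¹ ∈ H ↔ h ∈ H) (hK : ∀ h, α * h * α⁻¹ ∈ K ↔ h ∈ K)
    (x : X) : splitClassCount H K x = splitClassCount H K (α * x * α⁻¹) := by
  unfold splitClassCount
  let e : {y : X // IsConjUnder H x y} ≃ {y : X // IsConjUnder H (α * x * α⁻¹) y} :=
    { toFun := fun y => ⟨α * y.1 * α⁻¹, (isConjUnder_transport hH _ _).mpr y.2⟩
      invFun := fun y => ⟨α⁻¹ * y.1 * α, by
        rw [← isConjUnder_transport hH]
        have : α * (α⁻¹ * y.1 * α) * α⁻¹ = y.1 := by group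
        rw [this]
        exact y.2⟩
      left_inv := fun y => Subtype.ext (by change α⁻¹ * (α * y.1 * α⁻¹) * α = y.1; group)
      right_inv := fun y => Subtype.ext (by change α * (α⁻¹ * y.1 * α) * α⁻¹ = y.1; group) }
  exact Nat.card_congr (Quot.congr e (fun a b => (isConjUnder_transport hK a.1 b.1).symm))

theorem orderOf_transport (α x : X) : orderOf (α * x * α⁻¹) = orderOf x :=
  orderOf_injective (MulAut.conj α).toMonoidHom (MulAut.conj α).injective x

theorem mem_Inn_transport {G : Type*} [Group G] (α h : MulAut G) : α * h * α⁻¹ ∈ Inn G ↔ h ∈ Inn G := by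
  haveI := Inn_normal (G := G)
  constructor
  · intro h1
    have := this.conj_mem _ h1 α⁻¹
    have h2 : α⁻¹ * (α * h * α⁻¹) * α⁻¹⁻¹ = h := by group
    rwa [h2] at this
  · intro h1
    exact this.conj_mem _ h1 α

end Cfsg.Agent.H17
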