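import Mathlib
import Cfsg.Agent.H17.OField1
import Cfsg.Agent.H17.Transport
import Cfsg.Agent.H17.FixUnits

set_option autoImplicit false

/-! Orthogonal groups: the group induced by similarities, centralizers of standard field automorphisms. -/

namespace Cfsg.Agent.H17

open Cfsg Cfsg.Agent.H5
open scoped MatrixGroups Matrix

section transport

variable {X X' : Type*} [Group X] [Group X']

theorem isConjUnder_equiv (e : X ≃* X') {H : Subgroup X} {H' : Subgroup X'} (hH : ∀ h, h ∈ H ↔ e h ∈ H') (x y : X) :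
    IsConjUnder H x y ↔ IsConjUnder H' (e x) (e y) := by
  constructor
  · rintro ⟨h, hh, rfl⟩
    exact ⟨e h, (hH h).mp hh, by rw [map_mul, map_mul, map_inv]⟩
  · rintro ⟨h, hh, he⟩
    obtain ⟨h', rfl⟩ := e.surjective h
    refine ⟨h', (hH h').mpr hh, e.injective ?_⟩
    rw [he, map_mul, map_mul, map_inv]

theorem cent_equiv' (e : X ≃* X') {H : Subgroup X} {H' : Subgroup X'} (hH : ∀ h, h ∈ H ↔ e h ∈ H') (x : X) :
    Nonempty (↥(H ⊓ Subgroup.centralizer {x}) ≃* ↥(H' ⊓ Subgroup.centralizer {e x})) := by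
  have key : (H ⊓ Subgroup.centralizer {x}).map e.toMonoidHom = H' ⊓ Subgroup.centralizer {e x} := by
    ext y
    rw [Subgroup.mem_map]
    constructor
    · rintro ⟨z, ⟨hz1, hz2⟩, rfl⟩
      refine ⟨(hH z).mp hz1, ?_⟩
      have hz3 := Subgroup.mem_centralizer_singleton_iff.mp hz2
      refine Subgroup.mem_centralizer_singleton_iff.mpr ?_
      change e z * e x = e x * e z
      rw [← map_mul, hz3, map_mul]
    · rintro ⟨hy1, hy2⟩
      have hy3 := Subgroup.mem_centralizer_singleton_iff.mp hy2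
      obtain ⟨z, rfl⟩ := e.surjective y
      refine ⟨z, ⟨(hH z).mpr hy1, ?_⟩, rfl⟩
      refine Subgroup.mem_centralizer_singleton_iff.mpr ?_
      apply e.injective
      rw [map_mul, map_mul, hy3]
  rw [← key]
  exact ⟨Subgroup.equivMapOfInjective _ _ e.injective⟩

theorem split_equiv (e : X ≃* X') {H K : Subgroup X} {H' K' : Subgroup X'} (hH : ∀ h, h ∈ H ↔ e h ∈ H') (hK : ∀ h, h ∈ K ↔ e h ∈ K')
    (x : X) : splitClassCount H K x = splitClassCount H' K' (e x) := by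
  unfold splitClassCount
  let e' : {y : X // IsConjUnder H x y} ≃ {y : X' // IsConjUnder H' (e x) y} :=
    { toFun := fun y => ⟨e y.1, (isConjUnder_equiv e hH _ _).mp y.2⟩
      invFun := fun y => ⟨e.symm y.1, by
        rw [isConjUnder_equiv e hH, MulEquiv.apply_symm_apply]
        exact y.2⟩
      left_inv := fun y => Subtype.ext (e.symm_apply_apply _)
      right_inv := fun y => Subtype.ext (e.apply_symm_apply _) }
  exact Nat.card_congr (Quot.congr e' (fun a b => isConjUnder_equiv e hK a.1 b.1))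

theorem range_equiv_of_ker {A B : Type*} [Group A] [Group B] {C : Type*} [Group C] (f : C →* A) (g : C →* B) (h : f.ker = g.ker) :
    Nonempty (f.range ≃* g.range) :=
  ⟨(QuotientGroup.quotientKerEquivRange f).symm.trans
    ((QuotientGroup.quotientMulEquivOfEq h).trans (QuotientGroup.quotientKerEquivRange g))⟩

end transport

section defs

variable {F : Type*} [Field F] {ι : Type} [Fintype ι] [DecidableEq ι]

/-- similarities as semisimilarities -/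
def goSS (Q : QuadraticForm F (ι → F)) : Geo.quadSimilarityGroup (F := F) ⇑Q →* SSG Q where
  toFun g := pairSS Q g.1 1 g.2
  map_one' := ss_ext (fun x => by
    show ((1 : Matrix ι ι F)) *ᵥ x = x
    rw [Matrix.one_mulVec]) rfl
  map_mul' a b := ss_ext (fun x => by
    show ((a.1 * b.1 : GL ι F) : Matrix ι ι F) *ᵥ x = (a.1 : Matrix ι ι F) *ᵥ ((b.1 : Matrix ι ι F) *ᵥ x)
    rw [Units.val_mul, Matrix.mulVec_mulVec]) rfl

variable {Q : QuadraticForm F (ι → F)}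

theorem goSS_apply (g : Geo.quadSimilarityGroup (F := F) ⇑Q) (x : ι → F) : (goSS Q g).1.1 x = ((g.1 : GL ι F) : Matrix ι ι F) *ᵥ x := rfl

theorem exists_goSS (p : SSG Q) (hp : p.1.2 = 1) : ∃ g : Geo.quadSimilarityGroup (F := F) ⇑Q, goSS Q g = p := by
  obtain ⟨g, h, hg⟩ := exists_pair p
  have h' : g ∈ Geo.quadSimilarityGroup (F := F) ⇑Q := by
    obtain ⟨c, hc⟩ := h
    rw [hp] at hc
    exact ⟨c, hc⟩
  refine ⟨⟨g, h'⟩, ss_ext (fun x => ?_) hp.symm⟩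
  rw [goSS_apply, hg, pairSS_apply, hp]
  rfl

/-- the standard field automorphism -/
def stdS (Q : QuadraticForm F (ι → F)) (σ : F ≃+* F) (h : ∀ x, Q (svI σ x) = σ (Q x)) : SSG Q :=
  ⟨(Equiv.piCongrRight fun _ => σ.toEquiv, σ), svI_add σ, svI_smul σ, 1, fun x => by
    rw [Units.val_one, one_mul]; exact h x⟩

theorem stdS_apply (σ : F ≃+* F) (h : ∀ x, Q (svI σ x) = σ (Q x)) (x : ι → F) : (stdS Q σ h).1.1 x = svI σ x := rfl

theorem stdS_snd (σ : F ≃+* F) (h : ∀ x, Q (svI σ x) = σ (Q x)) : (stdS Q σ h).1.2 = σ := rfl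

/-- the group induced by the similarities in `S` -/
def HS (Q : QuadraticForm F (ι → F)) (S : Subgroup (GL ι F)) : Subgroup (MulAut (PE Q)) :=
  (S.subgroupOf (Geo.quadSimilarityGroup (F := F) ⇑Q)).map ((aE Q).comp (goSS Q))

theorem mem_HS {S : Subgroup (GL ι F)} {α : MulAut (PE Q)} :
    α ∈ HS Q S ↔ ∃ g : Geo.quadSimilarityGroup (F := F) ⇑Q, g.1 ∈ S ∧ aE Q (goSS Q g) = α := by
  unfold HS
  rw [Subgroup.mem_map]
  rfl

theorem mem_HS_top {α : MulAut (PE Q)} : α ∈ HS Q ⊤ ↔ ∃ p : SSG Q, p.1.2 = 1 ∧ aE Q p = α := by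
  rw [mem_HS]
  constructor
  · rintro ⟨g, _, h⟩
    exact ⟨goSS Q g, rfl, h⟩
  · rintro ⟨p, hp, h⟩
    obtain ⟨g, rfl⟩ := exists_goSS p hp
    exact ⟨g, Subgroup.mem_top _, h⟩

theorem glI_mem {σ : F ≃+* F} (h : ∀ x, Q (svI σ x) = σ (Q x)) {g : GL ι F} (hg : g ∈ Geo.quadSimilarityGroup (F := F) ⇑Q) :
    glI σ g ∈ Geo.quadSimilarityGroup (F := F) ⇑Q := by
  obtain ⟨c, hc⟩ := hg
  refine ⟨uM σ c, fun v => ?_⟩
  rw [← svI_inv σ v, ← svI_mulVec, h, hc, map_mul, ← h (svI σ⁻¹ v)]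
  rfl

theorem std_goSS {σ : F ≃+* F} (h : ∀ x, Q (svI σ x) = σ (Q x)) (g : Geo.quadSimilarityGroup (F := F) ⇑Q) :
    stdS Q σ h * goSS Q g = goSS Q ⟨glI σ g.1, glI_mem h g.2⟩ * stdS Q σ h := by
  apply ss_ext
  · intro x
    show svI σ ((g.1 : Matrix ι ι F) *ᵥ x) = (glI σ g.1 : Matrix ι ι F) *ᵥ svI σ x
    rw [svI_mulVec]
  · show σ * 1 = 1 * σ
    rw [mul_one, one_mul]

theorem sI_mem_qs (Q : QuadraticForm F (ι → F)) (c : Fˣ) : sI ι c ∈ Geo.quadSimilarityGroup (F := F) ⇑Q := by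
  refine ⟨c * c, fun v => ?_⟩
  rw [sI_mulVec, q_smul, Units.val_mul]

variable [Finite F]

theorem aE_goSS_eq_one (hnd : ND Q) (hn : 5 ≤ Module.finrank F (ι → F)) (g : Geo.quadSimilarityGroup (F := F) ⇑Q) :
    aE Q (goSS Q g) = 1 ↔ ∃ c : Fˣ, g.1 = sI ι c := by
  rw [aE_eq_one_iff hnd hn]
  constructor
  · rintro ⟨_, c, hc⟩
    refine ⟨c, ?_⟩
    apply Units.ext
    apply Matrix.ext_of_mulVec_single
    intro i
    rw [sI_mulVec, ← goSS_apply, hc, Units.smul_def]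
  · rintro ⟨c, hc⟩
    refine ⟨rfl, c, fun x => ?_⟩
    rw [goSS_apply, hc, sI_mulVec, Units.smul_def]

theorem aE_goSS_sI (hnd : ND Q) (hn : 5 ≤ Module.finrank F (ι → F)) (c : Fˣ) :
    aE Q (goSS Q ⟨sI ι c, sI_mem_qs Q c⟩) = 1 := (aE_goSS_eq_one hnd hn _).mpr ⟨c, rfl⟩

theorem comm_std_iff (hnd : ND Q) (hn : 5 ≤ Module.finrank F (ι → F)) {σ : F ≃+* F} {r : ℕ} (hσ : orderOf σ = r) (hr : 0 < r)
    (h : ∀ x, Q (svI σ x) = σ (Q x)) (g : Geo.quadSimilarityGroup (F := F) ⇑Q) :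
    aE Q (goSS Q g) * aE Q (stdS Q σ h) = aE Q (stdS Q σ h) * aE Q (goSS Q g) ↔
      ∃ (c : Fˣ) (k : Geo.quadSimilarityGroup (F := F) ⇑Q), glI σ k.1 = k.1 ∧ g.1 = sI ι c * k.1 := by
  haveI : Nonempty ι := by
    by_contra hcon
    rw [not_nonempty_iff] at hcon
    rw [Module.finrank_fintype_fun_eq_card, Fintype.card_eq_zero] at hn
    omega
  constructor
  · intro h0
    rw [← map_mul, ← map_mul, std_goSS, map_mul, map_mul] at h0
    have h1 := mul_right_cancel h0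
    have h2 : aE Q (goSS Q (⟨glI σ g.1, glI_mem h g.2⟩ * g⁻¹)) = 1 := by
      rw [map_mul, map_mul, map_inv, map_inv, ← h1, mul_inv_cancel]
    rw [aE_goSS_eq_one hnd hn] at h2
    obtain ⟨c, hc⟩ := h2
    have hc' : glI σ g.1 = sI ι c * g.1 := by
      rw [← mul_inv_eq_iff_eq_mul]; exact hc
    have h3 : ∀ i, glI (σ ^ i) g.1 = sI ι (uN σ c i) * g.1 := by
      intro i
      induction i with
      | zero => rw [pow_zero, glI_one, uN_zero, map_one, one_mul]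
      | succ i ih =>
        rw [glI_pow_succ, ih, map_mul, glI_sI, hc', uN_succ, ← mul_assoc, ← map_mul, mul_comm c]
    have h4 := h3 r
    rw [← hσ, pow_orderOf_eq_one, glI_one, hσ] at h4
    have h5 : uN σ c r = 1 := by
      apply sI_inj (ι := ι)
      rw [map_one]
      exact (right_eq_mul.mp h4)
    obtain ⟨y, hy⟩ := hilbert90_u σ hσ hr c h5
    refine ⟨y⁻¹, ⟨sI ι y, sI_mem_qs Q y⟩ * g, ?_, ?_⟩
    · show glI σ (sI ι y * g.1) = sI ι y * g.1
      rw [map_mul, glI_sI, hc', ← mul_assoc, ← map_mul, mul_comm (uM σ y), hy]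
    · show g.1 = sI ι y⁻¹ * (sI ι y * g.1)
      rw [← mul_assoc, ← map_mul, inv_mul_cancel, map_one, one_mul]
  · rintro ⟨c, k, hk, hg⟩
    have h1 : g = ⟨sI ι c, sI_mem_qs Q c⟩ * k := Subtype.ext hg
    have h2 : (⟨glI σ k.1, glI_mem h k.2⟩ : Geo.quadSimilarityGroup (F := F) ⇑Q) = k := Subtype.ext hk
    rw [h1, map_mul, map_mul, aE_goSS_sI hnd hn, one_mul, ← map_mul, ← map_mul, std_goSS, h2]

end defs

section cent

variable {F F₀ : Type*} [Field F] [Field F₀] [Finite F] [Finite F₀] {ι : Type} [Fintype ι] [DecidableEq ι]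
  {Q : QuadraticForm F (ι → F)} {Q₀ : QuadraticForm F₀ (ι → F₀)} {j : F₀ →+* F}

omit [Finite F] [Finite F₀] in
theorem jI_mem (hext : ∀ v, j (Q₀ v) = Q (jV j v)) {g : GL ι F₀} (hg : g ∈ Geo.quadSimilarityGroup (F := F₀) ⇑Q₀) :
    jI ι j g ∈ Geo.quadSimilarityGroup (F := F) ⇑Q := by
  obtain ⟨c, hc⟩ := hg
  exact ⟨Units.map (j : F₀ →* F) c, fun v => ext_sim hext hext g c hc v⟩

omit [Finite F] [Finite F₀] in
theorem mem_of_jI (hext : ∀ v, j (Q₀ v) = Q (jV j v)) (hQ₀ : ∃ v, Q₀ v ≠ 0) {g : GL ι F₀}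
    (hg : jI ι j g ∈ Geo.quadSimilarityGroup (F := F) ⇑Q) : g ∈ Geo.quadSimilarityGroup (F := F₀) ⇑Q₀ := by
  obtain ⟨c, hc⟩ := hg
  obtain ⟨v, hv⟩ := hQ₀
  have h1 : ∀ u, j (Q₀ ((g : Matrix ι ι F₀) *ᵥ u)) = c * j (Q₀ u) := by
    intro u
    rw [hext, ← jI_mulVec, hc, ← hext]
  have hc0 : j (Q₀ ((g : Matrix ι ι F₀) *ᵥ v) * (Q₀ v)⁻¹) = c := by
    rw [map_mul, map_inv₀, h1, mul_assoc, mul_inv_cancel₀ ((map_ne_zero j).mpr hv), mul_one]
  have hne : Q₀ ((g : Matrix ι ι F₀) *ᵥ v) * (Q₀ v)⁻¹ ≠ 0 := by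
    intro h0
    rw [h0, map_zero] at hc0
    exact c.ne_zero hc0.symm
  refine ⟨Units.mk0 _ hne, fun u => ?_⟩
  apply j.injective
  rw [h1, map_mul, Units.val_mk0, hc0]

/-- the centralizer of a standard field automorphism -/
theorem cent_std (hnd : ND Q) (hn : 5 ≤ Module.finrank F (ι → F)) {σ : F ≃+* F} {r : ℕ} (hσ : orderOf σ = r) (hr : 0 < r)
    (hj : ∀ x, σ x = x ↔ ∃ y, j y = x) (h : ∀ x, Q (svI σ x) = σ (Q x)) (hext : ∀ v, j (Q₀ v) = Q (jV j v))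
    (S : Subgroup (GL ι F)) (S₀ : Subgroup (GL ι F₀)) (hsc : ∀ c : Fˣ, sI ι c ∈ S)
    (hSS : ∀ g ∈ Geo.quadSimilarityGroup (F := F₀) ⇑Q₀, g ∈ S₀ ↔ jI ι j g ∈ S) :
    Nonempty (↥(HS Q S ⊓ Subgroup.centralizer {aE Q (stdS Q σ h)}) ≃* ↥(HS Q₀ S₀)) := by
  have hnd₀ : ND Q₀ := descend_nd hext hnd
  have hn₀ : 5 ≤ Module.finrank F₀ (ι → F₀) := by
    rw [Module.finrank_fintype_fun_eq_card] at hn ⊢; exact hn
  haveI : Nonempty ι := by
    by_contra hcon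
    rw [not_nonempty_iff] at hcon
    rw [Module.finrank_fintype_fun_eq_card, Fintype.card_eq_zero] at hn
    omega
  have hj' : ∀ y, σ (j y) = j y := fun y => (hj _).mpr ⟨y, rfl⟩
  let C := ↥(S₀.subgroupOf (Geo.quadSimilarityGroup (F := F₀) ⇑Q₀))
  let jG : Geo.quadSimilarityGroup (F := F₀) ⇑Q₀ →* Geo.quadSimilarityGroup (F := F) ⇑Q :=
    { toFun := fun g => ⟨jI ι j g.1, jI_mem hext g.2⟩
      map_one' := Subtype.ext (map_one _)
      map_mul' := fun a b => Subtype.ext (map_mul _ _ _) }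
  let f : C →* MulAut (PE Q) := ((aE Q).comp ((goSS Q).comp jG)).comp (Subgroup.subtype _)
  let f₀ : C →* MulAut (PE Q₀) := ((aE Q₀).comp (goSS Q₀)).comp (Subgroup.subtype _)
  have hf : f.range = HS Q S ⊓ Subgroup.centralizer {aE Q (stdS Q σ h)} := by
    ext α
    constructor
    · rintro ⟨⟨g, hg⟩, rfl⟩
      refine ⟨mem_HS.mpr ⟨jG g, (hSS g.1 g.2).mp hg, rfl⟩, ?_⟩
      refine Subgroup.mem_centralizer_singleton_iff.mpr ?_
      show aE Q (goSS Q (jG g)) * aE Q (stdS Q σ h) = aE Q (stdS Q σ h) * aE Q (goSS Q (jG g))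
      rw [comm_std_iff hnd hn hσ hr]
      exact ⟨1, jG g, glI_jI hj' _, by rw [map_one, one_mul]⟩
    · rintro ⟨h1, h2⟩
      obtain ⟨g, hgS, rfl⟩ := mem_HS.mp h1
      replace h2 := Subgroup.mem_centralizer_singleton_iff.mp h2
      rw [comm_std_iff hnd hn hσ hr] at h2
      obtain ⟨c, k, hk, hg⟩ := h2
      obtain ⟨k0, hk0⟩ := exists_descendI hj hk
      have hk0m : k0 ∈ Geo.quadSimilarityGroup (F := F₀) ⇑Q₀ :=
        mem_of_jI hext (exists_ne_q hnd₀ (by omega)) (by rw [hk0]; exact k.2)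
      have hkS : k.1 ∈ S := by
        have : k.1 = (sI ι c)⁻¹ * g.1 := by rw [hg, inv_mul_cancel_left]
        rw [this]
        exact S.mul_mem (S.inv_mem (hsc c)) hgS
      refine ⟨⟨⟨k0, hk0m⟩, (hSS k0 hk0m).mpr (by rw [hk0]; exact hkS)⟩, ?_⟩
      show aE Q (goSS Q (jG ⟨k0, hk0m⟩)) = aE Q (goSS Q g)
      have e1 : jG ⟨k0, hk0m⟩ = k := Subtype.ext hk0
      have e2 : g = ⟨sI ι c, sI_mem_qs Q c⟩ * k := Subtype.ext hg
      rw [e1, e2, map_mul, map_mul, aE_goSS_sI hnd hn, one_mul]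
  have hf₀ : f₀.range = HS Q₀ S₀ := by
    ext α
    rw [mem_HS]
    constructor
    · rintro ⟨⟨g, hg⟩, rfl⟩
      exact ⟨g, hg, rfl⟩
    · rintro ⟨g, hg, rfl⟩
      exact ⟨⟨g, hg⟩, rfl⟩
  rw [← hf, ← hf₀]
  apply range_equiv_of_ker
  ext ⟨g, hg⟩
  rw [MonoidHom.mem_ker, MonoidHom.mem_ker]
  show aE Q (goSS Q (jG g)) = 1 ↔ aE Q₀ (goSS Q₀ g) = 1
  rw [aE_goSS_eq_one hnd hn, aE_goSS_eq_one hnd₀ hn₀]
  constructor
  · rintro ⟨c, hc⟩
    exact jI_eq_sI hc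
  · rintro ⟨c, hc⟩
    refine ⟨Units.map (j : F₀ →* F) c, ?_⟩
    show jI ι j g.1 = _
    rw [hc, jI_sI]

end cent

section conc

variable {F : Type*} [Field F] [Finite F] {ι : Type} [Fintype ι] [DecidableEq ι] {Q : QuadraticForm F (ι → F)}

/-- membership in the subgroups of automorphisms of `PΩ` induced by similarities -/
theorem autSub_iff (hnd : ND Q) (hn : 5 ≤ Fintype.card ι) (S : Subgroup (GL ι F))
    (P : (POmega F ⇑Q ≃* POmega F ⇑Q) → Prop)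
    (hP : ∀ β, P β ↔ ∃ g : GL ι F, g ∈ Geo.quadSimilarityGroup (F := F) ⇑Q ∧ g ∈ S ∧ IsInducedBySemilinearPOmega ⇑Q g (RingEquiv.refl F) β)
    (β : MulAut (POmega F ⇑Q)) : β ∈ autSubgroupOf P ↔ MulAut.congr (pomEquiv hnd hn) β ∈ HS Q S := by
  have key : ∀ β : MulAut (POmega F ⇑Q), P β ↔ MulAut.congr (pomEquiv hnd hn) β ∈ HS Q S := by
    intro β
    rw [hP, mem_HS]
    constructor
    · rintro ⟨g, hg, hgS, hi⟩
      exact ⟨⟨g, hg⟩, hgS, ((inducedPOm_iff hnd hn (σ := 1) hg β).mp hi).symm⟩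
    · rintro ⟨⟨g, hg⟩, hgS, he⟩
      exact ⟨g, hg, hgS, (inducedPOm_iff hnd hn (σ := 1) hg β).mpr he.symm⟩
  constructor
  · intro h
    have h1 : autSubgroupOf P ≤ (HS Q S).comap (MulAut.congr (pomEquiv hnd hn)).toMonoidHom := by
      unfold autSubgroupOf
      rw [Subgroup.closure_le]
      intro γ hγ
      exact (key γ).mp hγ
    exact h1 h
  · intro h
    exact Subgroup.subset_closure ((key β).mpr h)

theorem inn_iff (hnd : ND Q) (hn : 5 ≤ Fintype.card ι) (β : MulAut (POmega F ⇑Q)) :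
    β ∈ Inn (POmega F ⇑Q) ↔ MulAut.congr (pomEquiv hnd hn) β ∈ Inn (PE Q) := by
  rw [← map_inn (pomEquiv hnd hn)]
  constructor
  · intro h
    exact ⟨β, h, rfl⟩
  · rintro ⟨γ, hγ, he⟩
    have : γ = β := (MulAut.congr (pomEquiv hnd hn)).injective he
    rw [← this]; exact hγ

theorem fieldPOm_iff (hnd : ND Q) (hn : 5 ≤ Fintype.card ι) {σ : F ≃+* F} (h : ∀ x, Q (svI σ x) = σ (Q x))
    (β : MulAut (POmega F ⇑Q)) : IsFieldAutPOmegaOf ⇑Q σ β ↔ MulAut.congr (pomEquiv hnd hn) β = aE Q (stdS Q σ h) := by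
  have hp : IsSemisimilarityPair ⇑Q 1 σ := by
    refine ⟨1, fun v => ?_⟩
    rw [Units.val_one, Units.val_one, Matrix.one_mulVec, one_mul]
    exact h v
  have h1 : IsFieldAutPOmegaOf ⇑Q σ β ↔ IsInducedBySemilinearPOmega ⇑Q 1 σ β := by
    unfold IsFieldAutPOmegaOf IsInducedBySemilinearPOmega
    simp only [inv_one, Units.val_one, Matrix.one_mul, Matrix.mul_one]
  have h2 : pairSS Q 1 σ hp = stdS Q σ h := by
    apply ss_ext
    · intro x
      rw [pairSS_apply, Units.val_one, Matrix.one_mulVec]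
      rfl
    · rfl
  rw [h1, inducedPOm_iff hnd hn hp, h2]

end conc

end Cfsg.Agent.H17
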