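import Mathlib
import Cfsg.Agent.H5.OmegaQuot

set_option autoImplicit false

namespace Cfsg.Agent.H17

open Cfsg.Agent.H5

theorem neg_not_mem_odd {F V : Type*} [Field F] [Finite F] [AddCommGroup V] [Module F V] [FiniteDimensional F V] [Finite V]
    {Q : QuadraticForm F V} (h2 : (2 : F) ≠ 0) (hnd : ND Q) {m : ℕ} (hm : Module.finrank F V = 2 * m + 1)
    (hn : 5 ≤ Module.finrank F V) : ogNeg Q ∉ commutator (OG Q) := by
  intro h
  obtain ⟨v, hv⟩ := exists_ne_q hnd (by omega)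
  have h1 := comm_le_of_index_two (dg_index hnd (rg_top hnd (fun _ => by omega)) hv) h
  have h3 := odet_dg h1
  have h4 : odet Q (ogNeg Q) = -1 := by
    have h5 : ((ogNeg Q).1 : V →ₗ[F] V) = (-1 : F) • LinearMap.id := by
      apply LinearMap.ext
      intro x
      show -x = (-1 : F) • x
      module
    show LinearMap.det _ = _
    rw [h5, LinearMap.det_smul, LinearMap.det_id, hm, mul_one]
    exact Odd.neg_one_pow ⟨m, rfl⟩
  rw [h4] at h3
  apply h2
  linear_combination -h3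

theorem even_iff_mod {q : ℕ} (hq : Odd q) (m : ℕ) : Even (m * (q - 1) / 2) ↔ ¬ q ^ m % 4 = 3 := by
  obtain ⟨t, rfl⟩ := hq
  have h1 : m * (2 * t + 1 - 1) / 2 = m * t := by
    rw [Nat.add_sub_cancel, show m * (2 * t) = 2 * (m * t) by ring, Nat.mul_div_cancel_left _ (by norm_num)]
  rw [h1]
  rcases Nat.even_or_odd t with ht | ht
  · obtain ⟨s, rfl⟩ := ht
    have h2 : (2 * (s + s) + 1) ^ m % 4 = 1 := by
      rw [Nat.pow_mod, show (2 * (s + s) + 1) % 4 = 1 by omega, one_pow]; rfl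
    rw [h2]
    simp [Nat.even_mul]
  · obtain ⟨s, rfl⟩ := ht
    have h3 : (2 * (2 * s + 1) + 1) % 4 = 3 := by omega
    rcases Nat.even_or_odd m with hm | hm
    · obtain ⟨k, rfl⟩ := hm
      have h2 : (2 * (2 * s + 1) + 1) ^ (k + k) % 4 = 1 := by
        rw [Nat.pow_mod, h3, ← two_mul, pow_mul, Nat.pow_mod, show 3 ^ 2 % 4 = 1 by norm_num, one_pow]; rfl
      rw [h2]
      simp [Nat.even_mul]
    · obtain ⟨k, rfl⟩ := hm
      have h2 : (2 * (2 * s + 1) + 1) ^ (2 * k + 1) % 4 = 3 := by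
        rw [Nat.pow_mod, h3, pow_succ, pow_mul, Nat.mul_mod, Nat.pow_mod (3 ^ 2), show 3 ^ 2 % 4 = 1 by norm_num, one_pow]; rfl
      rw [h2]
      simp [Nat.even_mul, parity_simps]

end Cfsg.Agent.H17
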