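import Mathlib
import Cfsg.Agent.H5.Orth1
import Cfsg.Agent.H5.OrthOrder
import Cfsg.Agent.H5.OrthForms

set_option autoImplicit false

/-! The quadratic extension as an anisotropic plane and the minus type model. -/

namespace Cfsg.Agent.H17

open Cfsg Cfsg.Agent.H5

section ext

variable (F : Type*) [Field F] [Finite F] (p : ℕ) [Fact p.Prime] [CharP F p]

/-- the quadratic extension -/
abbrev KK : Type := FiniteField.Extension F p 2

/-- the conjugation -/
noncomputable def sK : KK F p ≃ₐ[F] KK F p := FiniteField.Extension.frob F p 2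

variable {F p}

theorem sK_apply (z : KK F p) : sK F p z = z ^ Nat.card F := FiniteField.Extension.frob_apply F p 2

theorem card_KK : Nat.card (KK F p) = Nat.card F ^ 2 := FiniteField.natCard_extension F p 2

theorem sK_sK (z : KK F p) : sK F p (sK F p z) = z := by
  rw [sK_apply, sK_apply, ← pow_mul, ← pow_two, ← card_KK (F := F) (p := p)]
  haveI := Fintype.ofFinite (KK F p)
  rw [Nat.card_eq_fintype_card, FiniteField.pow_card]

theorem sK_algebraMap (a : F) : sK F p (algebraMap F (KK F p) a) = algebraMap F (KK F p) a := (sK F p).commutes a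

theorem exists_fix {z : KK F p} (h : sK F p z = z) : ∃ a : F, algebraMap F (KK F p) a = z := by
  have h1 : z ∈ Set.range (algebraMap F (KK F p)) := by
    rw [IsGalois.mem_range_algebraMap_iff_fixed]
    intro g
    obtain ⟨i, hi, rfl⟩ := FiniteField.Extension.exists_frob_pow_eq F p 2 g
    have h2 : i = 0 ∨ i = 1 := by omega
    rcases h2 with rfl | rfl
    · rfl
    · rw [pow_one]; exact h
  exact h1

theorem exists_sK_ne : ∃ z : KK F p, sK F p z ≠ z := by
  by_contra hcon
  push Not at hcon
  have h1 : Function.Surjective (algebraMap F (KK F p)) := fun z => exists_fix (hcon z)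
  have h2 := Nat.card_le_card_of_surjective _ h1
  rw [card_KK] at h2
  have h3 : 1 < Nat.card F := Finite.one_lt_card
  nlinarith

theorem algebraMap_inj {a b : F} (h : algebraMap F (KK F p) a = algebraMap F (KK F p) b) : a = b :=
  FaithfulSMul.algebraMap_injective F (KK F p) h

/-- retraction -/
theorem exists_retr : ∃ ρ : KK F p →ₗ[F] F, ∀ a, ρ (algebraMap F (KK F p) a) = a := by
  obtain ⟨ρ, hρ⟩ := LinearMap.exists_leftInverse_of_injective (Algebra.linearMap F (KK F p))
    (LinearMap.ker_eq_bot.mpr (FaithfulSMul.algebraMap_injective F (KK F p)))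
  exact ⟨ρ, fun a => LinearMap.congr_fun hρ a⟩

/-- the `K`-valued sesquilinear form -/
noncomputable def sesK (F : Type*) [Field F] [Finite F] (p : ℕ) [Fact p.Prime] [CharP F p] :
    KK F p →ₗ[F] KK F p →ₗ[F] KK F p :=
  LinearMap.mk₂ F (fun x y => x * sK F p y) (fun x y z => add_mul x y _) (fun a x y => by rw [smul_mul_assoc])
    (fun x y z => by rw [map_add, mul_add]) (fun a x y => by rw [map_smul, mul_smul_comm])

/-- the norm form -/
noncomputable def nK (F : Type*) [Field F] [Finite F] (p : ℕ) [Fact p.Prime] [CharP F p] : QuadraticForm F (KK F p) :=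
  LinearMap.BilinMap.toQuadraticMap ((LinearMap.compr₂ (sesK F p) (exists_retr (F := F) (p := p)).choose))

theorem nK_apply (z : KK F p) : algebraMap F (KK F p) (nK F p z) = z * sK F p z := by
  have h1 : ∃ a, algebraMap F (KK F p) a = z * sK F p z := by
    apply exists_fix
    rw [map_mul, sK_sK, mul_comm]
  obtain ⟨a, ha⟩ := h1
  have h2 : nK F p z = (exists_retr (F := F) (p := p)).choose (z * sK F p z) := rfl
  rw [h2, ← ha, (exists_retr (F := F) (p := p)).choose_spec]

theorem nK_polar (x y : KK F p) : algebraMap F (KK F p) (pB (nK F p) x y) = x * sK F p y + y * sK F p x := by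
  have h1 := q_add (nK F p) x y
  have h2 : pB (nK F p) x y = nK F p (x + y) - nK F p x - nK F p y := by rw [h1]; ring
  rw [h2, map_sub, map_sub, nK_apply, nK_apply, nK_apply, map_add]
  ring

theorem nK_aniso {z : KK F p} (h : nK F p z = 0) : z = 0 := by
  have h1 := nK_apply z
  rw [h, map_zero] at h1
  rcases mul_eq_zero.mp h1.symm with h2 | h2
  · exact h2
  · exact (map_eq_zero _).mp h2

theorem nK_nd : ND (nK F p) := by
  intro x hx
  by_contra hx0
  have h1 : ∀ z : KK F p, z + sK F p z = 0 := by
    intro z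
    have h2 := nK_polar x (sK F p (z / x))
    rw [hx, map_zero, sK_sK] at h2
    have h3 : x * (z / x) = z := mul_div_cancel₀ z hx0
    rw [h3, ← map_mul, mul_comm (z / x) x, h3] at h2
    exact h2.symm
  obtain ⟨z, hz⟩ := exists_sK_ne (F := F) (p := p)
  apply hz
  have h2 := h1 1
  rw [map_one] at h2
  have h3 : (-1 : KK F p) = 1 := by linear_combination -h2
  have h4 := h1 z
  calc sK F p z = -z := by linear_combination h4
    _ = (-1) * z := by ring
    _ = z := by rw [h3, one_mul]

theorem finrank_KK : Module.finrank F (KK F p) = 2 := FiniteField.finrank_extension F p 2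

/-- minus type model -/
noncomputable def qM (k : ℕ) (F : Type*) [Field F] [Finite F] (p : ℕ) [Fact p.Prime] [CharP F p] :
    QuadraticForm F ((Fin k ⊕ Fin k → F) × KK F p) := (qPlus k F).prod (nK F p)

theorem qM_apply {k : ℕ} (x : Fin k ⊕ Fin k → F) (z : KK F p) : qM k F p (x, z) = qPlus k F x + nK F p z :=
  QuadraticMap.prod_apply _ _ _

theorem qM_polar {k : ℕ} (x x' : Fin k ⊕ Fin k → F) (z z' : KK F p) : pB (qM k F p) (x, z) (x', z') = pB (qPlus k F) x x' + pB (nK F p) z z' := by
  have h1 := q_add (qM k F p) (x, z) (x', z')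
  rw [Prod.mk_add_mk, qM_apply, qM_apply, qM_apply, q_add, q_add] at h1
  linear_combination -h1

theorem qM_nd {k : ℕ} : ND (qM k F p) := by
  rintro ⟨x, z⟩ h
  have h1 : x = 0 := by
    apply nd_plus
    intro y
    have := h (y, 0)
    rwa [qM_polar, map_zero, add_zero] at this
  have h2 : z = 0 := by
    apply nK_nd
    intro y
    have := h (0, y)
    rwa [qM_polar, map_zero, zero_add] at this
  rw [h1, h2]; rfl

theorem finrank_qM {k : ℕ} : Module.finrank F ((Fin k ⊕ Fin k → F) × KK F p) = 2 * (k + 1) := by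
  rw [Module.finrank_prod, Module.finrank_fintype_fun_eq_card, finrank_KK]
  simp; ring

theorem zn_qM {k q : ℕ} (hq : Nat.card F = q) : zn (qM k F p) = (q ^ k - 1) * (q ^ 2 * q ^ (k - 1)) + q ^ k := by
  have h := card_dot k (fun z : KK F p => nK F p z) (0 : F) hq
  have h1 : Nat.card {t : KK F p // nK F p t = 0} = 1 := by
    rw [Nat.card_eq_one_iff_exists]
    refine ⟨⟨0, q_zero _⟩, ?_⟩
    rintro ⟨z, hz⟩
    exact Subtype.ext (nK_aniso hz)
  rw [h1, mul_one, card_KK, hq] at h
  rw [← h]
  unfold zn
  apply Nat.card_congr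
  refine Equiv.subtypeEquiv
    { toFun := fun v => (fun i => v.1 (Sum.inl i), fun i => v.1 (Sum.inr i), v.2)
      invFun := fun w => (Sum.elim w.1 w.2.1, w.2.2)
      left_inv := fun v => by
        apply Prod.ext
        · funext i
          rcases i with i | i <;> rfl
        · rfl
      right_inv := fun w => rfl } ?_
  rintro ⟨x, z⟩
  rw [qM_apply, qPlus_coe]
  rfl

end ext

end Cfsg.Agent.H17
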