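import Mathlib
import Cfsg.Agent.H17.QModel
import Cfsg.Agent.H17.SSGOut
import Cfsg.Agent.H5.OmegaQuot

set_option autoImplicit false

/-! Transport along isometries; the Frobenius semisimilarity of the minus type model. -/

namespace Cfsg.Agent.H17

open Cfsg Cfsg.Agent.H5

section transport

variable {F V V' : Type*} [Field F] [AddCommGroup V] [Module F V] [AddCommGroup V'] [Module F V']
  {Q : QuadraticForm F V} {Q' : QuadraticForm F V'}

/-- isometries induce isomorphisms of orthogonal groups -/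
def ogCongr (φ : V ≃ₗ[F] V') (h : ∀ x, Q' (φ x) = Q x) : OG Q ≃* OG Q' where
  toFun g := ⟨(φ.symm.trans g.1).trans φ, fun x => by
    show Q' (φ (g (φ.symm x))) = Q' x
    rw [h, og_q, ← h, LinearEquiv.apply_symm_apply]⟩
  invFun g := ⟨(φ.trans g.1).trans φ.symm, fun x => by
    show Q (φ.symm (g (φ x))) = Q x
    rw [← h, LinearEquiv.apply_symm_apply, og_q, h]⟩
  left_inv g := og_ext fun x => by
    show φ.symm (φ (g (φ.symm (φ x)))) = g x
    rw [LinearEquiv.symm_apply_apply, LinearEquiv.symm_apply_apply]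
  right_inv g := og_ext fun x => by
    show φ (φ.symm (g (φ (φ.symm x)))) = g x
    rw [LinearEquiv.apply_symm_apply, LinearEquiv.apply_symm_apply]
  map_mul' g g' := og_ext fun x => by
    show φ (g (g' (φ.symm x))) = φ (g (φ.symm (φ (g' (φ.symm x)))))
    rw [LinearEquiv.symm_apply_apply]

theorem ogCongr_apply (φ : V ≃ₗ[F] V') (h : ∀ x, Q' (φ x) = Q x) (g : OG Q) (x : V') :
    ogCongr φ h g x = φ (g (φ.symm x)) := rfl

theorem map_EG (φ : V ≃ₗ[F] V') (h : ∀ x, Q' (φ x) = Q x) :
    (EG Q).map (ogCongr φ h : OG Q →* OG Q') = EG Q' := by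
  have hB : ∀ x y, pB Q' (φ x) (φ y) = pB Q x y := by
    intro x y
    have h1 := h (x + y)
    rw [map_add, q_add, q_add, h, h] at h1
    linear_combination h1
  rw [EG, MonoidHom.map_closure, EG]
  congr 1
  ext g
  constructor
  · rintro ⟨_, ⟨u, w, hu, huw, rfl⟩, rfl⟩
    refine ⟨φ u, φ w, by rw [h, hu], by rw [hB, huw], ?_⟩
    apply og_ext
    intro x
    show φ (eich hu huw (φ.symm x)) = _
    obtain ⟨y, rfl⟩ := φ.surjective x
    rw [LinearEquiv.symm_apply_apply, eich_apply, eich_apply, hB, hB, h, map_sub, map_sub, map_add, map_smul, map_smul,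
      map_smul]
  · rintro ⟨u, w, hu, huw, rfl⟩
    obtain ⟨u, rfl⟩ := φ.surjective u
    obtain ⟨w, rfl⟩ := φ.surjective w
    have hu' : Q u = 0 := by rw [← h, hu]
    have huw' : pB Q u w = 0 := by rw [← hB, huw]
    refine ⟨eich hu' huw', ⟨u, w, hu', huw', rfl⟩, ?_⟩
    apply og_ext
    intro x
    show φ (eich hu' huw' (φ.symm x)) = _
    obtain ⟨y, rfl⟩ := φ.surjective x
    rw [LinearEquiv.symm_apply_apply, eich_apply, eich_apply, hB, hB, h, map_sub, map_sub, map_add, map_smul, map_smul,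
      map_smul]

/-- isometric forms have isomorphic simple groups -/
noncomputable def peCongr (φ : V ≃ₗ[F] V') (h : ∀ x, Q' (φ x) = Q x) : PE Q ≃* PE Q' :=
  quotCenterCongr (((ogCongr φ h).subgroupMap (EG Q)).trans (MulEquiv.subgroupCongr (map_EG φ h)))

end transport

section dg

variable {F V : Type*} [Field F] [Finite F] [AddCommGroup V] [Module F V] [FiniteDimensional F V] {Q : QuadraticForm F V}

theorem refl_not_mem_DG (hnd : ND Q) (hn : 5 ≤ Module.finrank F V) {v : V} (hv : Q v ≠ 0) : refl hv ∉ DG Q := by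
  haveI : Finite V := Module.finite_of_finite F
  intro h
  have hrg := rg_top hnd (fun _ => by omega)
  have h1 := dg_index hnd hrg hv
  have h2 : DG Q = ⊤ := by
    rw [eq_top_iff]
    intro g _
    rcases rg_dg g (by rw [hrg]; exact Subgroup.mem_top g) with h3 | h3
    · exact h3
    · have h4 := h3 v hv
      exact (Subgroup.mul_mem_cancel_left _ h).mp h4
  rw [h2, Subgroup.index_top] at h1
  exact absurd h1 (by norm_num)

theorem EG_le_DG (hnd : ND Q) (hn : 5 ≤ Module.finrank F V) : EG Q ≤ DG Q := by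
  haveI : Finite V := Module.finite_of_finite F
  obtain ⟨v, hv⟩ := exists_ne_q hnd (by omega)
  rw [eg_eq_comm hnd hn (exists_sing hnd (by omega))]
  exact comm_le_of_index_two (dg_index hnd (rg_top hnd (fun _ => by omega)) hv)

theorem odet_EG (hnd : ND Q) (hn : 5 ≤ Module.finrank F V) {g : OG Q} (hg : g ∈ EG Q) : odet Q g = 1 :=
  odet_dg (EG_le_DG hnd hn hg)

/-- a reflection is not in `Ω` modulo scalars (even dimension) -/
theorem refl_out_ne (hnd : ND Q) (hn : 5 ≤ Module.finrank F V) {m : ℕ} (hm : Module.finrank F V = 2 * m) {v : V} (hv : Q v ≠ 0) :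
    outE Q (ogSS Q (refl hv)) ≠ 1 := by
  intro h
  rw [outE_eq_one_iff hnd hn] at h
  obtain ⟨c, g, hcg⟩ := h
  have h1 : ∀ x, refl hv x = (c : F) • g.1 x := by
    intro x
    rw [← ogSS_apply, hcg]
    rfl
  have hc2 : (c : F) * c = 1 := by
    have h2 := og_q (refl hv) v
    rw [h1, q_smul, og_q] at h2
    have h3 : ((c : F) * c - 1) * Q v = 0 := by linear_combination h2
    exact sub_eq_zero.mp ((mul_eq_zero.mp h3).resolve_right hv)
  by_cases h2 : (2 : F) = 0
  · have hc : (c : F) = 1 := by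
      have h3 : ((c : F) - 1) * (c - 1) = 0 := by linear_combination hc2 + (1 - c) * h2
      exact sub_eq_zero.mp (mul_self_eq_zero.mp h3)
    have h3 : refl hv = g.1 := og_ext fun x => by rw [h1, hc, one_smul]
    exact refl_not_mem_DG hnd hn hv (by rw [h3]; exact EG_le_DG hnd hn g.2)
  · have h3 : odet Q (refl hv) = -1 := odet_refl hv
    have h4 : odet Q (refl hv) = (c : F) ^ Module.finrank F V * odet Q g.1 := by
      have h5 : ((refl hv).1 : V →ₗ[F] V) = (c : F) • (g.1.1 : V →ₗ[F] V) := LinearMap.ext h1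
      show LinearMap.det _ = _ * LinearMap.det _
      rw [h5, LinearMap.det_smul]
    rw [odet_EG hnd hn g.2, hm, mul_one, pow_mul, pow_two, hc2, one_pow, h3] at h4
    apply h2
    linear_combination -h4

end dg

section frob

variable {F : Type*} [Field F] [Finite F] {p : ℕ} [Fact p.Prime] [CharP F p]

/-- Frobenius automorphism -/
noncomputable def frF (F : Type*) [Field F] [Finite F] (p : ℕ) [Fact p.Prime] [CharP F p] : F ≃+* F := frobeniusEquiv F p

theorem frF_apply (x : F) : frF F p x = x ^ p := rfl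

theorem frF_pow (i : ℕ) (x : F) : (frF F p ^ i) x = x ^ p ^ i := by
  induction i with
  | zero => simp
  | succ i ih =>
    rw [pow_succ', RingAut.mul_apply, ih, frF_apply, ← pow_mul, pow_succ]

omit [Finite F] in
theorem card_le_of_pow [Finite F] {n : ℕ} (hn : 1 < n) (h : ∀ x : F, x ^ n = x) : Nat.card F ≤ n := by
  classical
  haveI := Fintype.ofFinite F
  have h1 : (Polynomial.X ^ n - Polynomial.X : Polynomial F) ≠ 0 := FiniteField.X_pow_card_sub_X_ne_zero F hn
  have h2 : (Finset.univ : Finset F) ⊆ (Polynomial.X ^ n - Polynomial.X : Polynomial F).roots.toFinset := by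
    intro x _
    rw [Multiset.mem_toFinset, Polynomial.mem_roots h1]
    simp [h x]
  have h3 := Finset.card_le_card h2
  have h4 := Multiset.toFinset_card_le (Polynomial.X ^ n - Polynomial.X : Polynomial F).roots
  have h5 := Polynomial.card_roots' (Polynomial.X ^ n - Polynomial.X : Polynomial F)
  rw [FiniteField.X_pow_card_sub_X_natDegree_eq F hn] at h5
  rw [Finset.card_univ, ← Nat.card_eq_fintype_card] at h3
  omega

theorem orderOf_frF {f : ℕ} (hf : 1 ≤ f) (hF : Nat.card F = p ^ f) : orderOf (frF F p) = f := by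
  rw [orderOf_eq_iff (by omega)]
  constructor
  · haveI := Fintype.ofFinite F
    ext x
    rw [frF_pow, ← hF, Nat.card_eq_fintype_card, FiniteField.pow_card]
    rfl
  · intro i hi hi0 h
    have h1 : ∀ x : F, x ^ p ^ i = x := by
      intro x
      rw [← frF_pow, h]; rfl
    have hp1 : 1 < p := (Fact.out : p.Prime).one_lt
    have h3 := card_le_of_pow (Nat.one_lt_pow (by omega) hp1) h1
    rw [hF] at h3
    exact absurd h3 (not_le.mpr (Nat.pow_lt_pow_right hp1 hi))

instance charP_KK : CharP (KK F p) p := charP_of_injective_algebraMap (FaithfulSMul.algebraMap_injective F (KK F p)) p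

/-- the Frobenius semisimilarity of the model -/
noncomputable def frM (k : ℕ) (F : Type*) [Field F] [Finite F] (p : ℕ) [Fact p.Prime] [CharP F p] : SSG (qM k F p) :=
  ⟨(Equiv.prodCongr (Equiv.piCongrRight fun _ => (frF F p).toEquiv) (frobeniusEquiv (KK F p) p).toEquiv, frF F p),
    fun x y => by
      apply Prod.ext
      · funext i
        exact map_add (frF F p) (x.1 i) (y.1 i)
      · exact map_add (frobeniusEquiv (KK F p) p) x.2 y.2,
    fun a x => by
      apply Prod.ext
      · funext i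
        exact map_mul (frF F p) a (x.1 i)
      · show (a • x.2) ^ p = (a ^ p) • x.2 ^ p
        exact smul_pow a x.2 p,
    1, fun x => by
      rw [Units.val_one, one_mul]
      obtain ⟨x, z⟩ := x
      show qM k F p (fun i => frF F p (x i), z ^ p) = frF F p (qM k F p (x, z))
      rw [qM_apply, qM_apply, map_add]
      congr 1
      · rw [qPlus_coe, quadFormPlus, quadFormPlus]
        simp only [map_sum, map_mul]
      · apply algebraMap_inj (p := p)
        rw [nK_apply, frF_apply, map_pow (algebraMap F (KK F p)), nK_apply, map_pow, mul_pow]⟩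

theorem frM_apply {k : ℕ} (x : Fin k ⊕ Fin k → F) (z : KK F p) : (frM k F p).1.1 (x, z) = (fun i => frF F p (x i), z ^ p) := rfl

theorem frM_pow {k : ℕ} (i : ℕ) (x : Fin k ⊕ Fin k → F) (z : KK F p) :
    (frM k F p ^ i).1.1 (x, z) = (fun j => (frF F p ^ i) (x j), z ^ p ^ i) := by
  induction i with
  | zero => simp
  | succ i ih =>
    have : (frM k F p ^ (i + 1)).1.1 (x, z) = (frM k F p).1.1 ((frM k F p ^ i).1.1 (x, z)) := by
      rw [pow_succ']; rfl
    rw [this, ih, frM_apply]
    apply Prod.ext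
    · funext j
      rw [pow_succ']; rfl
    · show (z ^ p ^ i) ^ p = z ^ p ^ (i + 1)
      rw [← pow_mul, pow_succ]

theorem frM_pow_snd {k : ℕ} (i : ℕ) : (frM k F p ^ i).1.2 = frF F p ^ i := by
  induction i with
  | zero => rfl
  | succ i ih => rw [pow_succ, pow_succ, ← ih]; rfl

/-- the reflection vector -/
theorem exists_v0 (k : ℕ) : ∃ (v : (Fin k ⊕ Fin k → F) × KK F p) (hv : qM k F p v ≠ 0), ∀ x z,
    refl hv (x, z) = (x, sK F p z) := by
  obtain ⟨z0, hz0⟩ := exists_sK_ne (F := F) (p := p)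
  obtain ⟨v0, hv0⟩ : ∃ v0, v0 = z0 - sK F p z0 := ⟨_, rfl⟩
  have h1 : sK F p v0 = -v0 := by rw [hv0, map_sub, sK_sK]; ring
  have hne : v0 ≠ 0 := by rw [hv0]; exact sub_ne_zero.mpr (Ne.symm hz0)
  have hN : nK F p v0 ≠ 0 := fun h => hne (nK_aniso h)
  have hv : qM k F p (0, v0) ≠ 0 := by rw [qM_apply, q_zero, zero_add]; exact hN
  refine ⟨(0, v0), hv, fun x z => ?_⟩
  rw [refl_apply, qM_polar, qM_apply, q_zero, zero_add, map_zero, LinearMap.zero_apply, zero_add]
  apply Prod.ext
  · show x - _ • (0 : Fin k ⊕ Fin k → F) = x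
    rw [smul_zero, sub_zero]
  · show z - ((nK F p v0)⁻¹ * pB (nK F p) v0 z) • v0 = sK F p z
    rw [Algebra.smul_def, map_mul, map_inv₀, nK_apply, nK_polar, h1]
    field_simp
    ring

theorem frM_pow_f {k f : ℕ} (hF : Nat.card F = p ^ f) : ∃ (v : (Fin k ⊕ Fin k → F) × KK F p) (hv : qM k F p v ≠ 0),
    frM k F p ^ f = ogSS _ (refl hv) := by
  obtain ⟨v, hv, h⟩ := exists_v0 (F := F) (p := p) k
  refine ⟨v, hv, ss_ext ?_ ?_⟩
  · rintro ⟨x, z⟩
    rw [ogSS_apply, h, frM_pow, sK_apply, hF]
    apply Prod.ext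
    · funext i
      haveI := Fintype.ofFinite F
      show (frF F p ^ f) (x i) = x i
      rw [frF_pow, ← hF, Nat.card_eq_fintype_card, FiniteField.pow_card]
    · rfl
  · rw [frM_pow_snd]
    haveI := Fintype.ofFinite F
    ext x
    rw [frF_pow, ← hF, Nat.card_eq_fintype_card, FiniteField.pow_card]
    rfl

end frob

end Cfsg.Agent.H17
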