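import Mathlib
import Cfsg.Agent.H17.QModel2
import Cfsg.Agent.H17.NegOdd

set_option autoImplicit false

/-! Outer automorphisms of simple orthogonal groups in odd characteristic and even dimension. -/

namespace Cfsg.Agent.H17

open Cfsg Cfsg.Agent.H5

section conj

variable {F V : Type*} [Field F] [AddCommGroup V] [Module F V] {Q : QuadraticForm F V}

theorem ss_refl_ne (p : SSG Q) {v : V} (hv : Q v ≠ 0) : Q (p.1.1 v) ≠ 0 := by
  rw [ss_Q]
  exact mul_ne_zero (Units.ne_zero _) ((map_ne_zero p.1.2).mpr hv)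

theorem ss_conj_refl (p : SSG Q) {v : V} (hv : Q v ≠ 0) :
    p * ogSS Q (refl hv) * p⁻¹ = ogSS Q (refl (ss_refl_ne p hv)) := by
  apply ss_ext
  · intro x
    obtain ⟨y, rfl⟩ := p.1.1.surjective x
    have h1 : (p * ogSS Q (refl hv) * p⁻¹).1.1 (p.1.1 y) = p.1.1 (refl hv y) := by
      show p.1.1 (refl hv (p.1.1.symm (p.1.1 y))) = _
      rw [Equiv.symm_apply_apply]
    rw [h1, ogSS_apply, refl_apply, refl_apply, ss_sub, ss_smul, ss_B, ss_Q, map_mul, map_inv₀]
    congr 2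
    have h2 : (ssK p : F) ≠ 0 := Units.ne_zero _
    have h3 : p.1.2 (Q v) ≠ 0 := (map_ne_zero p.1.2).mpr hv
    field_simp
  · show p.1.2 * 1 * p.1.2⁻¹ = 1
    rw [mul_one, mul_inv_cancel]

end conj

section main

variable {F V : Type*} [Field F] [Finite F] [AddCommGroup V] [Module F V] [FiniteDimensional F V]
  {Q : QuadraticForm F V}

/-- class of an isometry -/
def oG (Q : QuadraticForm F V) : OG Q →* Out (PE Q) := (outE Q).comp (ogSS Q)

omit [Finite F] [FiniteDimensional F V] in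
theorem oG_apply (g : OG Q) : oG Q g = outE Q (ogSS Q g) := rfl

theorem oG_of_mem (hnd : ND Q) (hn : 5 ≤ Module.finrank F V) {g : OG Q} (hg : g ∈ EG Q) : oG Q g = 1 := by
  rw [oG_apply, outE_eq_one_iff hnd hn]
  exact ⟨1, ⟨g, hg⟩, by rw [map_one, one_mul]⟩

theorem oG_of_ab (hnd : ND Q) (hn : 5 ≤ Module.finrank F V) {g h : OG Q} (hg : Abelianization.of g = Abelianization.of h) :
    oG Q g = oG Q h := by
  haveI : Finite V := Module.finite_of_finite F
  have h1 : g * h⁻¹ ∈ EG Q := by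
    rw [eg_eq_comm hnd hn (exists_sing hnd (by omega)), ← Abelianization.ker_of, MonoidHom.mem_ker, map_mul, map_inv, hg,
      mul_inv_cancel]
  have h2 := oG_of_mem hnd hn h1
  rw [map_mul, map_inv] at h2
  exact mul_inv_eq_one.mp h2

theorem oG_eq_one (hnd : ND Q) (hn : 5 ≤ Module.finrank F V) {g : OG Q} (hg : oG Q g = 1) : g ∈ EG Q ∨ ogNeg Q * g ∈ EG Q := by
  haveI : Finite V := Module.finite_of_finite F
  rw [oG_apply, outE_eq_one_iff hnd hn] at hg
  obtain ⟨c, h, hh⟩ := hg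
  have h1 : ∀ x, g x = (c : F) • h.1 x := by
    intro x
    rw [← ogSS_apply, hh]
    rfl
  have hc2 : (c : F) * c = 1 := by
    obtain ⟨v, hv⟩ := exists_ne_q hnd (by omega)
    have h2 := og_q g v
    rw [h1, q_smul, og_q] at h2
    have h3 : ((c : F) * c - 1) * Q v = 0 := by linear_combination h2
    exact sub_eq_zero.mp ((mul_eq_zero.mp h3).resolve_right hv)
  have h3 : ((c : F) - 1) * (c + 1) = 0 := by linear_combination hc2
  rcases mul_eq_zero.mp h3 with h4 | h4
  · left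
    have : g = h.1 := og_ext fun x => by rw [h1, sub_eq_zero.mp h4, one_smul]
    rw [this]; exact h.2
  · right
    have : ogNeg Q * g = h.1 := og_ext fun x => by
      rw [og_mul, ogNeg_apply, h1, show (c : F) = -1 by linear_combination h4, neg_one_smul, neg_neg]
    rw [this]; exact h.2

theorem odet_neg {m : ℕ} (hm : Module.finrank F V = 2 * m) : odet Q (ogNeg Q) = 1 := by
  have h5 : ((ogNeg Q).1 : V →ₗ[F] V) = (-1 : F) • LinearMap.id := by
    apply LinearMap.ext
    intro x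
    show -x = (-1 : F) • x
    module
  show LinearMap.det _ = _
  rw [h5, LinearMap.det_smul, LinearMap.det_id, hm, mul_one, pow_mul, neg_one_sq, one_pow]

/-- data: two reflections of distinct classes -/
structure RD (Q : QuadraticForm F V) (u v : V) : Prop where
  h2 : (2 : F) ≠ 0
  nd : ND Q
  hn : 5 ≤ Module.finrank F V
  ev : ∃ m, Module.finrank F V = 2 * m
  hu : Q u ≠ 0
  hv : Q v ≠ 0
  ns : ¬ IsSquare (Q u * Q v)

variable {u v : V}

theorem RD.refl_cases (R : RD Q u v) {w : V} (hw : Q w ≠ 0) :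
    (IsSquare (Q u * Q w) ∧ oG Q (refl hw) = oG Q (refl R.hu)) ∨ (¬ IsSquare (Q u * Q w) ∧ oG Q (refl hw) = oG Q (refl R.hv)) := by
  by_cases h : IsSquare (Q u * Q w)
  · left
    exact ⟨h, (oG_of_ab R.nd R.hn (ab_refl_eq R.nd R.hu hw h)).symm⟩
  · right
    refine ⟨h, oG_of_ab R.nd R.hn (ab_refl_eq R.nd hw R.hv ?_)⟩
    have h1 := nonsq_mul R.h2 h R.ns
    obtain ⟨s, hs⟩ := h1
    refine ⟨s / Q u, ?_⟩
    have h2 := R.hu
    field_simp
    linear_combination hs

theorem RD.og_cases (R : RD Q u v) (g : OG Q) : oG Q g = 1 ∨ oG Q g = oG Q (refl R.hu) ∨ oG Q g = oG Q (refl R.hv) ∨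
    oG Q g = oG Q (refl R.hu) * oG Q (refl R.hv) := by
  rcases ab_cases R.h2 R.nd R.hu R.hv R.ns g with h | h | h | h
  · left
    rw [oG_of_ab R.nd R.hn (h.trans (map_one _).symm), map_one]
  · right; left
    exact oG_of_ab R.nd R.hn h
  · right; right; left
    exact oG_of_ab R.nd R.hn h
  · right; right; right
    rw [← map_mul] at h
    rw [oG_of_ab R.nd R.hn h, map_mul]

theorem RD.comm (R : RD Q u v) : oG Q (refl R.hu) * oG Q (refl R.hv) = oG Q (refl R.hv) * oG Q (refl R.hu) := by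
  rw [← map_mul, ← map_mul]
  apply oG_of_ab R.nd R.hn
  rw [map_mul, map_mul, mul_comm]

theorem RD.sq_u (R : RD Q u v) : oG Q (refl R.hu) * oG Q (refl R.hu) = 1 := by rw [← map_mul, refl_mul_self, map_one]
theorem RD.sq_v (R : RD Q u v) : oG Q (refl R.hv) * oG Q (refl R.hv) = 1 := by rw [← map_mul, refl_mul_self, map_one]

theorem RD.ne_u (R : RD Q u v) : oG Q (refl R.hu) ≠ 1 := by
  obtain ⟨m, hm⟩ := R.ev
  exact refl_out_ne R.nd R.hn hm R.hu

theorem RD.ne_v (R : RD Q u v) : oG Q (refl R.hv) ≠ 1 := by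
  obtain ⟨m, hm⟩ := R.ev
  exact refl_out_ne R.nd R.hn hm R.hv

theorem RD.uv_not_mem (R : RD Q u v) : refl R.hu * refl R.hv ∉ EG Q := by
  haveI : Finite V := Module.finite_of_finite F
  intro h
  rw [eg_eq_comm R.nd R.hn (exists_sing R.nd (by have := R.hn; omega))] at h
  have h1 : psi Q (Q u) (refl R.hu * refl R.hv) = 1 := by
    have h2 : commutator (OG Q) ≤ (psi Q (Q u)).ker := Abelianization.commutator_subset_ker _
    exact h2 h
  rw [map_mul, (psi_refl R.h2 (Q u) R.hu R.hu).1 ⟨Q u, rfl⟩, (psi_refl R.h2 (Q u) R.hu R.hv).2 R.ns] at h1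
  exact absurd h1 (by decide)

/-- isometries of determinant one -/
theorem RD.det_one (R : RD Q u v) {g : OG Q} (hg : odet Q g = 1) : oG Q g = 1 ∨ oG Q g = oG Q (refl R.hu) * oG Q (refl R.hv) := by
  have hne : (1 : F) ≠ -1 := by
    intro h
    apply R.h2
    linear_combination h
  have key : ∀ (w : V) (hw : Q w ≠ 0), oG Q g ≠ oG Q (refl hw) := by
    intro w hw h
    have h1 : oG Q (g * (refl hw)⁻¹) = 1 := by rw [map_mul, map_inv, h, mul_inv_cancel]
    have h2 : odet Q (g * (refl hw)⁻¹) = -1 := by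
      rw [map_mul, refl_inv, hg, odet_refl, one_mul]
    obtain ⟨m, hm⟩ := R.ev
    rcases oG_eq_one R.nd R.hn h1 with h3 | h3
    · have h4 := odet_EG R.nd R.hn h3
      rw [h2] at h4
      exact hne h4.symm
    · have h4 := odet_EG R.nd R.hn h3
      rw [map_mul, h2, odet_neg hm, one_mul] at h4
      exact hne h4.symm
  rcases R.og_cases g with h | h | h | h
  · exact Or.inl h
  · exact absurd h (key _ _)
  · exact absurd h (key _ _)
  · exact Or.inr h

/-- minus one outside `Ω` -/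
theorem RD.uv_one (R : RD Q u v) (hneg : ogNeg Q ∉ EG Q) : oG Q (refl R.hu) * oG Q (refl R.hv) = 1 := by
  haveI : Finite V := Module.finite_of_finite F
  obtain ⟨m, hm⟩ := R.ev
  have h0 : oG Q (ogNeg Q) = 1 := by
    have h1 : (ogSS Q (ogNeg Q)) = scSS Q (-1) := by
      apply ss_ext
      · intro x
        rw [ogSS_apply, scSS_apply, ogNeg_apply, Units.smul_def, Units.val_neg, Units.val_one, neg_one_smul]
      · rfl
    rw [oG_apply, h1, outE_eq_one_iff R.nd R.hn]
    exact ⟨-1, 1, by rw [Subgroup.coe_one, map_one, mul_one]⟩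
  have hcomm : EG Q = commutator (OG Q) := eg_eq_comm R.nd R.hn (exists_sing R.nd (by have := R.hn; omega))
  have hne : (1 : F) ≠ -1 := by
    intro h
    apply R.h2
    linear_combination h
  rcases ab_cases R.h2 R.nd R.hu R.hv R.ns (ogNeg Q) with h | h | h | h
  · exfalso
    apply hneg
    rw [hcomm, ← Abelianization.ker_of]
    exact h
  · exfalso
    have h1 := oG_of_ab R.nd R.hn h
    rw [h0] at h1
    exact R.ne_u h1.symm
  · exfalso
    have h1 := oG_of_ab R.nd R.hn h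
    rw [h0] at h1
    exact R.ne_v h1.symm
  · rw [← map_mul] at h
    have h1 := oG_of_ab R.nd R.hn h
    rw [h0, map_mul] at h1
    exact h1.symm

/-- minus one in `Ω` -/
theorem RD.uv_ne_one (R : RD Q u v) (hneg : ogNeg Q ∈ EG Q) : oG Q (refl R.hu) * oG Q (refl R.hv) ≠ 1 := by
  intro h
  rw [← map_mul] at h
  rcases oG_eq_one R.nd R.hn h with h1 | h1
  · exact R.uv_not_mem h1
  · exact R.uv_not_mem ((Subgroup.mul_mem_cancel_left _ hneg).mp h1)

/-- conjugation by a semisimilarity -/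
theorem oG_conj (p : SSG Q) {w : V} (hw : Q w ≠ 0) : outE Q p * oG Q (refl hw) * (outE Q p)⁻¹ = oG Q (refl (ss_refl_ne p hw)) := by
  rw [oG_apply, oG_apply, ← map_inv, ← map_mul, ← map_mul, ss_conj_refl]

/-- nonsquare multiplier swaps the two classes -/
theorem RD.swap_u (R : RD Q u v) (p : SSG Q) (hp1 : p.1.2 = 1) (hp : ¬ IsSquare (ssK p : F)) :
    outE Q p * oG Q (refl R.hu) * (outE Q p)⁻¹ = oG Q (refl R.hv) := by
  rw [oG_conj]
  rcases R.refl_cases (ss_refl_ne p R.hu) with ⟨h, _⟩ | ⟨_, h⟩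
  · exfalso
    apply hp
    rw [ss_Q, hp1] at h
    obtain ⟨s, hs⟩ := h
    have h1 : Q u * ((ssK p : F) * Q u) = s * s := hs
    refine ⟨s / Q u, ?_⟩
    have := R.hu
    field_simp
    linear_combination h1
  · exact h

theorem RD.swap_v (R : RD Q u v) (p : SSG Q) (hp1 : p.1.2 = 1) (hp : ¬ IsSquare (ssK p : F)) :
    outE Q p * oG Q (refl R.hv) * (outE Q p)⁻¹ = oG Q (refl R.hu) := by
  rw [oG_conj]
  rcases R.refl_cases (ss_refl_ne p R.hv) with ⟨_, h⟩ | ⟨h, _⟩
  · exact h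
  · exfalso
    apply h
    rw [ss_Q, hp1]
    have h1 := nonsq_mul R.h2 R.ns hp
    have h3 : Q u * ((ssK p : F) * (1 : F ≃+* F) (Q v)) = Q u * Q v * (ssK p : F) := by
      show Q u * ((ssK p : F) * Q v) = _
      ring
    rw [h3]
    exact h1

/-- the square of a similarity -/
theorem RD.sim_sq (R : RD Q u v) (p : SSG Q) (hp1 : p.1.2 = 1) :
    outE Q p * outE Q p = 1 ∨ outE Q p * outE Q p = oG Q (refl R.hu) * oG Q (refl R.hv) := by
  obtain ⟨m, hm⟩ := R.ev
  obtain ⟨g, hg⟩ := exists_og ((scSS Q (ssK p))⁻¹ * (p * p)) (by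
      show (1 : F ≃+* F)⁻¹ * (p.1.2 * p.1.2) = 1
      rw [hp1]; rfl) (fun x => by
      rw [← map_inv]
      show Q ((ssK p)⁻¹ • p.1.1 (p.1.1 x)) = _
      rw [Units.smul_def, q_smul, ss_Q, ss_Q, hp1, Units.val_inv_eq_inv_val]
      have : (ssK p : F) ≠ 0 := Units.ne_zero _
      show (ssK p : F)⁻¹ * (ssK p : F)⁻¹ * ((ssK p : F) * ((ssK p : F) * Q x)) = Q x
      field_simp)
  have h1 : outE Q p * outE Q p = oG Q g := by
    have h2 : p * p = scSS Q (ssK p) * ogSS Q g := by rw [hg, mul_inv_cancel_left]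
    rw [← map_mul, h2, map_mul, oG_apply]
    have h3 : outE Q (scSS Q (ssK p)) = 1 := by
      rw [outE_eq_one_iff R.nd R.hn]
      exact ⟨ssK p, 1, by rw [Subgroup.coe_one, map_one, mul_one]⟩
    rw [h3, one_mul]
  rw [h1]
  apply R.det_one
  -- determinant
  obtain ⟨φ, hφ⟩ : ∃ φ : V →ₗ[F] V, ∀ x, φ x = p.1.1 x := by
    refine ⟨{ toFun := p.1.1, map_add' := ss_add p, map_smul' := fun a x => ?_ }, fun _ => rfl⟩
    show p.1.1 (a • x) = a • p.1.1 x
    rw [ss_smul, hp1]; rfl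
  have h3 := sim_det R.nd (κ := ssK p) (φ := φ) (fun x => by rw [hφ, ss_Q, hp1]; rfl)
  have h4 : (g.1 : V →ₗ[F] V) = ((ssK p : F)⁻¹) • (φ * φ) := by
    apply LinearMap.ext
    intro x
    have h5 : g x = ((scSS Q (ssK p))⁻¹ * (p * p)).1.1 x := by rw [← hg]; rfl
    rw [← map_inv] at h5
    show g x = (ssK p : F)⁻¹ • φ (φ x)
    rw [hφ, hφ, h5]
    show (ssK p)⁻¹ • p.1.1 (p.1.1 x) = _
    rw [Units.smul_def, Units.val_inv_eq_inv_val]
  show LinearMap.det _ = 1
  rw [h4, LinearMap.det_smul, map_mul, ← h3, ← mul_pow, inv_mul_cancel₀ (Units.ne_zero _), one_pow]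

/-- similarities with nonsquare multiplier are not isometries modulo the kernel -/
theorem sim_ne (hnd : ND Q) (hn : 5 ≤ Module.finrank F V) (p : SSG Q) (hp1 : p.1.2 = 1) (hp : ¬ IsSquare (ssK p : F)) (g : OG Q) :
    outE Q p ≠ oG Q g := by
  intro h
  have h1 : outE Q (p * (ogSS Q g)⁻¹) = 1 := by rw [map_mul, map_inv, h, oG_apply, mul_inv_cancel]
  rw [outE_eq_one_iff hnd hn] at h1
  obtain ⟨c, k, hk⟩ := h1
  have h2 : p = scSS Q c * ogSS Q (k.1 * g) := by
    rw [map_mul, ← mul_assoc, ← hk, inv_mul_cancel_right]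
  apply hp
  refine ⟨c, ?_⟩
  apply ssK_eq (exists_ne_q hnd (by omega))
  intro x
  rw [hp1, h2]
  show Q (c • (k.1 * g) x) = c * c * Q x
  rw [Units.smul_def, q_smul, og_q]

end main

end Cfsg.Agent.H17
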