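import Mathlib
import Cfsg.Agent.H17.OField2
import Cfsg.Agent.H17.SSGOdd

set_option autoImplicit false

/-! Field automorphisms of odd-dimensional orthogonal groups. -/

namespace Cfsg.Agent.H17

open Cfsg Cfsg.Agent.H5
open scoped MatrixGroups Matrix

section squares

variable {F F₀ : Type*} [Field F] [Field F₀] {τ : F ≃+* F} {j : F₀ →+* F}

theorem pow_neg_one (τ : F ≃+* F) {s : F} (h : τ s = -s) (i : ℕ) : (τ ^ i) s = (-1) ^ i * s := by
  induction i with
  | zero => rw [pow_zero, pow_zero, one_mul]; rfl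
  | succ i ih =>
    rw [pow_succ, RingAut.mul_apply, h, map_neg, ih]
    ring

theorem sq_descend {r : ℕ} (hτ : orderOf τ = r) (hr : Odd r) (hj : ∀ x, τ x = x ↔ ∃ y, j y = x) (h2 : (2 : F) ≠ 0) {a : F₀}
    (h : IsSquare (j a)) : IsSquare a := by
  obtain ⟨s, hs⟩ := h
  have hja : τ (j a) = j a := (hj _).mpr ⟨a, rfl⟩
  have h1 : τ s * τ s = s * s := by rw [← map_mul, ← hs, hja]
  rcases mul_self_eq_mul_self_iff.mp h1 with h3 | h3
  · obtain ⟨t, ht⟩ := (hj s).mp h3
    refine ⟨t, j.injective ?_⟩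
    rw [map_mul, ht, hs]
  · have h4 := pow_neg_one τ h3 r
    rw [← hτ, pow_orderOf_eq_one, hτ, hr.neg_one_pow] at h4
    have h5 : s = -1 * s := h4
    have h6 : 2 * s = 0 := by linear_combination h5
    have h7 := (mul_eq_zero.mp h6).resolve_left h2
    rw [h7, mul_zero, map_eq_zero] at hs
    exact ⟨0, by rw [hs, mul_zero]⟩

theorem sq_extend [Finite F] [Finite F₀] (h2 : (2 : F) ≠ 0) (hc : Nat.card F = Nat.card F₀ ^ 2) (a : F₀) : IsSquare (j a) := by
  classical
  haveI := Fintype.ofFinite F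
  haveI := Fintype.ofFinite F₀
  by_cases ha : a = 0
  · rw [ha, map_zero]; exact ⟨0, by ring⟩
  rw [FiniteField.isSquare_iff (ringChar_ne_two h2) ((map_ne_zero j).mpr ha)]
  rw [Nat.card_eq_fintype_card, Nat.card_eq_fintype_card] at hc
  have ho := FiniteField.odd_card_of_char_ne_two (ringChar_ne_two (F := F) h2)
  have ho' : Odd (Fintype.card F₀) := by
    rw [hc] at ho
    by_contra hcon
    rw [Nat.not_odd_iff_even] at hcon
    have : Even (Fintype.card F₀ ^ 2) := by rw [pow_two]; exact hcon.mul_right _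
    rw [Nat.even_iff] at this
    omega
  obtain ⟨k, hk⟩ := ho'
  have e1 : Fintype.card F / 2 = (Fintype.card F₀ - 1) * (k + 1) := by
    rw [hc, hk]
    have : (2 * k + 1) ^ 2 = 2 * (2 * k * (k + 1)) + 1 := by ring
    rw [this]
    have e2 : (2 * (2 * k * (k + 1)) + 1) / 2 = 2 * k * (k + 1) := by omega
    rw [e2, Nat.add_sub_cancel]
  rw [e1, pow_mul, ← map_pow, FiniteField.pow_card_sub_one_eq_one a ha, map_one, one_pow]

end squares

section gen

variable {F V : Type*} [Field F] [Finite F] [AddCommGroup V] [Module F V] [FiniteDimensional F V]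
  {Q : QuadraticForm F V}

theorem ss_order (hnd : ND Q) (hn : 5 ≤ Module.finrank F V) {p : SSG Q} {r : ℕ} (hr : r.Prime) (h : aE Q p ^ r = 1)
    (h1 : p.1.2 ≠ 1) : orderOf p.1.2 = r := by
  rw [← map_pow, aE_eq_one_iff hnd hn] at h
  have h2 : p.1.2 ^ r = 1 := by
    have h3 : ∀ i, (p ^ i).1.2 = p.1.2 ^ i := by
      intro i
      induction i with
      | zero => rfl
      | succ i ih => rw [pow_succ', pow_succ', ← ih]; rfl
    rw [← h3]; exact h.1
  haveI : Fact r.Prime := ⟨hr⟩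
  exact orderOf_eq_prime h2 h1

theorem uv_not_mem_eg (h2 : (2 : F) ≠ 0) (hnd : ND Q) (hn : 5 ≤ Module.finrank F V) {u v : V} (hu : Q u ≠ 0) (hv : Q v ≠ 0)
    (ns : ¬ IsSquare (Q u * Q v)) : refl hu * refl hv ∉ EG Q := by
  haveI : Finite V := Module.finite_of_finite F
  intro h
  rw [eg_eq_comm hnd hn (exists_sing hnd (by omega))] at h
  have h1 : psi Q (Q u) (refl hu * refl hv) = 1 := by
    have h2 : commutator (OG Q) ≤ (psi Q (Q u)).ker := Abelianization.commutator_subset_ker _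
    exact h2 h
  rw [map_mul, (psi_refl h2 (Q u) hu hu).1 ⟨Q u, rfl⟩, (psi_refl h2 (Q u) hu hv).2 ns] at h1
  exact absurd h1 (by decide)

theorem uv_mem_eg (hnd : ND Q) (hn : 5 ≤ Module.finrank F V) {u v : V} (hu : Q u ≠ 0) (hv : Q v ≠ 0)
    (hs : IsSquare (Q u * Q v)) : refl hu * refl hv ∈ EG Q := by
  haveI : Finite V := Module.finite_of_finite F
  rw [eg_eq_comm hnd hn (exists_sing hnd (by omega)), ← Abelianization.ker_of, MonoidHom.mem_ker, map_mul,
    ab_refl_eq hnd hu hv hs, ab_refl_sq]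

theorem dg_cases (h2 : (2 : F) ≠ 0) (hnd : ND Q) (hn : 5 ≤ Module.finrank F V) {u v : V} (hu : Q u ≠ 0) (hv : Q v ≠ 0)
    (ns : ¬ IsSquare (Q u * Q v)) {g : OG Q} (hg : g ∈ DG Q) : g ∈ EG Q ∨ g * (refl hu * refl hv)⁻¹ ∈ EG Q := by
  haveI : Finite V := Module.finite_of_finite F
  have hd := odet_dg hg
  have hne : (1 : F) ≠ -1 := by
    intro h
    apply h2
    linear_combination h
  rw [eg_eq_comm hnd hn (exists_sing hnd (by omega))]
  have key : ∀ k : OG Q, Abelianization.of g = Abelianization.of k → g * k⁻¹ ∈ commutator (OG Q) := by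
    intro k hk
    rw [← Abelianization.ker_of, MonoidHom.mem_ker, map_mul, map_inv, hk, mul_inv_cancel]
  have hdet : ∀ k ∈ commutator (OG Q), odet Q k = 1 := by
    intro k hk
    have h3 : commutator (OG Q) ≤ (odet Q).ker := by
      rw [commutator_def, Subgroup.commutator_le]
      intro a _ b _
      rw [MonoidHom.mem_ker, commutatorElement_def, map_mul, map_mul, map_mul]
      have e1 : odet Q a * odet Q a⁻¹ = 1 := by rw [← map_mul, mul_inv_cancel, map_one]
      have e2 : odet Q b * odet Q b⁻¹ = 1 := by rw [← map_mul, mul_inv_cancel, map_one]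
      linear_combination (odet Q b * odet Q b⁻¹) * e1 + e2
    exact h3 hk
  rcases ab_cases h2 hnd hu hv ns g with h | h | h | h
  · left
    have := key 1 (h.trans (map_one _).symm)
    rwa [inv_one, mul_one] at this
  · exfalso
    have h3 := hdet _ (key _ h)
    rw [map_mul, hd, refl_inv, odet_refl] at h3
    exact hne (by linear_combination -h3)
  · exfalso
    have h3 := hdet _ (key _ h)
    rw [map_mul, hd, refl_inv, odet_refl] at h3
    exact hne (by linear_combination -h3)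
  · right
    exact key _ (h.trans (map_mul _ _ _).symm)

theorem aE_og_inn_iff (hnd : ND Q) (hn : 5 ≤ Module.finrank F V) (g : OG Q) :
    aE Q (ogSS Q g) ∈ Inn (PE Q) ↔ oG Q g = 1 := by
  rw [oG_apply, outE_apply, QuotientGroup.eq_one_iff]

/-- odd dimension: similarities are scalar multiples of rotations -/
theorem lin_odd (h2 : (2 : F) ≠ 0) (hnd : ND Q) {k : ℕ} (hk : Module.finrank F V = 2 * k + 1) (p : SSG Q) (hp : p.1.2 = 1) :
    ∃ (c : Fˣ) (g : OG Q), g ∈ DG Q ∧ p = scSS Q c * ogSS Q g := by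
  have hne : ∃ x, Q x ≠ 0 := exists_ne_q hnd (by omega)
  have h1 : ssl Q hne ⟨p, hp⟩ ∈ (powMonoidHom 2 : Fˣ →* Fˣ).range := by
    rw [← ssl_range_odd hnd hne hk]
    exact ⟨_, rfl⟩
  obtain ⟨c, hc⟩ := h1
  have hc' : (c : F) * c = ssK p := by
    have := congrArg Units.val hc
    rw [powMonoidHom_apply, Units.val_pow_eq_pow_val, pow_two] at this
    exact this
  obtain ⟨g, hg⟩ := exists_og ((scSS Q c)⁻¹ * p) (by
    show (1 : F ≃+* F)⁻¹ * p.1.2 = 1
    rw [hp]; rfl) (fun x => by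
    rw [← map_inv]
    show Q (c⁻¹ • p.1.1 x) = _
    rw [Units.smul_def, q_smul, ss_Q, hp, ← hc', Units.val_inv_eq_inv_val]
    have : (c : F) ≠ 0 := Units.ne_zero _
    show (c : F)⁻¹ * (c : F)⁻¹ * ((c : F) * c * Q x) = Q x
    field_simp)
  have hpg : p = scSS Q c * ogSS Q g := by rw [hg, mul_inv_cancel_left]
  have hneg : odet Q (ogNeg Q) = -1 := by
    have h5 : ((ogNeg Q).1 : V →ₗ[F] V) = (-1 : F) • LinearMap.id := by
      apply LinearMap.ext
      intro x
      show -x = (-1 : F) • x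
      module
    show LinearMap.det _ = _
    rw [h5, LinearMap.det_smul, LinearMap.det_id, hk, mul_one, pow_succ, pow_mul, neg_one_sq, one_pow, one_mul]
  by_cases hd : odet Q g = 1
  · exact ⟨c, g, (mem_dg_iff h2 hnd g).mpr hd, hpg⟩
  · refine ⟨c * (-1), ogNeg Q * g, (mem_dg_iff h2 hnd _).mpr ?_, ?_⟩
    · have h6 : odet Q g * odet Q g = 1 := by
        have h7 := sim_det hnd (κ := 1) (φ := (g.1 : V →ₗ[F] V)) (fun x => by rw [one_mul]; exact og_q g x)
        rw [one_pow] at h7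
        exact h7.symm
      have h8 : odet Q g = -1 := by
        rcases mul_self_eq_one_iff.mp h6 with h9 | h9
        · exact absurd h9 hd
        · exact h9
      rw [map_mul, hneg, h8]; ring
    · rw [hpg]
      apply ss_ext
      · intro x
        show c • g x = (c * -1 : Fˣ) • (-(g x))
        rw [Units.smul_def, Units.smul_def, Units.val_mul, Units.val_neg, Units.val_one]
        module
      · rfl

end gen

section odd

variable {F F₀ : Type*} [Field F] [Finite F] [Field F₀] [Finite F₀] {m : ℕ} {j : F₀ →+* F}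

omit [Finite F] [Finite F₀] in
theorem qOdd_jV (v : Unit ⊕ (Fin m ⊕ Fin m) → F₀) : j (qOdd m F₀ v) = qOdd m F (jV j v) := by
  rw [qOdd_coe, qOdd_coe, quadFormOdd, quadFormOdd]
  simp only [map_add, map_sum, map_mul, map_pow]
  rfl

theorem card_odd_ι (m : ℕ) : Fintype.card (Unit ⊕ (Fin m ⊕ Fin m)) = 2 * m + 1 := by
  simp only [Fintype.card_sum, Fintype.card_unique, Fintype.card_fin]; omega

theorem fr_odd (F : Type*) [Field F] (m : ℕ) : Module.finrank F (Unit ⊕ (Fin m ⊕ Fin m) → F) = 2 * m + 1 := by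
  rw [Module.finrank_fintype_fun_eq_card, card_odd_ι]

theorem two_ne_zero_of_emb (j : F₀ →+* F) (h2 : (2 : F) ≠ 0) : (2 : F₀) ≠ 0 := by
  intro h
  apply h2
  have := congrArg j h
  rwa [map_ofNat, map_zero] at this

theorem conj_std_odd (h2 : (2 : F) ≠ 0) (hm : 2 ≤ m) (p : SSG (qOdd m F)) {r : ℕ} (hτ : orderOf p.1.2 = r)
    (hr : 0 < r) (hj : ∀ x, p.1.2 x = x ↔ ∃ y, j y = x) (h : aE _ p ^ r = 1) :
    ∃ k : SSG (qOdd m F), k.1.2 = 1 ∧ aE _ p = aE _ k * aE _ (stdS (qOdd m F) p.1.2 (qOdd_svI _)) * (aE _ k)⁻¹ := by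
  have hnd : ND (qOdd m F) := nd_odd h2
  have hn : 5 ≤ Module.finrank F (Unit ⊕ (Fin m ⊕ Fin m) → F) := by rw [fr_odd]; omega
  obtain ⟨y, hy⟩ := ss_normalize hnd hn p hτ hr h
  have h2₀ := two_ne_zero_of_emb j h2
  obtain ⟨b, e, hb1, hb2⟩ := ss_conj_std (exists_ne_q hnd (by omega)) (scSS _ y * p) (r := r) (j := j) hτ hr hj hy (qOdd m F)
    (Q1 := qOdd m F₀) qOdd_jV (by
    rintro Q₀ ⟨b, d, hbd⟩
    have hnd₀ : ND Q₀ := nd_of_bd hnd b d hbd
    obtain ⟨c, hc, φ, hφ⟩ := class_odd h2₀ m (Q := qOdd m F₀) (Q' := Q₀) (nd_odd h2₀) hnd₀ (fr_odd F₀ m) (fr_odd F₀ m)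
    obtain ⟨g, hg⟩ := mulVec_of_lin hc (nd_odd h2₀) hφ
    exact ⟨c, hc, g, hg⟩)
  have hbm : b ∈ Geo.quadSimilarityGroup (F := F) ⇑(qOdd m F) := ⟨e, hb2⟩
  refine ⟨goSS _ ⟨b, hbm⟩, rfl, ?_⟩
  have h3 : aE (qOdd m F) p = aE _ (scSS _ y * p) := by
    have : aE (qOdd m F) (scSS _ y) = 1 := by
      have h4 : scSS (qOdd m F) y ∈ (aE (qOdd m F)).ker := by rw [aE_ker hnd hn]; exact ⟨y, rfl⟩
      exact h4
    rw [map_mul, this, one_mul]
  rw [h3, eq_mul_inv_iff_mul_eq, ← map_mul, ← map_mul]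
  congr 1
  apply ss_ext
  · intro x
    exact hb1 x
  · show (1 * p.1.2) * 1 = 1 * p.1.2
    rw [mul_one]

end odd

end Cfsg.Agent.H17
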