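import Mathlib
import Cfsg.Agent.H17.OField3

set_option autoImplicit false

/-! Field automorphisms of orthogonal groups: bookkeeping between `PΩ` and `PE`. -/

namespace Cfsg.Agent.H17

open Cfsg Cfsg.Agent.H5
open scoped MatrixGroups Matrix

section gen

variable {F : Type*} [Field F] [Finite F] {ι : Type} [Fintype ι] [DecidableEq ι] {Q : QuadraticForm F (ι → F)}

theorem aE_sc (hnd : ND Q) (hn : 5 ≤ Module.finrank F (ι → F)) (y : Fˣ) : aE Q (scSS Q y) = 1 := by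
  have h4 : scSS Q y ∈ (aE Q).ker := by rw [aE_ker hnd hn]; exact ⟨y, rfl⟩
  exact h4

/-- the form of a field automorphism -/
theorem field_form_O (hnd : ND Q) (hn : 5 ≤ Fintype.card ι) (hQσ : ∀ (σ : F ≃+* F) x, Q (svI σ x) = σ (Q x))
    (hsurj : Function.Surjective (aE Q)) {x : MulAut (POmega F ⇑Q)} (hx : IsFieldAutClassPOmega ⇑Q x) :
    ∃ p : SSG Q, p.1.2 ≠ 1 ∧ MulAut.congr (pomEquiv hnd hn) x = aE Q p ∧
      ∃ a : SSG Q, p = a * stdS Q p.1.2 (hQσ _) * a⁻¹ := by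
  obtain ⟨α, φ, σ, hσ, hφ, h⟩ := hx
  rw [fieldPOm_iff hnd hn (hQσ σ)] at hφ
  obtain ⟨a, ha⟩ := hsurj (MulAut.congr (pomEquiv hnd hn) α)
  have h1 : (a⁻¹ * stdS Q σ (hQσ σ) * a).1.2 = σ := by
    show a.1.2⁻¹ * σ * a.1.2 = σ
    rw [mul_assoc, fP_comm σ, inv_mul_cancel_left]
  refine ⟨a⁻¹ * stdS Q σ (hQσ σ) * a, by rw [h1]; exact hσ, ?_, a⁻¹, ?_⟩
  · rw [map_mul, map_mul, map_inv, ha, ← hφ, ← h, map_mul, map_mul, map_inv]
    group
  · rw [inv_inv]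
    congr 2
    exact ss_ext (fun x => by rw [stdS_apply, stdS_apply, h1]) (by rw [stdS_snd, stdS_snd, h1])

theorem isConjUnder_trans' {X : Type*} [Group X] {H : Subgroup X} {x y z : X} (h1 : ∃ k ∈ H, x = k * z * k⁻¹) (h2 : ∃ k ∈ H, y = k * z * k⁻¹) :
    IsConjUnder H x y := by
  obtain ⟨k, hk, rfl⟩ := h1
  obtain ⟨l, hl, rfl⟩ := h2
  exact ⟨l * k⁻¹, H.mul_mem hl (H.inv_mem hk), by group⟩

/-- existence of the fixed field data -/
theorem exists_fixF (F : Type*) [Field F] [Finite F] {σ : F ≃+* F} {r : ℕ} (hr : r ≠ 0) (hσ : orderOf σ = r) :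
    ∃ (F₀ : Type) (_ : Field F₀) (_ : Finite F₀) (j : F₀ →+* F), ∀ x, σ x = x ↔ ∃ y, j y = x := by
  classical
  haveI := Fintype.ofFinite F
  obtain ⟨p, hp⟩ := CharP.exists F
  haveI : Fact p.Prime := ⟨CharP.char_is_prime F p⟩
  obtain ⟨⟨f, hf0⟩, -, hF⟩ := FiniteField.card F p
  simp only [PNat.mk_coe] at hF
  have hF' : Nat.card F = p ^ f := by rw [Nat.card_eq_fintype_card, hF]
  have hrf : r ∣ f := by
    have h := (ringAut_cyclic (F := F) p f (by omega) hF').2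
    rw [← h, ← hσ]
    exact orderOf_dvd_natCard σ
  have hfr : f / r ≠ 0 := by
    obtain ⟨k, hk⟩ := hrf
    rw [hk, Nat.mul_div_cancel_left _ (Nat.pos_of_ne_zero hr)]
    rintro rfl
    rw [mul_zero] at hk
    omega
  obtain ⟨_, j, hj⟩ := exists_fixed_emb hF' σ hσ (GaloisField p (f / r)) (GaloisField.card p (f / r) hfr)
  exact ⟨GaloisField p (f / r), inferInstance, inferInstance, j, hj⟩

end gen

section odd

variable {F : Type*} [Field F] [Finite F] {m : ℕ}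

theorem surj_odd (h2 : (2 : F) ≠ 0) (hm : 2 ≤ m) : Function.Surjective (aE (qOdd m F)) :=
  aE_surj (nd_odd h2) (by rw [fr_odd]; omega) (Or.inl fun R _ => by rw [fr_odd]; omega)

theorem pgo_iff (F : Type*) [Field F] [Finite F] {ι : Type} [Fintype ι] [DecidableEq ι] {Q : QuadraticForm F (ι → F)}
    (hnd : ND Q) (hn : 5 ≤ Fintype.card ι) (β : MulAut (POmega F ⇑Q)) :
    β ∈ autSubgroupOf (fun β => IsSimilarityInducedAutPOmega ⇑Q β) ↔ MulAut.congr (pomEquiv hnd hn) β ∈ HS Q ⊤ :=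
  autSub_iff hnd hn ⊤ (fun β => IsSimilarityInducedAutPOmega ⇑Q β) (fun β => by
    unfold IsSimilarityInducedAutPOmega
    constructor
    · rintro ⟨g, h1, h2⟩
      exact ⟨g, h1, Subgroup.mem_top _, h2⟩
    · rintro ⟨g, h1, _, h2⟩
      exact ⟨g, h1, h2⟩) β

theorem coset_odd (h2 : (2 : F) ≠ 0) (hm : 2 ≤ m) (x δ : MulAut (POmega F ⇑(qOdd m F))) (hx : IsFieldAutClassPOmega ⇑(qOdd m F) x)
    {r : ℕ} (hr : r.Prime) (hxr : orderOf x = r) (hδ : δ ∈ autSubgroupOf (fun β => IsSimilarityInducedAutPOmega ⇑(qOdd m F) β)) :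
    orderOf (δ * x) = r ↔ IsConjUnder (autSubgroupOf (fun β => IsSimilarityInducedAutPOmega ⇑(qOdd m F) β)) x (δ * x) := by
  have hnd : ND (qOdd m F) := nd_odd h2
  have hn : 5 ≤ Fintype.card (Unit ⊕ (Fin m ⊕ Fin m)) := by rw [card_odd_ι]; omega
  have hn' : 5 ≤ Module.finrank F (Unit ⊕ (Fin m ⊕ Fin m) → F) := by rw [fr_odd]; omega
  obtain ⟨p, hp1, hp2, _⟩ := field_form_O hnd hn qOdd_svI (surj_odd h2 hm) hx
  rw [pgo_iff F hnd hn, mem_HS_top] at hδ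
  obtain ⟨d, hd1, hd2⟩ := hδ
  have hord : ∀ y, orderOf (MulAut.congr (pomEquiv hnd hn) y) = orderOf y := fun y =>
    orderOf_injective (MulAut.congr (pomEquiv hnd hn)).toMonoidHom (MulAut.congr (pomEquiv hnd hn)).injective y
  have hxr' : aE (qOdd m F) p ^ r = 1 := by rw [← hp2, ← hxr, ← hord, pow_orderOf_eq_one]
  have hτ := ss_order hnd hn' hr hxr' hp1
  obtain ⟨F₀, _, _, j, hj⟩ := exists_fixF F hr.ne_zero hτ
  obtain ⟨k, hk1, hk2⟩ := conj_std_odd h2 hm p hτ hr.pos hj hxr'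
  rw [isConjUnder_equiv (MulAut.congr (pomEquiv hnd hn)) (pgo_iff F hnd hn)]
  constructor
  · intro h
    have h1 : aE (qOdd m F) (d * p) ^ r = 1 := by
      rw [map_mul, hd2, ← hp2, ← map_mul, ← map_pow, ← h, pow_orderOf_eq_one, map_one]
    have hdp : (d * p).1.2 = p.1.2 := by
      show d.1.2 * p.1.2 = p.1.2
      rw [hd1, one_mul]
    obtain ⟨l, hl1, hl2⟩ := conj_std_odd h2 hm (d * p) (by rw [hdp]; exact hτ) hr.pos (by rw [hdp]; exact hj) h1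
    have hstd : stdS (qOdd m F) (d * p).1.2 (qOdd_svI _) = stdS (qOdd m F) p.1.2 (qOdd_svI _) :=
      ss_ext (fun x => by rw [stdS_apply, stdS_apply, hdp]) (by rw [stdS_snd, stdS_snd, hdp])
    rw [hstd] at hl2
    rw [map_mul, hp2, ← hd2, ← map_mul]
    exact isConjUnder_trans' ⟨_, mem_HS_top.mpr ⟨k, hk1, rfl⟩, hk2⟩ ⟨_, mem_HS_top.mpr ⟨l, hl1, rfl⟩, hl2⟩
  · rintro ⟨h, _, hh⟩
    rw [← hord, hh, orderOf_transport, hord, hxr]

end odd

end Cfsg.Agent.H17
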