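import Mathlib
import Cfsg.Agent.H17.OField4

set_option autoImplicit false

/-! Odd-dimensional orthogonal groups: class splitting of field automorphisms. -/

namespace Cfsg.Agent.H17

open Cfsg Cfsg.Agent.H5
open scoped MatrixGroups Matrix

section rat

variable {F F₀ : Type*} [Field F] [Field F₀] {ι : Type*} [Fintype ι] [DecidableEq ι]
  {Q : QuadraticForm F (ι → F)} {Q₀ : QuadraticForm F₀ (ι → F₀)} {j : F₀ →+* F}

/-- `h` extends `g` -/
def JR (j : F₀ →+* F) (g : OG Q₀) (h : OG Q) : Prop := ∀ v, h (jV j v) = jV j (g v)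

theorem JR.one : JR j (1 : OG Q₀) (1 : OG Q) := fun _ => rfl

theorem JR.mul {g g' : OG Q₀} {h h' : OG Q} (h1 : JR j g h) (h2 : JR j g' h') : JR j (g * g') (h * h') := by
  intro v
  rw [og_mul, og_mul, h2, h1]

theorem JR.inv {g : OG Q₀} {h : OG Q} (h1 : JR j g h) : JR j g⁻¹ h⁻¹ := by
  intro v
  have h2 := h1 (g⁻¹ v)
  rw [og_inv'] at h2
  rw [← h2, og_inv]

theorem JR.refl (hext : ∀ v, j (Q₀ v) = Q (jV j v)) {u : ι → F₀} (hu : Q₀ u ≠ 0) :
    ∃ hu' : Q (jV j u) ≠ 0, JR j (H5.refl hu) (H5.refl hu') := by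
  refine ⟨by rw [← hext]; exact (map_ne_zero j).mpr hu, fun v => ?_⟩
  rw [refl_apply, refl_apply, ← hext, ← ext_pB hext, ← map_inv₀, ← map_mul, ← jV_smul]
  ext i
  simp [jV]

theorem DG_ext (hext : ∀ v, j (Q₀ v) = Q (jV j v)) (S : Subgroup (OG Q))
    (hS : ∀ (u v : ι → F₀) (_ : Q₀ u ≠ 0) (_ : Q₀ v ≠ 0) (hu' : Q (jV j u) ≠ 0) (hv' : Q (jV j v) ≠ 0), H5.refl hu' * H5.refl hv' ∈ S)
    {g : OG Q₀} (hg : g ∈ DG Q₀) : ∃ h ∈ S, JR j g h := by
  unfold DG at hg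
  induction hg using Subgroup.closure_induction with
  | mem x hx =>
    obtain ⟨u, v, hu, hv, rfl⟩ := hx
    obtain ⟨hu', h1⟩ := JR.refl hext hu
    obtain ⟨hv', h2⟩ := JR.refl hext hv
    exact ⟨_, hS u v hu hv hu' hv', h1.mul h2⟩
  | one => exact ⟨1, one_mem _, JR.one⟩
  | mul a b _ _ ha hb =>
    obtain ⟨h1, m1, r1⟩ := ha
    obtain ⟨h2, m2, r2⟩ := hb
    exact ⟨_, mul_mem m1 m2, r1.mul r2⟩
  | inv a _ ha =>
    obtain ⟨h1, m1, r1⟩ := ha
    exact ⟨_, inv_mem m1, r1.inv⟩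

end rat

section comm

variable {F F₀ : Type*} [Field F] [Field F₀] [Finite F] [Finite F₀] {ι : Type} [Fintype ι] [DecidableEq ι]
  {Q : QuadraticForm F (ι → F)} {Q₀ : QuadraticForm F₀ (ι → F₀)} {j : F₀ →+* F}

omit [Finite F] [Finite F₀] in
/-- two linear maps agreeing on rational vectors agree -/
theorem lin_ext_jV {f g : (ι → F) →ₗ[F] (ι → F)} (h : ∀ v : ι → F₀, f (jV j v) = g (jV j v)) : f = g := by
  apply (Pi.basisFun F ι).ext
  intro i
  rw [Pi.basisFun_apply, ← jV_single j i, h]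

/-- rational similarities which are scalar times rational isometry -/
theorem goSS_of_JR (g : Geo.quadSimilarityGroup (F := F) ⇑Q) {k : GL ι F₀} (hk : g.1 = jI ι j k) {c : F₀ˣ} {g₀ : OG Q₀}
    (hg : ∀ v, (k : Matrix ι ι F₀) *ᵥ v = c • g₀ v) {h : OG Q} (hh : JR j g₀ h) :
    goSS Q g = scSS Q (Units.map (j : F₀ →* F) c) * ogSS Q h := by
  apply ss_ext
  · have h1 : (g.1 : Matrix ι ι F).mulVecLin = (j (c : F₀)) • (h.1 : (ι → F) →ₗ[F] (ι → F)) := by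
      apply lin_ext_jV (j := j)
      intro v
      rw [Matrix.mulVecLin_apply, hk, jI_mulVec, hg]
      show _ = j (c : F₀) • h (jV j v)
      rw [hh, Units.smul_def, jV_smul]
    intro x
    exact congrArg (fun f : (ι → F) →ₗ[F] (ι → F) => f x) h1
  · rfl

theorem fixed_refl_comm (hnd : ND Q) (hn : 5 ≤ Module.finrank F (ι → F)) {σ : F ≃+* F} (h : ∀ x, Q (svI σ x) = σ (Q x))
    (hj : ∀ y, σ (j y) = j y) (u : ι → F₀) (hu : Q (jV j u) ≠ 0) :
    stdS Q σ h * ogSS Q (H5.refl hu) = ogSS Q (H5.refl hu) * stdS Q σ h := by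
  have h1 := ss_conj_refl (stdS Q σ h) hu
  have h2 : ogSS Q (refl (ss_refl_ne (stdS Q σ h) hu)) = ogSS Q (H5.refl hu) := by
    congr 1
    have : (stdS Q σ h).1.1 (jV j u) = jV j u := svI_jV hj u
    apply og_ext
    intro x
    rw [refl_apply, refl_apply, this]
  rw [h2, mul_inv_eq_iff_eq_mul] at h1
  exact h1

end comm

section odd

variable {F F₀ : Type*} [Field F] [Finite F] [Field F₀] [Finite F₀] {m : ℕ} {j : F₀ →+* F}

theorem aE_eg_mem_inn {V : Type*} [AddCommGroup V] [Module F V] [FiniteDimensional F V] {Q : QuadraticForm F V} {g : OG Q} (hg : g ∈ EG Q) : aE Q (ogSS Q g) ∈ Inn (PE Q) := by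
  rw [aE_ogSS ⟨g, hg⟩]
  exact ⟨_, rfl⟩

theorem inn_le_HS (hnd : ND (qOdd m F)) (hn : 5 ≤ Module.finrank F (Unit ⊕ (Fin m ⊕ Fin m) → F)) : Inn (PE (qOdd m F)) ≤ HS (qOdd m F) ⊤ := by
  rintro _ ⟨x, rfl⟩
  obtain ⟨g, rfl⟩ := QuotientGroup.mk_surjective x
  rw [mem_HS_top]
  exact ⟨ogSS _ g.1, rfl, aE_ogSS g⟩

/-- cosets in odd dimension -/
theorem coset_cases_odd (h2 : (2 : F) ≠ 0) (hm : 2 ≤ m) {u v : Unit ⊕ (Fin m ⊕ Fin m) → F} (hu : qOdd m F u ≠ 0) (hv : qOdd m F v ≠ 0)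
    (ns : ¬ IsSquare (qOdd m F u * qOdd m F v)) {α : MulAut (PE (qOdd m F))} (hα : α ∈ HS (qOdd m F) ⊤) :
    α ∈ Inn (PE (qOdd m F)) ∨ α * (aE _ (ogSS (qOdd m F) (H5.refl hu * H5.refl hv)))⁻¹ ∈ Inn (PE (qOdd m F)) := by
  have hnd : ND (qOdd m F) := nd_odd h2
  have hn : 5 ≤ Module.finrank F (Unit ⊕ (Fin m ⊕ Fin m) → F) := by rw [fr_odd]; omega
  obtain ⟨p, hp, rfl⟩ := mem_HS_top.mp hα
  obtain ⟨c, g, hg, rfl⟩ := lin_odd h2 hnd (fr_odd F m) p hp
  rw [map_mul, aE_sc hnd hn, one_mul, ← map_inv, ← map_mul, ← map_inv, ← map_mul]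
  rcases dg_cases h2 hnd hn hu hv ns hg with h | h
  · exact Or.inl (aE_eg_mem_inn h)
  · exact Or.inr (aE_eg_mem_inn h)

theorem uv_not_inn_odd (h2 : (2 : F) ≠ 0) (hm : 2 ≤ m) {u v : Unit ⊕ (Fin m ⊕ Fin m) → F} (hu : qOdd m F u ≠ 0) (hv : qOdd m F v ≠ 0)
    (ns : ¬ IsSquare (qOdd m F u * qOdd m F v)) : aE _ (ogSS (qOdd m F) (H5.refl hu * H5.refl hv)) ∉ Inn (PE (qOdd m F)) := by
  have hnd : ND (qOdd m F) := nd_odd h2
  have hn : 5 ≤ Module.finrank F (Unit ⊕ (Fin m ⊕ Fin m) → F) := by rw [fr_odd]; omega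
  rw [aE_og_inn_iff hnd hn]
  intro h
  rcases oG_eq_one hnd hn h with h1 | h1
  · exact uv_not_mem_eg h2 hnd hn hu hv ns h1
  · have h3 := odet_EG hnd hn h1
    have hneg : odet (qOdd m F) (ogNeg (qOdd m F)) = -1 := by
      have h5 : ((ogNeg (qOdd m F)).1 : (Unit ⊕ (Fin m ⊕ Fin m) → F) →ₗ[F] (Unit ⊕ (Fin m ⊕ Fin m) → F)) = (-1 : F) • LinearMap.id := by
        apply LinearMap.ext
        intro x
        show -x = (-1 : F) • x
        module
      show LinearMap.det _ = _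
      rw [h5, LinearMap.det_smul, LinearMap.det_id, fr_odd, mul_one, pow_succ, pow_mul, neg_one_sq, one_pow, one_mul]
    rw [map_mul, map_mul, hneg, odet_refl, odet_refl] at h3
    apply h2
    linear_combination -h3

/-- class splitting of the standard field automorphism -/
theorem split_std_odd (h2 : (2 : F) ≠ 0) (hm : 2 ≤ m) {σ : F ≃+* F} {r : ℕ} (hσ : orderOf σ = r) (hr : 0 < r)
    (hj : ∀ x, σ x = x ↔ ∃ y, j y = x) :
    (Odd r → splitClassCount (HS (qOdd m F) ⊤) (Inn (PE (qOdd m F))) (aE _ (stdS (qOdd m F) σ (qOdd_svI σ))) = 1) ∧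
    (Nat.card F = Nat.card F₀ ^ 2 → splitClassCount (HS (qOdd m F) ⊤) (Inn (PE (qOdd m F))) (aE _ (stdS (qOdd m F) σ (qOdd_svI σ))) = 2) := by
  have hnd : ND (qOdd m F) := nd_odd h2
  have hn : 5 ≤ Module.finrank F (Unit ⊕ (Fin m ⊕ Fin m) → F) := by rw [fr_odd]; omega
  have h2₀ := two_ne_zero_of_emb j h2
  have hnd₀ : ND (qOdd m F₀) := nd_odd h2₀
  have hn₀ : 5 ≤ Module.finrank F₀ (Unit ⊕ (Fin m ⊕ Fin m) → F₀) := by rw [fr_odd]; omega
  have hj' : ∀ y, σ (j y) = j y := fun y => (hj _).mpr ⟨y, rfl⟩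
  haveI := Inn_normal (G := PE (qOdd m F))
  have hext : ∀ v, j (qOdd m F₀ v) = qOdd m F (jV j v) := qOdd_jV
  constructor
  · intro ho
    rw [splitClassCount_eq (inn_le_HS hnd hn), Subgroup.relIndex_eq_one]
    intro α hα
    obtain ⟨d, u₀, v₀, hd, hu₀, hv₀⟩ := exists_two h2₀ hnd₀ (by omega)
    have hd0 : d ≠ 0 := by rintro rfl; exact hd IsSquare.zero
    obtain ⟨hu', ju⟩ := JR.refl hext (u := u₀) (by rw [hu₀]; exact one_ne_zero)
    obtain ⟨hv', jv⟩ := JR.refl hext (u := v₀) (by rw [hv₀]; exact hd0)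
    have ns : ¬ IsSquare (qOdd m F (jV j u₀) * qOdd m F (jV j v₀)) := by
      rw [← hext, ← hext, hu₀, hv₀, map_one, one_mul]
      intro h
      exact hd (sq_descend hσ ho hj h2 h)
    have hw : aE _ (ogSS (qOdd m F) (H5.refl hu' * H5.refl hv')) ∈ HS (qOdd m F) ⊤ ⊓ Subgroup.centralizer {aE _ (stdS (qOdd m F) σ (qOdd_svI σ))} := by
      refine ⟨mem_HS_top.mpr ⟨_, rfl, rfl⟩, Subgroup.mem_centralizer_singleton_iff.mpr ?_⟩
      have e : ogSS (qOdd m F) (H5.refl hu' * H5.refl hv') * stdS (qOdd m F) σ (qOdd_svI σ) =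
          stdS (qOdd m F) σ (qOdd_svI σ) * ogSS (qOdd m F) (H5.refl hu' * H5.refl hv') := by
        rw [map_mul, mul_assoc, ← fixed_refl_comm hnd hn _ hj' v₀ hv', ← mul_assoc,
          ← fixed_refl_comm hnd hn _ hj' u₀ hu', mul_assoc]
      rw [← map_mul (aE (qOdd m F)), e, map_mul (aE (qOdd m F))]
    rcases coset_cases_odd h2 hm hu' hv' ns hα with h | h
    · exact Subgroup.mem_sup_left h
    · have := Subgroup.mul_mem _ (Subgroup.mem_sup_left (T := HS (qOdd m F) ⊤ ⊓ Subgroup.centralizer {aE _ (stdS (qOdd m F) σ (qOdd_svI σ))}) h) (Subgroup.mem_sup_right (S := Inn (PE (qOdd m F))) hw)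
      rwa [inv_mul_cancel_right] at this
  · intro hc
    rw [splitClassCount_eq (inn_le_HS hnd hn)]
    have hle : HS (qOdd m F) ⊤ ⊓ Subgroup.centralizer {aE _ (stdS (qOdd m F) σ (qOdd_svI σ))} ≤ Inn (PE (qOdd m F)) := by
      rintro α ⟨h1, h3⟩
      obtain ⟨g, _, rfl⟩ := mem_HS.mp h1
      replace h3 := Subgroup.mem_centralizer_singleton_iff.mp h3
      rw [comm_std_iff hnd hn hσ hr] at h3
      obtain ⟨c, k, hk, hg⟩ := h3
      obtain ⟨k0, hk0⟩ := exists_descendI hj hk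
      have hk0m : k0 ∈ Geo.quadSimilarityGroup (F := F₀) ⇑(qOdd m F₀) :=
        mem_of_jI hext (exists_ne_q hnd₀ (by omega)) (by rw [hk0]; exact k.2)
      obtain ⟨c₀, g₀, hg₀, he⟩ := lin_odd h2₀ hnd₀ (fr_odd F₀ m) (goSS (qOdd m F₀) ⟨k0, hk0m⟩) rfl
      obtain ⟨h, hh, hJ⟩ := DG_ext (Q := qOdd m F) hext (EG (qOdd m F)) (by
        intro u v hu hv hu' hv'
        apply uv_mem_eg hnd hn
        rw [← hext, ← hext, ← map_mul]
        exact sq_extend h2 hc _) hg₀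
      have e1 := goSS_of_JR k hk0.symm (c := c₀) (g₀ := g₀) (fun v => by
        have := congrArg (fun p : SSG (qOdd m F₀) => p.1.1 v) he
        exact this) hJ
      have e2 : g = ⟨sI _ c, sI_mem_qs (qOdd m F) c⟩ * k := Subtype.ext hg
      rw [e2, map_mul, map_mul, aE_goSS_sI hnd hn, one_mul, e1, map_mul, aE_sc hnd hn, one_mul]
      exact aE_eg_mem_inn hh
    rw [sup_eq_left.mpr hle]
    obtain ⟨d, u₀, v₀, hd, hu₀, hv₀⟩ := exists_two h2 hnd (by omega)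
    have hd0 : d ≠ 0 := by rintro rfl; exact hd IsSquare.zero
    have hu' : qOdd m F u₀ ≠ 0 := by rw [hu₀]; exact one_ne_zero
    have hv' : qOdd m F v₀ ≠ 0 := by rw [hv₀]; exact hd0
    have ns : ¬ IsSquare (qOdd m F u₀ * qOdd m F v₀) := by rw [hu₀, hv₀, one_mul]; exact hd
    have hw : aE _ (ogSS (qOdd m F) (H5.refl hu' * H5.refl hv')) ∈ HS (qOdd m F) ⊤ := mem_HS_top.mpr ⟨_, rfl, rfl⟩
    have hwn := uv_not_inn_odd h2 hm hu' hv' ns
    rw [Subgroup.relIndex, Subgroup.index_eq_two_iff]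
    refine ⟨⟨_, hw⟩⁻¹, fun b => ?_⟩
    simp only [Subgroup.mem_subgroupOf, Subgroup.coe_mul, Subgroup.coe_inv]
    by_cases hb : (b : MulAut (PE (qOdd m F))) ∈ Inn (PE (qOdd m F))
    · right
      refine ⟨hb, fun h => hwn ?_⟩
      have h3 := (Inn (PE (qOdd m F))).mul_mem ((Inn (PE (qOdd m F))).inv_mem h) hb
      have h4 : ((b : MulAut (PE (qOdd m F))) * (aE _ (ogSS (qOdd m F) (H5.refl hu' * H5.refl hv')))⁻¹)⁻¹ * b = aE _ (ogSS (qOdd m F) (H5.refl hu' * H5.refl hv')) := by group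
      rwa [h4] at h3
    · left
      refine ⟨?_, hb⟩
      rcases coset_cases_odd h2 hm hu' hv' ns b.2 with h | h
      · exact absurd h hb
      · exact h

end odd

end Cfsg.Agent.H17
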