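import Mathlib
import Cfsg.Agent.H17.OField5

set_option autoImplicit false

/-! Odd-dimensional orthogonal groups: field automorphisms of prime order. -/

namespace Cfsg.Agent.H17

open Cfsg Cfsg.Agent.H5
open scoped MatrixGroups Matrix

theorem sub_equiv {X X' : Type*} [Group X] [Group X'] (e : X ≃* X') {H : Subgroup X} {H' : Subgroup X'} (hH : ∀ h, h ∈ H ↔ e h ∈ H') :
    Nonempty (H ≃* H') := by
  have key : H.map e.toMonoidHom = H' := by
    ext y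
    rw [Subgroup.mem_map]
    constructor
    · rintro ⟨z, hz, rfl⟩
      exact (hH z).mp hz
    · intro hy
      obtain ⟨z, rfl⟩ := e.surjective y
      exact ⟨z, (hH z).mpr hy, rfl⟩
  rw [← key]
  exact ⟨Subgroup.equivMapOfInjective _ _ e.injective⟩

theorem conj_mem_iff {X : Type*} [Group X] {H : Subgroup X} {k : X} (hk : k ∈ H) (h : X) : k * h * k⁻¹ ∈ H ↔ h ∈ H := by
  constructor
  · intro h1
    have h2 := H.mul_mem (H.mul_mem (H.inv_mem hk) h1) hk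
    have h3 : k⁻¹ * (k * h * k⁻¹) * k = h := by group
    rwa [h3] at h2
  · intro h1
    exact H.mul_mem (H.mul_mem hk h1) (H.inv_mem hk)

theorem field_odd {F F₀ : Type*} [Field F] [Finite F] [Field F₀] [Finite F₀] {m p f : ℕ} [Fact p.Prime] (h2 : (2 : F) ≠ 0) (hm : 2 ≤ m)
    (hF : Nat.card F = p ^ f) (x : MulAut (POmega F ⇑(qOdd m F))) (hx : IsFieldAutClassPOmega ⇑(qOdd m F) x) {r : ℕ} (hr : r.Prime)
    (hxr : orderOf x = r) (hF₀ : Nat.card F₀ = p ^ (f / r)) :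
    r ∣ f ∧ Nonempty (↥(autSubgroupOf (fun β => IsSimilarityInducedAutPOmega ⇑(qOdd m F) β) ⊓ Subgroup.centralizer {x}) ≃*
      ↥(autSubgroupOf (fun β => IsSimilarityInducedAutPOmega ⇑(qOdd m F₀) β))) ∧
    (Odd r → splitClassCount (autSubgroupOf (fun β => IsSimilarityInducedAutPOmega ⇑(qOdd m F) β)) (Inn (POmega F ⇑(qOdd m F))) x = 1) ∧
    (r = 2 → splitClassCount (autSubgroupOf (fun β => IsSimilarityInducedAutPOmega ⇑(qOdd m F) β)) (Inn (POmega F ⇑(qOdd m F))) x = 2) := by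
  have hnd : ND (qOdd m F) := nd_odd h2
  have hn : 5 ≤ Fintype.card (Unit ⊕ (Fin m ⊕ Fin m)) := by rw [card_odd_ι]; omega
  have hn' : 5 ≤ Module.finrank F (Unit ⊕ (Fin m ⊕ Fin m) → F) := by rw [fr_odd]; omega
  obtain ⟨q, hp1, hp2, _⟩ := field_form_O hnd hn qOdd_svI (surj_odd h2 hm) hx
  have hord : ∀ y, orderOf (MulAut.congr (pomEquiv hnd hn) y) = orderOf y := fun y =>
    orderOf_injective (MulAut.congr (pomEquiv hnd hn)).toMonoidHom (MulAut.congr (pomEquiv hnd hn)).injective y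
  have hxr' : aE (qOdd m F) q ^ r = 1 := by rw [← hp2, ← hxr, ← hord, pow_orderOf_eq_one]
  have hτ := ss_order hnd hn' hr hxr' hp1
  obtain ⟨hrf, j, hj⟩ := exists_fixed_emb hF q.1.2 hτ F₀ hF₀
  have h2₀ := two_ne_zero_of_emb j h2
  have hnd₀ : ND (qOdd m F₀) := nd_odd h2₀
  obtain ⟨k, hk1, hk2⟩ := conj_std_odd h2 hm q hτ hr.pos hj hxr'
  have hkH : aE _ k ∈ HS (qOdd m F) ⊤ := mem_HS_top.mpr ⟨k, hk1, rfl⟩
  refine ⟨hrf, ?_, ?_, ?_⟩
  · obtain ⟨e1⟩ := cent_equiv' (MulAut.congr (pomEquiv hnd hn)) (pgo_iff F hnd hn) x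
    rw [hp2, hk2] at e1
    obtain ⟨e2⟩ := cent_transport (H := HS (qOdd m F) ⊤) (conj_mem_iff hkH) (aE _ (stdS (qOdd m F) q.1.2 (qOdd_svI _)))
    obtain ⟨e3⟩ := cent_std (S := ⊤) (S₀ := ⊤) hnd hn' hτ hr.pos hj (qOdd_svI _) qOdd_jV (fun _ => Subgroup.mem_top _)
      (fun _ _ => ⟨fun _ => Subgroup.mem_top _, fun _ => Subgroup.mem_top _⟩)
    obtain ⟨e4⟩ := sub_equiv (MulAut.congr (pomEquiv hnd₀ hn)) (pgo_iff F₀ hnd₀ hn)
    exact ⟨e1.trans (e2.symm.trans (e3.trans e4.symm))⟩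
  all_goals
    intro hr'
    rw [split_equiv (MulAut.congr (pomEquiv hnd hn)) (pgo_iff F hnd hn) (inn_iff hnd hn), hp2, hk2,
      ← splitClassCount_conj (x := aE _ (stdS (qOdd m F) q.1.2 (qOdd_svI _))) ⟨_, hkH, rfl⟩]
  · exact (split_std_odd h2 hm hτ hr.pos hj).1 hr'
  · refine (split_std_odd h2 hm hτ hr.pos hj).2 ?_
    subst hr'
    obtain ⟨t, rfl⟩ := hrf
    rw [hF, hF₀, Nat.mul_div_cancel_left _ (by norm_num), ← pow_mul, mul_comm]

end Cfsg.Agent.H17
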