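import Mathlib
import Cfsg.Agent.H17.OField6
import Cfsg.Prelude.Def_Solvable

set_option autoImplicit false

/-! Local balance: the abstract criterion. -/

namespace Cfsg.Agent.H17

open Cfsg

section abs

variable {X : Type*} [Group X]

/-- data on the centralizer of `x` -/
def LB (p : ℕ) (I : Subgroup X) (x : X) : Prop :=
  ∃ L₀ : Subgroup X, IsSimpleGroup L₀ ∧ L₀ ≤ I ⊓ Subgroup.centralizer {x} ∧
    (∀ c ∈ Subgroup.centralizer {x}, ∀ l ∈ L₀, c * l * c⁻¹ ∈ L₀) ∧
    (∀ c ∈ Subgroup.centralizer {x}, (∀ l ∈ L₀, c * l = l * c) → c ∈ Subgroup.zpowers x) ∧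
    (p ∣ Nat.card ↥(I ⊓ Subgroup.centralizer {x}) → p ∣ Nat.card L₀)

theorem LB.main [Finite X] {p : ℕ} [hp : Fact p.Prime] {I : Subgroup X} [hI : I.Normal] {x : X} (h : LB p I x) (A : Subgroup X)
    (hIA : I ≤ A) (hord : orderOf x = p) :
    pPrimeCore p ↥(A ⊓ Subgroup.centralizer {x}) ≠ ⊥ ↔ Nat.Coprime p (Nat.card ↥(I ⊓ Subgroup.centralizer {x})) := by
  obtain ⟨L₀, hs, hL₀, hnorm, hcent, hdiv⟩ := h
  obtain ⟨C, hC⟩ : ∃ C : Subgroup X, C = A ⊓ Subgroup.centralizer {x} := ⟨_, rfl⟩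
  rw [← hC]
  have hLC : I ⊓ Subgroup.centralizer {x} ≤ C := by rw [hC]; exact inf_le_inf_right _ hIA
  have hL₀C : L₀ ≤ C := hL₀.trans hLC
  have hCx : C ≤ Subgroup.centralizer {x} := by rw [hC]; exact inf_le_right
  constructor
  · intro hne
    by_contra hcop
    have hpd : p ∣ Nat.card ↥(I ⊓ Subgroup.centralizer {x}) := by
      by_contra hnd
      exact hcop ((Nat.Prime.coprime_iff_not_dvd hp.out).mpr hnd)
    have hp0 := hdiv hpd
    apply hne
    unfold pPrimeCore
    rw [sSup_eq_bot]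
    rintro N ⟨hN, hNc⟩
    -- `N ∩ L₀` is trivial
    have h1 : (N.map C.subtype) ⊓ L₀ = ⊥ := by
      have h2 : (((N.map C.subtype).subgroupOf L₀)).Normal := by
        constructor
        intro n hn g
        rw [Subgroup.mem_subgroupOf] at hn ⊢
        obtain ⟨⟨n', hn'C⟩, hn', he⟩ := hn
        refine ⟨⟨(g : X), hL₀C g.2⟩ * ⟨n', hn'C⟩ * ⟨(g : X), hL₀C g.2⟩⁻¹, hN.conj_mem _ hn' _, ?_⟩
        rw [map_mul, map_mul, map_inv, he]
        rfl
      rcases h2.eq_bot_or_eq_top with h3 | h3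
      · rw [Subgroup.subgroupOf_eq_bot] at h3
        exact disjoint_iff.mp h3
      · exfalso
        rw [Subgroup.subgroupOf_eq_top] at h3
        have h4 : Nat.card L₀ ∣ Nat.card (N.map C.subtype) := Subgroup.card_dvd_of_le h3
        have h5 : Nat.card (N.map C.subtype) = Nat.card N :=
          Nat.card_congr (N.equivMapOfInjective _ C.subtype_injective).toEquiv.symm
        rw [h5] at h4
        have h6 := hp0.trans h4
        have h7 := Nat.dvd_gcd h6 (dvd_refl p)
        rw [hNc] at h7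
        exact hp.out.one_lt.ne' (Nat.dvd_one.mp h7)
    -- they commute
    have h2 : ∀ n ∈ N, ((n : C) : X) ∈ Subgroup.zpowers x := by
      intro n hn
      apply hcent _ (hCx n.2)
      intro l hl
      have h3 : (n : X) * l * (n : X)⁻¹ * l⁻¹ ∈ (N.map C.subtype) ⊓ L₀ := by
        refine ⟨?_, L₀.mul_mem (hnorm _ (hCx n.2) l hl) (L₀.inv_mem hl)⟩
        refine ⟨n * (⟨l, hL₀C hl⟩ * n⁻¹ * ⟨l, hL₀C hl⟩⁻¹), N.mul_mem hn (hN.conj_mem _ (N.inv_mem hn) _), ?_⟩
        simp only [Subgroup.subtype_apply, Subgroup.coe_mul, Subgroup.coe_inv, mul_assoc]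
      rw [h1, Subgroup.mem_bot, mul_inv_eq_one, mul_inv_eq_iff_eq_mul] at h3
      exact h3
    have h3 : N.map C.subtype ≤ Subgroup.zpowers x := by
      rintro _ ⟨n, hn, rfl⟩
      exact h2 n hn
    have h4 := Subgroup.card_dvd_of_le h3
    rw [Nat.card_zpowers, hord, Nat.card_congr (N.equivMapOfInjective _ C.subtype_injective).toEquiv.symm] at h4
    rw [Subgroup.eq_bot_iff_card]
    rcases (Nat.dvd_prime hp.out).mp h4 with h5 | h5
    · exact h5
    · exfalso
      rw [h5] at hNc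
      exact hp.out.one_lt.ne' ((Nat.coprime_self p).mp hNc)
  · intro hcop hbot
    have h1 : (I ⊓ Subgroup.centralizer {x}).subgroupOf C ≤ pPrimeCore p C := by
      apply le_sSup
      refine ⟨⟨fun n hn g => ?_⟩, ?_⟩
      · rw [Subgroup.mem_subgroupOf] at hn ⊢
        rw [Subgroup.coe_mul, Subgroup.coe_mul, Subgroup.coe_inv]
        refine ⟨hI.conj_mem _ hn.1 _, ?_⟩
        exact (Subgroup.centralizer {x}).mul_mem ((Subgroup.centralizer {x}).mul_mem (hCx g.2) hn.2)
          ((Subgroup.centralizer {x}).inv_mem (hCx g.2))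
      · rw [Nat.card_congr (Subgroup.subgroupOfEquivOfLe hLC).toEquiv]
        exact hcop.symm
    rw [hbot, le_bot_iff, Subgroup.subgroupOf_eq_bot] at h1
    have h2 : I ⊓ Subgroup.centralizer {x} = ⊥ := by
      have := disjoint_iff.mp h1
      rwa [inf_eq_left.mpr hLC] at this
    rw [h2, le_bot_iff] at hL₀
    haveI := hs.toNontrivial
    rw [hL₀] at this
    exact not_subsingleton (⊥ : Subgroup X) inferInstance

theorem LB.equiv {X' : Type*} [Group X'] (e : X ≃* X') {p : ℕ} {I : Subgroup X} {I' : Subgroup X'} (hI : ∀ h, h ∈ I ↔ e h ∈ I')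
    {x : X} (h : LB p I' (e x)) : LB p I x := by
  obtain ⟨L₀, hs, hL₀, hnorm, hcent, hdiv⟩ := h
  have hce : ∀ c, c ∈ Subgroup.centralizer {x} ↔ e c ∈ Subgroup.centralizer {e x} := by
    intro c
    rw [Subgroup.mem_centralizer_singleton_iff, Subgroup.mem_centralizer_singleton_iff, ← map_mul, ← map_mul]
    exact e.injective.eq_iff.symm
  obtain ⟨e1⟩ := sub_equiv e (H := L₀.comap e.toMonoidHom) (H' := L₀) (fun h => Iff.rfl)
  obtain ⟨e2⟩ := cent_equiv' e hI x
  refine ⟨L₀.comap e.toMonoidHom, ?_, ?_, ?_, ?_, ?_⟩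
  · haveI := hs.toNontrivial
    haveI : Nontrivial ↥(Subgroup.comap e.toMonoidHom L₀) := e1.toEquiv.nontrivial
    exact IsSimpleGroup.isSimpleGroup_of_surjective e1.symm.toMonoidHom e1.symm.surjective
  · intro l hl
    obtain ⟨h1, h2⟩ := hL₀ hl
    exact ⟨(hI l).mpr h1, (hce l).mpr h2⟩
  · intro c hc l hl
    show e (c * l * c⁻¹) ∈ L₀
    rw [map_mul, map_mul, map_inv]
    exact hnorm _ ((hce c).mp hc) _ hl
  · intro c hc hcl
    have h1 := hcent (e c) ((hce c).mp hc) (fun l hl => by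
      obtain ⟨l', rfl⟩ := e.surjective l
      rw [← map_mul, hcl l' hl, map_mul])
    obtain ⟨k, hk⟩ := h1
    refine ⟨k, e.injective ?_⟩
    rw [← hk]
    exact map_zpow e x k
  · intro h1
    rw [Nat.card_congr e1.toEquiv]
    apply hdiv
    rw [← Nat.card_congr e2.toEquiv]
    exact h1

end abs

theorem fix_card {K : Type*} [Group K] (hZ : Subgroup.center K = ⊥) (x : MulAut K) :
    Nat.card ↥(MonoidHom.eqLocus x.toMonoidHom (MonoidHom.id K)) = Nat.card ↥(Inn K ⊓ Subgroup.centralizer {x}) := by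
  have hinj : Function.Injective (MulAut.conj : K →* MulAut K) := by
    rw [← MonoidHom.ker_eq_bot_iff, eq_bot_iff, ← hZ]
    intro g hg
    rw [Subgroup.mem_center_iff]
    intro k
    have h1 := congrArg (fun f : MulAut K => f k) ((MonoidHom.mem_ker).mp hg)
    simp only [MulAut.conj_apply, MulAut.one_apply] at h1
    rw [mul_inv_eq_iff_eq_mul] at h1
    exact h1.symm
  have key : ∀ k : K, (x * MulAut.conj k = MulAut.conj k * x) ↔ x k = k := by
    intro k
    have h1 : x * MulAut.conj k = MulAut.conj (x k) * x := by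
      ext z
      simp only [MulAut.mul_apply, MulAut.conj_apply, map_mul, map_inv]
    rw [h1, mul_left_inj]
    exact hinj.eq_iff
  have hmap : (MonoidHom.eqLocus x.toMonoidHom (MonoidHom.id K)).map MulAut.conj = Inn K ⊓ Subgroup.centralizer {x} := by
    ext y
    rw [Subgroup.mem_map]
    constructor
    · rintro ⟨k, hk, rfl⟩
      refine ⟨⟨k, rfl⟩, Subgroup.mem_centralizer_singleton_iff.mpr ((key k).mpr hk).symm⟩
    · rintro ⟨⟨k, rfl⟩, h2⟩
      exact ⟨k, (key k).mp (Subgroup.mem_centralizer_singleton_iff.mp h2).symm, rfl⟩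
  rw [← hmap]
  exact Nat.card_congr (Subgroup.equivMapOfInjective _ _ hinj).toEquiv

end Cfsg.Agent.H17
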