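import Mathlib
import Cfsg.Agent.H17.LBal

set_option autoImplicit false

/-! Descent data for a semisimilarity of prime order, and local balance. -/

namespace Cfsg.Agent.H17

open Cfsg Cfsg.Agent.H5

section galois

/-- automorphisms fixing the fixed field of `τ` are powers of `τ` -/
theorem mem_zpowers_of_fix {F : Type*} [Field F] [Finite F] {τ σ : F ≃+* F} (h : ∀ x, τ x = x → σ x = x) :
    σ ∈ Subgroup.zpowers τ := by
  haveI : Finite (RingAut F) := Finite.of_injective (fun σ : F ≃+* F => (σ : F → F)) DFunLike.coe_injective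
  let K := FixedPoints.subfield (Subgroup.zpowers (τ : RingAut F)) F
  have hmem : ∀ x : K, σ x = x := by
    intro x
    exact h _ (x.2 ⟨τ, Subgroup.mem_zpowers τ⟩)
  let f : F →ₐ[K] F := { (σ : F →+* F) with commutes' := fun x => hmem x }
  obtain ⟨⟨g, hg⟩, hgf⟩ := (FixedPoints.toAlgHom_bijective (Subgroup.zpowers (τ : RingAut F)) F).2 f
  have h1 : g = σ := by
    apply RingEquiv.ext
    intro x
    exact congrArg (fun k : F →ₐ[K] F => k x) hgf
  rw [← h1]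
  exact hg

end galois

variable {F F₀ V V₀ : Type*} [Field F] [Field F₀] [AddCommGroup V] [Module F V] [AddCommGroup V₀] [Module F₀ V₀]

/-- descent data -/
structure Desc (Q : QuadraticForm F V) (Q₀ : QuadraticForm F₀ V₀) (j : F₀ →+* F) (β : V₀ → V) (d : Fˣ) (s : SSG Q) : Prop where
  hj : ∀ x, s.1.2 x = x ↔ ∃ y, j y = x
  fix : ∀ x, s.1.1 x = x ↔ ∃ v, β v = x
  add : ∀ u v, β (u + v) = β u + β v
  smul : ∀ c v, β (c • v) = j c • β v
  inj : Function.Injective β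
  form : ∀ v, j (Q₀ v) = d * Q (β v)
  span : Submodule.span F (Set.range β) = ⊤

namespace Desc

variable {Q : QuadraticForm F V} {Q₀ : QuadraticForm F₀ V₀} {j : F₀ →+* F} {β : V₀ → V} {d : Fˣ} {s : SSG Q}
  (D : Desc Q Q₀ j β d s)

include D

theorem hj' (y : F₀) : s.1.2 (j y) = j y := (D.hj _).mpr ⟨y, rfl⟩
theorem fix' (v : V₀) : s.1.1 (β v) = β v := (D.fix _).mpr ⟨v, rfl⟩

theorem zero : β 0 = 0 := by
  have := D.add 0 0
  rw [add_zero] at this
  exact left_eq_add.mp this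

theorem neg (v : V₀) : β (-v) = -β v := by
  have := D.add v (-v)
  rw [add_neg_cancel, D.zero] at this
  exact (neg_eq_of_add_eq_zero_right this.symm).symm

theorem sub (u v : V₀) : β (u - v) = β u - β v := by
  rw [sub_eq_add_neg, D.add, D.neg, sub_eq_add_neg]

theorem formB (u v : V₀) : j (pB Q₀ u v) = d * pB Q (β u) (β v) := by
  have h1 := D.form (u + v)
  rw [D.add, q_add, q_add, map_add, map_add, D.form, D.form] at h1
  linear_combination h1

theorem form' (v : V₀) : Q (β v) = (d : F)⁻¹ * j (Q₀ v) := by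
  rw [D.form, ← mul_assoc, inv_mul_cancel₀ (Units.ne_zero _), one_mul]

theorem formB' (u v : V₀) : pB Q (β u) (β v) = (d : F)⁻¹ * j (pB Q₀ u v) := by
  rw [D.formB, ← mul_assoc, inv_mul_cancel₀ (Units.ne_zero _), one_mul]

theorem ne (v : V₀) (h : Q₀ v ≠ 0) : Q (β v) ≠ 0 := by
  rw [D.form']
  exact mul_ne_zero (inv_ne_zero (Units.ne_zero _)) ((map_ne_zero j).mpr h)

theorem nd (hnd : ND Q) : ND Q₀ := by
  intro u hu
  apply D.inj
  rw [D.zero]
  apply hnd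
  intro y
  have hy : y ∈ Submodule.span F (Set.range β) := by rw [D.span]; exact Submodule.mem_top
  induction hy using Submodule.span_induction with
  | mem x hx =>
    obtain ⟨v, rfl⟩ := hx
    rw [D.formB', hu, map_zero, mul_zero]
  | zero => rw [map_zero]
  | add x z _ _ hx hz => rw [map_add, hx, hz, add_zero]
  | smul a x _ hx => rw [map_smul, hx, smul_zero]

theorem ext {p q : SSG Q} (h2 : p.1.2 = q.1.2) (h : ∀ v, p.1.1 (β v) = q.1.1 (β v)) : p = q := by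
  apply ss_ext _ h2
  intro y
  have hy : y ∈ Submodule.span F (Set.range β) := by rw [D.span]; exact Submodule.mem_top
  induction hy using Submodule.span_induction with
  | mem x hx =>
    obtain ⟨v, rfl⟩ := hx
    exact h v
  | zero => rw [ss_zero, ss_zero]
  | add x z _ _ hx hz => rw [ss_add, ss_add, hx, hz]
  | smul a x _ hx => rw [ss_smul, ss_smul, hx, h2]

theorem ogext {g h : OG Q} (hh : ∀ v, g (β v) = h (β v)) : g = h := by
  apply ogSS_injective
  exact D.ext rfl hh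

omit D in
/-- `h` extends `g` -/
def DR (β : V₀ → V) (g : OG Q₀) (h : OG Q) : Prop := ∀ v, h (β v) = β (g v)

omit D in
theorem DR.one : DR β (1 : OG Q₀) (1 : OG Q) := fun _ => rfl

omit D in
theorem DR.mul {g g' : OG Q₀} {h h' : OG Q} (h1 : DR β g h) (h2 : DR β g' h') : DR β (g * g') (h * h') := by
  intro v
  rw [og_mul, og_mul, h2, h1]

omit D in
theorem DR.inv {g : OG Q₀} {h : OG Q} (h1 : DR β g h) : DR β g⁻¹ h⁻¹ := by
  intro v
  have h2 := h1 (g⁻¹ v)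
  rw [og_inv'] at h2
  rw [← h2, og_inv]

theorem DR.unique {g : OG Q₀} {h h' : OG Q} (h1 : DR β g h) (h2 : DR β g h') : h = h' :=
  D.ogext fun v => by rw [h1, h2]

theorem ext_refl {u : V₀} (hu : Q₀ u ≠ 0) : DR β (refl hu) (refl (D.ne u hu)) := by
  intro v
  rw [refl_apply, refl_apply, D.form', D.formB', D.sub, D.smul]
  congr 2
  rw [map_mul, map_inv₀]
  have : (d : F) ≠ 0 := Units.ne_zero _
  have h2 : j (Q₀ u) ≠ 0 := (map_ne_zero j).mpr hu
  field_simp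

theorem ext_eich {u w : V₀} (hu : Q₀ u = 0) (huw : pB Q₀ u w = 0) : ∃ h ∈ EG Q, DR β (eich hu huw) h := by
  have h1 : Q (β u) = 0 := by rw [D.form', hu, map_zero, mul_zero]
  have h2 : pB Q (β u) ((d : F) • β w) = 0 := by rw [pr_smul, D.formB', huw, map_zero, mul_zero, mul_zero]
  refine ⟨eich h1 h2, eg_mem h1 h2, ?_⟩
  intro x
  have hd : (d : F) ≠ 0 := Units.ne_zero _
  rw [eich_apply, eich_apply, pl_smul, q_smul, D.form', D.formB', D.formB', D.sub, D.sub, D.add, D.smul, D.smul, D.smul,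
    map_mul]
  have e1 : ((d : F)⁻¹ * j (pB Q₀ u x)) • ((d : F) • β w) = j (pB Q₀ u x) • β w := by
    rw [smul_smul]; congr 1; field_simp
  have e2 : (d : F) * ((d : F)⁻¹ * j (pB Q₀ w x)) = j (pB Q₀ w x) := by field_simp
  have e3 : (d : F) * d * ((d : F)⁻¹ * j (Q₀ w)) * ((d : F)⁻¹ * j (pB Q₀ u x)) = j (Q₀ w) * j (pB Q₀ u x) := by field_simp
  rw [e1, e2, e3]

theorem ext_EG {g : OG Q₀} (hg : g ∈ EG Q₀) : ∃ h ∈ EG Q, DR β g h := by
  unfold EG at hg
  induction hg using Subgroup.closure_induction with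
  | mem x hx =>
    obtain ⟨u, w, hu, huw, rfl⟩ := hx
    exact D.ext_eich hu huw
  | one => exact ⟨1, one_mem _, DR.one⟩
  | mul a b _ _ ha hb =>
    obtain ⟨h1, m1, r1⟩ := ha
    obtain ⟨h2, m2, r2⟩ := hb
    exact ⟨_, mul_mem m1 m2, r1.mul r2⟩
  | inv a _ ha =>
    obtain ⟨h1, m1, r1⟩ := ha
    exact ⟨_, inv_mem m1, r1.inv⟩

/-- restriction of commuting semisimilarities -/
theorem restrict (hQ₀ : ∃ v, Q₀ v ≠ 0) {q : SSG Q} (hq : q * s = s * q) (hσ : q.1.2 * s.1.2 = s.1.2 * q.1.2) :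
    ∃ q₀ : SSG Q₀, (∀ v, q.1.1 (β v) = β (q₀.1.1 v)) ∧ (∀ y, q.1.2 (j y) = j (q₀.1.2 y)) := by
  have key : ∀ q : SSG Q, q * s = s * q → ∀ v, ∃ w, β w = q.1.1 (β v) := by
    intro q hq v
    rw [← D.fix]
    have h1 : (s * q).1.1 (β v) = (q * s).1.1 (β v) := by rw [hq]
    have h2 : s.1.1 (q.1.1 (β v)) = q.1.1 (s.1.1 (β v)) := h1
    rw [h2, D.fix']
  have key2 : ∀ q : SSG Q, q.1.2 * s.1.2 = s.1.2 * q.1.2 → ∀ y, ∃ z, j z = q.1.2 (j y) := by
    intro q hq y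
    rw [← D.hj]
    have h1 : (s.1.2 * q.1.2) (j y) = (q.1.2 * s.1.2) (j y) := by rw [hq]
    have h2 : s.1.2 (q.1.2 (j y)) = q.1.2 (s.1.2 (j y)) := h1
    rw [h2, D.hj']
  have hq' : q⁻¹ * s = s * q⁻¹ := by
    rw [inv_mul_eq_iff_eq_mul, ← mul_assoc, hq, mul_inv_cancel_right]
  have hσ' : q⁻¹.1.2 * s.1.2 = s.1.2 * q⁻¹.1.2 := by
    show q.1.2⁻¹ * s.1.2 = s.1.2 * q.1.2⁻¹
    rw [inv_mul_eq_iff_eq_mul, ← mul_assoc, hσ, mul_inv_cancel_right]
  choose f hf using key q hq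
  choose f' hf' using key q⁻¹ hq'
  choose g hg using key2 q hσ
  choose g' hg' using key2 q⁻¹ hσ'
  have e1 : ∀ x, q.1.1 (q⁻¹.1.1 x) = x := fun x => q.1.1.apply_symm_apply x
  have e2 : ∀ x, q⁻¹.1.1 (q.1.1 x) = x := fun x => q.1.1.symm_apply_apply x
  have e3 : ∀ x, q.1.2 (q⁻¹.1.2 x) = x := fun x => q.1.2.apply_symm_apply x
  have e4 : ∀ x, q⁻¹.1.2 (q.1.2 x) = x := fun x => q.1.2.symm_apply_apply x
  let σ₀ : F₀ ≃+* F₀ :=
    { toFun := g
      invFun := g'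
      left_inv := fun y => j.injective (by rw [hg', hg, e4])
      right_inv := fun y => j.injective (by rw [hg, hg', e3])
      map_mul' := fun y z => j.injective (by rw [hg, map_mul, map_mul, map_mul, hg, hg])
      map_add' := fun y z => j.injective (by rw [hg, map_add, map_add, map_add, hg, hg]) }
  have hσ₀ : ∀ y, q.1.2 (j y) = j (σ₀ y) := fun y => (hg y).symm
  let T : Equiv.Perm V₀ :=
    { toFun := f
      invFun := f'
      left_inv := fun y => D.inj (by rw [hf', hf, e2])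
      right_inv := fun y => D.inj (by rw [hf, hf', e1]) }
  have hT : ∀ v, q.1.1 (β v) = β (T v) := fun y => (hf y).symm
  obtain ⟨v₀, hv₀⟩ := hQ₀
  have hform : ∀ v, j (Q₀ (T v)) = (d * ssK q * (q.1.2 (d : F))⁻¹) * j (σ₀ (Q₀ v)) := by
    intro v
    rw [D.form, ← hT, ss_Q, D.form', ← hσ₀, map_mul, map_inv₀]
    ring
  have hne : j (σ₀ (Q₀ v₀)) ≠ 0 := (map_ne_zero j).mpr ((map_ne_zero σ₀).mpr hv₀)
  have hκ : (d * ssK q * (q.1.2 (d : F))⁻¹) = j (Q₀ (T v₀) * (σ₀ (Q₀ v₀))⁻¹) := by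
    rw [map_mul, map_inv₀, hform, mul_inv_cancel_right₀ hne]
  have hκ0 : Q₀ (T v₀) * (σ₀ (Q₀ v₀))⁻¹ ≠ 0 := by
    intro h0
    rw [h0, map_zero] at hκ
    have hd : (d : F) ≠ 0 := Units.ne_zero _
    exact (mul_ne_zero (mul_ne_zero hd (Units.ne_zero _)) (inv_ne_zero ((map_ne_zero q.1.2).mpr hd))) hκ
  refine ⟨⟨(T, σ₀), fun x y => D.inj ?_, fun a x => D.inj ?_, Units.mk0 _ hκ0, fun x => j.injective ?_⟩, hT, hσ₀⟩
  · show β (T (x + y)) = β (T x + T y)
    rw [← hT, D.add, D.add, ss_add, hT, hT]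
  · show β (T (a • x)) = β (σ₀ a • T x)
    rw [← hT, D.smul, D.smul, ss_smul, hT, hσ₀]
  · show j (Q₀ (T x)) = j (Q₀ (T v₀) * (σ₀ (Q₀ v₀))⁻¹ * σ₀ (Q₀ x))
    rw [hform, hκ, ← map_mul]

end Desc

end Cfsg.Agent.H17
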