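import Mathlib
import Cfsg.Agent.H17.Desc

set_option autoImplicit false

/-! Local balance data from descent data. -/

namespace Cfsg.Agent.H17

open Cfsg Cfsg.Agent.H5

section gen

variable {F V : Type*} [Field F] [Finite F] [AddCommGroup V] [Module F V] [FiniteDimensional F V] {Q : QuadraticForm F V}

theorem og_sq_mem (hnd : ND Q) (hn : 5 ≤ Module.finrank F V) (g : OG Q) : g * g ∈ EG Q := by
  haveI : Finite V := Module.finite_of_finite F
  have h1 : ∀ g ∈ RG Q, Abelianization.of g * Abelianization.of g = 1 := by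
    intro g hg
    unfold RG at hg
    induction hg using Subgroup.closure_induction with
    | mem x hx =>
      obtain ⟨v, hv, rfl⟩ := hx
      exact ab_refl_sq hv
    | one => rw [map_one, one_mul]
    | mul a b _ _ ha hb =>
      rw [map_mul, mul_mul_mul_comm, ha, hb, one_mul]
    | inv a _ ha =>
      rw [map_inv, ← mul_inv, ha, inv_one]
  rw [eg_eq_comm hnd hn (exists_sing hnd (by omega)), ← Abelianization.ker_of, MonoidHom.mem_ker, map_mul]
  exact h1 g (by rw [rg_top hnd (fun _ => by omega)]; exact Subgroup.mem_top _)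

/-- fourth powers of similarities -/
theorem lin_four (hnd : ND Q) (hn : 5 ≤ Module.finrank F V) (p : SSG Q) (hp : p.1.2 = 1) :
    ∃ (c : Fˣ) (g : OG Q), g ∈ EG Q ∧ p * p * (p * p) = scSS Q c * ogSS Q g := by
  obtain ⟨g, hg⟩ := exists_og ((scSS Q (ssK p))⁻¹ * (p * p)) (by
      show (1 : F ≃+* F)⁻¹ * (p.1.2 * p.1.2) = 1
      rw [hp]; rfl) (fun x => by
      rw [← map_inv]
      show Q ((ssK p)⁻¹ • p.1.1 (p.1.1 x)) = _
      rw [Units.smul_def, q_smul, ss_Q, ss_Q, hp, Units.val_inv_eq_inv_val]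
      have : (ssK p : F) ≠ 0 := Units.ne_zero _
      show (ssK p : F)⁻¹ * (ssK p : F)⁻¹ * ((ssK p : F) * ((ssK p : F) * Q x)) = Q x
      field_simp)
  have hpp : p * p = scSS Q (ssK p) * ogSS Q g := by rw [hg, mul_inv_cancel_left]
  have hcomm : ogSS Q g * scSS Q (ssK p) = scSS Q (ssK p) * ogSS Q g := by
    apply ss_ext
    · intro x
      show g (ssK p • x) = ssK p • g x
      rw [Units.smul_def, og_smul, Units.smul_def]
    · rfl
  refine ⟨ssK p * ssK p, g * g, og_sq_mem hnd hn g, ?_⟩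
  rw [hpp, map_mul, map_mul]
  calc scSS Q (ssK p) * ogSS Q g * (scSS Q (ssK p) * ogSS Q g) = scSS Q (ssK p) * (ogSS Q g * scSS Q (ssK p)) * ogSS Q g := by
        simp only [mul_assoc]
    _ = _ := by rw [hcomm]; simp only [mul_assoc]

theorem aE_ker_sc (hnd : ND Q) (hn : 5 ≤ Module.finrank F V) (y : Fˣ) : aE Q (scSS Q y) = 1 := by
  have h4 : scSS Q y ∈ (aE Q).ker := by rw [aE_ker hnd hn]; exact ⟨y, rfl⟩
  exact h4

theorem even_card_PE (h2 : (2 : F) ≠ 0) (hnd : ND Q) (hn : 5 ≤ Module.finrank F V) : 2 ∣ Nat.card (PE Q) := by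
  haveI : Finite V := Module.finite_of_finite F
  haveI : Finite (EG Q) := Finite.of_injective (fun g : EG Q => fun x : V => g.1 x)
    (fun g g' hgg => Subtype.ext (og_ext fun x => congrFun hgg x))
  obtain ⟨u, hu⟩ := exists_val h2 hnd (by omega) (1 : F)
  have hu0 : Q u ≠ 0 := by rw [hu]; exact one_ne_zero
  have hu00 : u ≠ 0 := by rintro rfl; exact hu0 (q_zero Q)
  have hN : NDS Q (oc Q (Submodule.span F {u})) := (nds_span_iff h2 hu0).oc hnd
  have h3 := finrank_oc hnd (Submodule.span F {u})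
  rw [finrank_span_singleton hu00] at h3
  obtain ⟨v', hv'⟩ := exists_val h2 hN.nd (by omega) (1 : F)
  obtain ⟨v, hvm⟩ := v'
  have hv : Q v = 1 := hv'
  have hv0 : Q v ≠ 0 := by rw [hv]; exact one_ne_zero
  have huv : pB Q u v = 0 := hvm u (Submodule.mem_span_singleton_self u)
  have hvu : pB Q v u = 0 := by rw [pB_symm]; exact huv
  have hw : ∃ w, w ≠ 0 ∧ pB Q u w = 0 ∧ pB Q v w = 0 := by
    have h4 := finrank_oc hnd (Submodule.span F {u, v})
    have h5 : Module.finrank F (Submodule.span F {u, v}) ≤ 2 := by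
      classical
      have := finrank_span_finset_le_card (R := F) ({u, v} : Finset V)
      rw [Finset.coe_pair] at this
      exact this.trans Finset.card_le_two
    have h6 : 0 < Module.finrank F (oc Q (Submodule.span F {u, v})) := by omega
    have h8 : oc Q (Submodule.span F {u, v}) ≠ ⊥ := by
      intro h0
      rw [h0, finrank_bot] at h6
      exact lt_irrefl _ h6
    obtain ⟨w, hw, hw'⟩ := (Submodule.ne_bot_iff _).mp h8
    exact ⟨w, hw', (mem_oc_pair.mp hw).1, (mem_oc_pair.mp hw).2⟩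
  obtain ⟨w, hw0, huw, hvw⟩ := hw
  have hmem := uv_mem_eg hnd hn hu0 hv0 ⟨1, by rw [hu, hv]⟩
  have hrw : (H5.refl hu0 * H5.refl hv0) w = w := by
    have e1 : H5.refl hv0 w = w := by rw [refl_apply, hvw, mul_zero, zero_smul, sub_zero]
    rw [og_mul, e1, refl_apply, huw, mul_zero, zero_smul, sub_zero]
  have hru : (H5.refl hu0 * H5.refl hv0) u = -u := by
    rw [og_mul, refl_apply hv0, hvu, mul_zero, zero_smul, sub_zero, refl_apply, pB_self, hu]
    module
  have hsq : (H5.refl hu0 * H5.refl hv0) * (H5.refl hu0 * H5.refl hv0) = 1 := by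
    have hc : H5.refl hv0 * H5.refl hu0 = H5.refl hu0 * H5.refl hv0 := by
      apply og_ext
      intro x
      rw [og_mul, og_mul, refl_apply, refl_apply, refl_apply, refl_apply, pr_sub, pr_sub, pr_smul, pr_smul, huv, hvu]
      module
    calc H5.refl hu0 * H5.refl hv0 * (H5.refl hu0 * H5.refl hv0) = H5.refl hu0 * (H5.refl hv0 * H5.refl hu0) * H5.refl hv0 := by simp only [mul_assoc]
      _ = (H5.refl hu0 * H5.refl hu0) * (H5.refl hv0 * H5.refl hv0) := by rw [hc]; simp only [mul_assoc]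
      _ = 1 := by rw [refl_mul_self, refl_mul_self, one_mul]
  obtain ⟨h, hh⟩ : ∃ h : EG Q, h = ⟨_, hmem⟩ := ⟨_, rfl⟩
  have hhw : h.1 w = w := by rw [hh]; exact hrw
  have hhu : h.1 u = -u := by rw [hh]; exact hru
  have h7 : (QuotientGroup.mk h : PE Q) ≠ 1 := by
    intro h8
    rw [QuotientGroup.eq_one_iff] at h8
    rcases center_cases hnd hn h8 with h9 | h9
    · rw [h9] at hhu
      have h10 : u = -u := hhu
      have h11 : (2 : F) • u = 0 := by rw [two_smul]; nth_rewrite 2 [h10]; exact add_neg_cancel u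
      exact hu00 ((smul_eq_zero.mp h11).resolve_left h2)
    · rw [h9, ogNeg_apply] at hhw
      have h11 : (2 : F) • w = 0 := by rw [two_smul]; nth_rewrite 1 [← hhw]; exact neg_add_cancel w
      exact hw0 ((smul_eq_zero.mp h11).resolve_left h2)
  have h8 : (QuotientGroup.mk h : PE Q) ^ 2 = 1 := by
    rw [pow_two, ← QuotientGroup.mk_mul]
    have : h * h = 1 := Subtype.ext (by rw [hh]; exact hsq)
    rw [this]; rfl
  haveI : Fact (Nat.Prime 2) := ⟨Nat.prime_two⟩
  rw [← orderOf_eq_prime h8 h7]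
  exact orderOf_dvd_natCard _

end gen

section main

variable {F F₀ V V₀ : Type*} [Field F] [Finite F] [Field F₀] [Finite F₀] [AddCommGroup V] [Module F V] [FiniteDimensional F V]
  [AddCommGroup V₀] [Module F₀ V₀] [FiniteDimensional F₀ V₀]
  {Q : QuadraticForm F V} {Q₀ : QuadraticForm F₀ V₀} {j : F₀ →+* F} {β : V₀ → V} {d : Fˣ} {s : SSG Q}

/-- elements commuting with `aE s` -/
theorem commute_lift (hnd : ND Q) (hn : 5 ≤ Module.finrank F V) {r : ℕ} (hτ : orderOf s.1.2 = r) (hr : 0 < r) (hs : s ^ r = 1)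
    (q : SSG Q) (hq : aE Q q * aE Q s = aE Q s * aE Q q) : ∃ z : Fˣ, (scSS Q z * q) * s = s * (scSS Q z * q) := by
  have hsc : ∀ (p : SSG Q) (c : Fˣ), p * scSS Q c = scSS Q (uM p.1.2 c) * p := by
    intro p c
    apply ss_ext
    · intro x
      show p.1.1 (c • x) = uM p.1.2 c • p.1.1 x
      rw [Units.smul_def, ss_smul]; rfl
    · show p.1.2 * 1 = 1 * p.1.2
      rw [mul_one, one_mul]
  have h1 : q * s * q⁻¹ * s⁻¹ ∈ (aE Q).ker := by
    rw [MonoidHom.mem_ker, map_mul, map_mul, map_mul, map_inv, map_inv, hq, mul_inv_cancel_right, mul_inv_cancel]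
  rw [aE_ker hnd hn] at h1
  obtain ⟨c, hc⟩ := h1
  have h2 : q * s = scSS Q c * s * q := by
    rw [hc]; group
  have h3 : ∀ i, q * s ^ i = scSS Q (uN s.1.2 c i) * s ^ i * q := by
    intro i
    induction i with
    | zero => rw [pow_zero, uN_zero, map_one, mul_one, one_mul, one_mul]
    | succ i ih =>
      rw [pow_succ', ← mul_assoc, h2, mul_assoc _ q, ih, uN_succ, map_mul]
      calc scSS Q c * s * (scSS Q (uN s.1.2 c i) * s ^ i * q) = scSS Q c * (s * scSS Q (uN s.1.2 c i)) * s ^ i * q := by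
            simp only [mul_assoc]
        _ = _ := by rw [hsc]; simp only [mul_assoc]
  have h4 := h3 r
  rw [hs, mul_one, mul_one] at h4
  have h5 : uN s.1.2 c r = 1 := by
    apply scSS_injective (Q := Q) (exists_ne_q hnd (by omega))
    rw [map_one]
    exact (right_eq_mul.mp h4)
  obtain ⟨y, hy⟩ := hilbert90_u s.1.2 hτ hr c h5
  refine ⟨y⁻¹, ?_⟩
  rw [mul_assoc, h2, ← mul_assoc, ← mul_assoc, ← mul_assoc, hsc s, ← map_mul]
  congr 3
  rw [map_inv, ← hy, _root_.mul_inv_rev, hy, inv_mul_cancel_right]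

namespace Desc

variable (D : Desc Q Q₀ j β d s)

include D

/-- extension of the elements of `EG Q₀` -/
theorem exists_hom : ∃ φ : EG Q₀ →* EG Q, ∀ g, DR β g.1 (φ g).1 := by
  have h : ∀ g : EG Q₀, ∃ h : EG Q, DR β g.1 h.1 := fun g => by
    obtain ⟨h, hh, hr⟩ := D.ext_EG g.2
    exact ⟨⟨h, hh⟩, hr⟩
  choose φ hφ using h
  exact ⟨MonoidHom.mk' φ (fun a b => Subtype.ext (DR.unique D (hφ (a * b)) ((hφ a).mul (hφ b)))), hφ⟩

omit [Finite F] [FiniteDimensional F V] [Finite F₀] [FiniteDimensional F₀ V₀] in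
theorem conj_DR {q : SSG Q} {q₀ : SSG Q₀} (hq : ∀ v, q.1.1 (β v) = β (q₀.1.1 v)) {g : OG Q₀} {h : OG Q} (hh : DR β g h) :
    DR β (conjOG q₀ g) (conjOG q h) := by
  intro v
  obtain ⟨w, rfl⟩ := q₀.1.1.surjective v
  rw [← hq, conjOG_apply, Equiv.symm_apply_apply, conjOG_apply, Equiv.symm_apply_apply, hh, hq]

theorem lb (hnd : ND Q) (hn : 5 ≤ Module.finrank F V) (hn₀ : 5 ≤ Module.finrank F₀ V₀) (hsurj : Function.Surjective (aE Q))
    {r : ℕ} [hrp : Fact r.Prime] (hτ : orderOf s.1.2 = r) (hs : s ^ r = 1) (h2 : r = 2 → (2 : F) ≠ 0) :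
    LB r (Inn (PE Q)) (aE Q s) := by
  haveI : Finite V := Module.finite_of_finite F
  haveI : Finite V₀ := Module.finite_of_finite F₀
  haveI hfinE : Finite (EG Q) := Finite.of_injective (fun g : EG Q => fun x : V => g.1 x)
    (fun g g' hgg => Subtype.ext (og_ext fun x => congrFun hgg x))
  haveI hfinE₀ : Finite (EG Q₀) := Finite.of_injective (fun g : EG Q₀ => fun x : V₀ => g.1 x)
    (fun g g' hgg => Subtype.ext (og_ext fun x => congrFun hgg x))
  have hr : 0 < r := hrp.out.pos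
  have hnd₀ : ND Q₀ := D.nd hnd
  have hQ₀ : ∃ v, Q₀ v ≠ 0 := exists_ne_q hnd₀ (by omega)
  obtain ⟨φ, hφ⟩ := D.exists_hom
  -- commuting elements
  have hcm : ∀ c ∈ Subgroup.centralizer {aE Q s}, ∃ (q : SSG Q) (q₀ : SSG Q₀), aE Q q = c ∧ q * s = s * q ∧
      (∀ v, q.1.1 (β v) = β (q₀.1.1 v)) ∧ (∀ y, q.1.2 (j y) = j (q₀.1.2 y)) := by
    intro c hc
    obtain ⟨q, rfl⟩ := hsurj c
    obtain ⟨z, hz⟩ := commute_lift hnd hn hτ hr hs q (Subgroup.mem_centralizer_singleton_iff.mp hc)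
    obtain ⟨q₀, h1, h2⟩ := D.restrict hQ₀ hz (fP_comm _ _)
    exact ⟨_, q₀, by rw [map_mul, aE_ker_sc hnd hn, one_mul], hz, h1, h2⟩
  -- the homomorphism
  obtain ⟨Θ, hΘ⟩ : ∃ Θ : EG Q₀ →* MulAut (PE Q), ∀ g, Θ g = aE Q (ogSS Q (φ g).1) :=
    ⟨(aE Q).comp ((ogSS Q).comp ((EG Q).subtype.comp φ)), fun g => rfl⟩
  have hker : Θ.ker = Subgroup.center (EG Q₀) := by
    ext g
    rw [MonoidHom.mem_ker, hΘ, aE_eq_one_iff hnd hn, eg_center hnd₀ hn₀]
    constructor
    · rintro ⟨_, c, hc⟩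
      obtain ⟨v, hv⟩ := hQ₀
      have hv0 : v ≠ 0 := by rintro rfl; exact hv (q_zero Q₀)
      have h1 : ∀ v, (c : F) • β v = β (g.1 v) := by
        intro v
        rw [← hφ g v, ← ogSS_apply, hc, Units.smul_def]
      have hcc : (c : F) * c = 1 := by
        have h3 : Q ((c : F) • β v) = Q (β v) := by rw [h1, D.form', D.form', og_q]
        rw [q_smul] at h3
        exact (mul_left_eq_self₀.mp h3).resolve_right (D.ne v hv)
      have hc1 : (c : F) = 1 ∨ (c : F) = -1 := mul_self_eq_one_iff.mp hcc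
      rcases hc1 with hc1 | hc1
      · refine ⟨1, one_mul _, fun x => D.inj ?_⟩
        rw [← h1, hc1, one_smul, one_smul]
      · refine ⟨-1, by ring, fun x => D.inj ?_⟩
        rw [← h1, hc1, D.smul, map_neg, map_one]
    · rintro ⟨ε, hε, hx⟩
      refine ⟨rfl, ⟨j ε, j ε, by rw [← map_mul, hε, map_one], by rw [← map_mul, hε, map_one]⟩, fun x => ?_⟩
      have h1 : (φ g).1 = ⟨LinearEquiv.smulOfUnit ⟨j ε, j ε, by rw [← map_mul, hε, map_one], by rw [← map_mul, hε, map_one]⟩, fun x => by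
          show Q (j ε • x) = Q x
          rw [q_smul, ← map_mul, hε, map_one, one_mul]⟩ := by
        apply D.ogext
        intro v
        rw [hφ, hx, D.smul]
        rfl
      rw [ogSS_apply, h1]
      rfl
  have hΘr : ∀ l ∈ Θ.range, ∃ g, Θ g = l := fun l hl => hl
  haveI hsimp : IsSimpleGroup (PE Q₀) := eg_simple hnd₀ hn₀
  have e1 : (PE Q₀) ≃* Θ.range := (QuotientGroup.quotientMulEquivOfEq hker.symm).trans (QuotientGroup.quotientKerEquivRange Θ)
  have hcardΘ : Nat.card Θ.range = Nat.card (PE Q₀) := (Nat.card_congr e1.toEquiv).symm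
  have hcommφ : ∀ g, ogSS Q (φ g).1 * s = s * ogSS Q (φ g).1 := by
    intro g
    apply D.ext
    · show 1 * s.1.2 = s.1.2 * 1
      rw [mul_one, one_mul]
    · intro v
      show (φ g).1 (s.1.1 (β v)) = s.1.1 ((φ g).1 (β v))
      rw [D.fix', hφ, D.fix']
  refine ⟨Θ.range, ?_, ?_, ?_, ?_, ?_⟩
  · haveI : Nontrivial Θ.range := e1.symm.toEquiv.nontrivial
    exact IsSimpleGroup.isSimpleGroup_of_surjective e1.toMonoidHom e1.surjective
  · rintro _ ⟨g, rfl⟩
    rw [hΘ]
    refine ⟨aE_eg_mem_inn (φ g).2, Subgroup.mem_centralizer_singleton_iff.mpr ?_⟩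
    rw [← map_mul, hcommφ, map_mul]
  · rintro c hc _ ⟨g, rfl⟩
    obtain ⟨q, q₀, rfl, hqs, h1, h2⟩ := hcm c hc
    refine ⟨⟨conjOG q₀ g.1, conjOG_mem q₀ g.2⟩, ?_⟩
    rw [hΘ, hΘ, ← map_inv, ← map_mul, ← map_mul]
    congr 1
    rw [eq_mul_inv_iff_mul_eq]
    have h3 := D.conj_DR h1 (hφ g)
    have h4 := DR.unique D (hφ ⟨conjOG q₀ g.1, conjOG_mem q₀ g.2⟩) h3
    apply ss_ext
    · intro x
      show (φ ⟨conjOG q₀ g.1, _⟩).1 (q.1.1 x) = q.1.1 ((φ g).1 x)
      rw [h4, conjOG_apply, Equiv.symm_apply_apply]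
    · show 1 * q.1.2 = q.1.2 * 1
      rw [mul_one, one_mul]
  · intro c hc hcl
    obtain ⟨q, q₀, rfl, hqs, h1, h2⟩ := hcm c hc
    have h3 : aE Q₀ q₀ = 1 := by
      apply autPE_ext
      intro g
      rw [aE_mk, MulAut.one_apply]
      have h4 := hcl (Θ g) ⟨g, rfl⟩
      rw [hΘ, ← map_mul, ← map_mul] at h4
      -- compare `conj q (φ g)` with `φ g`
      have h5 : aE Q (ogSS Q (conjOG q (φ g).1)) = aE Q (ogSS Q (φ g).1) := by
        have h6 : ogSS Q (conjOG q (φ g).1) * q = q * ogSS Q (φ g).1 := by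
          apply ss_ext
          · intro x
            show (conjOG q (φ g).1) (q.1.1 x) = q.1.1 ((φ g).1 x)
            rw [conjOG_apply, Equiv.symm_apply_apply]
          · show 1 * q.1.2 = q.1.2 * 1
            rw [mul_one, one_mul]
        have h7 := congrArg (aE Q) h6
        rw [h4, map_mul, map_mul] at h7
        exact mul_right_cancel h7
      have h6 : Θ ⟨conjOG q₀ g.1, conjOG_mem q₀ g.2⟩ = Θ g := by
        rw [hΘ, hΘ, ← h5]
        congr 2
        exact DR.unique D (hφ ⟨conjOG q₀ g.1, conjOG_mem q₀ g.2⟩) (D.conj_DR h1 (hφ g))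
      rw [QuotientGroup.eq]
      rw [← hker, MonoidHom.mem_ker, map_mul, map_inv, inv_mul_eq_one]
      exact h6
    rw [aE_eq_one_iff hnd₀ hn₀] at h3
    obtain ⟨h4, c₀, hc₀⟩ := h3
    have h5 : q.1.2 ∈ Subgroup.zpowers s.1.2 := by
      apply mem_zpowers_of_fix
      intro x hx
      obtain ⟨y, rfl⟩ := (D.hj x).mp hx
      rw [h2, h4]; rfl
    rw [← (orderOf_pos_iff.mp (by rw [hτ]; exact hr)).mem_powers_iff_mem_zpowers] at h5
    obtain ⟨i, hi⟩ := h5
    have h6 : q = scSS Q (Units.map (j : F₀ →* F) c₀) * s ^ i := by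
      have hsi : ∀ i v, (s ^ i).1.1 (β v) = β v := by
        intro i v
        induction i with
        | zero => rfl
        | succ i ih =>
          rw [pow_succ']
          show s.1.1 ((s ^ i).1.1 (β v)) = β v
          rw [ih, D.fix']
      have hsi2 : ∀ i, (s ^ i).1.2 = s.1.2 ^ i := by
        intro i
        induction i with
        | zero => rfl
        | succ i ih => rw [pow_succ', pow_succ', ← ih]; rfl
      apply D.ext
      · show q.1.2 = 1 * (s ^ i).1.2
        rw [one_mul, hsi2]; exact hi.symm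
      · intro v
        show q.1.1 (β v) = (Units.map (j : F₀ →* F) c₀) • (s ^ i).1.1 (β v)
        rw [h1, hc₀, hsi, Units.smul_def, D.smul, Units.smul_def]
        rfl
    rw [h6, map_mul, aE_ker_sc hnd hn, one_mul, map_pow]
    exact Subgroup.npow_mem_zpowers _ _
  · intro hdiv
    rw [hcardΘ]
    by_cases hr2 : r = 2
    · have h2' := h2 hr2
      subst hr2
      exact even_card_PE (two_ne_zero_of_emb j h2') hnd₀ hn₀
    · haveI hfinA : Finite (MulAut (PE Q)) := inferInstance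
      obtain ⟨y, hy⟩ := exists_prime_orderOf_dvd_card' r hdiv
      have hy1 : orderOf (y : MulAut (PE Q)) = r := by
        rw [← hy]; exact orderOf_injective (Subgroup.subtype _) (Subgroup.subtype_injective _) y
      obtain ⟨hyI, hyC⟩ := y.2
      obtain ⟨q, q₀, hqy, hqs, h3, h4⟩ := hcm _ hyC
      have hq1 : q.1.2 = 1 := by
        obtain ⟨x, hx⟩ := hyI
        obtain ⟨g, rfl⟩ := QuotientGroup.mk_surjective x
        have h5 : aE Q (q * (ogSS Q g.1)⁻¹) = 1 := by
          rw [map_mul, map_inv, aE_ogSS, hqy, ← hx]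
          exact mul_inv_cancel _
        rw [aE_eq_one_iff hnd hn] at h5
        have h6 : q.1.2 * (1 : F ≃+* F)⁻¹ = 1 := h5.1
        rwa [inv_one, mul_one] at h6
      have hq₀1 : q₀.1.2 = 1 := by
        apply RingEquiv.ext
        intro x
        apply j.injective
        rw [← h4, hq1]; rfl
      obtain ⟨c₀, g₀, hg₀, hc₀⟩ := lin_four hnd₀ hn₀ q₀ hq₀1
      have h5 : q * q * (q * q) = scSS Q (Units.map (j : F₀ →* F) c₀) * ogSS Q (φ ⟨g₀, hg₀⟩).1 := by
        apply D.ext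
        · show q.1.2 * q.1.2 * (q.1.2 * q.1.2) = 1 * 1
          rw [hq1, one_mul, one_mul]
        · intro v
          show q.1.1 (q.1.1 (q.1.1 (q.1.1 (β v)))) = (Units.map (j : F₀ →* F) c₀) • (φ ⟨g₀, hg₀⟩).1 (β v)
          have h6 : q₀.1.1 (q₀.1.1 (q₀.1.1 (q₀.1.1 v))) = c₀ • g₀ v := congrArg (fun p : SSG Q₀ => p.1.1 v) hc₀
          rw [h3, h3, h3, h3, h6, hφ, Units.smul_def, D.smul, Units.smul_def]
          rfl
      have h6 : (y : MulAut (PE Q)) ^ 4 ∈ Θ.range := by
        refine ⟨⟨g₀, hg₀⟩, ?_⟩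
        have h7 : (y : MulAut (PE Q)) ^ 4 = aE Q (q * q * (q * q)) := by
          rw [map_mul, map_mul, hqy, pow_succ, pow_succ, pow_succ, pow_one]; simp only [mul_assoc]
        rw [h7, h5, map_mul, aE_ker_sc hnd hn, one_mul, hΘ]
      have hcop : Nat.Coprime 4 r := by
        have : Nat.Coprime (2 ^ 2) r := Nat.Coprime.pow_left 2 ((Nat.coprime_primes Nat.prime_two hrp.out).mpr (Ne.symm hr2))
        exact this
      have h7 : orderOf ((y : MulAut (PE Q)) ^ 4) = r := by
        rw [Nat.Coprime.orderOf_pow (by rw [hy1]; exact hcop.symm), hy1]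
      have h8 : orderOf (⟨_, h6⟩ : Θ.range) = r := by
        rw [← h7]
        exact (orderOf_injective (Subgroup.subtype _) (Subgroup.subtype_injective _) (⟨_, h6⟩ : Θ.range)).symm
      rw [← hcardΘ, ← h8]
      exact orderOf_dvd_natCard _

end Desc

end main

end Cfsg.Agent.H17
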