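import Mathlib
import Cfsg.Agent.H17.Desc2

set_option autoImplicit false

/-! Local balance for orthogonal groups. -/

namespace Cfsg.Agent.H17

open Cfsg Cfsg.Agent.H5
open scoped MatrixGroups Matrix

section coords

variable {F : Type*} [Field F] {ι : Type} [Fintype ι] [DecidableEq ι] {Q : QuadraticForm F (ι → F)}

/-- descent data in coordinates -/
theorem desc_of_coords {F₀ : Type*} [Field F₀] (p : SSG Q) {j : F₀ →+* F} (hj : ∀ x, p.1.2 x = x ↔ ∃ y, j y = x)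
    {b : GL ι F} {d : Fˣ} {Q₀ : QuadraticForm F₀ (ι → F₀)}
    (hb : ∀ x, p.1.1 ((b : Matrix ι ι F) *ᵥ x) = (b : Matrix ι ι F) *ᵥ svI p.1.2 x)
    (hQ₀ : ∀ v, j (Q₀ v) = d * Q ((b : Matrix ι ι F) *ᵥ jV j v)) :
    Desc Q Q₀ j (fun v => (b : Matrix ι ι F) *ᵥ jV j v) d p := by
  have hj' : ∀ y, p.1.2 (j y) = j y := fun y => (hj _).mpr ⟨y, rfl⟩
  have hb1 : ∀ w, (b : Matrix ι ι F) *ᵥ (((b⁻¹ : GL ι F) : Matrix ι ι F) *ᵥ w) = w := fun w => by
    rw [Matrix.mulVec_mulVec, ← Units.val_mul, mul_inv_cancel, Units.val_one, Matrix.one_mulVec]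
  have hb2 : ∀ w, ((b⁻¹ : GL ι F) : Matrix ι ι F) *ᵥ ((b : Matrix ι ι F) *ᵥ w) = w := fun w => by
    rw [Matrix.mulVec_mulVec, ← Units.val_mul, inv_mul_cancel, Units.val_one, Matrix.one_mulVec]
  have hbinj : ∀ {x y}, (b : Matrix ι ι F) *ᵥ x = (b : Matrix ι ι F) *ᵥ y → x = y := by
    intro x y h
    rw [← hb2 x, h, hb2]
  refine ⟨hj, ?_, ?_, ?_, ?_, hQ₀, ?_⟩
  · intro x
    constructor
    · intro h
      rw [← hb1 x, hb] at h
      have h1 := hbinj h
      have h2 : ∀ i, ∃ y, j y = (((b⁻¹ : GL ι F) : Matrix ι ι F) *ᵥ x) i := fun i => (hj _).mp (congrFun h1 i)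
      choose v hv using h2
      refine ⟨v, ?_⟩
      have h3 : jV j v = ((b⁻¹ : GL ι F) : Matrix ι ι F) *ᵥ x := funext hv
      show (b : Matrix ι ι F) *ᵥ jV j v = x
      rw [h3, hb1]
    · rintro ⟨v, rfl⟩
      show p.1.1 ((b : Matrix ι ι F) *ᵥ jV j v) = (b : Matrix ι ι F) *ᵥ jV j v
      rw [hb, svI_jV hj']
  · intro u v
    show (b : Matrix ι ι F) *ᵥ jV j (u + v) = _
    rw [jV_add, Matrix.mulVec_add]
  · intro c v
    show (b : Matrix ι ι F) *ᵥ jV j (c • v) = _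
    rw [jV_smul, Matrix.mulVec_smul]
  · intro u v h
    exact jV_inj j (hbinj h)
  · rw [eq_top_iff]
    intro x _
    rw [← hb1 x, pi_eq_sum (((b⁻¹ : GL ι F) : Matrix ι ι F) *ᵥ x), Matrix.mulVec_sum]
    apply Submodule.sum_mem
    intro i _
    rw [Matrix.mulVec_smul]
    apply Submodule.smul_mem
    apply Submodule.subset_span
    exact ⟨Pi.single i 1, by
      show (b : Matrix ι ι F) *ᵥ jV j (Pi.single i 1) = _
      rw [jV_single]⟩

variable [Finite F]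

theorem POmega_center (hnd : ND Q) (hn : 5 ≤ Fintype.card ι) : Subgroup.center (POmega F ⇑Q) = ⊥ := by
  have h1 := PE_center hnd (semi_card hn)
  rw [eq_bot_iff]
  intro z hz
  have h2 : pomEquiv hnd hn z ∈ Subgroup.center (PE Q) := by
    rw [Subgroup.mem_center_iff] at hz ⊢
    intro g
    obtain ⟨g', rfl⟩ := (pomEquiv hnd hn).surjective g
    rw [← map_mul, hz, map_mul]
  rw [h1, Subgroup.mem_bot] at h2
  exact (MulEquiv.map_eq_one_iff _).mp h2

theorem lb_coords (hnd : ND Q) (hn : 5 ≤ Fintype.card ι) (hsurj : Function.Surjective (aE Q)) {x : MulAut (POmega F ⇑Q)}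
    {p : SSG Q} (hx : MulAut.congr (pomEquiv hnd hn) x = aE Q p) (hp : p.1.2 ≠ 1) {r : ℕ} [hr : Fact r.Prime] (hxr : orderOf x = r)
    (h2 : r = 2 → (2 : F) ≠ 0) : LB r (Inn (POmega F ⇑Q)) x := by
  have hn' := semi_card (F := F) hn
  have hord : ∀ y, orderOf (MulAut.congr (pomEquiv hnd hn) y) = orderOf y := fun y =>
    orderOf_injective (MulAut.congr (pomEquiv hnd hn)).toMonoidHom (MulAut.congr (pomEquiv hnd hn)).injective y
  have hxr' : aE Q p ^ r = 1 := by rw [← hx, ← hxr, ← hord, pow_orderOf_eq_one]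
  have hτ := ss_order hnd hn' hr.out hxr' hp
  obtain ⟨F₀, _, _, j, hj⟩ := exists_fixF F hr.out.ne_zero hτ
  obtain ⟨y, hy⟩ := ss_normalize hnd hn' p hτ hr.out.pos hxr'
  have hτ' : (scSS Q y * p).1.2 = p.1.2 := by
    show 1 * p.1.2 = p.1.2
    rw [one_mul]
  obtain ⟨b, d, Q₀, hb, hQ₀⟩ := ss_descend (exists_ne_q hnd (by omega)) (scSS Q y * p) (by rw [hτ']; exact hτ) hr.out.pos (j := j)
    (by rw [hτ']; exact hj) hy
  have D := desc_of_coords (scSS Q y * p) (j := j) (by rw [hτ']; exact hj) hb hQ₀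
  apply LB.equiv (MulAut.congr (pomEquiv hnd hn)) (inn_iff hnd hn)
  have h1 : MulAut.congr (pomEquiv hnd hn) x = aE Q (scSS Q y * p) := by
    rw [hx, map_mul, aE_ker_sc hnd hn', one_mul]
  rw [h1]
  exact D.lb hnd hn' (by rw [Module.finrank_fintype_fun_eq_card]; exact hn) hsurj (by rw [hτ']; exact hτ) hy h2

/-- the criterion for elements with nontrivial field part -/
theorem balance_coords (hnd : ND Q) (hn : 5 ≤ Fintype.card ι) (hsurj : Function.Surjective (aE Q)) {x : MulAut (POmega F ⇑Q)}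
    {p : SSG Q} (hx : MulAut.congr (pomEquiv hnd hn) x = aE Q p) (hp : p.1.2 ≠ 1) {r : ℕ} [hr : Fact r.Prime] (hxr : orderOf x = r)
    (h2 : r = 2 → (2 : F) ≠ 0) (A : Subgroup (MulAut (POmega F ⇑Q))) (hA : ∀ k : POmega F ⇑Q, MulAut.conj k ∈ A) :
    pPrimeCore r ↥(A ⊓ Subgroup.centralizer {x}) ≠ ⊥ ↔
      Nat.Coprime r (Nat.card ↥(MonoidHom.eqLocus x.toMonoidHom (MonoidHom.id (POmega F ⇑Q)))) := by
  haveI := Inn_normal (G := POmega F ⇑Q)
  haveI : Finite (EG Q) := Finite.of_injective (fun g : EG Q => fun x : ι → F => g.1 x)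
    (fun g g' hgg => Subtype.ext (og_ext fun x => congrFun hgg x))
  haveI : Finite (POmega F ⇑Q) := Finite.of_equiv _ (pomEquiv hnd hn).symm.toEquiv
  haveI : Finite (MulAut (POmega F ⇑Q)) := inferInstance
  rw [fix_card (POmega_center hnd hn)]
  apply (lb_coords hnd hn hsurj hx hp hxr h2).main A _ hxr
  rintro _ ⟨k, rfl⟩
  exact hA k

end coords

theorem balance_odd {F : Type*} [Field F] [Finite F] {m : ℕ} (h2 : (2 : F) ≠ 0) (hm : 2 ≤ m) (A : Subgroup (MulAut (POmega F ⇑(qOdd m F))))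
    (hA : ∀ k : POmega F ⇑(qOdd m F), MulAut.conj k ∈ A) {p : ℕ} [hp : Fact p.Prime] (x : MulAut (POmega F ⇑(qOdd m F)))
    (hord : orderOf x = p) (hnot : ¬ IsSimilarityInducedAutPOmega ⇑(qOdd m F) x) :
    pPrimeCore p ↥(A ⊓ Subgroup.centralizer {x}) ≠ ⊥ ↔ (IsFieldAutClassPOmega ⇑(qOdd m F) x ∧
      Nat.Coprime p (Nat.card ↥(MonoidHom.eqLocus x.toMonoidHom (MonoidHom.id (POmega F ⇑(qOdd m F)))))) := by
  have hnd : ND (qOdd m F) := nd_odd h2
  have hn : 5 ≤ Fintype.card (Unit ⊕ (Fin m ⊕ Fin m)) := by rw [card_odd_ι]; omega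
  have hn' : 5 ≤ Module.finrank F (Unit ⊕ (Fin m ⊕ Fin m) → F) := by rw [fr_odd]; omega
  obtain ⟨q, hq⟩ := surj_odd h2 hm (MulAut.congr (pomEquiv hnd hn) x)
  have hq1 : q.1.2 ≠ 1 := by
    intro h1
    apply hnot
    obtain ⟨g, hg⟩ := exists_goSS q h1
    exact ⟨g.1, g.2, (inducedPOm_iff hnd hn (σ := 1) g.2 x).mpr (by rw [← hq, ← hg]; rfl)⟩
  rw [balance_coords hnd hn (surj_odd h2 hm) hq.symm hq1 hord (fun _ => h2) A hA]
  constructor
  · intro h
    refine ⟨?_, h⟩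
    have hord' : ∀ y, orderOf (MulAut.congr (pomEquiv hnd hn) y) = orderOf y := fun y =>
      orderOf_injective (MulAut.congr (pomEquiv hnd hn)).toMonoidHom (MulAut.congr (pomEquiv hnd hn)).injective y
    have hxr' : aE (qOdd m F) q ^ p = 1 := by rw [hq, ← hord, ← hord', pow_orderOf_eq_one]
    have hτ := ss_order hnd hn' hp.out hxr' hq1
    obtain ⟨F₀, _, _, j, hj⟩ := exists_fixF F hp.out.ne_zero hτ
    obtain ⟨k, hk1, hk2⟩ := conj_std_odd h2 hm q hτ hp.out.pos hj hxr'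
    refine ⟨(MulAut.congr (pomEquiv hnd hn)).symm (aE _ k)⁻¹, (MulAut.congr (pomEquiv hnd hn)).symm (aE _ (stdS (qOdd m F) q.1.2 (qOdd_svI _))), q.1.2, hq1, ?_, ?_⟩
    · rw [fieldPOm_iff hnd hn (qOdd_svI _), MulEquiv.apply_symm_apply]
    · apply (MulAut.congr (pomEquiv hnd hn)).injective
      simp only [map_mul, map_inv, MulEquiv.apply_symm_apply]
      rw [← hq, hk2]
      group
  · exact fun h => h.2

end Cfsg.Agent.H17
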