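import Mathlib
import Cfsg.Agent.H17.CommInv
import Cfsg.Agent.H5.UnitBasic

set_option autoImplicit false

/-! Conjugacy in general unitary groups over finite fields. -/

namespace Cfsg.Agent.H17

open scoped MatrixGroups Matrix

section sT

variable {K : Type*} [Field K] {n : ℕ}

/-- conjugate transpose -/
def sT (n : ℕ) (σ : K →+* K) (X : Matrix (Fin n) (Fin n) K) : Matrix (Fin n) (Fin n) K := (X.map σ)ᵀ

theorem sT_AI {σ : K →+* K} (hσ2 : ∀ x, σ (σ x) = x) : AI (sT n σ) where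
  add x y := by
    unfold sT
    rw [Matrix.map_add _ (map_add σ), Matrix.transpose_add]
  mul x y := by
    unfold sT
    rw [Matrix.map_mul, Matrix.transpose_mul]
  inv x := by
    ext i j
    exact hσ2 _
  one := by
    unfold sT
    rw [Matrix.map_one _ (map_zero σ) (map_one σ), Matrix.transpose_one]

theorem mem_GU_sT {q : ℕ} {σ : K →+* K} (hσ : ∀ x, σ x = x ^ q) (hσ2 : ∀ x, σ (σ x) = x) (g : GL (Fin n) K) :
    g ∈ Cfsg.GU n K q ↔ sT n σ g * g = 1 := by
  have h1 : g ∈ Cfsg.GU n K q ↔ ∀ u v : Fin n → K, Cfsg.hermForm n K q ((g : Matrix (Fin n) (Fin n) K) *ᵥ u) ((g : Matrix (Fin n) (Fin n) K) *ᵥ v) = Cfsg.hermForm n K q u v := Iff.rfl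
  have h2 : ∀ u v : Fin n → K, Cfsg.hermForm n K q u v = u ⬝ᵥ (σ ∘ v) := by
    intro u v
    unfold Cfsg.hermForm
    show ∑ i, u i * (v i) ^ q = ∑ i, u i * σ (v i)
    simp only [hσ]
  have h3 : ∀ v : Fin n → K, σ ∘ ((g : Matrix (Fin n) (Fin n) K) *ᵥ v) = (g : Matrix (Fin n) (Fin n) K).map σ *ᵥ (σ ∘ v) := by
    intro v
    funext i
    exact RingHom.map_mulVec σ _ v i
  have h4 : ∀ u v : Fin n → K, Cfsg.hermForm n K q ((g : Matrix (Fin n) (Fin n) K) *ᵥ u) ((g : Matrix (Fin n) (Fin n) K) *ᵥ v) =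
      u ⬝ᵥ (((g : Matrix (Fin n) (Fin n) K)ᵀ * (g : Matrix (Fin n) (Fin n) K).map σ) *ᵥ (σ ∘ v)) := by
    intro u v
    rw [h2, h3, ← Matrix.mulVec_mulVec, dotProduct_comm ((g : Matrix (Fin n) (Fin n) K) *ᵥ u), Matrix.dotProduct_mulVec, dotProduct_comm,
      Matrix.mulVec_transpose]
  have h5 : (sT n σ g * (g : Matrix (Fin n) (Fin n) K))ᵀ = (g : Matrix (Fin n) (Fin n) K)ᵀ * (g : Matrix (Fin n) (Fin n) K).map σ := by
    unfold sT
    rw [Matrix.transpose_mul, Matrix.transpose_transpose]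
  rw [h1]
  constructor
  · intro h
    have h6 : (g : Matrix (Fin n) (Fin n) K)ᵀ * (g : Matrix (Fin n) (Fin n) K).map σ = 1 := by
      ext i j
      have h7 := h (Pi.single i 1) (Pi.single j 1)
      rw [h4, h2] at h7
      have h8 : σ ∘ (Pi.single j 1 : Fin n → K) = Pi.single j 1 := by
        funext k
        show σ ((Pi.single j 1 : Fin n → K) k) = (Pi.single j 1 : Fin n → K) k
        rw [Pi.single_apply]
        split_ifs
        · exact map_one σ
        · exact map_zero σ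
      rw [h8, single_one_dotProduct, Matrix.mulVec_single_one, single_one_dotProduct] at h7
      rw [Matrix.one_apply]
      rw [Pi.single_apply] at h7
      exact h7
    rw [← h5] at h6
    have := congrArg Matrix.transpose h6
    rwa [Matrix.transpose_transpose, Matrix.transpose_one] at this
  · intro h u v
    rw [h4, ← h5, h, Matrix.transpose_one, Matrix.one_mulVec, h2]

end sT

section main

variable {K : Type*} [Field K] [Finite K] {n : ℕ}

theorem exists_zK {σ : K →+* K} (hσ1 : σ ≠ RingHom.id K) : ∃ k : K, k - σ k ≠ 0 := by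
  by_contra h
  push Not at h
  exact hσ1 (RingHom.ext fun k => (sub_eq_zero.mp (h k)).symm)

theorem sT_scalar (σ : K →+* K) (k : K) : sT n σ (Matrix.scalar (Fin n) k) = Matrix.scalar (Fin n) (σ k) := by
  unfold sT
  ext i j
  rw [Matrix.transpose_apply, Matrix.map_apply, Matrix.scalar_apply, Matrix.scalar_apply, Matrix.diagonal_apply, Matrix.diagonal_apply]
  by_cases h : i = j
  · rw [if_pos h, if_pos h.symm]
  · rw [if_neg h, if_neg (Ne.symm h), map_zero]

theorem isUnit_scalar {k : K} (hk : k ≠ 0) : IsUnit (Matrix.scalar (Fin n) k) := (isUnit_iff_ne_zero.mpr hk).map (Matrix.scalar (Fin n))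

theorem uni_main {σ : K →+* K} (hσ1 : σ ≠ RingHom.id K) (hσ2 : ∀ x, σ (σ x) = x) (P A : GL (Fin n) K)
    (hA : sT n σ A * P * A = P) {c : Matrix (Fin n) (Fin n) K} (hcA : c * A = A * c)
    (hcT : c * (((P⁻¹ : GL (Fin n) K) : Matrix (Fin n) (Fin n) K) * sT n σ P) = (((P⁻¹ : GL (Fin n) K) : Matrix (Fin n) (Fin n) K) * sT n σ P) * c)
    (hcP : sT n σ c * P = P * c) :
    (IsUnit c → ∃ x : GL (Fin n) K, (x : Matrix (Fin n) (Fin n) K) * A = A * x ∧ sT n σ x * P * x = P * c) ∧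
    (∃ x : GL (Fin n) K, (x : Matrix (Fin n) (Fin n) K) * A = A * x ∧ sT n σ x * sT n σ P = P * x) := by
  obtain ⟨k, hk⟩ := exists_zK hσ1
  refine (sT_AI hσ2).sum_main P A hA hcA hcT hcP (z := Matrix.scalar (Fin n) k) ?_ ?_
  · intro y _ _ _
    exact (Matrix.scalar_commute k (fun r' => Commute.all k r') y).eq
  · rw [sT_scalar]
    have h1 : ((P⁻¹ : GL (Fin n) K) : Matrix (Fin n) (Fin n) K) * Matrix.scalar (Fin n) (σ k) = Matrix.scalar (Fin n) (σ k) * ((P⁻¹ : GL (Fin n) K) : Matrix (Fin n) (Fin n) K) :=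
      ((Matrix.scalar_commute (σ k) (fun r' => Commute.all _ r') _).eq).symm
    rw [h1, mul_assoc, Units.inv_mul, mul_one, ← map_sub]
    exact isUnit_scalar hk

theorem gu_conj {K : Type*} [Field K] [Fintype K] {q n : ℕ} (hK : Fintype.card K = q ^ 2) (A B : ↥(Cfsg.GU n K q)) : IsConj A B ↔ IsConj (A : GL (Fin n) K) (B : GL (Fin n) K) := by
  obtain ⟨σ, hσ, hσ2, hσ1⟩ := H5.exists_frob hK
  have HS := sT_AI (n := n) hσ2
  constructor
  · intro h
    exact (Subgroup.subtype _).map_isConj h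
  · intro h
    rw [isConj_iff] at h
    obtain ⟨P, hP⟩ := h
    have hA := (mem_GU_sT hσ hσ2 (A : GL (Fin n) K)).mp A.2
    have hB := (mem_GU_sT hσ hσ2 (B : GL (Fin n) K)).mp B.2
    have hBP : ((B : GL (Fin n) K) : Matrix (Fin n) (Fin n) K) * P = P * (A : GL (Fin n) K) := by
      have : (B : GL (Fin n) K) * P = P * A := by rw [← hP]; group
      exact congrArg Units.val this
    have hc1 : sT n σ (A : GL (Fin n) K) * (sT n σ P * P) * (A : GL (Fin n) K) = sT n σ P * P := by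
      have h1 := congrArg (sT n σ) hBP
      rw [HS.mul, HS.mul] at h1
      calc sT n σ (A : GL (Fin n) K) * (sT n σ P * P) * (A : GL (Fin n) K) = (sT n σ (A : GL (Fin n) K) * sT n σ P) * (P * (A : GL (Fin n) K)) := by noncomm_ring
        _ = sT n σ P * (sT n σ (B : GL (Fin n) K) * (B : GL (Fin n) K)) * P := by rw [← h1, ← hBP]; noncomm_ring
        _ = _ := by rw [hB, mul_one]
    have hA' : ((A : GL (Fin n) K) : Matrix (Fin n) (Fin n) K) * sT n σ (A : GL (Fin n) K) = 1 := mul_eq_one_comm.mp hA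
    have hcA : (sT n σ P * P) * (A : GL (Fin n) K) = (A : GL (Fin n) K) * (sT n σ P * P) := by
      calc (sT n σ P * P) * (A : GL (Fin n) K) = 1 * ((sT n σ P * P) * (A : GL (Fin n) K)) := by rw [one_mul]
        _ = (A : GL (Fin n) K) * (sT n σ (A : GL (Fin n) K) * (sT n σ P * P) * (A : GL (Fin n) K)) := by rw [← hA']; noncomm_ring
        _ = _ := by rw [hc1]
    have hcu : IsUnit (sT n σ P * (P : Matrix (Fin n) (Fin n) K)) := (HS.u P).isUnit.mul P.isUnit
    have e1 : ((1⁻¹ : GL (Fin n) K) : Matrix (Fin n) (Fin n) K) * sT n σ ((1 : GL (Fin n) K) : Matrix (Fin n) (Fin n) K) = 1 := by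
      rw [inv_one, Units.val_one, HS.one, one_mul]
    obtain ⟨x, hx1, hx2⟩ := (uni_main hσ1 hσ2 1 (A : GL (Fin n) K) (by rw [Units.val_one, mul_one, hA]) hcA (by rw [e1, mul_one, one_mul])
      (by rw [Units.val_one, mul_one, one_mul, HS.mul, HS.inv])).1 hcu
    rw [Units.val_one, mul_one, one_mul] at hx2
    have hU : P * x⁻¹ ∈ Cfsg.GU n K q := by
      rw [mem_GU_sT hσ hσ2, Units.val_mul, HS.mul]
      have e2 : sT n σ ((x⁻¹ : GL (Fin n) K) : Matrix (Fin n) (Fin n) K) * sT n σ x = 1 := by rw [← HS.mul, Units.mul_inv, HS.one]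
      calc sT n σ ((x⁻¹ : GL (Fin n) K) : Matrix (Fin n) (Fin n) K) * sT n σ P * (P * ((x⁻¹ : GL (Fin n) K) : Matrix (Fin n) (Fin n) K))
          = sT n σ ((x⁻¹ : GL (Fin n) K) : Matrix (Fin n) (Fin n) K) * (sT n σ P * P) * ((x⁻¹ : GL (Fin n) K) : Matrix (Fin n) (Fin n) K) := by noncomm_ring
        _ = (sT n σ ((x⁻¹ : GL (Fin n) K) : Matrix (Fin n) (Fin n) K) * sT n σ x) * (x * ((x⁻¹ : GL (Fin n) K) : Matrix (Fin n) (Fin n) K)) := by rw [← hx2]; noncomm_ring
        _ = 1 := by rw [e2, Units.mul_inv, mul_one]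
    rw [isConj_iff]
    refine ⟨⟨P * x⁻¹, hU⟩, Subtype.ext ?_⟩
    show P * x⁻¹ * (A : GL (Fin n) K) * (P * x⁻¹)⁻¹ = B
    have hx1' : x * (A : GL (Fin n) K) = (A : GL (Fin n) K) * x := Units.ext hx1
    calc P * x⁻¹ * (A : GL (Fin n) K) * (P * x⁻¹)⁻¹ = P * (x⁻¹ * ((A : GL (Fin n) K) * x)) * P⁻¹ := by group
      _ = P * (A : GL (Fin n) K) * P⁻¹ := by rw [← hx1']; group
      _ = B := hP

theorem gu_similar {K : Type*} [Field K] [Fintype K] {q n : ℕ} (hK : Fintype.card K = q ^ 2) (A : GL (Fin n) K) :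
    (∃ B : ↥(Cfsg.GU n K q), IsConj A (B : GL (Fin n) K)) ↔ IsConj (A : Matrix (Fin n) (Fin n) K) (((A : Matrix (Fin n) (Fin n) K).map (fun x : K => x ^ q)).transpose)⁻¹ := by
  obtain ⟨σ, hσ, hσ2, hσ1⟩ := H5.exists_frob hK
  have HS := sT_AI (n := n) hσ2
  have e0 : ((A : Matrix (Fin n) (Fin n) K).map (fun x : K => x ^ q)).transpose = sT n σ A := by
    unfold sT
    congr 2
    funext x
    exact (hσ x).symm
  rw [e0]
  have e1 : (sT n σ A)⁻¹ = (((HS.u A)⁻¹ : GL (Fin n) K) : Matrix (Fin n) (Fin n) K) := by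
    rw [Matrix.coe_units_inv]; rfl
  rw [e1]
  constructor
  · rintro ⟨B, hAB⟩
    rw [isConj_iff] at hAB
    obtain ⟨P, hP⟩ := hAB
    have hB := (mem_GU_sT hσ hσ2 (B : GL (Fin n) K)).mp B.2
    have hB' : HS.u (B : GL (Fin n) K) * B = 1 := Units.ext hB
    -- (s A)⁻¹ = s P * B * (s P)⁻¹
    have h1 : HS.u (B : GL (Fin n) K) = HS.u P⁻¹ * HS.u A * HS.u P := by
      apply Units.ext
      show sT n σ (B : GL (Fin n) K) = sT n σ ((P⁻¹ : GL (Fin n) K) : Matrix (Fin n) (Fin n) K) * sT n σ A * sT n σ P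
      rw [← hP, Units.val_mul, Units.val_mul, HS.mul, HS.mul, mul_assoc]
    have h2 : HS.u P⁻¹ * HS.u P = 1 := by
      apply Units.ext
      show sT n σ ((P⁻¹ : GL (Fin n) K) : Matrix (Fin n) (Fin n) K) * sT n σ P = 1
      rw [← HS.mul, Units.mul_inv, HS.one]
    have h3 : HS.u P⁻¹ = (HS.u P)⁻¹ := eq_inv_of_mul_eq_one_left h2
    have h4 : (HS.u A)⁻¹ = HS.u P * B * (HS.u P)⁻¹ := by
      have h5 : (B : GL (Fin n) K) = (HS.u (B : GL (Fin n) K))⁻¹ := eq_inv_of_mul_eq_one_right hB'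
      rw [h5, h1, h3]; group
    have h5 : IsConj A ((HS.u A)⁻¹) := by
      rw [isConj_iff]
      refine ⟨HS.u P * P, ?_⟩
      rw [h4, ← hP]; group
    exact (Units.coeHom (Matrix (Fin n) (Fin n) K)).map_isConj h5
  · rintro ⟨P, hP⟩
    have hP' : (P : Matrix (Fin n) (Fin n) K) * A = (((HS.u A)⁻¹ : GL (Fin n) K) : Matrix (Fin n) (Fin n) K) * P := hP
    have hAP : sT n σ A * P * A = P := by
      rw [mul_assoc, hP', ← mul_assoc]
      have : sT n σ A * (((HS.u A)⁻¹ : GL (Fin n) K) : Matrix (Fin n) (Fin n) K) = 1 := Units.mul_inv (HS.u A)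
      rw [this, one_mul]
    obtain ⟨x, hx1, hx2⟩ := (uni_main hσ1 hσ2 P A hAP (c := 1) (by rw [one_mul, mul_one]) (by rw [one_mul, mul_one]) (by rw [HS.one, one_mul, mul_one])).2
    -- the hermitian form
    set H : GL (Fin n) K := P * x with hH
    have hHs : sT n σ H = H := by rw [hH, Units.val_mul, HS.mul, hx2]
    have hHA : sT n σ A * H * A = H := by
      rw [hH, Units.val_mul]
      calc sT n σ A * (P * x) * A = sT n σ A * P * (x * A) := by noncomm_ring
        _ = (sT n σ A * P * A) * x := by rw [hx1]; noncomm_ring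
        _ = _ := by rw [hAP]
    have e2 : ((1⁻¹ : GL (Fin n) K) : Matrix (Fin n) (Fin n) K) * sT n σ ((1 : GL (Fin n) K) : Matrix (Fin n) (Fin n) K) = 1 := by
      rw [inv_one, Units.val_one, HS.one, one_mul]
    obtain ⟨y, -, hy⟩ := (uni_main hσ1 hσ2 1 (1 : GL (Fin n) K) (by rw [Units.val_one, mul_one, HS.one, mul_one]) (c := (H : Matrix (Fin n) (Fin n) K))
      (by rw [Units.val_one, mul_one, one_mul]) (by rw [e2, mul_one, one_mul])
      (by rw [Units.val_one, mul_one, one_mul, hHs])).1 H.isUnit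
    rw [Units.val_one, mul_one, one_mul] at hy
    have hU : y * A * y⁻¹ ∈ Cfsg.GU n K q := by
      rw [mem_GU_sT hσ hσ2, Units.val_mul, Units.val_mul, HS.mul, HS.mul]
      have e3 : sT n σ ((y⁻¹ : GL (Fin n) K) : Matrix (Fin n) (Fin n) K) * sT n σ y = 1 := by rw [← HS.mul, Units.mul_inv, HS.one]
      calc sT n σ ((y⁻¹ : GL (Fin n) K) : Matrix (Fin n) (Fin n) K) * (sT n σ A * sT n σ y) * (y * A * ((y⁻¹ : GL (Fin n) K) : Matrix (Fin n) (Fin n) K))
          = sT n σ ((y⁻¹ : GL (Fin n) K) : Matrix (Fin n) (Fin n) K) * (sT n σ A * (sT n σ y * y) * A) * ((y⁻¹ : GL (Fin n) K) : Matrix (Fin n) (Fin n) K) := by noncomm_ring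
        _ = (sT n σ ((y⁻¹ : GL (Fin n) K) : Matrix (Fin n) (Fin n) K) * sT n σ y) * (y * ((y⁻¹ : GL (Fin n) K) : Matrix (Fin n) (Fin n) K)) := by rw [hy, hHA, ← hy]; noncomm_ring
        _ = 1 := by rw [e3, Units.mul_inv, mul_one]
    exact ⟨⟨y * A * y⁻¹, hU⟩, isConj_iff.mpr ⟨y, rfl⟩⟩

end main

end Cfsg.Agent.H17
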