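import Mathlib
import Cfsg.Prelude.Def_Classical

set_option autoImplicit false

/-! Bounds for the dimension of totally singular subspaces of the standard forms. -/

namespace Cfsg.Agent.H17

open Module

/-- orthogonal complements w.r.t. the dot product. -/
theorem finrank_add_le_of_dot {F : Type*} [Field F] {m : ℕ} (P R : Submodule F (Fin m → F))
    (h : ∀ p ∈ P, ∀ r ∈ R, ∑ i, p i * r i = 0) : finrank F P + finrank F R ≤ m := by
  classical
  -- map R into dual annihilator of P
  let e : (Fin m → F) ≃ₗ[F] Dual F (Fin m → F) := (Pi.basisFun F (Fin m)).toDualEquiv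
  have he : ∀ r p : Fin m → F, e r p = ∑ i, p i * r i := by
    intro r p
    have h1 : e r p = (Pi.basisFun F (Fin m)).toDual r p := rfl
    rw [h1]
    conv_lhs => rw [← (Pi.basisFun F (Fin m)).sum_repr r]
    rw [map_sum, LinearMap.sum_apply]
    refine Finset.sum_congr rfl (fun i _ => ?_)
    rw [map_smul, LinearMap.smul_apply, Basis.toDual_apply_right, Pi.basisFun_repr, Pi.basisFun_repr, smul_eq_mul, mul_comm]
  have hle : R.map (e : (Fin m → F) →ₗ[F] Dual F (Fin m → F)) ≤ P.dualAnnihilator := by
    rintro _ ⟨r, hr, rfl⟩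
    rw [Submodule.mem_dualAnnihilator]
    intro p hp
    have := he r p
    rw [h p hp r hr] at this
    exact this
  have h1 : finrank F (R.map (e : (Fin m → F) →ₗ[F] Dual F (Fin m → F))) = finrank F R :=
    LinearEquiv.finrank_map_eq e R
  have h2 := Submodule.finrank_mono hle
  have h3 : finrank F P + finrank F P.dualAnnihilator = finrank F (Fin m → F) :=
    Subspace.finrank_add_finrank_dualAnnihilator_eq P
  rw [Module.finrank_fin_fun] at h3
  omega

/-- A totally singular subspace of `quadFormMinus m F a b` (anisotropic binary part) has dimension at most `m`. -/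
theorem finrank_le_of_ts_minus {F : Type*} [Field F] (m : ℕ) (a b : F)
    (hab : ∀ z₁ z₂ : F, z₁ ^ 2 + a * z₁ * z₂ + b * z₂ ^ 2 = 0 → z₁ = 0 ∧ z₂ = 0)
    (U : Submodule F ((Fin m ⊕ Fin m) ⊕ Fin 2 → F)) (hU : ∀ u ∈ U, Cfsg.quadFormMinus m F a b u = 0) :
    finrank F U ≤ m := by
  classical
  let py : ((Fin m ⊕ Fin m) ⊕ Fin 2 → F) →ₗ[F] (Fin m → F) := LinearMap.funLeft F F (fun i => Sum.inl (Sum.inr i))
  let px : ((Fin m ⊕ Fin m) ⊕ Fin 2 → F) →ₗ[F] (Fin m → F) := LinearMap.funLeft F F (fun i => Sum.inl (Sum.inl i))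
  let f : U →ₗ[F] (Fin m → F) := py.comp U.subtype
  let g : (LinearMap.ker f) →ₗ[F] (Fin m → F) := (px.comp U.subtype).comp (LinearMap.ker f).subtype
  have hg : Function.Injective g := by
    rw [injective_iff_map_eq_zero]
    intro u hu
    have hy : ∀ i, (u : U).1 (Sum.inl (Sum.inr i)) = 0 := fun i => congrFun (LinearMap.mem_ker.mp u.2) i
    have hx : ∀ i, (u : U).1 (Sum.inl (Sum.inl i)) = 0 := fun i => congrFun hu i
    have hQ := hU (u : U).1 (u : U).2
    unfold Cfsg.quadFormMinus at hQ
    simp only [hx, hy, mul_zero, Finset.sum_const_zero, zero_add] at hQ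
    obtain ⟨h0, h1⟩ := hab _ _ hQ
    apply Subtype.ext
    apply Subtype.ext
    funext i
    rcases i with (i | i) | i
    · exact hx i
    · exact hy i
    · fin_cases i
      · exact h0
      · exact h1
  have h1 : finrank F (LinearMap.range f) + finrank F (LinearMap.ker f) = finrank F U := LinearMap.finrank_range_add_finrank_ker f
  have h2 : finrank F (LinearMap.range g) = finrank F (LinearMap.ker f) := LinearMap.finrank_range_of_inj hg
  have h3 := finrank_add_le_of_dot (LinearMap.range g) (LinearMap.range f) (by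
    rintro _ ⟨u, rfl⟩ _ ⟨v, rfl⟩
    have hQ1 := hU _ (U.add_mem (u : U).2 v.2)
    have hQ2 := hU _ (u : U).2
    have hQ3 := hU _ v.2
    have hy : ∀ i, (u : U).1 (Sum.inl (Sum.inr i)) = 0 := fun i => congrFun (LinearMap.mem_ker.mp u.2) i
    have hz : (u : U).1 (Sum.inr 0) = 0 ∧ (u : U).1 (Sum.inr 1) = 0 := by
      unfold Cfsg.quadFormMinus at hQ2
      simp only [hy, mul_zero, Finset.sum_const_zero, zero_add] at hQ2
      exact hab _ _ hQ2
    unfold Cfsg.quadFormMinus at hQ1 hQ3
    simp only [Pi.add_apply, hy, hz.1, hz.2, zero_add, add_mul, Finset.sum_add_distrib] at hQ1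
    have : ∑ x, (u : U).1 (Sum.inl (Sum.inl x)) * (v : (Fin m ⊕ Fin m) ⊕ Fin 2 → F) (Sum.inl (Sum.inr x)) = 0 := by
      linear_combination hQ1 - hQ3
    exact this)
  omega

/-- A totally singular subspace of `quadFormPlus m F` has dimension at most `m`. -/
theorem finrank_le_of_ts_plus {F : Type*} [Field F] (m : ℕ)
    (U : Submodule F (Fin m ⊕ Fin m → F)) (hU : ∀ u ∈ U, Cfsg.quadFormPlus m F u = 0) :
    finrank F U ≤ m := by
  classical
  let py : (Fin m ⊕ Fin m → F) →ₗ[F] (Fin m → F) := LinearMap.funLeft F F (fun i => (Sum.inr i))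
  let px : (Fin m ⊕ Fin m → F) →ₗ[F] (Fin m → F) := LinearMap.funLeft F F (fun i => (Sum.inl i))
  let f : U →ₗ[F] (Fin m → F) := py.comp U.subtype
  let g : (LinearMap.ker f) →ₗ[F] (Fin m → F) := (px.comp U.subtype).comp (LinearMap.ker f).subtype
  have hg : Function.Injective g := by
    rw [injective_iff_map_eq_zero]
    intro u hu
    have hy : ∀ i, (u : U).1 ((Sum.inr i)) = 0 := fun i => congrFun (LinearMap.mem_ker.mp u.2) i
    have hx : ∀ i, (u : U).1 ((Sum.inl i)) = 0 := fun i => congrFun hu i
    apply Subtype.ext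
    apply Subtype.ext
    funext i
    rcases i with i | i
    · exact hx i
    · exact hy i
  have h1 : finrank F (LinearMap.range f) + finrank F (LinearMap.ker f) = finrank F U := LinearMap.finrank_range_add_finrank_ker f
  have h2 : finrank F (LinearMap.range g) = finrank F (LinearMap.ker f) := LinearMap.finrank_range_of_inj hg
  have h3 := finrank_add_le_of_dot (LinearMap.range g) (LinearMap.range f) (by
    rintro _ ⟨u, rfl⟩ _ ⟨v, rfl⟩
    have hQ1 := hU _ (U.add_mem (u : U).2 v.2)
    have hQ2 := hU _ (u : U).2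
    have hQ3 := hU _ v.2
    have hy : ∀ i, (u : U).1 ((Sum.inr i)) = 0 := fun i => congrFun (LinearMap.mem_ker.mp u.2) i
    unfold Cfsg.quadFormPlus at hQ1 hQ3
    simp only [Pi.add_apply, hy, zero_add, add_mul, Finset.sum_add_distrib] at hQ1
    have : ∑ x, (u : U).1 ((Sum.inl x)) * (v : (Fin m ⊕ Fin m) → F) ((Sum.inr x)) = 0 := by
      linear_combination hQ1 - hQ3
    exact this)
  omega

/-- The subspace `y = 0` is totally singular of dimension `m` for `quadFormPlus m F`. -/
theorem exists_ts_plus {F : Type*} [Field F] (m : ℕ) :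
    ∃ U : Submodule F (Fin m ⊕ Fin m → F), (∀ u ∈ U, Cfsg.quadFormPlus m F u = 0) ∧ finrank F U = m := by
  classical
  let g : (Fin m → F) →ₗ[F] (Fin m ⊕ Fin m → F) :=
    { toFun := fun x => Sum.elim x 0
      map_add' := by intro x y; funext i; rcases i with i | i <;> simp
      map_smul' := by intro c y; funext i; rcases i with i | i <;> simp }
  have hg : Function.Injective g := by
    intro x y h
    funext i
    exact congrFun h (Sum.inl i)
  refine ⟨LinearMap.range g, ?_, ?_⟩
  · rintro _ ⟨x, rfl⟩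
    simp [Cfsg.quadFormPlus, g]
  · rw [LinearMap.finrank_range_of_inj hg, Module.finrank_fin_fun]

/-- The subspace `y = 0, z = 0` is totally singular of dimension `m` for `quadFormMinus m F a b`. -/
theorem exists_ts_minus {F : Type*} [Field F] (m : ℕ) (a b : F) :
    ∃ U : Submodule F ((Fin m ⊕ Fin m) ⊕ Fin 2 → F), (∀ u ∈ U, Cfsg.quadFormMinus m F a b u = 0) ∧ finrank F U = m := by
  classical
  let g : (Fin m → F) →ₗ[F] ((Fin m ⊕ Fin m) ⊕ Fin 2 → F) :=
    { toFun := fun x => Sum.elim (Sum.elim x 0) 0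
      map_add' := by intro x y; funext i; rcases i with (i | i) | i <;> simp
      map_smul' := by intro c y; funext i; rcases i with (i | i) | i <;> simp }
  have hg : Function.Injective g := by
    intro x y h
    funext i
    exact congrFun h (Sum.inl (Sum.inl i))
  refine ⟨LinearMap.range g, ?_, ?_⟩
  · rintro _ ⟨x, rfl⟩
    simp [Cfsg.quadFormMinus, g]
  · rw [LinearMap.finrank_range_of_inj hg, Module.finrank_fin_fun]

end Cfsg.Agent.H17
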