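import Mathlib
import Cfsg.Agent.H17.QModel2
import Cfsg.Agent.H17.QClass2
import Cfsg.Agent.H17.WittBound

set_option autoImplicit false

/-! The minus type model: comparison with `quadFormMinus`, order of the Frobenius element in `Out`. -/

namespace Cfsg.Agent.H17

open Cfsg Cfsg.Agent.H5

variable {F : Type*} [Field F] [Finite F] {p : ℕ} [Fact p.Prime] [CharP F p]

theorem exists_iso_minus (k : ℕ) {a b : F} (hab : ∀ z₁ z₂ : F, z₁ ^ 2 + a * z₁ * z₂ + b * z₂ ^ 2 = 0 → z₁ = 0 ∧ z₂ = 0) {c : F} (hc : c ≠ 0) :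
    ∃ φ : ((Fin k ⊕ Fin k) ⊕ Fin 2 → F) ≃ₗ[F] ((Fin k ⊕ Fin k → F) × KK F p), ∀ x, qM k F p (φ x) = c * qMinus k F a b x := by
  have h1 : Module.finrank F ((Fin k ⊕ Fin k) ⊕ Fin 2 → F) = 2 * (k + 1) := by
    rw [Module.finrank_fintype_fun_eq_card]; simp; ring
  obtain ⟨φ, hφ⟩ := class_even (k + 1) (nd_minus (m := k) hab) (qM_nd (F := F) (p := p) (k := k)) h1 finrank_qM
    (by rw [zn_minus hab rfl, zn_qM rfl]) hc
  exact exists_simEquiv hc hφ (nd_minus hab) (h1.trans finrank_qM.symm)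

theorem qM_ts {k : ℕ} {a b : F} (hab : ∀ z₁ z₂ : F, z₁ ^ 2 + a * z₁ * z₂ + b * z₂ ^ 2 = 0 → z₁ = 0 ∧ z₂ = 0)
    (R : Submodule F ((Fin k ⊕ Fin k → F) × KK F p)) (hR : ∀ x ∈ R, qM k F p x = 0) :
    Module.finrank F ((Fin k ⊕ Fin k → F) × KK F p) ≠ 2 * Module.finrank F R := by
  obtain ⟨φ, hφ⟩ := exists_iso_minus (p := p) k hab one_ne_zero
  have h1 := finrank_le_of_ts_minus k a b hab (R.map (φ.symm : _ →ₗ[F] _)) (fun u hu => by
    obtain ⟨v, hv, rfl⟩ := hu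
    rw [← qMinus_coe]
    have h2 := hφ (φ.symm v)
    rw [LinearEquiv.apply_symm_apply, one_mul, hR v hv] at h2
    exact h2.symm)
  rw [LinearEquiv.finrank_map_eq] at h1
  rw [finrank_qM]
  omega

theorem exists_ab : ∃ a b : F, ∀ z₁ z₂ : F, z₁ ^ 2 + a * z₁ * z₂ + b * z₂ ^ 2 = 0 → z₁ = 0 ∧ z₂ = 0 := by
  obtain ⟨p, hp⟩ := CharP.exists F
  haveI : Fact p.Prime := ⟨CharP.char_is_prime F p⟩
  obtain ⟨θ, hθ⟩ := exists_sK_ne (F := F) (p := p)
  refine ⟨pB (nK F p) 1 θ, nK F p θ, fun x y h => ?_⟩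
  have h1 : nK F p (x • 1 + y • θ) = 0 := by
    rw [← h, q_add, q_smul, q_smul, pl_smul, pr_smul]
    have : nK F p 1 = 1 := by
      apply algebraMap_inj (p := p)
      rw [nK_apply, map_one, map_one, mul_one]
    rw [this]
    ring
  have h2 := nK_aniso h1
  have hy : y = 0 := by
    by_contra hy
    apply hθ
    have h3 : θ = algebraMap F (KK F p) (-(y⁻¹ * x)) := by
      rw [Algebra.smul_def, Algebra.smul_def, mul_one] at h2
      have hy' : algebraMap F (KK F p) y ≠ 0 := fun h => hy ((map_eq_zero _).mp h)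
      rw [map_neg, map_mul, map_inv₀]
      field_simp
      linear_combination h2
    rw [h3, sK_algebraMap]
  refine ⟨?_, hy⟩
  rw [hy, zero_smul, add_zero, Algebra.smul_def, mul_one] at h2
  exact (map_eq_zero _).mp h2

theorem aE_surj_qM {k : ℕ} (hk : 2 ≤ k) : Function.Surjective (aE (qM k F p)) := by
  obtain ⟨a, b, hab⟩ := exists_ab (F := F)
  exact aE_surj qM_nd (by rw [finrank_qM]; omega) (Or.inl (fun R hR => qM_ts hab R hR))

theorem orderOf_outFr {k f : ℕ} (hk : 2 ≤ k) (hf : 1 ≤ f) (hF : Nat.card F = p ^ f) : orderOf (outE (qM k F p) (frM k F p)) = 2 * f := by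
  have hn : 5 ≤ Module.finrank F ((Fin k ⊕ Fin k → F) × KK F p) := by rw [finrank_qM]; omega
  obtain ⟨Φ, hΦ⟩ := exists_outπ qM_nd hn (aE_surj_qM (F := F) (p := p) hk)
  obtain ⟨v, hv, hvf⟩ := frM_pow_f (k := k) hF
  obtain ⟨x, hx⟩ : ∃ x, x = outE (qM k F p) (frM k F p) := ⟨_, rfl⟩
  have h1 : Φ x = frF F p := by rw [hx, hΦ]; rfl
  have h2 : x ^ f = outE (qM k F p) (ogSS _ (refl hv)) := by rw [hx, ← map_pow, hvf]
  have h3 : x ^ f ≠ 1 := by rw [h2]; exact refl_out_ne qM_nd hn finrank_qM hv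
  have h4 : x ^ (2 * f) = 1 := by
    rw [mul_comm, pow_mul, h2, ← map_pow, ← map_pow, pow_two, refl_mul_self, map_one, map_one]
  have h5 : f ∣ orderOf x := by
    rw [← orderOf_frF hf hF, ← h1]
    exact orderOf_map_dvd Φ x
  have h6 := orderOf_dvd_of_pow_eq_one h4
  rw [← hx]
  obtain ⟨c, hc⟩ := h5
  rw [hc] at h6
  have h7 : c ∣ 2 := by
    rw [mul_comm] at h6
    exact Nat.dvd_of_mul_dvd_mul_right (by omega) h6
  rcases (Nat.dvd_prime Nat.prime_two).mp h7 with rfl | rfl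
  · exfalso
    apply h3
    rw [mul_one] at hc
    rw [← hc, pow_orderOf_eq_one]
  · rw [hc, mul_comm]

end Cfsg.Agent.H17
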