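import Mathlib
import Cfsg.Agent.H17.SSGOdd
import Cfsg.Agent.H17.QModel3
import Cfsg.Agent.H22.Dihedral

set_option autoImplicit false

/-! Structure of the outer automorphism group of `PΩ⁻` in odd characteristic. -/

namespace Cfsg.Agent.H17

open Cfsg Cfsg.Agent.H5

/-- direct product with a group of order two -/
theorem prod_cyclic_two {G : Type*} [Group G] [Finite G] {x y : G} {a : ℕ} (hx : orderOf x = a) (hy : y * y = 1) (hxy : x * y = y * x)
    (hyx : y ∉ Subgroup.zpowers x) (hc : Nat.card G = 2 * a) (ha : 0 < a) : Nonempty (G ≃* Multiplicative (ZMod 2 × ZMod a)) := by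
  haveI : NeZero a := ⟨by omega⟩
  have hy1 : y ≠ 1 := by rintro rfl; exact hyx (Subgroup.one_mem _)
  have hoy : orderOf y = 2 := orderOf_eq_prime (by rw [pow_two, hy]) hy1
  have hcomm : ∀ (m : Subgroup.zpowers y) (n : Subgroup.zpowers x), Commute ((Subgroup.zpowers y).subtype m) ((Subgroup.zpowers x).subtype n) := by
    rintro ⟨_, i, rfl⟩ ⟨_, j, rfl⟩
    exact ((show Commute y x from hxy.symm).zpow_zpow i j)
  obtain ⟨Ψ, hΨ⟩ : ∃ Ψ, Ψ = MonoidHom.noncommCoprod _ _ hcomm := ⟨_, rfl⟩
  have hinj : Function.Injective Ψ := by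
    rw [hΨ, MonoidHom.noncommCoprod_injective]
    refine ⟨Subgroup.subtype_injective _, Subgroup.subtype_injective _, ?_⟩
    rw [Subgroup.range_subtype, Subgroup.range_subtype, Subgroup.disjoint_def]
    intro w hwy hwx
    obtain ⟨i, rfl⟩ := hwy
    rcases Int.even_or_odd i with ⟨j, rfl⟩ | ⟨j, rfl⟩
    · show y ^ (j + j) = 1
      rw [← two_mul, zpow_mul, show y ^ (2 : ℤ) = 1 by rw [zpow_two, hy], one_zpow]
    · exfalso
      apply hyx
      have h1 : y ^ (2 * j + 1) = y := by rw [zpow_add, zpow_mul, show y ^ (2 : ℤ) = 1 by rw [zpow_two, hy], one_zpow, one_mul, zpow_one]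
      have h2 : y ^ (2 * j + 1) ∈ Subgroup.zpowers x := hwx
      rwa [h1] at h2
  have hcy : Nat.card (Subgroup.zpowers y) = 2 := by rw [Nat.card_zpowers, hoy]
  have hcx : Nat.card (Subgroup.zpowers x) = a := by rw [Nat.card_zpowers, hx]
  have hbij : Function.Bijective Ψ := (Nat.bijective_iff_injective_and_card Ψ).mpr ⟨hinj, by
    rw [Nat.card_prod, hcy, hcx, hc]⟩
  let e1 : Subgroup.zpowers y ≃* Multiplicative (ZMod 2) := mulEquivOfCyclicCardEq (by rw [hcy]; exact (Nat.card_zmod 2).symm)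
  let e2 : Subgroup.zpowers x ≃* Multiplicative (ZMod a) := mulEquivOfCyclicCardEq (by rw [hcx]; exact (Nat.card_zmod a).symm)
  exact ⟨(MulEquiv.ofBijective Ψ hbij).symm.trans ((MulEquiv.prodCongr e1 e2).trans (MulEquiv.prodMultiplicative _ _).symm)⟩

/-- direct product of a dihedral group of order eight and a cyclic group of odd order -/
theorem prod_dihedral {G : Type*} [Group G] [Finite G] {x t y : G} {f : ℕ} (ht : t * t = 1) (hxt : t * x * t = x⁻¹)
    (hx2 : x * x ≠ 1) (hx4 : x ^ 4 = 1) (hy : orderOf y = f) (hf : Odd f) (hyx : y * x = x * y) (hyt : y * t = t * y)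
    (hc : Nat.card G = 8 * f) : Nonempty (G ≃* DihedralGroup 4 × Multiplicative (ZMod f)) := by
  haveI : NeZero f := ⟨by rintro rfl; exact absurd hf (by decide)⟩
  have hox : orderOf x = 2 ^ (1 + 1) := orderOf_eq_prime_pow (by rw [pow_one, pow_two]; exact hx2) (by exact hx4)
  have hox' : orderOf x = 4 := hox
  have htx : t ∉ Subgroup.zpowers x := by
    rintro ⟨i, hi⟩
    have h1 : Commute t x := by rw [← hi]; exact (Commute.refl x).zpow_left i
    apply hx2
    rw [h1.eq, mul_assoc, ht, mul_one] at hxt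
    rw [← mul_inv_cancel x, ← hxt]
  obtain ⟨D, hD⟩ : ∃ D, D = Cfsg.Agent.H22.dihedralLift 4 x t hx4 ht hxt := ⟨_, rfl⟩
  have hDinj : Function.Injective D := by rw [hD]; exact Cfsg.Agent.H22.dihedralLift_injective 4 x t hx4 ht hxt hox' htx
  have hcomm : ∀ (d : DihedralGroup 4) (n : Subgroup.zpowers y), Commute (D d) ((Subgroup.zpowers y).subtype n) := by
    rintro d ⟨_, j, rfl⟩
    apply Commute.zpow_right
    have hyx' : Commute x y := hyx.symm
    have hyt' : Commute t y := hyt.symm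
    rw [hD]
    rcases d with i | i
    · obtain ⟨k, rfl⟩ := ZMod.intCast_surjective i
      rw [Cfsg.Agent.H22.dihedralLift_r]
      exact hyx'.zpow_left k
    · obtain ⟨k, rfl⟩ := ZMod.intCast_surjective i
      rw [Cfsg.Agent.H22.dihedralLift_sr]
      exact hyt'.mul_left (hyx'.zpow_left k)
  obtain ⟨Ψ, hΨ⟩ : ∃ Ψ, Ψ = MonoidHom.noncommCoprod _ _ hcomm := ⟨_, rfl⟩
  have hinj : Function.Injective Ψ := by
    rw [hΨ, MonoidHom.noncommCoprod_injective]
    refine ⟨hDinj, Subgroup.subtype_injective _, ?_⟩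
    rw [Subgroup.range_subtype, Subgroup.disjoint_def]
    rintro _ ⟨d, rfl⟩ hw
    obtain ⟨i, hi⟩ := hw
    have hi' : y ^ i = D d := hi
    have h1 : (D d) ^ f = 1 := by
      rw [← hi', ← zpow_natCast, ← zpow_mul, mul_comm, zpow_mul, zpow_natCast, ← hy, pow_orderOf_eq_one, one_zpow]
    have h2 : (D d) ^ 8 = 1 := by
      rw [← map_pow]
      have : d ^ 8 = 1 := by
        have h3 := pow_card_eq_one' (x := d)
        rw [DihedralGroup.nat_card] at h3
        exact h3
      rw [this, map_one]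
    have h3 : orderOf (D d) ∣ Nat.gcd f 8 := Nat.dvd_gcd (orderOf_dvd_of_pow_eq_one h1) (orderOf_dvd_of_pow_eq_one h2)
    have h4 : Nat.gcd f 8 = 1 := by
      have : Nat.Coprime f (2 ^ 3) := Nat.Coprime.pow_right 3 ((Nat.coprime_two_right).mpr hf)
      exact this
    rw [h4] at h3
    exact orderOf_eq_one_iff.mp (Nat.dvd_one.mp h3)
  have hcy : Nat.card (Subgroup.zpowers y) = f := by rw [Nat.card_zpowers, hy]
  have hbij : Function.Bijective Ψ := (Nat.bijective_iff_injective_and_card Ψ).mpr ⟨hinj, by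
    rw [Nat.card_prod, hcy, DihedralGroup.nat_card, hc]⟩
  let e2 : Subgroup.zpowers y ≃* Multiplicative (ZMod f) := mulEquivOfCyclicCardEq (by rw [hcy]; exact (Nat.card_zmod f).symm)
  exact ⟨(MulEquiv.ofBijective Ψ hbij).symm.trans (MulEquiv.prodCongr (MulEquiv.refl _) e2)⟩

section model

variable {F : Type*} [Field F] [Finite F] {p : ℕ} [Fact p.Prime] [CharP F p]

theorem nK_mul (x y : KK F p) : nK F p (x * y) = nK F p x * nK F p y := by
  apply algebraMap_inj (p := p)
  rw [nK_apply, map_mul (algebraMap F (KK F p)), nK_apply, nK_apply, map_mul]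
  ring

theorem nK_one : nK F p 1 = 1 := by
  apply algebraMap_inj (p := p)
  rw [nK_apply, map_one, map_one, mul_one]

/-- norm as a homomorphism on units -/
noncomputable def nKu (F : Type*) [Field F] [Finite F] (p : ℕ) [Fact p.Prime] [CharP F p] : (KK F p)ˣ →* Fˣ :=
  Units.map { toFun := nK F p, map_one' := nK_one, map_mul' := nK_mul }

theorem nKu_val (θ : (KK F p)ˣ) : ((nKu F p θ : Fˣ) : F) = nK F p θ := rfl

/-- scaling on the hyperbolic part -/
def hypMul (k : ℕ) (F : Type*) [Field F] : Fˣ →* ((Fin k ⊕ Fin k → F) ≃ₗ[F] (Fin k ⊕ Fin k → F)) where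
  toFun c :=
    { toFun := fun x => Sum.elim (fun i => c * x (Sum.inl i)) (fun i => x (Sum.inr i))
      map_add' := fun x y => by funext i; rcases i with i | i <;> simp [mul_add]
      map_smul' := fun a x => by funext i; rcases i with i | i <;> simp [mul_left_comm]
      invFun := fun x => Sum.elim (fun i => ((c⁻¹ : Fˣ) : F) * x (Sum.inl i)) (fun i => x (Sum.inr i))
      left_inv := fun x => by funext i; rcases i with i | i <;> simp
      right_inv := fun x => by funext i; rcases i with i | i <;> simp }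
  map_one' := by
    apply LinearEquiv.ext
    intro x
    funext i
    rcases i with i | i
    · show ((1 : Fˣ) : F) * x (Sum.inl i) = x (Sum.inl i)
      rw [Units.val_one, one_mul]
    · rfl
  map_mul' c d := by
    apply LinearEquiv.ext
    intro x
    funext i
    rcases i with i | i
    · show ((c * d : Fˣ) : F) * x (Sum.inl i) = c * (d * x (Sum.inl i))
      rw [Units.val_mul, mul_assoc]
    · rfl

theorem hypMul_apply {k : ℕ} (c : Fˣ) (x : Fin k ⊕ Fin k → F) :
    hypMul k F c x = Sum.elim (fun i => c * x (Sum.inl i)) (fun i => x (Sum.inr i)) := rfl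

theorem hypMul_q {k : ℕ} (c : Fˣ) (x : Fin k ⊕ Fin k → F) : qPlus k F (hypMul k F c x) = c * qPlus k F x := by
  rw [qPlus_coe, quadFormPlus, quadFormPlus, hypMul_apply, Finset.mul_sum]
  apply Finset.sum_congr rfl
  intro i _
  simp only [Sum.elim_inl, Sum.elim_inr]
  ring

/-- diagonal similarities of the model -/
noncomputable def dM (k : ℕ) (F : Type*) [Field F] [Finite F] (p : ℕ) [Fact p.Prime] [CharP F p] : (KK F p)ˣ →* SSG (qM k F p) where
  toFun θ := ⟨(Equiv.prodCongr (hypMul k F (nKu F p θ)).toEquiv (Units.mulLeft θ), 1),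
    fun x y => Prod.ext (map_add (hypMul k F (nKu F p θ)) x.1 y.1) (mul_add _ _ _),
    fun a x => Prod.ext (map_smul (hypMul k F (nKu F p θ)) a x.1) (mul_smul_comm a _ _),
    nKu F p θ, fun x => by
      obtain ⟨x, z⟩ := x
      show qM k F p (hypMul k F (nKu F p θ) x, θ * z) = _ * qM k F p (x, z)
      rw [qM_apply, qM_apply, hypMul_q, nK_mul, nKu_val, mul_add]⟩
  map_one' := by
    apply ss_ext
    · rintro ⟨x, z⟩
      apply Prod.ext
      · show hypMul k F (nKu F p 1) x = x
        rw [map_one, map_one]; rfl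
      · show ((1 : (KK F p)ˣ) : KK F p) * z = z
        rw [Units.val_one, one_mul]
    · rfl
  map_mul' θ θ' := by
    apply ss_ext
    · rintro ⟨x, z⟩
      apply Prod.ext
      · show hypMul k F (nKu F p (θ * θ')) x = hypMul k F (nKu F p θ) (hypMul k F (nKu F p θ') x)
        rw [map_mul, map_mul]; rfl
      · show ((θ * θ' : (KK F p)ˣ) : KK F p) * z = θ * (θ' * z)
        rw [Units.val_mul, mul_assoc]
    · rfl

theorem dM_apply {k : ℕ} (θ : (KK F p)ˣ) (x : Fin k ⊕ Fin k → F) (z : KK F p) :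
    (dM k F p θ).1.1 (x, z) = (hypMul k F (nKu F p θ) x, θ * z) := rfl

theorem dM_snd {k : ℕ} (θ : (KK F p)ˣ) : (dM k F p θ).1.2 = 1 := rfl

theorem ssK_dM {k : ℕ} (θ : (KK F p)ˣ) : (ssK (dM k F p θ) : F) = nK F p θ := by
  apply ssK_eq
  · refine ⟨(0, 1), ?_⟩
    rw [qM_apply, q_zero, zero_add, nK_one]
    exact one_ne_zero
  · rintro ⟨x, z⟩
    rw [dM_apply, qM_apply, hypMul_q, nK_mul, nKu_val]
    show _ = nK F p θ * qM k F p (x, z)
    rw [qM_apply, mul_add]

theorem frM_dM {k : ℕ} (θ : (KK F p)ˣ) : frM k F p * dM k F p θ = dM k F p (θ ^ p) * frM k F p := by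
  apply ss_ext
  · rintro ⟨x, z⟩
    apply Prod.ext
    · funext i
      rcases i with i | i
      · show (((nKu F p θ : Fˣ) : F) * x (Sum.inl i)) ^ p = ((nKu F p (θ ^ p) : Fˣ) : F) * (x (Sum.inl i)) ^ p
        rw [mul_pow, map_pow, Units.val_pow_eq_pow_val]
      · rfl
    · show ((θ : KK F p) * z) ^ p = ((θ ^ p : (KK F p)ˣ) : KK F p) * z ^ p
      rw [mul_pow, Units.val_pow_eq_pow_val]
  · rfl

theorem exists_theta (d : F) (hd : d ≠ 0) : ∃ θ : (KK F p)ˣ, nK F p θ = d := by
  obtain ⟨z, hz⟩ := exists_value (nK_nd (F := F) (p := p)) (by rw [finrank_KK]) d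
  have hz0 : z ≠ 0 := by
    rintro rfl
    rw [q_zero] at hz
    exact hd hz.symm
  exact ⟨Units.mk0 z hz0, hz⟩

end model

end Cfsg.Agent.H17
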