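import Mathlib
import Cfsg.Agent.H17.Desc3
import Cfsg.Agent.H5.MaxSing

set_option autoImplicit false

/-! The two classes of maximal totally singular subspaces under semisimilarities. -/

namespace Cfsg.Agent.H17

open Cfsg Cfsg.Agent.H5 Module

section im

variable {F V : Type*} [Field F] [AddCommGroup V] [Module F V] {Q : QuadraticForm F V}

/-- image of a subspace under a semisimilarity -/
def imS (p : SSG Q) (U : Submodule F V) : Submodule F V where
  carrier := {y | p.1.1.symm y ∈ U}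
  add_mem' {a b} ha hb := by
    show p.1.1.symm (a + b) ∈ U
    rw [ss_symm_add]; exact U.add_mem ha hb
  zero_mem' := by
    show p.1.1.symm 0 ∈ U
    have : p.1.1.symm 0 = 0 := by
      apply p.1.1.injective
      rw [Equiv.apply_symm_apply, ss_zero]
    rw [this]; exact U.zero_mem
  smul_mem' c a ha := by
    show p.1.1.symm (c • a) ∈ U
    rw [ss_symm_smul]; exact U.smul_mem _ ha

theorem mem_imS {p : SSG Q} {U : Submodule F V} {y : V} : y ∈ imS p U ↔ p.1.1.symm y ∈ U := Iff.rfl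

theorem apply_mem_imS {p : SSG Q} {U : Submodule F V} {y : V} : p.1.1 y ∈ imS p U ↔ y ∈ U := by
  rw [mem_imS, Equiv.symm_apply_apply]

theorem imS_mul (p q : SSG Q) (U : Submodule F V) : imS (p * q) U = imS p (imS q U) := by
  ext y
  rfl

theorem imS_one (U : Submodule F V) : imS (1 : SSG Q) U = U := by
  ext y
  rfl

theorem imS_inf (p : SSG Q) (U W : Submodule F V) : imS p (U ⊓ W) = imS p U ⊓ imS p W := by
  ext y
  rfl

theorem finrank_imS (p : SSG Q) (U : Submodule F V) : finrank F (imS p U) = finrank F U := by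
  let e : U ≃+ imS p U :=
    { toFun := fun x => ⟨p.1.1 x.1, apply_mem_imS.mpr x.2⟩
      invFun := fun y => ⟨p.1.1.symm y.1, y.2⟩
      left_inv := fun x => Subtype.ext (p.1.1.symm_apply_apply x.1)
      right_inv := fun y => Subtype.ext (p.1.1.apply_symm_apply y.1)
      map_add' := fun x y => Subtype.ext (ss_add p x.1 y.1) }
  have h := rank_eq_of_equiv_equiv p.1.2 e p.1.2.bijective (fun r x => Subtype.ext (ss_smul p r x.1))
  unfold finrank
  rw [h]

theorem TS_imS {p : SSG Q} {U : Submodule F V} (h : TS Q U) : TS Q (imS p U) := by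
  intro y hy
  have h1 := h _ hy
  rw [ss_Q_symm] at h1
  have h2 := (map_eq_zero p.1.2.symm).mp h1
  exact (mul_eq_zero.mp h2).resolve_left (inv_ne_zero (Units.ne_zero _))

/-- plus type -/
structure PT (Q : QuadraticForm F V) (m : ℕ) : Prop where
  nd : ND Q
  fr : finrank F V = 2 * m
  ex : ∃ E : Submodule F V, TS Q E ∧ finrank F E = m

/-- preservation of the two classes -/
def Ev (m : ℕ) (p : SSG Q) : Prop := ∀ U : Submodule F V, TS Q U → finrank F U = m → Even (finrank F (U ⊓ imS p U : Submodule F V) + m)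

variable [FiniteDimensional F V] {m : ℕ}

theorem PT.par3 (P : PT Q m) {U W X : Submodule F V} (hU : TS Q U) (hUm : finrank F U = m) (hW : TS Q W)
    (hWm : finrank F W = m) (hX : TS Q X) (hXm : finrank F X = m) :
    Even (finrank F (U ⊓ W : Submodule F V) + finrank F (W ⊓ X : Submodule F V) +
      finrank F (U ⊓ X : Submodule F V) + m) := by
  have h1 := Submodule.finrank_mono (inf_le_left : W ⊓ X ≤ W)
  exact TS.parity P.nd P.fr (m - finrank F (W ⊓ X : Submodule F V)) hU hUm hW hWm hX hXm (by omega)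

theorem PT.ev_iff (P : PT Q m) (p : SSG Q) {E : Submodule F V} (hE : TS Q E) (hEm : finrank F E = m) :
    Ev m p ↔ Even (finrank F (E ⊓ imS p E : Submodule F V) + m) := by
  constructor
  · intro h
    exact h E hE hEm
  · intro h U hU hUm
    have h1 := P.par3 hU hUm hE hEm (TS_imS (p := p) hE) (by rw [finrank_imS, hEm])
    have h2 := P.par3 hU hUm (TS_imS (p := p) hE) (by rw [finrank_imS, hEm]) (TS_imS (p := p) hU) (by rw [finrank_imS, hUm])
    rw [← imS_inf, finrank_imS, inf_comm E U] at h2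
    rw [Nat.even_iff] at *
    omega

theorem PT.ev_mul (P : PT Q m) (p q : SSG Q) : Ev m (p * q) ↔ (Ev m p ↔ Ev m q) := by
  obtain ⟨E, hE, hEm⟩ := P.ex
  rw [P.ev_iff _ hE hEm, P.ev_iff _ hE hEm, P.ev_iff _ hE hEm]
  have h1 := P.par3 hE hEm (TS_imS (p := p) hE) (by rw [finrank_imS, hEm]) (TS_imS (p := p * q) hE) (by rw [finrank_imS, hEm])
  rw [imS_mul, ← imS_inf, finrank_imS, ← imS_mul] at h1
  simp only [Nat.even_iff] at *
  omega

theorem PT.ev_one (P : PT Q m) : Ev m (1 : SSG Q) := by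
  intro U hU hUm
  rw [imS_one, inf_idem, hUm]
  exact ⟨m, rfl⟩

theorem PT.ev_inv (P : PT Q m) (p : SSG Q) : Ev m p⁻¹ ↔ Ev m p := by
  have h := P.ev_mul p p⁻¹
  rw [mul_inv_cancel] at h
  exact (h.mp P.ev_one).symm

theorem PT.ev_conj (P : PT Q m) (p q : SSG Q) : Ev m (p * q * p⁻¹) ↔ Ev m q := by
  rw [P.ev_mul, P.ev_mul, P.ev_inv]
  generalize Ev m p = a
  generalize Ev m q = b
  by_cases ha : a <;> by_cases hb : b <;> simp [ha, hb]

theorem PT.ev_pow_sq (P : PT Q m) (p : SSG Q) (k : ℕ) : Ev m ((p * p) ^ k) := by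
  induction k with
  | zero => rw [pow_zero]; exact P.ev_one
  | succ k ih =>
    rw [pow_succ, P.ev_mul, P.ev_mul]
    simp only [ih, true_iff]

theorem PT.ev_pow_odd (P : PT Q m) (p : SSG Q) {r : ℕ} (hr : Odd r) : Ev m (p ^ r) ↔ Ev m p := by
  obtain ⟨k, rfl⟩ := hr
  have h2 := P.ev_pow_sq p k
  have h3 : p ^ (2 * k + 1) = (p * p) ^ k * p := by
    rw [pow_succ, pow_mul, pow_two]
  rw [h3, P.ev_mul]
  simp only [h2, true_iff]

theorem ev_of_stable {p : SSG Q} (P : PT Q m) {E : Submodule F V} (hE : TS Q E) (hEm : finrank F E = m) (h : imS p E = E) : Ev m p := by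
  rw [P.ev_iff p hE hEm, h, inf_idem, hEm]
  exact ⟨m, rfl⟩

theorem PT.ev_sc (P : PT Q m) (c : Fˣ) : Ev m (scSS Q c) := by
  obtain ⟨E, hE, hEm⟩ := P.ex
  refine ev_of_stable P hE hEm ?_
  ext y
  constructor
  · intro h
    have h1 : c • (scSS Q c).1.1.symm y = y := (scSS Q c).1.1.apply_symm_apply y
    rw [← h1]
    exact E.smul_mem _ h
  · intro h
    have h1 : y = (scSS Q c).1.1 (c⁻¹ • y) := by
      rw [scSS_apply, smul_inv_smul]
    rw [h1, apply_mem_imS]
    exact E.smul_mem _ h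

/-- two distinct maximal subspaces over an `(m-1)`-dimensional one -/
theorem PT.not_ev_of_swap (P : PT Q m) {p : SSG Q} {X Y : Submodule F V} (hX : TS Q X) (hXm : finrank F X = m)
    (hY : finrank F Y + 1 = m) (hYX : Y ≤ X) (hYp : Y ≤ imS p X) (hne : imS p X ≠ X) : ¬ Ev m p := by
  rw [P.ev_iff p hX hXm]
  have h1 := Submodule.finrank_mono (le_inf hYX hYp)
  have h2 : finrank F (X ⊓ imS p X : Submodule F V) ≠ m := by
    intro h
    apply hne
    have h3 : X ⊓ imS p X = X := Submodule.eq_of_le_of_finrank_eq inf_le_left (by omega)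
    exact (Submodule.eq_of_le_of_finrank_eq (inf_eq_left.mp h3) (by rw [finrank_imS])).symm
  have h3 := Submodule.finrank_mono (inf_le_left : X ⊓ imS p X ≤ X)
  rw [Nat.even_iff]
  omega

theorem PT.refl_not_ev (P : PT Q m) {v : V} (hv : Q v ≠ 0) : ¬ Ev m (ogSS Q (refl hv)) := by
  obtain ⟨E, hE, hEm⟩ := P.ex
  have hvE : v ∉ E := fun h => hv (hE v h)
  have h1 : v ∉ oc Q E := by rw [hE.oc_eq P.nd P.fr hEm]; exact hvE
  rw [mem_oc] at h1
  push Not at h1
  obtain ⟨x, hx, hxv⟩ := h1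
  have hxv' : pB Q v x ≠ 0 := by rw [pB_symm]; exact hxv
  have h2 := finrank_inf_ker_of_surj (pB Q v) E (fun c => ⟨(c / pB Q v x) • x, E.smul_mem _ hx, by
      rw [map_smul, smul_eq_mul, div_mul_cancel₀ _ hxv']⟩) (finrank_self F)
  have hfix : ∀ y, y ∈ E → pB Q v y = 0 → y ∈ imS (ogSS Q (refl hv)) E := by
    intro y hy hvy
    have h3 : y = (ogSS Q (refl hv)).1.1 y := by
      rw [ogSS_apply, refl_apply, hvy, mul_zero, zero_smul, sub_zero]
    rw [h3, apply_mem_imS]
    exact hy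
  have h4 : finrank F (E ⊓ LinearMap.ker (pB Q v) : Submodule F V) + 1 = m := by rw [← hEm]; exact h2
  refine P.not_ev_of_swap hE hEm h4 inf_le_left (fun y hy => hfix y hy.1 hy.2) ?_
  intro h
  have h3 : (ogSS Q (refl hv)).1.1 x ∈ E := by rw [← h, apply_mem_imS]; exact hx
  rw [ogSS_apply, refl_apply] at h3
  have h5 := E.sub_mem hx h3
  rw [sub_sub_cancel] at h5
  apply hvE
  have h6 := E.smul_mem (((Q v)⁻¹ * pB Q v x)⁻¹) h5
  rwa [smul_smul, inv_mul_cancel₀ (mul_ne_zero (inv_ne_zero hv) hxv'), one_smul] at h6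

theorem PT.dg_ev (P : PT Q m) {g : OG Q} (hg : g ∈ DG Q) : Ev m (ogSS Q g) := by
  unfold DG at hg
  induction hg using Subgroup.closure_induction with
  | mem x hx =>
    obtain ⟨u, v, hu, hv, rfl⟩ := hx
    rw [map_mul, P.ev_mul]
    exact ⟨fun h => absurd h (P.refl_not_ev hu), fun h => absurd h (P.refl_not_ev hv)⟩
  | one => rw [map_one]; exact P.ev_one
  | mul a b _ _ ha hb => rw [map_mul, P.ev_mul]; exact ⟨fun _ => hb, fun _ => ha⟩
  | inv a _ ha => rw [map_inv, P.ev_inv]; exact ha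

theorem PT.ev_og_iff [Finite F] (P : PT Q m) (hn : 5 ≤ finrank F V) (g : OG Q) : Ev m (ogSS Q g) ↔ g ∈ DG Q := by
  constructor
  · intro h
    rcases rg_dg g (by rw [rg_top P.nd (fun _ => by omega)]; exact Subgroup.mem_top _) with h1 | h1
    · exact h1
    · exfalso
      obtain ⟨v, hv⟩ := exists_ne_q P.nd (by omega)
      have h2 := P.dg_ev (h1 v hv)
      rw [map_mul, P.ev_mul] at h2
      exact P.refl_not_ev hv (h2.mpr h)
  · exact P.dg_ev

end im

end Cfsg.Agent.H17
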