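import Mathlib
import Cfsg.Agent.H17.Par

set_option autoImplicit false

/-! Base change of subspaces, types of descended forms. -/

namespace Cfsg.Agent.H17

open Cfsg Cfsg.Agent.H5 Module

section gd

variable {F V : Type*} [Field F] [AddCommGroup V] [Module F V]

/-- Galois descent: the fixed points span -/
theorem fixed_span {τ : F ≃+* F} {r : ℕ} (hτ : orderOf τ = r) (hr : 0 < r) (s : V → V) (hadd : ∀ x y, s (x + y) = s x + s y)
    (hsmul : ∀ (a : F) x, s (a • x) = τ a • s x) (hs : ∀ x, s^[r] x = x) :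
    Submodule.span F {x | s x = x} = ⊤ := by
  have hs0 : s 0 = 0 := by
    have := hsmul 0 0
    rwa [map_zero, zero_smul, zero_smul] at this
  have hsum : ∀ (n : ℕ) (f : ℕ → V), s (∑ i ∈ Finset.range n, f i) = ∑ i ∈ Finset.range n, s (f i) := by
    intro n f
    induction n with
    | zero => rw [Finset.sum_range_zero, Finset.sum_range_zero, hs0]
    | succ n ih => rw [Finset.sum_range_succ, Finset.sum_range_succ, hadd, ih]
  have hit : ∀ (i : ℕ) (a : F) (x : V), s^[i] (a • x) = (τ ^ i) a • s^[i] x := by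
    intro i a x
    induction i with
    | zero => rfl
    | succ i ih =>
      rw [Function.iterate_succ_apply', ih, hsmul, Function.iterate_succ_apply', pow_succ']
      rfl
  obtain ⟨B, hB⟩ : ∃ B : V → V, ∀ v, B v = ∑ i ∈ Finset.range r, s^[i] v := ⟨_, fun _ => rfl⟩
  have hBfix : ∀ v, s (B v) = B v := by
    intro v
    rw [hB, hsum]
    have h1 : ∀ i, s (s^[i] v) = s^[i + 1] v := fun i => (Function.iterate_succ_apply' s i v).symm
    rw [Finset.sum_congr rfl (fun i _ => h1 i)]
    have h2 := Finset.sum_range_succ' (fun i => s^[i] v) r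
    have h3 := Finset.sum_range_succ (fun i => s^[i] v) r
    rw [h2, hs v] at h3
    exact add_right_cancel h3
  by_contra hne
  obtain ⟨u, hu0, hu⟩ := Submodule.exists_le_ker_of_lt_top _ (lt_top_iff_ne_top.mpr hne)
  apply hu0
  apply LinearMap.ext
  intro v
  have h1 : ∀ c : F, ∑ i ∈ Finset.range r, u (s^[i] v) * (τ ^ i) c = 0 := by
    intro c
    have h2 : u (B (c • v)) = 0 := hu (Submodule.subset_span (hBfix _))
    rw [hB, map_sum] at h2
    rw [← h2]
    apply Finset.sum_congr rfl
    intro i _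
    rw [hit, map_smul, smul_eq_mul, mul_comm]
  have hli := (linearIndependent_monoidHom F F).comp
    (fun i : Fin r => (((τ ^ (i : ℕ) : F ≃+* F) : F →+* F) : F →* F)) (by
      intro i j hij
      have h2 : τ ^ (i : ℕ) = τ ^ (j : ℕ) := by
        apply RingEquiv.ext
        intro x
        exact congrArg (fun f : F →* F => f x) hij
      have hi : (i : ℕ) < orderOf τ := i.2.trans_eq hτ.symm
      have hj : (j : ℕ) < orderOf τ := j.2.trans_eq hτ.symm
      exact Fin.ext (pow_injOn_Iio_orderOf hi hj h2))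
  rw [Fintype.linearIndependent_iff] at hli
  have h3 := hli (fun i => u (s^[(i : ℕ)] v)) (by
    funext c
    rw [Finset.sum_apply]
    have h4 := h1 c
    rw [Finset.sum_range] at h4
    exact h4) ⟨0, hr⟩
  exact h3

end gd

variable {F F₀ V V₀ : Type*} [Field F] [Field F₀] [AddCommGroup V] [Module F V] [AddCommGroup V₀] [Module F₀ V₀]

namespace Desc

variable {Q : QuadraticForm F V} {Q₀ : QuadraticForm F₀ V₀} {j : F₀ →+* F} {β : V₀ → V} {d : Fˣ} {s : SSG Q}
  (D : Desc Q Q₀ j β d s)

/-- base change of a subspace -/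
def bc (F : Type*) [Field F] {V : Type*} [AddCommGroup V] [Module F V] (β : V₀ → V) (U : Submodule F₀ V₀) : Submodule F V :=
  Submodule.span F (β '' U)

theorem mem_bc {U : Submodule F₀ V₀} {v : V₀} (hv : v ∈ U) : β v ∈ bc F β U := Submodule.subset_span ⟨v, hv, rfl⟩

include D

theorem bc_TS {U : Submodule F₀ V₀} (hU : TS Q₀ U) : TS Q (bc F β U) := by
  have hB : ∀ x ∈ bc F β U, ∀ y ∈ bc F β U, pB Q x y = 0 := by
    intro x hx y hy
    unfold bc at hx hy
    induction hx using Submodule.span_induction with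
    | mem x hx =>
      obtain ⟨u, hu, rfl⟩ := hx
      induction hy using Submodule.span_induction with
      | mem y hy =>
        obtain ⟨w, hw, rfl⟩ := hy
        rw [D.formB', hU.pb hu hw, map_zero, mul_zero]
      | zero => rw [map_zero]
      | add a b _ _ ha hb => rw [map_add, ha, hb, add_zero]
      | smul c a _ ha => rw [map_smul, ha, smul_zero]
    | zero => rw [map_zero, LinearMap.zero_apply]
    | add a b _ _ ha hb => rw [map_add, LinearMap.add_apply, ha, hb, add_zero]
    | smul c a _ ha => rw [map_smul, LinearMap.smul_apply, ha, smul_zero]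
  intro x hx
  have hx' := hx
  unfold bc at hx
  have : ∀ x ∈ Submodule.span F (β '' U), x ∈ bc F β U ∧ Q x = 0 := by
    intro x hx
    induction hx using Submodule.span_induction with
    | mem x hx =>
      obtain ⟨u, hu, rfl⟩ := hx
      exact ⟨mem_bc hu, by rw [D.form', hU u hu, map_zero, mul_zero]⟩
    | zero => exact ⟨zero_mem _, q_zero Q⟩
    | add a b _ _ ha hb => exact ⟨add_mem ha.1 hb.1, by rw [q_add, ha.2, hb.2, hB a ha.1 b hb.1]; ring⟩
    | smul c a _ ha => exact ⟨Submodule.smul_mem _ _ ha.1, by rw [q_smul, ha.2, mul_zero]⟩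
  exact (this x hx).2

omit D in
theorem bc_mono {U W : Submodule F₀ V₀} (h : U ≤ W) : bc F β U ≤ bc F β W := Submodule.span_mono (Set.image_mono h)

theorem bc_sup (U W : Submodule F₀ V₀) : bc F β (U ⊔ W) = bc F β U ⊔ bc F β W := by
  apply le_antisymm
  · apply Submodule.span_le.mpr
    rintro _ ⟨v, hv, rfl⟩
    obtain ⟨a, ha, b, hb, rfl⟩ := Submodule.mem_sup.mp hv
    rw [D.add]
    exact Submodule.add_mem _ (Submodule.mem_sup_left (mem_bc ha)) (Submodule.mem_sup_right (mem_bc hb))
  · exact sup_le (bc_mono le_sup_left) (bc_mono le_sup_right)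

theorem bc_top : bc F β (⊤ : Submodule F₀ V₀) = ⊤ := by
  rw [← D.span]
  unfold bc
  congr 1
  ext x
  constructor
  · rintro ⟨v, _, rfl⟩; exact ⟨v, rfl⟩
  · rintro ⟨v, rfl⟩; exact ⟨v, trivial, rfl⟩

variable [FiniteDimensional F V] [FiniteDimensional F₀ V₀]

theorem bc_finrank_le (U : Submodule F₀ V₀) : finrank F (bc F β U) ≤ finrank F₀ U := by
  classical
  let b := Module.finBasis F₀ U
  have h1 : bc F β U ≤ Submodule.span F (Set.range (fun i => β (b i : V₀))) := by
    apply Submodule.span_le.mpr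
    rintro _ ⟨v, hv, rfl⟩
    have h2 : (⟨v, hv⟩ : U) ∈ Submodule.span F₀ (Set.range b) := by rw [b.span_eq]; exact Submodule.mem_top
    have h3 : ∀ x ∈ Submodule.span F₀ (Set.range b), β (x : V₀) ∈ Submodule.span F (Set.range (fun i => β (b i : V₀))) := by
      intro x hx
      induction hx using Submodule.span_induction with
      | mem x hx =>
        obtain ⟨i, rfl⟩ := hx
        exact Submodule.subset_span ⟨i, rfl⟩
      | zero => rw [Submodule.coe_zero, D.zero]; exact zero_mem _
      | add a b _ _ ha hb => rw [Submodule.coe_add, D.add]; exact add_mem ha hb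
      | smul c a _ ha => rw [Submodule.coe_smul, D.smul]; exact Submodule.smul_mem _ _ ha
    exact h3 _ h2
  have h4 := Submodule.finrank_mono h1
  have h5 := finrank_range_le_card (R := F) (fun i => β (b i : V₀))
  rw [Fintype.card_fin] at h5
  exact h4.trans h5

theorem bc_finrank (hfr : finrank F₀ V₀ = finrank F V) (U : Submodule F₀ V₀) : finrank F (bc F β U) = finrank F₀ U := by
  obtain ⟨W, hW⟩ := Submodule.exists_isCompl U
  have h1 := D.bc_finrank_le U
  have h2 := D.bc_finrank_le W
  have h3 := Submodule.finrank_add_eq_of_isCompl hW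
  have h4 := Submodule.finrank_add_le_finrank_add_finrank (bc F β U) (bc F β W)
  rw [← D.bc_sup, hW.sup_eq_top, D.bc_top, finrank_top] at h4
  omega

theorem bc_inf (hfr : finrank F₀ V₀ = finrank F V) (U W : Submodule F₀ V₀) :
    finrank F (bc F β U ⊓ bc F β W : Submodule F V) = finrank F₀ (U ⊓ W : Submodule F₀ V₀) := by
  have h1 := Submodule.finrank_sup_add_finrank_inf_eq (bc F β U) (bc F β W)
  have h2 := Submodule.finrank_sup_add_finrank_inf_eq U W
  rw [← D.bc_sup, D.bc_finrank hfr, D.bc_finrank hfr, D.bc_finrank hfr] at h1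
  omega

omit [FiniteDimensional F V] [FiniteDimensional F₀ V₀] in
/-- image of a base change under a semisimilarity compatible with one over the small field -/
theorem imS_bc {q : SSG Q} {q₀ : SSG Q₀} (hq : ∀ v, q.1.1 (β v) = β (q₀.1.1 v)) (U : Submodule F₀ V₀) :
    imS q (bc F β U) = bc F β (imS q₀ U) := by
  have key : ∀ (q : SSG Q) (q₀ : SSG Q₀), (∀ v, q.1.1 (β v) = β (q₀.1.1 v)) → ∀ U : Submodule F₀ V₀,
      ∀ x ∈ bc F β U, q.1.1 x ∈ bc F β (imS q₀ U) := by
    intro q q₀ hq U x hx
    unfold bc at hx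
    induction hx using Submodule.span_induction with
    | mem x hx =>
      obtain ⟨u, hu, rfl⟩ := hx
      rw [hq]
      exact mem_bc (apply_mem_imS.mpr hu)
    | zero => rw [ss_zero]; exact zero_mem _
    | add a b _ _ ha hb => rw [ss_add]; exact add_mem ha hb
    | smul c a _ ha => rw [ss_smul]; exact Submodule.smul_mem _ _ ha
  have hinv : ∀ v, q⁻¹.1.1 (β v) = β (q₀⁻¹.1.1 v) := by
    intro v
    show q.1.1.symm (β v) = β (q₀.1.1.symm v)
    rw [Equiv.symm_apply_eq, hq, Equiv.apply_symm_apply]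
  apply le_antisymm
  · intro y hy
    obtain ⟨x, rfl⟩ := q.1.1.surjective y
    exact key q q₀ hq U x (apply_mem_imS.mp hy)
  · intro y hy
    rw [mem_imS]
    have h1 := key q⁻¹ q₀⁻¹ hinv _ y hy
    rw [← imS_mul, inv_mul_cancel, imS_one] at h1
    exact h1

theorem ev_ext (hfr : finrank F₀ V₀ = finrank F V) {m : ℕ} (P : PT Q m) (P₀ : PT Q₀ m) {q : SSG Q} {q₀ : SSG Q₀}
    (hq : ∀ v, q.1.1 (β v) = β (q₀.1.1 v)) : Ev m q ↔ Ev m q₀ := by
  obtain ⟨E, hE, hEm⟩ := P₀.ex
  rw [P.ev_iff q (D.bc_TS hE) (by rw [D.bc_finrank hfr, hEm]), P₀.ev_iff q₀ hE hEm, D.imS_bc hq, D.bc_inf hfr]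

/-- descent of stable subspaces -/
theorem stable_bc {r : ℕ} (hτ : orderOf s.1.2 = r) (hr : 0 < r) (hs : s ^ r = 1) {X : Submodule F V} (hX : imS s X = X) :
    ∃ U : Submodule F₀ V₀, bc F β U = X ∧ ∀ v, v ∈ U ↔ β v ∈ X := by
  have hsX : ∀ x, x ∈ X → s.1.1 x ∈ X := by
    intro x hx
    rw [← hX, apply_mem_imS]
    exact hx
  let U : Submodule F₀ V₀ :=
    { carrier := {v | β v ∈ X}
      add_mem' := fun {a b} ha hb => by
        show β (a + b) ∈ X
        rw [D.add]; exact X.add_mem ha hb
      zero_mem' := by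
        show β 0 ∈ X
        rw [D.zero]; exact X.zero_mem
      smul_mem' := fun c a ha => by
        show β (c • a) ∈ X
        rw [D.smul]; exact X.smul_mem _ ha }
  refine ⟨U, ?_, fun v => Iff.rfl⟩
  have hit : ∀ (i : ℕ) (x : X), ((fun x : X => (⟨s.1.1 x.1, hsX x.1 x.2⟩ : X))^[i] x : X) = (⟨(s ^ i).1.1 x.1, by
      induction i with
      | zero => exact x.2
      | succ i ih => rw [pow_succ']; exact hsX _ ih⟩ : X) := by
    intro i x
    induction i with
    | zero => rfl
    | succ i ih =>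
      rw [Function.iterate_succ_apply', ih]
      apply Subtype.ext
      show s.1.1 ((s ^ i).1.1 x.1) = (s ^ (i + 1)).1.1 x.1
      rw [pow_succ']; rfl
  have h1 := fixed_span (V := X) hτ hr (fun x => ⟨s.1.1 x.1, hsX x.1 x.2⟩) (fun x y => Subtype.ext (ss_add s x.1 y.1))
    (fun a x => Subtype.ext (ss_smul s a x.1)) (fun x => by
      rw [hit]
      apply Subtype.ext
      show (s ^ r).1.1 x.1 = x.1
      rw [hs]; rfl)
  apply le_antisymm
  · apply Submodule.span_le.mpr
    rintro _ ⟨v, hv, rfl⟩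
    exact hv
  · intro x hx
    have h2 : (⟨x, hx⟩ : X) ∈ Submodule.span F {x : X | (⟨s.1.1 x.1, hsX x.1 x.2⟩ : X) = x} := by
      rw [h1]; exact Submodule.mem_top
    have h3 : ∀ y ∈ Submodule.span F {x : X | (⟨s.1.1 x.1, hsX x.1 x.2⟩ : X) = x}, (y : V) ∈ bc F β U := by
      intro y hy
      induction hy using Submodule.span_induction with
      | mem y hy =>
        have h4 : s.1.1 (y : V) = y := congrArg Subtype.val hy
        obtain ⟨v, hv⟩ := (D.fix _).mp h4
        rw [← hv]
        exact mem_bc (show β v ∈ X by rw [hv]; exact y.2)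
      | zero => exact zero_mem _
      | add a b _ _ ha hb => exact add_mem ha hb
      | smul c a _ ha => exact Submodule.smul_mem _ _ ha
    exact h3 _ h2

end Desc

section ts

variable {F V : Type*} [Field F] [AddCommGroup V] [Module F V] [FiniteDimensional F V] {Q : QuadraticForm F V}

/-- totally singular subspaces and splitting off a hyperbolic plane -/
theorem ts_res (hnd : ND Q) {k : ℕ} (hV : finrank F V = 2 * (k + 1)) {u v : V} (hu : Q u = 0) (hv : Q v = 0) (huv : pB Q u v = 1) :
    (∃ U : Submodule F V, TS Q U ∧ finrank F U = k + 1) ↔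
      ∃ U : Submodule F (oc Q (Submodule.span F {u, v})), TS (resQ Q (oc Q (Submodule.span F {u, v}))) U ∧ finrank F U = k := by
  have hvu : pB Q v u = 1 := by rw [pB_symm]; exact huv
  have huu : pB Q u u = 0 := by rw [pB_self, hu, mul_zero]
  have hu0 : u ≠ 0 := by
    rintro rfl
    rw [map_zero, LinearMap.zero_apply] at huv
    exact zero_ne_one huv
  constructor
  · rintro ⟨U, hU, hUk⟩
    have hY : TS Q (Submodule.span F {u}) := by
      intro x hx
      obtain ⟨c, rfl⟩ := Submodule.mem_span_singleton.mp hx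
      rw [q_smul, hu, mul_zero]
    obtain ⟨h1, h2⟩ := hU.proj hnd hV hUk hY
    obtain ⟨Z, hZ⟩ : ∃ Z, Z = (U ⊓ oc Q (Submodule.span F {u})) ⊔ Submodule.span F {u} := ⟨_, rfl⟩
    rw [← hZ] at h1 h2
    have huZ : u ∈ Z := by rw [hZ]; exact Submodule.mem_sup_right (Submodule.mem_span_singleton_self u)
    have h3 := finrank_inf_ker_of_surj (pB Q v) Z (fun c => ⟨c • u, Z.smul_mem _ huZ, by
      rw [map_smul, smul_eq_mul, hvu, mul_one]⟩) (finrank_self F)
    have h4 : finrank F (Z ⊓ LinearMap.ker (pB Q v) : Submodule F V) = k := by omega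
    have h5 : Z ⊓ LinearMap.ker (pB Q v) ≤ oc Q (Submodule.span F {u, v}) := by
      intro x hx
      rw [mem_oc_pair]
      exact ⟨h1.pb huZ hx.1, hx.2⟩
    refine ⟨(Z ⊓ LinearMap.ker (pB Q v)).comap (oc Q (Submodule.span F {u, v})).subtype, ?_, ?_⟩
    · intro x hx
      exact h1 _ hx.1
    · rw [(Submodule.comapSubtypeEquivOfLe h5).finrank_eq, h4]
  · rintro ⟨U, hU, hUk⟩
    have h1 : u ∉ U.map (oc Q (Submodule.span F {u, v})).subtype := by
      rintro ⟨x, _, hx⟩
      have h2 : (x : V) ∈ oc Q (Submodule.span F {u, v}) := x.2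
      have h3 : (x : V) = u := hx
      rw [h3, mem_oc_pair] at h2
      rw [h2.2] at hvu
      exact zero_ne_one hvu
    refine ⟨U.map (oc Q (Submodule.span F {u, v})).subtype ⊔ Submodule.span F {u}, ?_, ?_⟩
    · intro x hx
      obtain ⟨a, ha, b, hb, rfl⟩ := Submodule.mem_sup.mp hx
      obtain ⟨y, hy, rfl⟩ := ha
      obtain ⟨c, rfl⟩ := Submodule.mem_span_singleton.mp hb
      have h2 : (y : V) ∈ oc Q (Submodule.span F {u, v}) := y.2
      have h3 : Q (y : V) = 0 := hU y hy
      rw [mem_oc_pair] at h2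
      rw [Submodule.subtype_apply, q_add, q_smul, hu, pr_smul, pB_symm, h2.1, h3]
      ring
    · rw [Submodule.finrank_sup_span_singleton h1,
        ← (Submodule.equivMapOfInjective _ (Submodule.subtype_injective _) U).finrank_eq, hUk]

end ts

section types

universe u v w

theorem exists_ts_pred {F : Type w} [Field F] [Finite F] : ∀ (k : ℕ) {V : Type u} [AddCommGroup V] [Module F V]
    [FiniteDimensional F V] {Q : QuadraticForm F V} (_ : ND Q) (_ : finrank F V = 2 * (k + 1)), ∃ U : Submodule F V, TS Q U ∧ finrank F U = k := by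
  intro k
  induction k with
  | zero =>
    intro V _ _ _ Q hnd hn
    exact ⟨⊥, fun x hx => by rw [(Submodule.mem_bot F).mp hx, q_zero], finrank_bot F V⟩
  | succ k ih =>
    intro V _ _ _ Q hnd hn
    obtain ⟨u, hu0, hu⟩ := exists_sing hnd (by omega)
    obtain ⟨v, hv, huv⟩ := exists_partner hnd hu0 hu
    have hfr : finrank F (oc Q (Submodule.span F {u, v})) = 2 * (k + 1) := by
      have := finrank_oc hnd (Submodule.span F {u, v})
      rw [finrank_pair (indep_sing hu hv (by rw [huv]; exact one_ne_zero))] at this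
      omega
    obtain ⟨U, hU, hUk⟩ := ih ((hyp_nds hu hv huv).oc hnd).nd hfr
    have h1 : u ∉ U.map (oc Q (Submodule.span F {u, v})).subtype := by
      rintro ⟨x, _, hx⟩
      have h2 : (x : V) ∈ oc Q (Submodule.span F {u, v}) := x.2
      have h3 : (x : V) = u := hx
      have hvu : pB Q v u = 1 := by rw [pB_symm]; exact huv
      rw [h3, mem_oc_pair] at h2
      rw [h2.2] at hvu
      exact zero_ne_one hvu
    refine ⟨U.map (oc Q (Submodule.span F {u, v})).subtype ⊔ Submodule.span F {u}, ?_, ?_⟩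
    · intro x hx
      obtain ⟨a, ha, b, hb, rfl⟩ := Submodule.mem_sup.mp hx
      obtain ⟨y, hy, rfl⟩ := ha
      obtain ⟨c, rfl⟩ := Submodule.mem_span_singleton.mp hb
      have h2 : (y : V) ∈ oc Q (Submodule.span F {u, v}) := y.2
      have h3 : Q (y : V) = 0 := hU y hy
      rw [mem_oc_pair] at h2
      rw [Submodule.subtype_apply, q_add, q_smul, hu, pr_smul, pB_symm, h2.1, h3]
      ring
    · rw [Submodule.finrank_sup_span_singleton h1,
        ← (Submodule.equivMapOfInjective _ (Submodule.subtype_injective _) U).finrank_eq, hUk]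

/-- classification by type -/
theorem class_even_ts {F : Type w} [Field F] [Finite F] : ∀ (k : ℕ) {V : Type u} {V' : Type v} [AddCommGroup V] [Module F V]
    [FiniteDimensional F V] [AddCommGroup V'] [Module F V'] [FiniteDimensional F V'] [Finite V] [Finite V'] {Q : QuadraticForm F V}
    {Q' : QuadraticForm F V'} (_ : ND Q) (_ : ND Q') (_ : finrank F V = 2 * k) (_ : finrank F V' = 2 * k)
    (_ : (∃ U : Submodule F V, TS Q U ∧ finrank F U = k) ↔ (∃ U : Submodule F V', TS Q' U ∧ finrank F U = k)),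
    zn Q = zn Q' := by
  intro k
  induction k with
  | zero =>
    intro V V' _ _ _ _ _ _ _ _ Q Q' hnd hnd' hn hn' hz
    haveI : Subsingleton V := Module.finrank_zero_iff.mp (by omega)
    haveI : Subsingleton V' := Module.finrank_zero_iff.mp (by omega)
    unfold zn
    haveI : Unique {x : V // Q x = 0} := ⟨⟨⟨0, q_zero Q⟩⟩, fun _ => Subsingleton.elim _ _⟩
    haveI : Unique {x : V' // Q' x = 0} := ⟨⟨⟨0, q_zero Q'⟩⟩, fun _ => Subsingleton.elim _ _⟩
    rw [Nat.card_unique, Nat.card_unique]
  | succ k ih =>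
    intro V V' _ _ _ _ _ _ _ _ Q Q' hnd hnd' hn hn' hz
    obtain ⟨q, hq⟩ : ∃ q, Nat.card F = q := ⟨_, rfl⟩
    -- singular vectors from singular vectors
    have key : ∀ {V : Type u} [AddCommGroup V] [Module F V] [FiniteDimensional F V] [Finite V] {Q : QuadraticForm F V},
        (∃ U : Submodule F V, TS Q U ∧ finrank F U = k + 1) → 2 ≤ zn Q := by
      intro V _ _ _ _ Q h
      obtain ⟨U, hU, hUk⟩ := h
      by_contra hlt
      have h1 := zn_aniso (Q := Q) (by omega)
      have h2 : U = ⊥ := by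
        rw [eq_bot_iff]
        intro x hx
        rw [Submodule.mem_bot]
        exact h1 x (hU x hx)
      rw [h2, finrank_bot] at hUk
      omega
    have key' : ∀ {V : Type v} [AddCommGroup V] [Module F V] [FiniteDimensional F V] [Finite V] {Q : QuadraticForm F V},
        (∃ U : Submodule F V, TS Q U ∧ finrank F U = k + 1) → 2 ≤ zn Q := by
      intro V _ _ _ _ Q h
      obtain ⟨U, hU, hUk⟩ := h
      by_contra hlt
      have h1 := zn_aniso (Q := Q) (by omega)
      have h2 : U = ⊥ := by
        rw [eq_bot_iff]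
        intro x hx
        rw [Submodule.mem_bot]
        exact h1 x (hU x hx)
      rw [h2, finrank_bot] at hUk
      omega
    by_cases h2 : 2 ≤ zn Q ∧ 2 ≤ zn Q'
    · obtain ⟨u, v, hu, hv, huv⟩ := exists_hyp hnd h2.1
      obtain ⟨u', v', hu', hv', huv'⟩ := exists_hyp hnd' h2.2
      obtain ⟨h3, h4⟩ := zn_rec hnd hq (n := 2 * k) (by rw [hn]; ring) hu hv huv
      obtain ⟨h3', h4'⟩ := zn_rec hnd' hq (n := 2 * k) (by rw [hn']; ring) hu' hv' huv'
      rw [ts_res hnd hn hu hv huv, ts_res hnd' hn' hu' hv' huv'] at hz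
      rw [h4, h4', ih ((hyp_nds hu hv huv).oc hnd).nd ((hyp_nds hu' hv' huv').oc hnd').nd h3 h3' hz]
    · have hk : k = 0 := by
        by_contra hk
        apply h2
        obtain ⟨x, hx0, hx⟩ := exists_sing hnd (by omega)
        obtain ⟨x', hx0', hx'⟩ := exists_sing hnd' (by omega)
        constructor
        · by_contra hlt
          exact hx0 (zn_aniso (Q := Q) (by omega) x hx)
        · by_contra hlt
          exact hx0' (zn_aniso (Q := Q') (by omega) x' hx')
      subst hk
      -- both anisotropic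
      have hall : ∀ {n : ℕ}, n < 2 → 0 < n → n = 1 := fun h1 h2 => by omega
      have hpos : 0 < zn Q := by
        unfold zn
        haveI : Nonempty {x : V // Q x = 0} := ⟨⟨0, q_zero Q⟩⟩
        exact Nat.card_pos
      have hpos' : 0 < zn Q' := by
        unfold zn
        haveI : Nonempty {x : V' // Q' x = 0} := ⟨⟨0, q_zero Q'⟩⟩
        exact Nat.card_pos
      have hts : 2 ≤ zn Q → ∃ U : Submodule F V, TS Q U ∧ finrank F U = 0 + 1 := by
        intro h
        obtain ⟨u, v, hu, hv, huv⟩ := exists_hyp hnd h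
        have hu0 : u ≠ 0 := by
          rintro rfl
          rw [map_zero, LinearMap.zero_apply] at huv
          exact zero_ne_one huv
        refine ⟨Submodule.span F {u}, ?_, finrank_span_singleton hu0⟩
        intro x hx
        obtain ⟨c, rfl⟩ := Submodule.mem_span_singleton.mp hx
        rw [q_smul, hu, mul_zero]
      have hts' : 2 ≤ zn Q' → ∃ U : Submodule F V', TS Q' U ∧ finrank F U = 0 + 1 := by
        intro h
        obtain ⟨u, v, hu, hv, huv⟩ := exists_hyp hnd' h
        have hu0 : u ≠ 0 := by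
          rintro rfl
          rw [map_zero, LinearMap.zero_apply] at huv
          exact zero_ne_one huv
        refine ⟨Submodule.span F {u}, ?_, finrank_span_singleton hu0⟩
        intro x hx
        obtain ⟨c, rfl⟩ := Submodule.mem_span_singleton.mp hx
        rw [q_smul, hu, mul_zero]
      have h5 : ¬ 2 ≤ zn Q := fun h => h2 ⟨h, key' (hz.mp (hts h))⟩
      have h6 : ¬ 2 ≤ zn Q' := fun h => h2 ⟨key (hz.mpr (hts' h)), h⟩
      omega

end types

section dtype

variable {F F₀ V V₀ : Type*} [Field F] [Field F₀] [Finite F₀] [AddCommGroup V] [Module F V] [AddCommGroup V₀] [Module F₀ V₀]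
  [FiniteDimensional F V] [FiniteDimensional F₀ V₀]
  {Q : QuadraticForm F V} {Q₀ : QuadraticForm F₀ V₀} {j : F₀ →+* F} {β : V₀ → V} {d : Fˣ} {s : SSG Q}

/-- the type of the descended form -/
theorem Desc.type (D : Desc Q Q₀ j β d s) {m : ℕ} (P : PT Q m) (hfr : finrank F₀ V₀ = finrank F V) {r : ℕ} (hτ : orderOf s.1.2 = r)
    (hr : 0 < r) (hs : s ^ r = 1) : Ev m s ↔ ∃ U : Submodule F₀ V₀, TS Q₀ U ∧ finrank F₀ U = m := by
  have hnd₀ : ND Q₀ := D.nd P.nd
  constructor
  · intro h
    by_contra hno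
    rcases Nat.eq_zero_or_pos m with hm | hm
    · apply hno
      refine ⟨⊥, fun x hx => by rw [(Submodule.mem_bot F₀).mp hx, q_zero], by rw [hm]; exact finrank_bot F₀ V₀⟩
    obtain ⟨k, rfl⟩ : ∃ k, m = k + 1 := ⟨m - 1, by omega⟩
    obtain ⟨Y₀, hY₀, hY₀k⟩ := exists_ts_pred k hnd₀ (by rw [hfr, P.fr])
    obtain ⟨E, hE, hEm⟩ := P.ex
    have hYf := D.bc_finrank hfr Y₀
    obtain ⟨W, X, hW, hWm, hX, hXm, hYW, hYX, hne⟩ := TS.exists_two P.nd P.fr hE hEm (D.bc_TS hY₀) (by rw [hYf, hY₀k])
    have hYs : imS s (Desc.bc F β Y₀) = Desc.bc F β Y₀ := by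
      have := D.imS_bc (q := s) (q₀ := 1) (fun v => D.fix' v) Y₀
      rw [imS_one] at this
      exact this
    have hYW' : Desc.bc F β Y₀ ≤ imS s W := by
      conv_lhs => rw [← hYs]
      intro y hy
      exact hYW hy
    rcases TS.two P.nd P.fr (by rw [hYf, hY₀k]) hW hWm hX hXm (TS_imS (p := s) hW) (by rw [finrank_imS, hWm]) hYW hYX hYW' hne with h1 | h1
    · obtain ⟨U, hU1, hU2⟩ := D.stable_bc hτ hr hs h1
      apply hno
      refine ⟨U, fun v hv => ?_, by rw [← D.bc_finrank hfr, hU1, hWm]⟩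
      apply j.injective
      rw [D.form, map_zero, hW _ ((hU2 v).mp hv), mul_zero]
    · exact P.not_ev_of_swap hW hWm (by rw [hYf, hY₀k]) hYW hYW' (by rw [h1]; exact hne.symm) h
  · rintro ⟨U, hU, hUm⟩
    refine ev_of_stable P (D.bc_TS hU) (by rw [D.bc_finrank hfr, hUm]) ?_
    have := D.imS_bc (q := s) (q₀ := 1) (fun v => D.fix' v) U
    rw [imS_one] at this
    exact this

end dtype

end Cfsg.Agent.H17
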