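import Mathlib
import Cfsg.Agent.H17.Par2

set_option autoImplicit false

/-! Conjugacy in a coset of field automorphisms: even dimension. -/

namespace Cfsg.Agent.H17

open Cfsg Cfsg.Agent.H5 Module
open scoped MatrixGroups Matrix

section psc

variable {F : Type*} [Field F] {ι : Type} [Fintype ι] [DecidableEq ι] {Q : QuadraticForm F (ι → F)} {m : ℕ}

theorem max_ts_iff (P : PT Q m) (U : Submodule F (ι → F)) : IsMaxTotallySingular ⇑Q U ↔ TS Q U ∧ finrank F U = m := by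
  constructor
  · rintro ⟨h1, h2⟩
    have h1' : TS Q U := h1
    obtain ⟨E, hE, hEm⟩ := P.ex
    obtain ⟨h3, h4⟩ := hE.proj P.nd P.fr hEm h1'
    have h5 := h2 _ h3 le_sup_right
    rw [h5] at h4
    exact ⟨h1', h4⟩
  · rintro ⟨h1, h2⟩
    refine ⟨h1, fun W hW hUW => ?_⟩
    have hW' : TS Q W := hW
    have h3 := hW'.finrank_le P.nd P.fr
    exact (Submodule.eq_of_le_of_finrank_le hUW (by omega)).symm

theorem image_eq (g : Geo.quadSimilarityGroup (F := F) ⇑Q) (U : Submodule F (ι → F)) :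
    imageSubmodule ((g.1 : GL ι F) : Matrix ι ι F) U = imS (goSS Q g) U := by
  ext y
  unfold imageSubmodule
  rw [Submodule.mem_map]
  constructor
  · rintro ⟨x, hx, rfl⟩
    rw [Matrix.toLin'_apply, ← goSS_apply, apply_mem_imS]
    exact hx
  · intro hy
    obtain ⟨x, rfl⟩ := (goSS Q g).1.1.surjective y
    exact ⟨x, apply_mem_imS.mp hy, by rw [Matrix.toLin'_apply, goSS_apply]⟩

theorem psc_iff (P : PT Q m) (g : Geo.quadSimilarityGroup (F := F) ⇑Q) :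
    PreservesSingularClasses ⇑Q ((g.1 : GL ι F) : Matrix ι ι F) ↔ Ev m (goSS Q g) := by
  unfold PreservesSingularClasses SameParityClass Ev
  have key : ∀ U : Submodule F (ι → F), finrank F U = m →
      (Even (finrank F U - finrank F (U ⊓ imageSubmodule ((g.1 : GL ι F) : Matrix ι ι F) U : Submodule F (ι → F))) ↔
        Even (finrank F (U ⊓ imS (goSS Q g) U : Submodule F (ι → F)) + m)) := by
    intro U hU
    rw [image_eq, hU]
    have h1 := Submodule.finrank_mono (inf_le_left : U ⊓ imS (goSS Q g) U ≤ U)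
    rw [Nat.even_iff, Nat.even_iff]
    omega
  constructor
  · intro h U hU hUm
    exact (key U hUm).mp (h U ((max_ts_iff P U).mpr ⟨hU, hUm⟩))
  · intro h U hU
    obtain ⟨h1, h2⟩ := (max_ts_iff P U).mp hU
    exact (key U h2).mpr (h U h1 h2)

/-- the class-preserving similarities -/
def evS (P : PT Q m) : Subgroup (GL ι F) where
  carrier := {g | ∃ h : g ∈ Geo.quadSimilarityGroup (F := F) ⇑Q, Ev m (goSS Q ⟨g, h⟩)}
  one_mem' := ⟨one_mem _, by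
    have : goSS Q ⟨1, one_mem _⟩ = 1 := map_one (goSS Q)
    rw [this]; exact P.ev_one⟩
  mul_mem' := by
    rintro a b ⟨ha, ha'⟩ ⟨hb, hb'⟩
    refine ⟨mul_mem ha hb, ?_⟩
    have : goSS Q ⟨a * b, mul_mem ha hb⟩ = goSS Q ⟨a, ha⟩ * goSS Q ⟨b, hb⟩ := map_mul (goSS Q) ⟨a, ha⟩ ⟨b, hb⟩
    rw [this, P.ev_mul]
    exact ⟨fun _ => hb', fun _ => ha'⟩
  inv_mem' := by
    rintro a ⟨ha, ha'⟩
    refine ⟨inv_mem ha, ?_⟩
    have : goSS Q ⟨a⁻¹, inv_mem ha⟩ = (goSS Q ⟨a, ha⟩)⁻¹ := map_inv (goSS Q) ⟨a, ha⟩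
    rw [this, P.ev_inv]
    exact ha'

theorem mem_evS {P : PT Q m} {g : GL ι F} (h : g ∈ Geo.quadSimilarityGroup (F := F) ⇑Q) : g ∈ evS P ↔ Ev m (goSS Q ⟨g, h⟩) :=
  ⟨fun h' => h'.2, fun h' => ⟨h, h'⟩⟩

theorem mem_HS_ev {P : PT Q m} {α : MulAut (PE Q)} : α ∈ HS Q (evS P) ↔ ∃ p : SSG Q, p.1.2 = 1 ∧ Ev m p ∧ aE Q p = α := by
  rw [mem_HS]
  constructor
  · rintro ⟨g, hg, h⟩
    exact ⟨goSS Q g, rfl, (mem_evS g.2).mp hg, h⟩
  · rintro ⟨p, hp, hev, h⟩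
    obtain ⟨g, rfl⟩ := exists_goSS p hp
    exact ⟨g, (mem_evS g.2).mpr hev, h⟩

end psc

section conj

variable {F : Type*} [Field F] [Finite F] {ι : Type} [Fintype ι] [DecidableEq ι] {Q : QuadraticForm F (ι → F)}

/-- conjugacy from equality of types of the descended forms -/
theorem conj_gen {F₀ : Type*} [Field F₀] [Finite F₀] (hnd : ND Q) (hn : 5 ≤ finrank F (ι → F)) {k : ℕ} (hk : finrank F (ι → F) = 2 * k) {p p' : SSG Q} (hpp : p'.1.2 = p.1.2)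
    {r : ℕ} (hτ : orderOf p.1.2 = r) (hr : 0 < r) {j : F₀ →+* F} (hj : ∀ x, p.1.2 x = x ↔ ∃ y, j y = x)
    (h : aE Q p ^ r = 1) (h' : aE Q p' ^ r = 1)
    (hcl : ∀ (s s' : SSG Q) (Q₀ Q₀' : QuadraticForm F₀ (ι → F₀)) (β β' : (ι → F₀) → (ι → F)) (d d' : Fˣ),
      s ^ r = 1 → s'^ r = 1 → (∃ y, s = scSS Q y * p) → (∃ y, s' = scSS Q y * p') →
      Desc Q Q₀ j β d s → Desc Q Q₀' j β' d' s' → zn Q₀ = zn Q₀') :
    ∃ (l : SSG Q) (u : ι → F) (hu : Q u ≠ 0), l.1.2 = 1 ∧ aE Q p' = aE Q l * aE Q p * (aE Q l)⁻¹ ∧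
      aE Q (ogSS Q (refl hu)) * aE Q p = aE Q p * aE Q (ogSS Q (refl hu)) := by
  have hQ : ∃ x, Q x ≠ 0 := exists_ne_q hnd (by omega)
  obtain ⟨y, hy⟩ := ss_normalize hnd hn p hτ hr h
  obtain ⟨y', hy'⟩ := ss_normalize hnd hn p' (by rw [hpp]; exact hτ) hr h'
  obtain ⟨s, hs⟩ : ∃ s, s = scSS Q y * p := ⟨_, rfl⟩
  obtain ⟨s', hs'⟩ : ∃ s', s' = scSS Q y' * p' := ⟨_, rfl⟩
  rw [← hs] at hy
  rw [← hs'] at hy'
  have hs2 : s.1.2 = p.1.2 := by rw [hs]; show 1 * p.1.2 = p.1.2; rw [one_mul]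
  have hs2' : s'.1.2 = p.1.2 := by rw [hs']; show 1 * p'.1.2 = p.1.2; rw [one_mul, hpp]
  have hsa : aE Q s = aE Q p := by rw [hs, map_mul, aE_sc hnd hn, one_mul]
  have hsa' : aE Q s' = aE Q p' := by rw [hs', map_mul, aE_sc hnd hn, one_mul]
  obtain ⟨b, d, Q₀, hb, hQ₀⟩ := ss_descend hQ s (by rw [hs2]; exact hτ) hr (j := j) (by rw [hs2]; exact hj) hy
  obtain ⟨b', d', Q₀', hb', hQ₀'⟩ := ss_descend hQ s' (by rw [hs2']; exact hτ) hr (j := j) (by rw [hs2']; exact hj) hy'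
  have D := desc_of_coords s (j := j) (by rw [hs2]; exact hj) hb hQ₀
  have D' := desc_of_coords s' (j := j) (by rw [hs2']; exact hj) hb' hQ₀'
  have hz := hcl s s' Q₀ Q₀' _ _ d d' hy hy' ⟨y, hs⟩ ⟨y', hs'⟩ D D'
  have hfr : finrank F₀ (ι → F₀) = 2 * k := by
    rw [Module.finrank_fintype_fun_eq_card] at hk ⊢; exact hk
  obtain ⟨φ, hφ⟩ := class_even k (D.nd hnd) (D'.nd hnd) hfr hfr hz (c := 1) one_ne_zero
  obtain ⟨g, hg⟩ := mulVec_of_lin one_ne_zero (D.nd hnd) hφ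
  have hj' : ∀ y, p.1.2 (j y) = j y := fun y => (hj _).mpr ⟨y, rfl⟩
  obtain ⟨K, hK⟩ : ∃ K : QuadraticForm F (ι → F), ∀ x, K x = (d : F) * Q ((b : Matrix ι ι F) *ᵥ x) :=
    ⟨(d : F) • Q.comp (b : Matrix ι ι F).mulVecLin, fun x => rfl⟩
  obtain ⟨K', hK'⟩ : ∃ K : QuadraticForm F (ι → F), ∀ x, K x = (d' : F) * Q ((b' : Matrix ι ι F) *ᵥ x) :=
    ⟨(d' : F) • Q.comp (b' : Matrix ι ι F).mulVecLin, fun x => rfl⟩
  have h2 := ext_sim (Q := K) (Q' := K') (fun v => by rw [hQ₀, hK]) (fun v => by rw [hQ₀', hK']) g 1 hg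
  have hb1 : ∀ w, (b : Matrix ι ι F) *ᵥ (((b⁻¹ : GL ι F) : Matrix ι ι F) *ᵥ w) = w := fun w => by
    rw [Matrix.mulVec_mulVec, ← Units.val_mul, mul_inv_cancel, Units.val_one, Matrix.one_mulVec]
  have hb2 : ∀ w, ((b⁻¹ : GL ι F) : Matrix ι ι F) *ᵥ ((b : Matrix ι ι F) *ᵥ w) = w := fun w => by
    rw [Matrix.mulVec_mulVec, ← Units.val_mul, inv_mul_cancel, Units.val_one, Matrix.one_mulVec]
  have hL : b' * jI ι j g * b⁻¹ ∈ Geo.quadSimilarityGroup (F := F) ⇑Q := by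
    refine ⟨d'⁻¹ * d, fun v => ?_⟩
    have h3 := h2 (((b⁻¹ : GL ι F) : Matrix ι ι F) *ᵥ v)
    rw [hK', hK, hb1, map_one, one_mul] at h3
    rw [Units.val_mul, ← Matrix.mulVec_mulVec, Units.val_mul, ← Matrix.mulVec_mulVec]
    have e1 : ((d'⁻¹ * d : Fˣ) : F) = (d' : F)⁻¹ * d := by rw [Units.val_mul, Units.val_inv_eq_inv_val]
    rw [e1, mul_assoc, ← h3, ← mul_assoc, inv_mul_cancel₀ (Units.ne_zero _), one_mul]
  have hne₀ : ∃ v, Q₀ v ≠ 0 := exists_ne_q (D.nd hnd) (by omega)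
  obtain ⟨v, hv⟩ := hne₀
  refine ⟨goSS Q ⟨_, hL⟩, _, D.ne v hv, rfl, ?_, ?_⟩
  · rw [← hsa, ← hsa', eq_mul_inv_iff_mul_eq, ← map_mul, ← map_mul]
    congr 1
    apply ss_ext
    · intro x
      show s'.1.1 (((b' * jI ι j g * b⁻¹ : GL ι F) : Matrix ι ι F) *ᵥ x) = ((b' * jI ι j g * b⁻¹ : GL ι F) : Matrix ι ι F) *ᵥ s.1.1 x
      conv_rhs => rw [← hb1 x, hb]
      rw [Units.val_mul, ← Matrix.mulVec_mulVec, Units.val_mul, ← Matrix.mulVec_mulVec, ← Matrix.mulVec_mulVec, ← Matrix.mulVec_mulVec, hb2, hb', hs2', hs2, svI_mulVec,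
        glI_jI hj']
    · show s'.1.2 * 1 = 1 * s.1.2
      rw [mul_one, one_mul, hs2, hs2']
  · rw [← hsa, ← map_mul, ← map_mul]
    congr 1
    have h3 := ss_conj_refl s (D.ne v hv)
    have h4 : ogSS Q (refl (ss_refl_ne s (D.ne v hv))) = ogSS Q (refl (D.ne v hv)) := by
      congr 1
      apply og_ext
      intro x
      rw [refl_apply, refl_apply, D.fix' v]
    rw [h4, mul_inv_eq_iff_eq_mul] at h3
    exact h3.symm

/-- conjugacy in plus type -/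
theorem conj_plus {F₀ : Type*} [Field F₀] [Finite F₀] {m : ℕ} (P : PT Q m) (hn : 5 ≤ finrank F (ι → F)) {p p' : SSG Q} (hpp : p'.1.2 = p.1.2)
    {r : ℕ} (hτ : orderOf p.1.2 = r) (hr : 0 < r) {j : F₀ →+* F} (hj : ∀ x, p.1.2 x = x ↔ ∃ y, j y = x)
    (h : aE Q p ^ r = 1) (h' : aE Q p' ^ r = 1) (hev : Ev m p ↔ Ev m p') :
    ∃ k ∈ HS Q (evS P), aE Q p' = k * aE Q p * k⁻¹ := by
  obtain ⟨l, u, hu, hl1, hl2, hl3⟩ := conj_gen P.nd hn P.fr hpp hτ hr hj h h' (by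
    rintro s s' Q₀ Q₀' β β' d d' hs hs' ⟨y, rfl⟩ ⟨y', rfl⟩ D D'
    have hfr : finrank F₀ (ι → F₀) = finrank F (ι → F) := by
      rw [Module.finrank_fintype_fun_eq_card, Module.finrank_fintype_fun_eq_card]
    have hτ1 : orderOf (scSS Q y * p).1.2 = r := by
      rw [← hτ]; show orderOf (1 * p.1.2) = _; rw [one_mul]
    have hτ2 : orderOf (scSS Q y' * p').1.2 = r := by
      rw [← hτ, ← hpp]; show orderOf (1 * p'.1.2) = _; rw [one_mul]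
    have h1 := D.type P hfr hτ1 hr hs
    have h2 := D'.type P hfr hτ2 hr hs'
    rw [P.ev_mul] at h1 h2
    have h3 := P.ev_sc y
    have h4 := P.ev_sc y'
    apply class_even_ts m (D.nd P.nd) (D'.nd P.nd) (hfr.trans P.fr) (hfr.trans P.fr)
    rw [← h1, ← h2]
    simp only [h3, h4, true_iff]
    exact hev)
  by_cases hel : Ev m l
  · exact ⟨_, mem_HS_ev.mpr ⟨l, hl1, hel, rfl⟩, hl2⟩
  · refine ⟨aE Q l * aE Q (ogSS Q (refl hu)), mem_HS_ev.mpr ⟨l * ogSS Q (refl hu), ?_, ?_, map_mul _ _ _⟩, ?_⟩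
    · show l.1.2 * 1 = 1
      rw [hl1, one_mul]
    · rw [P.ev_mul]
      exact ⟨fun h => absurd h hel, fun h => absurd h (P.refl_not_ev hu)⟩
    · rw [hl2, _root_.mul_inv_rev]
      calc aE Q l * aE Q p * (aE Q l)⁻¹ = aE Q l * (aE Q p * aE Q (ogSS Q (refl hu)) * (aE Q (ogSS Q (refl hu)))⁻¹) * (aE Q l)⁻¹ := by group
        _ = aE Q l * (aE Q (ogSS Q (refl hu)) * aE Q p * (aE Q (ogSS Q (refl hu)))⁻¹) * (aE Q l)⁻¹ := by rw [hl3]
        _ = _ := by group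

end conj

end Cfsg.Agent.H17
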