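import Mathlib
import Cfsg.Agent.H17.Par3

set_option autoImplicit false

/-! Plus type: cosets of field and graph-field automorphisms. -/

namespace Cfsg.Agent.H17

open Cfsg Cfsg.Agent.H5 Module
open scoped MatrixGroups Matrix

section plus

variable {F : Type*} [Field F] {m : ℕ}

theorem card_plus_ι (m : ℕ) : Fintype.card (Fin m ⊕ Fin m) = 2 * m := by
  simp only [Fintype.card_sum, Fintype.card_fin]; omega

theorem fr_plus (F : Type*) [Field F] (m : ℕ) : finrank F (Fin m ⊕ Fin m → F) = 2 * m := by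
  rw [Module.finrank_fintype_fun_eq_card, card_plus_ι]

theorem PT_plus (F : Type*) [Field F] (m : ℕ) : PT (qPlus m F) m := ⟨nd_plus, fr_plus F m, std_max m⟩

variable [Finite F]

theorem surj_plus (hm : 5 ≤ m) : Function.Surjective (aE (qPlus m F)) :=
  aE_surj nd_plus (by rw [fr_plus F m]; omega) (Or.inr (by rw [fr_plus F m]; omega))

theorem inndiagPlus_iff (hn : 5 ≤ Fintype.card (Fin m ⊕ Fin m)) (β : MulAut (POmega F ⇑(qPlus m F))) :
    β ∈ autSubgroupOf (fun β => ∃ g : GL (Fin m ⊕ Fin m) F, g ∈ Geo.quadSimilarityGroup (F := F) ⇑(qPlus m F) ∧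
      PreservesSingularClasses ⇑(qPlus m F) (g : Matrix (Fin m ⊕ Fin m) (Fin m ⊕ Fin m) F) ∧
      IsInducedBySemilinearPOmega ⇑(qPlus m F) g (RingEquiv.refl F) β) ↔
    MulAut.congr (pomEquiv nd_plus hn) β ∈ HS (qPlus m F) (evS (PT_plus F m)) := by
  apply autSub_iff nd_plus hn (evS (PT_plus F m))
  intro β
  constructor
  · rintro ⟨g, h1, h2, h3⟩
    exact ⟨g, h1, (mem_evS h1).mpr ((psc_iff (PT_plus F m) ⟨g, h1⟩).mp h2), h3⟩
  · rintro ⟨g, h1, h2, h3⟩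
    exact ⟨g, h1, (psc_iff (PT_plus F m) ⟨g, h1⟩).mpr ((mem_evS h1).mp h2), h3⟩

theorem coset_plus_gen (hm : 5 ≤ m) (hn : 5 ≤ Fintype.card (Fin m ⊕ Fin m)) (x δ : MulAut (POmega F ⇑(qPlus m F)))
    {p : SSG (qPlus m F)} (hx : MulAut.congr (pomEquiv nd_plus hn) x = aE (qPlus m F) p) (hp : p.1.2 ≠ 1)
    {r : ℕ} (hr : r.Prime) (hxr : orderOf x = r)
    (hδ : MulAut.congr (pomEquiv nd_plus hn) δ ∈ HS (qPlus m F) (evS (PT_plus F m))) (h : orderOf (δ * x) = r) :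
    ∃ k ∈ HS (qPlus m F) (evS (PT_plus F m)), MulAut.congr (pomEquiv nd_plus hn) (δ * x) = k * MulAut.congr (pomEquiv nd_plus hn) x * k⁻¹ := by
  have hn' : 5 ≤ finrank F (Fin m ⊕ Fin m → F) := semi_card (F := F) hn
  obtain ⟨d, hd1, hd2, hd3⟩ := mem_HS_ev.mp hδ
  have hord : ∀ y : MulAut (POmega F ⇑(qPlus m F)), orderOf (MulAut.congr (pomEquiv nd_plus hn) y) = orderOf y := fun y =>
    orderOf_injective (MulAut.congr (pomEquiv nd_plus hn)).toMonoidHom (MulAut.congr (pomEquiv nd_plus hn)).injective y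
  have hxr' : aE (qPlus m F) p ^ r = 1 := by rw [← hx, ← hxr, ← hord, pow_orderOf_eq_one]
  have hxr2 : aE (qPlus m F) (d * p) ^ r = 1 := by
    rw [map_mul, hd3, ← hx, ← map_mul, ← h, ← hord, pow_orderOf_eq_one]
  have hτ := ss_order nd_plus hn' hr hxr' hp
  obtain ⟨F₀, _, _, j, hj⟩ := exists_fixF F hr.ne_zero hτ
  have hdp : (d * p).1.2 = p.1.2 := by
    show d.1.2 * p.1.2 = p.1.2
    rw [hd1, one_mul]
  obtain ⟨k, hk1, hk2⟩ := conj_plus (PT_plus F m) hn' hdp hτ hr.pos hj hxr' hxr2 (by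
    rw [(PT_plus F m).ev_mul]
    simp only [hd2, true_iff])
  refine ⟨k, hk1, ?_⟩
  rw [hx, ← hk2, map_mul, map_mul, hd3, hx]

end plus

section gf

variable {F : Type*} [Field F] [Finite F] {ι : Type} [Fintype ι] [DecidableEq ι] {Q : QuadraticForm F (ι → F)}

/-- the automorphism induced by a reflection -/
theorem refl_induced (hnd : ND Q) (hn : 5 ≤ Fintype.card ι) {v : ι → F} (hv : Q v ≠ 0) {r : GL ι F}
    (hr : (r : Matrix ι ι F) = reflectionMatrix ⇑Q v) {γ : MulAut (POmega F ⇑Q)}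
    (h : IsInducedBySemilinearPOmega ⇑Q r (RingEquiv.refl F) γ) : MulAut.congr (pomEquiv hnd hn) γ = aE Q (ogSS Q (refl hv)) := by
  have h1 : ∀ x, (r : Matrix ι ι F) *ᵥ x = refl hv x := by
    intro x
    rw [hr, reflectionMatrix_mulVec, refl_apply]
  have hp : IsSemisimilarityPair ⇑Q r 1 := by
    refine ⟨1, fun x => ?_⟩
    show Q ((r : Matrix ι ι F) *ᵥ x) = _
    rw [h1, og_q, Units.val_one, one_mul]
    rfl
  rw [(inducedPOm_iff hnd hn (σ := 1) hp γ).mp h]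
  congr 1
  apply ss_ext
  · intro x
    show (r : Matrix ι ι F) *ᵥ x = refl hv x
    exact h1 x
  · rfl

/-- the form of a graph-field automorphism -/
theorem gf_formO (hnd : ND Q) (hn : 5 ≤ Fintype.card ι) (hQσ : ∀ (σ : F ≃+* F) x, Q (svI σ x) = σ (Q x))
    (hsurj : Function.Surjective (aE Q)) {x : MulAut (POmega F ⇑Q)}
    (hx : ∃ (α γ φ : MulAut (POmega F ⇑Q)) (σ : F ≃+* F) (v : ι → F) (r : GL ι F),
      σ ≠ RingEquiv.refl F ∧ Q v ≠ 0 ∧ (∀ i, σ (v i) = v i) ∧ (r : Matrix ι ι F) = reflectionMatrix ⇑Q v ∧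
      IsInducedBySemilinearPOmega ⇑Q r (RingEquiv.refl F) γ ∧ IsFieldAutPOmegaOf ⇑Q σ φ ∧ α * x * α⁻¹ = γ * φ) :
    ∃ (p a : SSG Q) (σ : F ≃+* F) (v : ι → F) (hv : Q v ≠ 0), σ ≠ 1 ∧ (∀ i, σ (v i) = v i) ∧ p.1.2 = σ ∧
      MulAut.congr (pomEquiv hnd hn) x = aE Q p ∧ p = a * (ogSS Q (refl hv) * stdS Q σ (hQσ σ)) * a⁻¹ := by
  obtain ⟨α, γ, φ, σ, v, r, hσ, hv, hvσ, hr, hγ, hφ, h⟩ := hx
  rw [fieldPOm_iff hnd hn (hQσ σ)] at hφ
  have hγ' := refl_induced hnd hn hv hr hγ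
  obtain ⟨a, ha⟩ := hsurj (MulAut.congr (pomEquiv hnd hn) α)
  refine ⟨a⁻¹ * (ogSS Q (refl hv) * stdS Q σ (hQσ σ)) * a, a⁻¹, σ, v, hv, hσ, hvσ, ?_, ?_, ?_⟩
  · show a.1.2⁻¹ * (1 * σ) * a.1.2 = σ
    rw [one_mul, mul_assoc, fP_comm σ, inv_mul_cancel_left]
  · rw [map_mul, map_mul, map_mul, map_inv, ha, ← hφ, ← hγ', ← map_mul, ← h, map_mul, map_mul, map_inv]
    group
  · rw [inv_inv]

end gf

theorem coset_plus' {F : Type*} [Field F] [Finite F] {m : ℕ} (hm : 5 ≤ m) (x δ : MulAut (POmega F ⇑(qPlus m F)))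
    (hx : IsFieldAutClassPOmega ⇑(qPlus m F) x ∨ ∃ (α γ φ : MulAut (POmega F ⇑(qPlus m F))) (σ : F ≃+* F) (v : Fin m ⊕ Fin m → F) (r : GL (Fin m ⊕ Fin m) F),
      σ ≠ RingEquiv.refl F ∧ qPlus m F v ≠ 0 ∧ (∀ i, σ (v i) = v i) ∧ (r : Matrix (Fin m ⊕ Fin m) (Fin m ⊕ Fin m) F) = reflectionMatrix ⇑(qPlus m F) v ∧
      IsInducedBySemilinearPOmega ⇑(qPlus m F) r (RingEquiv.refl F) γ ∧ IsFieldAutPOmegaOf ⇑(qPlus m F) σ φ ∧ α * x * α⁻¹ = γ * φ)
    {r : ℕ} (hr : r.Prime) (hxr : orderOf x = r)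
    (hδ : δ ∈ autSubgroupOf (fun β => ∃ g : GL (Fin m ⊕ Fin m) F, g ∈ Geo.quadSimilarityGroup (F := F) ⇑(qPlus m F) ∧
      PreservesSingularClasses ⇑(qPlus m F) (g : Matrix (Fin m ⊕ Fin m) (Fin m ⊕ Fin m) F) ∧
      IsInducedBySemilinearPOmega ⇑(qPlus m F) g (RingEquiv.refl F) β)) :
    orderOf (δ * x) = r ↔ IsConjUnder (autSubgroupOf (fun β => ∃ g : GL (Fin m ⊕ Fin m) F, g ∈ Geo.quadSimilarityGroup (F := F) ⇑(qPlus m F) ∧
      PreservesSingularClasses ⇑(qPlus m F) (g : Matrix (Fin m ⊕ Fin m) (Fin m ⊕ Fin m) F) ∧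
      IsInducedBySemilinearPOmega ⇑(qPlus m F) g (RingEquiv.refl F) β)) x (δ * x) := by
  have hn : 5 ≤ Fintype.card (Fin m ⊕ Fin m) := by rw [card_plus_ι]; omega
  have hp : ∃ p : SSG (qPlus m F), p.1.2 ≠ 1 ∧ MulAut.congr (pomEquiv nd_plus hn) x = aE (qPlus m F) p := by
    rcases hx with hx | hx
    · obtain ⟨p, hp1, hp2, _⟩ := field_form_O nd_plus hn qPlus_svI (surj_plus hm) hx
      exact ⟨p, hp1, hp2⟩
    · obtain ⟨p, a, σ, v, hv, hσ, _, h1, h2, _⟩ := gf_formO nd_plus hn qPlus_svI (surj_plus hm) hx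
      exact ⟨p, by rw [h1]; exact hσ, h2⟩
  obtain ⟨p, hp1, hp2⟩ := hp
  rw [inndiagPlus_iff hn] at hδ
  rw [isConjUnder_equiv (MulAut.congr (pomEquiv nd_plus hn)) (inndiagPlus_iff hn)]
  constructor
  · intro h
    obtain ⟨k, hk1, hk2⟩ := coset_plus_gen hm hn x δ hp2 hp1 hr hxr hδ h
    exact ⟨k, hk1, hk2⟩
  · rintro ⟨h, _, hh⟩
    have hord : ∀ y : MulAut (POmega F ⇑(qPlus m F)), orderOf (MulAut.congr (pomEquiv nd_plus hn) y) = orderOf y := fun y =>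
      orderOf_injective (MulAut.congr (pomEquiv nd_plus hn)).toMonoidHom (MulAut.congr (pomEquiv nd_plus hn)).injective y
    rw [← hord, hh, orderOf_transport, hord, hxr]

theorem coset_plus {F : Type*} [Field F] [Finite F] {m : ℕ} (hm : 5 ≤ m) (x δ : MulAut (POmega F (quadFormPlus m F)))
    (hx : IsFieldAutClassPOmega (quadFormPlus m F) x ∨ IsGraphFieldAutClassPOmegaPlus m x) {r : ℕ} (hr : r.Prime) (hxr : orderOf x = r)
    (hδ : δ ∈ inndiagPOmegaPlus m F) : orderOf (δ * x) = r ↔ IsConjUnder (inndiagPOmegaPlus m F) x (δ * x) := by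
  have h := @coset_plus' F _ _ m hm
  rw [qPlus_coe] at h
  exact h x δ hx hr hxr hδ

end Cfsg.Agent.H17
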