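import Mathlib
import Cfsg.Agent.H17.Par4

set_option autoImplicit false

/-! Transport of the projective groups and of semisimilarities along similarities. -/

namespace Cfsg.Agent.H17

open Cfsg Cfsg.Agent.H5 Module

section sim

variable {F V V' : Type*} [Field F] [AddCommGroup V] [Module F V] [AddCommGroup V'] [Module F V']
  {Q : QuadraticForm F V} {Q' : QuadraticForm F V'}

/-- a linear similarity from `Q` to `Q'` -/
structure Sim (Q : QuadraticForm F V) (Q' : QuadraticForm F V') where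
  /-- the map -/
  φ : V ≃ₗ[F] V'
  /-- the multiplier -/
  c : Fˣ
  h : ∀ x, Q' (φ x) = c * Q x

namespace Sim

variable (S : Sim Q Q')

theorem B (x y : V) : pB Q' (S.φ x) (S.φ y) = S.c * pB Q x y := sim_B (φ := S.φ.toLinearMap) S.h x y

theorem h_symm (x : V') : Q (S.φ.symm x) = (S.c⁻¹ : Fˣ) * Q' x := by
  obtain ⟨y, rfl⟩ := S.φ.surjective x
  rw [LinearEquiv.symm_apply_apply, S.h, ← mul_assoc, ← Units.val_mul, inv_mul_cancel, Units.val_one, one_mul]

/-- the inverse similarity -/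
def symm : Sim Q' Q := ⟨S.φ.symm, S.c⁻¹, S.h_symm⟩

/-- orthogonal groups -/
def og : OG Q ≃* OG Q' where
  toFun g := ⟨(S.φ.symm.trans g.1).trans S.φ, fun x => by
    show Q' (S.φ (g (S.φ.symm x))) = Q' x
    rw [S.h, og_q, ← S.h, LinearEquiv.apply_symm_apply]⟩
  invFun g := ⟨(S.φ.trans g.1).trans S.φ.symm, fun x => by
    show Q (S.φ.symm (g (S.φ x))) = Q x
    rw [S.h_symm, og_q, ← S.h_symm, LinearEquiv.symm_apply_apply]⟩
  left_inv g := og_ext fun x => by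
    show S.φ.symm (S.φ (g (S.φ.symm (S.φ x)))) = g x
    rw [LinearEquiv.symm_apply_apply, LinearEquiv.symm_apply_apply]
  right_inv g := og_ext fun x => by
    show S.φ (S.φ.symm (g (S.φ (S.φ.symm x)))) = g x
    rw [LinearEquiv.apply_symm_apply, LinearEquiv.apply_symm_apply]
  map_mul' g g' := og_ext fun x => by
    show S.φ (g (g' (S.φ.symm x))) = S.φ (g (S.φ.symm (S.φ (g' (S.φ.symm x)))))
    rw [LinearEquiv.symm_apply_apply]

theorem og_apply (g : OG Q) (x : V') : S.og g x = S.φ (g (S.φ.symm x)) := rfl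

theorem og_eich {u w : V} (hu : Q u = 0) (huw : pB Q u w = 0) :
    ∃ (hu' : Q' (S.φ ((S.c⁻¹ : Fˣ) • u)) = 0) (huw' : pB Q' (S.φ ((S.c⁻¹ : Fˣ) • u)) (S.φ w) = 0),
      S.og (eich hu huw) = eich hu' huw' := by
  have hu0 : Q ((S.c⁻¹ : Fˣ) • u) = 0 := by rw [Units.smul_def, q_smul, hu, mul_zero]
  have hb0 : ∀ x, pB Q ((S.c⁻¹ : Fˣ) • u) x = (S.c⁻¹ : Fˣ) * pB Q u x := by
    intro x
    rw [Units.smul_def, pl_smul]
  have hb1 : ∀ x, pB Q x ((S.c⁻¹ : Fˣ) • u) = (S.c⁻¹ : Fˣ) * pB Q x u := by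
    intro x
    rw [Units.smul_def, pr_smul]
  have hc : (S.c : F) * ((S.c⁻¹ : Fˣ) : F) = 1 := by rw [← Units.val_mul, mul_inv_cancel, Units.val_one]
  refine ⟨by rw [S.h, hu0, mul_zero], by rw [S.B, hb0, huw, mul_zero, mul_zero], ?_⟩
  apply og_ext
  intro x
  obtain ⟨y, rfl⟩ := S.φ.surjective x
  rw [og_apply, LinearEquiv.symm_apply_apply, eich_apply, eich_apply]
  have e1 : ∀ s : F, (S.c : F) * (((S.c⁻¹ : Fˣ) : F) * s) = s := fun s => by rw [← mul_assoc, hc, one_mul]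
  have e2 : ∀ (s : F), ((S.c : F) * s) • S.φ ((S.c⁻¹ : Fˣ) • u) = s • S.φ u := fun s => by
    rw [Units.smul_def, map_smul, smul_smul, mul_comm (S.c : F) s, mul_assoc, hc, mul_one]
  rw [S.B, S.B, S.h, hb0, e1, e2, mul_assoc (S.c : F) (Q w), e2, map_sub, map_sub, map_add, map_smul, map_smul, map_smul]

theorem map_EG_le (S : Sim Q Q') : (EG Q).map (S.og : OG Q →* OG Q') ≤ EG Q' := by
  rw [EG, MonoidHom.map_closure, Subgroup.closure_le]
  rintro _ ⟨_, ⟨u, w, hu, huw, rfl⟩, rfl⟩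
  obtain ⟨hu', huw', h⟩ := S.og_eich hu huw
  exact Subgroup.subset_closure ⟨_, _, hu', huw', h⟩

theorem map_EG : (EG Q).map (S.og : OG Q →* OG Q') = EG Q' := by
  apply le_antisymm (map_EG_le S)
  intro g hg
  refine ⟨S.og.symm g, ?_, S.og.apply_symm_apply g⟩
  exact map_EG_le S.symm ⟨g, hg, rfl⟩

/-- simple groups -/
noncomputable def pe : PE Q ≃* PE Q' :=
  quotCenterCongr ((S.og.subgroupMap (EG Q)).trans (MulEquiv.subgroupCongr S.map_EG))

theorem og_mem {g : OG Q} (hg : g ∈ EG Q) : S.og g ∈ EG Q' := map_EG_le S ⟨g, hg, rfl⟩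

theorem pe_mk (g : EG Q) : S.pe (QuotientGroup.mk g) = QuotientGroup.mk ⟨S.og g.1, S.og_mem g.2⟩ := rfl

/-- semisimilarities -/
def ss : SSG Q ≃* SSG Q' where
  toFun p := ⟨(S.φ.toEquiv.permCongr p.1.1, p.1.2), fun x y => by
      show S.φ (p.1.1 (S.φ.symm (x + y))) = S.φ (p.1.1 (S.φ.symm x)) + S.φ (p.1.1 (S.φ.symm y))
      rw [map_add, ss_add, map_add], fun a x => by
      show S.φ (p.1.1 (S.φ.symm (a • x))) = p.1.2 a • S.φ (p.1.1 (S.φ.symm x))
      rw [map_smul, ss_smul, map_smul], S.c * ssK p * Units.map (p.1.2 : F →* F) S.c⁻¹, fun x => by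
      show Q' (S.φ (p.1.1 (S.φ.symm x))) = _ * p.1.2 (Q' x)
      rw [S.h, ss_Q, S.h_symm, map_mul, Units.val_mul, Units.val_mul]
      show _ = _ * p.1.2 ((S.c⁻¹ : Fˣ) : F) * _
      ring⟩
  invFun p := ⟨(S.φ.symm.toEquiv.permCongr p.1.1, p.1.2), fun x y => by
      show S.φ.symm (p.1.1 (S.φ (x + y))) = S.φ.symm (p.1.1 (S.φ x)) + S.φ.symm (p.1.1 (S.φ y))
      rw [map_add, ss_add, map_add], fun a x => by
      show S.φ.symm (p.1.1 (S.φ (a • x))) = p.1.2 a • S.φ.symm (p.1.1 (S.φ x))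
      rw [map_smul, ss_smul, map_smul], S.c⁻¹ * ssK p * Units.map (p.1.2 : F →* F) S.c, fun x => by
      show Q (S.φ.symm (p.1.1 (S.φ x))) = _ * p.1.2 (Q x)
      rw [S.h_symm, ss_Q, S.h, map_mul, Units.val_mul, Units.val_mul]
      show _ = _ * p.1.2 (S.c : F) * _
      ring⟩
  left_inv p := ss_ext (fun x => by
    show S.φ.symm (S.φ (p.1.1 (S.φ.symm (S.φ x)))) = p.1.1 x
    rw [LinearEquiv.symm_apply_apply, LinearEquiv.symm_apply_apply]) rfl
  right_inv p := ss_ext (fun x => by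
    show S.φ (S.φ.symm (p.1.1 (S.φ (S.φ.symm x)))) = p.1.1 x
    rw [LinearEquiv.apply_symm_apply, LinearEquiv.apply_symm_apply]) rfl
  map_mul' p q := ss_ext (fun x => by
    show S.φ (p.1.1 (q.1.1 (S.φ.symm x))) = S.φ (p.1.1 (S.φ.symm (S.φ (q.1.1 (S.φ.symm x)))))
    rw [LinearEquiv.symm_apply_apply]) rfl

theorem ss_apply (p : SSG Q) (x : V') : (S.ss p).1.1 x = S.φ (p.1.1 (S.φ.symm x)) := rfl

theorem ss_apply' (p : SSG Q) (x : V) : (S.ss p).1.1 (S.φ x) = S.φ (p.1.1 x) := by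
  rw [ss_apply, LinearEquiv.symm_apply_apply]

theorem ss_snd (p : SSG Q) : (S.ss p).1.2 = p.1.2 := rfl

theorem ss_symm_apply (p : SSG Q) (x : V) : (S.ss p).1.1.symm (S.φ x) = S.φ (p.1.1.symm x) := by
  rw [Equiv.symm_apply_eq, ss_apply', Equiv.apply_symm_apply]

theorem conj_og (p : SSG Q) (g : OG Q) : conjOG (S.ss p) (S.og g) = S.og (conjOG p g) := by
  apply og_ext
  intro x
  obtain ⟨y, rfl⟩ := S.φ.surjective x
  rw [conjOG_apply, ss_symm_apply, og_apply, LinearEquiv.symm_apply_apply, ss_apply', og_apply,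
    LinearEquiv.symm_apply_apply, conjOG_apply]

theorem congr_pe (p : SSG Q) : MulAut.congr S.pe (aE Q p) = aE Q' (S.ss p) := by
  apply autPE_ext
  intro s
  obtain ⟨t, ht⟩ : ∃ t : EG Q, S.pe (QuotientGroup.mk t) = QuotientGroup.mk s := by
    have h0 : s.1 ∈ (EG Q).map (S.og : OG Q →* OG Q') := by rw [S.map_EG]; exact s.2
    obtain ⟨t, ht, hs⟩ := h0
    refine ⟨⟨t, ht⟩, ?_⟩
    rw [pe_mk]
    congr 1
    exact Subtype.ext hs
  show S.pe (aE Q p (S.pe.symm (QuotientGroup.mk s))) = _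
  rw [← ht, MulEquiv.symm_apply_apply, aE_mk, pe_mk, pe_mk, aE_mk]
  congr 1
  exact Subtype.ext (S.conj_og p t.1).symm

theorem ss_sc (y : Fˣ) : S.ss (scSS Q y) = scSS Q' y := ss_ext (fun x => by
  show S.φ (y • S.φ.symm x) = y • x
  rw [Units.smul_def, map_smul, LinearEquiv.apply_symm_apply]; rfl) rfl

theorem ss_og (g : OG Q) : S.ss (ogSS Q g) = ogSS Q' (S.og g) := ss_ext (fun _ => rfl) rfl

theorem inn_iff (α : MulAut (PE Q)) : α ∈ Inn (PE Q) ↔ MulAut.congr S.pe α ∈ Inn (PE Q') := by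
  rw [← map_inn S.pe]
  constructor
  · intro h; exact ⟨α, h, rfl⟩
  · rintro ⟨β, hβ, h⟩
    have : β = α := (MulAut.congr S.pe).injective h
    rwa [this] at hβ

/-! parity -/

theorem TS_map {U : Submodule F V} (hU : TS Q U) : TS Q' (U.map S.φ.toLinearMap) := by
  rintro _ ⟨x, hx, rfl⟩
  show Q' (S.φ x) = 0
  rw [S.h, hU x hx, mul_zero]

include S in
theorem nd (h : ND Q) : ND Q' := by
  intro x hx
  have h1 : S.φ.symm x = 0 := h _ fun y => by
    have h2 := hx (S.φ y)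
    obtain ⟨z, rfl⟩ := S.φ.surjective x
    rw [S.B] at h2
    rw [LinearEquiv.symm_apply_apply]
    exact (mul_eq_zero.mp h2).resolve_left S.c.ne_zero
  exact (LinearEquiv.map_eq_zero_iff _).mp h1

include S in
theorem pt {m : ℕ} (P : PT Q m) : PT Q' m :=
  ⟨S.nd P.nd, by rw [← P.fr]; exact S.φ.symm.finrank_eq, by
    obtain ⟨E, hE, hEm⟩ := P.ex
    exact ⟨_, S.TS_map hE, by rw [← hEm]; exact LinearEquiv.finrank_map_eq S.φ E⟩⟩

theorem imS_map (p : SSG Q) (U : Submodule F V) : imS (S.ss p) (U.map S.φ.toLinearMap) = (imS p U).map S.φ.toLinearMap := by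
  ext x
  obtain ⟨y, rfl⟩ := S.φ.surjective x
  rw [mem_imS, ss_symm_apply]
  have e : ∀ (W : Submodule F V) (z : V), S.φ z ∈ W.map S.φ.toLinearMap ↔ z ∈ W := by
    intro W z
    constructor
    · rintro ⟨w, hw, h⟩
      rwa [← S.φ.injective h]
    · intro h; exact ⟨z, h, rfl⟩
  rw [e, e, mem_imS]

theorem ev_imp {m : ℕ} {p : SSG Q} (h : Ev m (S.ss p)) : Ev m p := by
  intro U hU hUm
  have h1 := h (U.map S.φ.toLinearMap) (S.TS_map hU) (by rw [← hUm]; exact LinearEquiv.finrank_map_eq S.φ U)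
  rw [imS_map, ← Submodule.map_inf _ S.φ.injective] at h1
  have h2 : finrank F ((U ⊓ imS p U : Submodule F V).map S.φ.toLinearMap) = finrank F (U ⊓ imS p U : Submodule F V) :=
    LinearEquiv.finrank_map_eq S.φ _
  rwa [h2] at h1

theorem ev_iff {m : ℕ} (p : SSG Q) : Ev m (S.ss p) ↔ Ev m p := by
  refine ⟨S.ev_imp, fun h => ?_⟩
  apply S.symm.ev_imp
  have h1 : S.symm.ss (S.ss p) = p := ss_ext (fun x => by
    show S.φ.symm (S.φ (p.1.1 (S.φ.symm (S.φ x)))) = p.1.1 x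
    rw [LinearEquiv.symm_apply_apply, LinearEquiv.symm_apply_apply]) rfl
  rwa [h1]

end Sim

end sim

end Cfsg.Agent.H17
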