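import Mathlib
import Cfsg.Agent.H17.SimT
import Cfsg.Agent.H17.QModel3

set_option autoImplicit false

/-! Quadratic extensions of minus type forms. -/

namespace Cfsg.Agent.H17

open Cfsg Cfsg.Agent.H5 Module
open scoped MatrixGroups Matrix

section nd

variable {F F₀ : Type*} [Field F] [Field F₀] {ι : Type*} [Fintype ι] [DecidableEq ι] {j : F₀ →+* F}
  {Q : QuadraticForm F (ι → F)} {Q₀ : QuadraticForm F₀ (ι → F₀)}

/-- Gram matrix of the polar form -/
noncomputable def gramB (Q : QuadraticForm F (ι → F)) : Matrix ι ι F := Matrix.of fun i k => pB Q (Pi.single i 1) (Pi.single k 1)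

theorem gramB_vec (Q : QuadraticForm F (ι → F)) (x : ι → F) (k : ι) : (x ᵥ* gramB Q) k = pB Q x (Pi.single k 1) := by
  conv_rhs => rw [pi_eq_sum x]
  rw [map_sum, LinearMap.sum_apply]
  simp only [pl_smul]
  rfl

theorem nd_iff_det (Q : QuadraticForm F (ι → F)) : ND Q ↔ (gramB Q).det ≠ 0 := by
  constructor
  · intro h h0
    obtain ⟨x, hx, hx'⟩ := Matrix.exists_vecMul_eq_zero_iff.mpr h0
    apply hx
    apply h
    intro y
    rw [pi_eq_sum y, map_sum]
    apply Finset.sum_eq_zero
    intro k _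
    rw [pr_smul, ← gramB_vec, hx']
    simp
  · intro h x hx
    by_contra hx0
    apply h
    apply Matrix.exists_vecMul_eq_zero_iff.mp
    refine ⟨x, hx0, ?_⟩
    funext k
    rw [gramB_vec, hx]; rfl

theorem nd_ext (h : ∀ v, j (Q₀ v) = Q (jV j v)) (hnd : ND Q₀) : ND Q := by
  rw [nd_iff_det] at hnd ⊢
  have h1 : gramB Q = (gramB Q₀).map j := by
    ext i k
    show pB Q (Pi.single i 1) (Pi.single k 1) = j (pB Q₀ (Pi.single i 1) (Pi.single k 1))
    rw [ext_pB h]
    have : ∀ i : ι, (jV j (Pi.single i 1) : ι → F) = Pi.single i 1 := by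
      intro i
      funext l
      show j ((Pi.single i 1 : ι → F₀) l) = (Pi.single i 1 : ι → F) l
      by_cases hl : l = i
      · subst hl; rw [Pi.single_eq_same, Pi.single_eq_same, map_one]
      · rw [Pi.single_eq_of_ne hl, Pi.single_eq_of_ne hl, map_zero]
    rw [this, this]
  rw [h1]
  have h2 : ((gramB Q₀).map j).det = j (gramB Q₀).det := (RingHom.map_det j _).symm
  rw [h2]
  exact fun h3 => hnd ((map_eq_zero j).mp h3)

end nd

section zero

variable {F K : Type*} [Field F] [Finite F] [Field K] [Algebra F K]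

theorem qMinus_jV {F K : Type*} [Field F] [Field K] (j : F →+* K) {m : ℕ} (a b : F) (v : (Fin m ⊕ Fin m) ⊕ Fin 2 → F) :
    j (qMinus m F a b v) = qMinus m K (j a) (j b) (jV j v) := by
  rw [qMinus_coe, qMinus_coe, quadFormMinus, quadFormMinus]
  simp only [map_add, map_sum, map_mul, map_pow]
  rfl

/-- an anisotropic binary form becomes isotropic over the quadratic extension -/
theorem exists_zero_ext (h2 : finrank F K = 2) {a b : F}
    (hab : ∀ z₁ z₂ : F, z₁ ^ 2 + a * z₁ * z₂ + b * z₂ ^ 2 = 0 → z₁ = 0 ∧ z₂ = 0) :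
    ∃ z₁ z₂ : K, z₁ ^ 2 + algebraMap F K a * z₁ * z₂ + algebraMap F K b * z₂ ^ 2 = 0 ∧ ¬ (z₁ = 0 ∧ z₂ = 0) := by
  set j := algebraMap F K with hj
  -- an element outside F and its quadratic equation
  haveI : FiniteDimensional F K := FiniteDimensional.of_finrank_eq_succ h2
  obtain ⟨x, hx⟩ : ∃ x : K, ∀ y : F, j y ≠ x := by
    by_contra hcon
    push Not at hcon
    have h3 : Module.finrank F K ≤ 1 := by
      apply finrank_le_one (1 : K)
      intro w
      obtain ⟨y, hy⟩ := hcon w
      exact ⟨y, by rw [Algebra.smul_def, mul_one]; exact hy⟩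
    omega
  have hli : LinearIndependent F ![(1 : K), x] := by
    rw [LinearIndependent.pair_iff]
    intro s t hst
    have ht : t = 0 := by
      by_contra ht
      apply hx (-(t⁻¹ * s))
      rw [Algebra.smul_def, Algebra.smul_def, mul_one] at hst
      have ht' : j t ≠ 0 := fun h => ht ((map_eq_zero _).mp h)
      rw [map_neg, map_mul, map_inv₀]
      field_simp
      linear_combination -hst
    subst ht
    rw [zero_smul, add_zero, Algebra.smul_def, mul_one] at hst
    exact ⟨(map_eq_zero _).mp hst, rfl⟩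
  have hsp : Submodule.span F (Set.range ![(1 : K), x]) = ⊤ := hli.span_eq_top_of_card_eq_finrank (by rw [h2]; rfl)
  obtain ⟨n, t, hnt⟩ : ∃ n t : F, x * x = j n + j t * x := by
    have h3 : x * x ∈ Submodule.span F (Set.range ![(1 : K), x]) := by rw [hsp]; exact Submodule.mem_top
    have h4 : Set.range ![(1 : K), x] = {1, x} := by
      simp [Matrix.range_cons, Matrix.range_empty, Set.pair_comm]
    rw [h4, Submodule.mem_span_pair] at h3
    obtain ⟨s, t, h5⟩ := h3
    refine ⟨s, t, ?_⟩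
    rw [← h5, Algebra.smul_def, Algebra.smul_def, mul_one]
  -- the norm form
  have hN : ∀ z₁ z₂ : F, z₁ ^ 2 + (-t) * z₁ * z₂ + (-n) * z₂ ^ 2 = 0 → z₁ = 0 ∧ z₂ = 0 := by
    intro z₁ z₂ hz
    have h3 : (j z₁ - x * j z₂) * (j z₁ - (j t - x) * j z₂) = 0 := by
      have h4 := congrArg j hz
      rw [map_add, map_add, map_mul, map_mul, map_mul, map_pow, map_pow, map_neg, map_neg, map_zero] at h4
      linear_combination h4 - (j z₂) ^ 2 * hnt
    have hz2 : z₂ = 0 := by
      by_contra hz2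
      have hz2' : j z₂ ≠ 0 := fun h => hz2 ((map_eq_zero _).mp h)
      rcases mul_eq_zero.mp h3 with h5 | h5
      · apply hx (z₁ * z₂⁻¹)
        rw [map_mul, map_inv₀]
        field_simp
        linear_combination h5
      · apply hx (t - z₁ * z₂⁻¹)
        rw [map_sub, map_mul, map_inv₀]
        field_simp
        linear_combination -h5
    subst hz2
    refine ⟨?_, rfl⟩
    have : z₁ ^ 2 = 0 := by linear_combination hz
    exact pow_eq_zero_iff (two_ne_zero) |>.mp this
  have hfr : finrank F ((Fin 0 ⊕ Fin 0) ⊕ Fin 2 → F) = 2 := by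
    rw [Module.finrank_fintype_fun_eq_card]; simp
  have han : ∀ {a b : F} (_ : ∀ z₁ z₂ : F, z₁ ^ 2 + a * z₁ * z₂ + b * z₂ ^ 2 = 0 → z₁ = 0 ∧ z₂ = 0),
      ∀ v, qMinus 0 F a b v = 0 → v = 0 := by
    intro a b hab v hv
    rw [qMinus_coe, quadFormMinus] at hv
    simp only [Finset.univ_eq_empty, Finset.sum_empty, zero_add] at hv
    obtain ⟨h5, h6⟩ := hab _ _ hv
    funext i
    rcases i with i | i
    · rcases i with i | i <;> exact i.elim0
    · fin_cases i
      · exact h5
      · exact h6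
  obtain ⟨φ, hφ⟩ := class_two (nd_minus (m := 0) hN) (nd_minus (m := 0) hab) hfr hfr (han hN) (han hab) (one_ne_zero (α := F))
  obtain ⟨g, hg⟩ := mulVec_of_lin one_ne_zero (nd_minus (m := 0) hN) hφ
  have h5 := ext_sim (qMinus_jV j (-t) (-n)) (qMinus_jV j a b) g 1 hg (Sum.elim 0 ![x, 1])
  have h6 : qMinus 0 K (j (-t)) (j (-n)) (Sum.elim 0 ![x, 1]) = 0 := by
    rw [qMinus_coe, quadFormMinus]
    simp only [Finset.univ_eq_empty, Finset.sum_empty, zero_add, Sum.elim_inr, Matrix.cons_val_zero, Matrix.cons_val_one,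
      map_neg]
    linear_combination hnt
  rw [h6, mul_zero] at h5
  set y := ((jI _ j g : GL _ K) : Matrix ((Fin 0 ⊕ Fin 0) ⊕ Fin 2) ((Fin 0 ⊕ Fin 0) ⊕ Fin 2) K) *ᵥ (Sum.elim 0 ![x, 1]) with hy
  refine ⟨y (Sum.inr 0), y (Sum.inr 1), ?_, ?_⟩
  · rw [qMinus_coe, quadFormMinus] at h5
    simpa using h5
  · rintro ⟨h7, h8⟩
    have h9 : y = 0 := by
      funext i
      rcases i with i | i
      · rcases i with i | i <;> exact i.elim0
      · fin_cases i
        · exact h7
        · exact h8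
    have h10 : (Sum.elim 0 ![x, 1] : (Fin 0 ⊕ Fin 0) ⊕ Fin 2 → K) = 0 := by
      have h11 : ((jI _ j g)⁻¹ : GL _ K).1 *ᵥ y = 0 := by rw [h9, Matrix.mulVec_zero]
      rw [hy, Matrix.mulVec_mulVec, ← Units.val_mul, inv_mul_cancel, Units.val_one, Matrix.one_mulVec] at h11
      exact h11
    have h12 := congrFun h10 (Sum.inr 1)
    simp at h12

end zero

end Cfsg.Agent.H17
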