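import Mathlib
import Cfsg.Agent.H17.Minus1

set_option autoImplicit false

/-! Minus type forms over the quadratic extension: totally singular subspaces, existence of the extension, and the criterion
for a similarity to preserve the two classes. -/

namespace Cfsg.Agent.H17

open Cfsg Cfsg.Agent.H5 Module
open scoped MatrixGroups Matrix

section pt

theorem exists_ts_of_zero {K : Type*} [Field K] {m : ℕ} {a b z₁ z₂ : K} (hz : z₁ ^ 2 + a * z₁ * z₂ + b * z₂ ^ 2 = 0)
    (hne : ¬ (z₁ = 0 ∧ z₂ = 0)) : ∃ E : Submodule K ((Fin m ⊕ Fin m) ⊕ Fin 2 → K), TS (qMinus m K a b) E ∧ finrank K E = m + 1 := by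
  let f : ((Fin m → K) × K) →ₗ[K] ((Fin m ⊕ Fin m) ⊕ Fin 2 → K) :=
    { toFun := fun p => Sum.elim (Sum.elim p.1 0) ![p.2 * z₁, p.2 * z₂]
      map_add' := fun p q => by
        funext i
        rcases i with (i | i) | i
        · rfl
        · simp
        · fin_cases i <;> simp [add_mul]
      map_smul' := fun c p => by
        funext i
        rcases i with (i | i) | i
        · rfl
        · simp
        · fin_cases i <;> simp [mul_assoc] }
  have hf : Function.Injective f := by
    rw [← LinearMap.ker_eq_bot, LinearMap.ker_eq_bot']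
    rintro ⟨x, c⟩ h
    have h1 : x = 0 := by
      funext i
      exact congrFun h (Sum.inl (Sum.inl i))
    have h2 : c * z₁ = 0 := congrFun h (Sum.inr 0)
    have h3 : c * z₂ = 0 := congrFun h (Sum.inr 1)
    have h4 : c = 0 := by
      by_contra hc
      exact hne ⟨(mul_eq_zero.mp h2).resolve_left hc, (mul_eq_zero.mp h3).resolve_left hc⟩
    rw [h1, h4]; rfl
  refine ⟨LinearMap.range f, ?_, ?_⟩
  · rintro _ ⟨⟨x, c⟩, rfl⟩
    rw [qMinus_coe, quadFormMinus]
    have h1 : ∀ i, f (x, c) (Sum.inl (Sum.inr i)) = 0 := fun i => rfl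
    have h2 : f (x, c) (Sum.inr 0) = c * z₁ := rfl
    have h3 : f (x, c) (Sum.inr 1) = c * z₂ := rfl
    simp only [h1, mul_zero, Finset.sum_const_zero, h2, h3]
    linear_combination c ^ 2 * hz
  · rw [LinearMap.finrank_range_of_inj hf]
    simp

theorem card_minus_ι (m : ℕ) : Fintype.card ((Fin m ⊕ Fin m) ⊕ Fin 2) = 2 * (m + 1) := by simp; ring

theorem fr_minus (F : Type*) [Field F] (m : ℕ) : finrank F ((Fin m ⊕ Fin m) ⊕ Fin 2 → F) = 2 * (m + 1) := by
  rw [Module.finrank_fintype_fun_eq_card, card_minus_ι]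

/-- the form with coefficients `a`, `b` read over a quadratic extension is of plus type -/
theorem PT_ext {F K : Type*} [Field F] [Finite F] [Field K] [Algebra F K] (h2 : finrank F K = 2) {a b : F}
    (hab : ∀ z₁ z₂ : F, z₁ ^ 2 + a * z₁ * z₂ + b * z₂ ^ 2 = 0 → z₁ = 0 ∧ z₂ = 0) (m : ℕ) :
    PT (qMinus m K (algebraMap F K a) (algebraMap F K b)) (m + 1) := by
  obtain ⟨z₁, z₂, hz, hne⟩ := exists_zero_ext (K := K) h2 hab
  exact ⟨nd_ext (qMinus_jV (algebraMap F K) a b) (nd_minus hab), fr_minus K m, exists_ts_of_zero hz hne⟩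

universe u

theorem exists_quad_ext (F : Type u) [Field F] [Finite F] : ∃ (K : Type u) (_ : Field K) (_ : Algebra F K), finrank F K = 2 := by
  obtain ⟨p, hp⟩ := CharP.exists F
  haveI : Fact p.Prime := ⟨CharP.char_is_prime F p⟩
  obtain ⟨a, b, hab⟩ := exists_ab (F := F)
  let f : Polynomial F := Polynomial.X ^ 2 + Polynomial.C a * Polynomial.X + Polynomial.C b
  have hdeg : f.natDegree = 2 := by
    show (Polynomial.X ^ 2 + Polynomial.C a * Polynomial.X + Polynomial.C b).natDegree = 2
    compute_degree!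
  have hirr : Irreducible f := by
    apply Polynomial.irreducible_of_degree_le_three_of_not_isRoot
    · rw [hdeg]; simp
    · intro x hx
      have h1 : x ^ 2 + a * x + b = 0 := by
        have := hx
        simp only [Polynomial.IsRoot.def, f, Polynomial.eval_add, Polynomial.eval_pow, Polynomial.eval_X, Polynomial.eval_mul,
          Polynomial.eval_C] at this
        exact this
      have h2 := hab x 1 (by linear_combination h1)
      exact one_ne_zero h2.2
  haveI : Fact (Irreducible f) := ⟨hirr⟩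
  refine ⟨AdjoinRoot f, inferInstance, inferInstance, ?_⟩
  rw [(AdjoinRoot.powerBasis hirr.ne_zero).finrank, AdjoinRoot.powerBasis_dim, hdeg]

end pt

section crit

variable {F : Type*} [Field F] {ι : Type} [Fintype ι] [DecidableEq ι]

/-- the criterion for a similarity over a finite field to be proper -/
def Cr (Q : QuadraticForm F (ι → F)) (k : ℕ) (g : Geo.quadSimilarityGroup (F := F) ⇑Q) : Prop :=
  ((2 : F) ≠ 0 ∧ ((g.1 : GL ι F) : Matrix ι ι F).det = (ssK (goSS Q g) : F) ^ k) ∨
    ((2 : F) = 0 ∧ ∃ (c : Fˣ) (h : OG Q), h ∈ DG Q ∧ goSS Q g = scSS Q c * ogSS Q h)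

variable {Q : QuadraticForm F (ι → F)}

theorem sq_split {V : Type*} [AddCommGroup V] [Module F V] {Q : QuadraticForm F V} {p : SSG Q} (hp : p.1.2 = 1) {c : Fˣ}
    (hc : (c : F) * c = ssK p) : ∃ g : OG Q, p = scSS Q c * ogSS Q g := by
  obtain ⟨g, hg⟩ := exists_og ((scSS Q c)⁻¹ * p) (by
    show (1 : F ≃+* F)⁻¹ * p.1.2 = 1
    rw [hp]; rfl) (fun x => by
    rw [← map_inv]
    show Q (c⁻¹ • p.1.1 x) = _
    rw [Units.smul_def, q_smul, ss_Q, hp, ← hc, Units.val_inv_eq_inv_val]
    have : (c : F) ≠ 0 := Units.ne_zero _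
    show (c : F)⁻¹ * (c : F)⁻¹ * ((c : F) * c * Q x) = Q x
    field_simp)
  exact ⟨g, by rw [hg, mul_inv_cancel_left]⟩

theorem go_det {g : Geo.quadSimilarityGroup (F := F) ⇑Q} {c : Fˣ} {h : OG Q} (hg : goSS Q g = scSS Q c * ogSS Q h) :
    ((g.1 : GL ι F) : Matrix ι ι F).det = (c : F) ^ Fintype.card ι * odet Q h := by
  have h1 : ((g.1 : GL ι F) : Matrix ι ι F).mulVecLin = (c : F) • (h.1 : (ι → F) →ₗ[F] (ι → F)) := by
    apply LinearMap.ext
    intro x
    rw [Matrix.mulVecLin_apply, ← goSS_apply, hg]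
    rfl
  rw [← LinearMap.det_toLin', Matrix.toLin'_apply', h1, LinearMap.det_smul, Module.finrank_fintype_fun_eq_card]
  rfl

variable {K : Type*} [Field K] {QK : QuadraticForm K (ι → K)} {j : F →+* K}

theorem ssK_ext (hext : ∀ v, j (Q v) = QK (jV j v)) (hQ : ∃ x, Q x ≠ 0) (g : Geo.quadSimilarityGroup (F := F) ⇑Q) :
    (ssK (goSS QK ⟨jI ι j g.1, jI_mem hext g.2⟩) : K) = j (ssK (goSS Q g)) := by
  obtain ⟨x, hx⟩ := hQ
  apply ssK_eq ⟨jV j x, by rw [← hext]; exact fun h => hx ((map_eq_zero j).mp h)⟩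
  intro y
  exact ext_sim hext hext g.1 (ssK (goSS Q g)) (fun v => ss_Q (goSS Q g) v) y

theorem ev_iff_cr [Finite F] [Finite K] (hext : ∀ v, j (Q v) = QK (jV j v)) (hnd : ND Q) (hn : 5 ≤ Fintype.card ι) {k : ℕ}
    (hk : Fintype.card ι = 2 * k) (P : PT QK k) (hsq : (2 : F) ≠ 0 → ∀ x : F, IsSquare (j x)) (g : Geo.quadSimilarityGroup (F := F) ⇑Q) :
    Ev k (goSS QK ⟨jI ι j g.1, jI_mem hext g.2⟩) ↔ Cr Q k g := by
  have hnF : 5 ≤ finrank F (ι → F) := by rw [Module.finrank_fintype_fun_eq_card]; exact hn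
  have hnK : 5 ≤ finrank K (ι → K) := by rw [Module.finrank_fintype_fun_eq_card]; exact hn
  have hne : ∃ x, Q x ≠ 0 := exists_ne_q hnd (by omega)
  by_cases h2 : (2 : F) = 0
  · have hdg : ∀ (c : Fˣ) (h : OG Q), h ∈ DG Q → goSS Q g = scSS Q c * ogSS Q h →
        Ev k (goSS QK ⟨jI ι j g.1, jI_mem hext g.2⟩) := by
      intro c h hh hg
      obtain ⟨h', hh', hJ⟩ := DG_ext hext (DG QK) (fun u v _ _ hu' hv' => dg_mem hu' hv') hh
      rw [goSS_of_JR (j := j) ⟨jI ι j g.1, jI_mem hext g.2⟩ rfl (c := c) (g₀ := h) (fun v => by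
        have := congrArg (fun p : SSG Q => p.1.1 v) hg
        exact this) hJ, P.ev_mul]
      exact ⟨fun _ => P.dg_ev hh', fun _ => P.ev_sc _⟩
    constructor
    · intro hev
      right
      refine ⟨h2, ?_⟩
      haveI : CharP F 2 := CharTwo.of_one_ne_zero_of_two_eq_zero one_ne_zero h2
      obtain ⟨c, hc⟩ : IsSquare (ssK (goSS Q g) : F) := FiniteField.isSquare_of_char_two (ringChar.eq_iff.mpr inferInstance) _
      have hc0 : c ≠ 0 := by
        rintro rfl
        exact (ssK (goSS Q g)).ne_zero (by rw [hc, mul_zero])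
      obtain ⟨h, hh⟩ := sq_split (p := goSS Q g) rfl (c := Units.mk0 c hc0) hc.symm
      refine ⟨Units.mk0 c hc0, h, ?_, hh⟩
      rcases rg_dg h (by rw [rg_top hnd (fun _ => by omega)]; exact Subgroup.mem_top _) with h1 | h1
      · exact h1
      · exfalso
        obtain ⟨v, hv⟩ := hne
        obtain ⟨h', hh', hJ⟩ := DG_ext hext (DG QK) (fun u v _ _ hu' hv' => dg_mem hu' hv') (h1 v hv)
        obtain ⟨hv', hJr⟩ := JR.refl (Q := QK) hext hv
        have hJ2 : JR j h (H5.refl hv' * h') := by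
          have := hJr.mul hJ
          rwa [← mul_assoc, refl_mul_self, one_mul] at this
        rw [goSS_of_JR (j := j) ⟨jI ι j g.1, jI_mem hext g.2⟩ rfl (c := Units.mk0 c hc0) (g₀ := h) (fun v => by
          have := congrArg (fun p : SSG Q => p.1.1 v) hh
          exact this) hJ2, P.ev_mul, map_mul, P.ev_mul] at hev
        have h5 := hev.mp (P.ev_sc _)
        exact P.refl_not_ev hv' (h5.mpr (P.dg_ev hh'))
    · rintro (⟨h3, _⟩ | ⟨_, c, h, hh, hg⟩)
      · exact absurd h2 h3
      · exact hdg c h hh hg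
  · have h2K : (2 : K) ≠ 0 := by
      intro h3
      apply h2
      apply j.injective
      rw [map_zero, map_ofNat]
      exact h3
    obtain ⟨c, hc⟩ := hsq h2 (ssK (goSS Q g) : F)
    have hc0 : c ≠ 0 := by
      rintro rfl
      rw [mul_zero] at hc
      exact (ssK (goSS Q g)).ne_zero ((map_eq_zero j).mp hc)
    obtain ⟨h, hh⟩ := sq_split (p := goSS QK ⟨jI ι j g.1, jI_mem hext g.2⟩) rfl (c := Units.mk0 c hc0)
      (by rw [ssK_ext hext hne]; exact hc.symm)
    have hd := go_det hh
    have hd' : ((jI ι j g.1 : GL ι K) : Matrix ι ι K).det = j ((g.1 : GL ι F) : Matrix ι ι F).det := (RingHom.map_det j _).symm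
    have hd2 : (c : K) ^ (2 * k) = j (ssK (goSS Q g)) ^ k := by rw [hc, pow_mul, pow_two]
    have hd3 : j ((g.1 : GL ι F) : Matrix ι ι F).det = j (ssK (goSS Q g)) ^ k * odet QK h := by
      rw [← hd', ← hd2, ← hk]; exact hd
    rw [hh, P.ev_mul, P.ev_og_iff hnK, mem_dg_iff h2K P.nd]
    have hk0 : j (ssK (goSS Q g)) ^ k ≠ 0 := pow_ne_zero _ (fun h5 => (ssK (goSS Q g)).ne_zero ((map_eq_zero j).mp h5))
    constructor
    · intro h4
      left
      refine ⟨h2, ?_⟩
      apply j.injective
      rw [hd3, h4.mp (P.ev_sc _), mul_one, map_pow]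
    · rintro (⟨_, h4⟩ | ⟨h3, _⟩)
      · refine ⟨fun _ => ?_, fun _ => P.ev_sc _⟩
        rw [h4, map_pow] at hd3
        have h5 : j (ssK (goSS Q g)) ^ k * 1 = j (ssK (goSS Q g)) ^ k * odet QK h := by rw [mul_one]; exact hd3
        exact (mul_left_cancel₀ hk0 h5).symm
      · exact absurd h3 h2

/-- base change of the criterion -/
theorem cr_ext [Finite F] [Finite K] (hext : ∀ v, j (Q v) = QK (jV j v)) (hnd : ND Q) (hn : 5 ≤ Fintype.card ι) {k : ℕ}
    (g : Geo.quadSimilarityGroup (F := F) ⇑Q) : Cr QK k ⟨jI ι j g.1, jI_mem hext g.2⟩ ↔ Cr Q k g := by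
  have hnF : 5 ≤ finrank F (ι → F) := by rw [Module.finrank_fintype_fun_eq_card]; exact hn
  have hnK : 5 ≤ finrank K (ι → K) := by rw [Module.finrank_fintype_fun_eq_card]; exact hn
  have hne : ∃ x, Q x ≠ 0 := exists_ne_q hnd (by omega)
  have hndK : ND QK := nd_ext hext hnd
  have h20 : (2 : K) = 0 ↔ (2 : F) = 0 := by
    constructor
    · intro h3
      apply j.injective
      rw [map_zero, map_ofNat]
      exact h3
    · intro h3
      have := congrArg j h3
      rw [map_zero, map_ofNat] at this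
      exact this
  unfold Cr
  rw [ssK_ext hext hne, ← map_pow]
  have hd' : ((jI ι j g.1 : GL ι K) : Matrix ι ι K).det = j ((g.1 : GL ι F) : Matrix ι ι F).det := (RingHom.map_det j _).symm
  apply or_congr
  · apply and_congr (not_congr h20)
    show ((jI ι j g.1 : GL ι K) : Matrix ι ι K).det = _ ↔ _
    rw [hd', j.injective.eq_iff]
  · apply and_congr_right_iff.mpr ?_ |>.trans (and_congr_left_iff.mpr (fun _ => h20))
    intro h2K
    have h2 := h20.mp h2K
    haveI : CharP F 2 := CharTwo.of_one_ne_zero_of_two_eq_zero one_ne_zero h2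
    constructor
    · rintro ⟨c', h', hh', hg'⟩
      obtain ⟨c, hc⟩ : IsSquare (ssK (goSS Q g) : F) := FiniteField.isSquare_of_char_two (ringChar.eq_iff.mpr inferInstance) _
      have hc0 : c ≠ 0 := by
        rintro rfl
        exact (ssK (goSS Q g)).ne_zero (by rw [hc, mul_zero])
      obtain ⟨h, hh⟩ := sq_split (p := goSS Q g) rfl (c := Units.mk0 c hc0) hc.symm
      refine ⟨Units.mk0 c hc0, h, ?_, hh⟩
      rcases rg_dg h (by rw [rg_top hnd (fun _ => by omega)]; exact Subgroup.mem_top _) with h1 | h1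
      · exact h1
      · exfalso
        obtain ⟨v, hv⟩ := hne
        obtain ⟨h1', hh1', hJ⟩ := DG_ext hext (DG QK) (fun u v _ _ hu' hv' => dg_mem hu' hv') (h1 v hv)
        obtain ⟨hv', hJr⟩ := JR.refl (Q := QK) hext hv
        have hJ2 : JR j h (H5.refl hv' * h1') := by
          have := hJr.mul hJ
          rwa [← mul_assoc, refl_mul_self, one_mul] at this
        have h6 := goSS_of_JR (j := j) ⟨jI ι j g.1, jI_mem hext g.2⟩ rfl (c := Units.mk0 c hc0) (g₀ := h) (fun v => by
          have := congrArg (fun p : SSG Q => p.1.1 v) hh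
          exact this) hJ2
        rw [hg'] at h6
        -- compare
        have hneK : ∃ x, QK x ≠ 0 := exists_ne_q hndK (by omega)
        have h7 : (c' : K) * c' = (j c) * (j c) := by
          obtain ⟨x, hx⟩ := hneK
          have h8 := congrArg (fun p : SSG QK => QK (p.1.1 x)) h6
          have h9 : ∀ (u : Kˣ) (w : OG QK), QK ((scSS QK u * ogSS QK w).1.1 x) = (u : K) * u * QK x := by
            intro u w
            show QK (u • w x) = _
            rw [Units.smul_def, q_smul, og_q]
          rw [h9, h9] at h8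
          exact mul_right_cancel₀ hx h8
        have h8 : (c' : K) = j c := by
          haveI : CharP K 2 := CharTwo.of_one_ne_zero_of_two_eq_zero one_ne_zero h2K
          have h9 : ((c' : K) - j c) * ((c' : K) - j c) = 0 := by
            linear_combination h7 + (j c * j c - (c' : K) * j c) * h2K
          have h10 := mul_self_eq_zero.mp h9
          linear_combination h10
        have h9 : h' = H5.refl hv' * h1' := by
          apply ogSS_injective
          have h10 : c' = Units.map (j : F →* K) (Units.mk0 c hc0) := Units.ext h8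
          rw [h10] at h6
          exact mul_left_cancel h6
        rw [h9] at hh'
        exact refl_not_mem_DG hndK hnK hv' ((Subgroup.mul_mem_cancel_right _ hh1').mp hh')
    · rintro ⟨c, h, hh, hg⟩
      obtain ⟨h', hh', hJ⟩ := DG_ext hext (DG QK) (fun u v _ _ hu' hv' => dg_mem hu' hv') hh
      exact ⟨_, h', hh', goSS_of_JR (j := j) ⟨jI ι j g.1, jI_mem hext g.2⟩ rfl (c := c) (g₀ := h) (fun v => by
        have := congrArg (fun p : SSG Q => p.1.1 v) hg
        exact this) hJ⟩

end crit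

end Cfsg.Agent.H17
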