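import Mathlib
import Cfsg.Agent.H17.Minus2

set_option autoImplicit false

/-! The inner-diagonal group of minus type and conjugacy of field automorphisms. -/

namespace Cfsg.Agent.H17

open Cfsg Cfsg.Agent.H5 Module
open scoped MatrixGroups Matrix

section grp

variable {F K : Type*} [Field F] [Finite F] [Field K] [Finite K] {ι : Type} [Fintype ι] [DecidableEq ι] {Q : QuadraticForm F (ι → F)}
  {QK : QuadraticForm K (ι → K)} {j : F →+* K} {k : ℕ}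

/-- matrices that become proper similarities over the extension -/
def mS (j : F →+* K) (P : PT QK k) : Subgroup (GL ι F) := (evS P).comap (jI ι j)

theorem mem_mS (hext : ∀ v, j (Q v) = QK (jV j v)) (P : PT QK k) (g : Geo.quadSimilarityGroup (F := F) ⇑Q) :
    g.1 ∈ mS j P ↔ Ev k (goSS QK ⟨jI ι j g.1, jI_mem hext g.2⟩) := mem_evS (P := P) _

theorem mS_mul (hext : ∀ v, j (Q v) = QK (jV j v)) (P : PT QK k) (g h : Geo.quadSimilarityGroup (F := F) ⇑Q) :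
    (g * h).1 ∈ mS j P ↔ (g.1 ∈ mS j P ↔ h.1 ∈ mS j P) := by
  rw [mem_mS hext, mem_mS hext, mem_mS hext, ← P.ev_mul]
  have : goSS QK ⟨jI ι j (g * h).1, jI_mem hext (g * h).2⟩ = goSS QK ⟨jI ι j g.1, jI_mem hext g.2⟩ * goSS QK ⟨jI ι j h.1, jI_mem hext h.2⟩ := by
    rw [← map_mul]
    congr 1
    exact Subtype.ext (map_mul (jI ι j) g.1 h.1)
  rw [this]

theorem mS_refl (hext : ∀ v, j (Q v) = QK (jV j v)) (P : PT QK k) (g : Geo.quadSimilarityGroup (F := F) ⇑Q) {v : ι → F}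
    (hv : Q v ≠ 0) (hg : goSS Q g = ogSS Q (H5.refl hv)) : g.1 ∉ mS j P := by
  rw [mem_mS hext]
  obtain ⟨hv', hJr⟩ := JR.refl (Q := QK) hext hv
  rw [goSS_of_JR (j := j) ⟨jI ι j g.1, jI_mem hext g.2⟩ rfl (c := 1) (g₀ := H5.refl hv) (fun v => by
    have := congrArg (fun p : SSG Q => p.1.1 v) hg
    rw [one_smul]; exact this) hJr, P.ev_mul]
  exact fun h => P.refl_not_ev hv' (h.mp (P.ev_sc _))

theorem sI_mem_mS (P : PT QK k) (c : Fˣ) : sI ι c ∈ mS j P := by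
  have h1 : jI ι j (sI ι c) = sI ι (Units.map (j : F →* K) c) := by
    apply Units.ext
    rw [coe_jI, coe_sI', coe_sI', Matrix.map_smul' _ _ _ (map_mul j), Matrix.map_one _ (map_zero j) (map_one j)]
    rfl
  show jI ι j (sI ι c) ∈ evS P
  rw [h1]
  refine (mem_evS (sI_mem_qs QK _)).mpr ?_
  have h2 : goSS QK ⟨sI ι (Units.map (j : F →* K) c), sI_mem_qs QK _⟩ = scSS QK (Units.map (j : F →* K) c) := by
    apply ss_ext
    · intro x
      rw [goSS_apply, coe_sI', Matrix.smul_mulVec, Matrix.one_mulVec]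
      rfl
    · rfl
  rw [h2]
  exact P.ev_sc _

theorem mem_mS_cr (hext : ∀ v, j (Q v) = QK (jV j v)) (hnd : ND Q) (hn : 5 ≤ Fintype.card ι)
    (hk : Fintype.card ι = 2 * k) (P : PT QK k) (hsq : (2 : F) ≠ 0 → ∀ x : F, IsSquare (j x)) (g : Geo.quadSimilarityGroup (F := F) ⇑Q) :
    g.1 ∈ mS j P ↔ Cr Q k g := (mem_mS hext P g).trans (ev_iff_cr hext hnd hn hk P hsq g)

theorem conj_m {F₀ : Type*} [Field F₀] [Finite F₀] (hext : ∀ v, j (Q v) = QK (jV j v)) (P : PT QK k) (hnd : ND Q)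
    (hn : 5 ≤ finrank F (ι → F)) (hfk : finrank F (ι → F) = 2 * k) (hno : ¬ ∃ U : Submodule F (ι → F), TS Q U ∧ finrank F U = k)
    {p p' : SSG Q} (hpp : p'.1.2 = p.1.2)
    {r : ℕ} (hτ : orderOf p.1.2 = r) (hr : 0 < r) {i : F₀ →+* F} (hi : ∀ x, p.1.2 x = x ↔ ∃ y, i y = x)
    (h : aE Q p ^ r = 1) (h' : aE Q p' ^ r = 1) :
    ∃ κ ∈ HS Q (mS j P), aE Q p' = κ * aE Q p * κ⁻¹ := by
  obtain ⟨l, u, hu, hl1, hl2, hl3⟩ := conj_gen hnd hn hfk hpp hτ hr hi h h' (by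
    rintro s s' Q₀ Q₀' β β' d d' hs hs' ⟨y, rfl⟩ ⟨y', rfl⟩ D D'
    have hfr : finrank F₀ (ι → F₀) = finrank F (ι → F) := by
      rw [Module.finrank_fintype_fun_eq_card, Module.finrank_fintype_fun_eq_card]
    apply class_even_ts k (D.nd hnd) (D'.nd hnd) (hfr.trans hfk) (hfr.trans hfk)
    constructor
    · rintro ⟨U, hU, hUk⟩
      exact absurd ⟨_, D.bc_TS hU, (D.bc_finrank hfr U).trans hUk⟩ hno
    · rintro ⟨U, hU, hUk⟩
      exact absurd ⟨_, D'.bc_TS hU, (D'.bc_finrank hfr U).trans hUk⟩ hno)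
  obtain ⟨g, rfl⟩ := exists_goSS l hl1
  by_cases hel : g.1 ∈ mS j P
  · exact ⟨_, mem_HS.mpr ⟨g, hel, rfl⟩, hl2⟩
  · obtain ⟨g', hg'⟩ := exists_goSS (ogSS Q (H5.refl hu)) rfl
    refine ⟨aE Q (goSS Q g) * aE Q (ogSS Q (H5.refl hu)), mem_HS.mpr ⟨g * g', ?_, ?_⟩, ?_⟩
    · rw [mS_mul hext P]
      exact ⟨fun h => absurd h hel, fun h => absurd h (mS_refl hext P g' hu hg')⟩
    · rw [map_mul, map_mul, hg']
    · rw [hl2, _root_.mul_inv_rev]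
      calc aE Q (goSS Q g) * aE Q p * (aE Q (goSS Q g))⁻¹ = aE Q (goSS Q g) * (aE Q p * aE Q (ogSS Q (H5.refl hu)) * (aE Q (ogSS Q (H5.refl hu)))⁻¹) * (aE Q (goSS Q g))⁻¹ := by group
        _ = aE Q (goSS Q g) * (aE Q (ogSS Q (H5.refl hu)) * aE Q p * (aE Q (ogSS Q (H5.refl hu)))⁻¹) * (aE Q (goSS Q g))⁻¹ := by rw [hl3]
        _ = _ := by group

end grp

section minus

universe u

variable {F : Type u} [Field F] [Finite F] {m : ℕ} {a b : F}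

theorem sq_quad {K : Type*} [Field K] [Algebra F K] (h2 : finrank F K = 2) (h20 : (2 : F) ≠ 0) (x : F) : IsSquare (algebraMap F K x) := by
  haveI : FiniteDimensional F K := FiniteDimensional.of_finrank_eq_succ h2
  haveI : Finite K := Module.finite_of_finite F
  apply sq_extend (j := algebraMap F K)
  · intro h
    apply h20
    apply (algebraMap F K).injective
    rw [map_zero, map_ofNat]; exact h
  · rw [Module.natCard_eq_pow_finrank (K := F), h2]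

theorem psm_iff (hab : ∀ z₁ z₂ : F, z₁ ^ 2 + a * z₁ * z₂ + b * z₂ ^ 2 = 0 → z₁ = 0 ∧ z₂ = 0) (hm : 2 ≤ m)
    (g : Geo.quadSimilarityGroup (F := F) ⇑(qMinus m F a b)) :
    PreservesSingularClassesMinus m a b ((g.1 : GL ((Fin m ⊕ Fin m) ⊕ Fin 2) F) : Matrix ((Fin m ⊕ Fin m) ⊕ Fin 2) ((Fin m ⊕ Fin m) ⊕ Fin 2) F) ↔
      Cr (qMinus m F a b) (m + 1) g := by
  have key : ∀ (K : Type u) (_ : Field K) (_ : Algebra F K), finrank F K = 2 →
      (PreservesSingularClasses (quadFormMinus m K (algebraMap F K a) (algebraMap F K b))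
        (((g.1 : GL ((Fin m ⊕ Fin m) ⊕ Fin 2) F) : Matrix ((Fin m ⊕ Fin m) ⊕ Fin 2) ((Fin m ⊕ Fin m) ⊕ Fin 2) F).map (algebraMap F K)) ↔ Cr (qMinus m F a b) (m + 1) g) := by
    intro K _ _ h2
    haveI : FiniteDimensional F K := FiniteDimensional.of_finrank_eq_succ h2
    haveI : Finite K := Module.finite_of_finite F
    rw [← ev_iff_cr (qMinus_jV (algebraMap F K) a b) (nd_minus hab) (by rw [card_minus_ι]; omega) (card_minus_ι m)
      (PT_ext h2 hab m) (fun h20 x => sq_quad h2 h20 x) g, ← psc_iff (PT_ext h2 hab m)]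
    show _ ↔ PreservesSingularClasses ⇑(qMinus m K (algebraMap F K a) (algebraMap F K b))
      (((g.1 : GL ((Fin m ⊕ Fin m) ⊕ Fin 2) F) : Matrix ((Fin m ⊕ Fin m) ⊕ Fin 2) ((Fin m ⊕ Fin m) ⊕ Fin 2) F).map (algebraMap F K))
    rw [qMinus_coe (F := K) (m := m) (algebraMap F K a) (algebraMap F K b)]
  constructor
  · rintro ⟨K, i1, i2, h2, h⟩
    exact (key K i1 i2 h2).mp h
  · intro h
    obtain ⟨K, i1, i2, h2⟩ := exists_quad_ext F
    exact ⟨K, i1, i2, h2, (key K i1 i2 h2).mpr h⟩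

theorem inndiagMinus_iff {K : Type*} [Field K] [Finite K] {j : F →+* K} (hab : ∀ z₁ z₂ : F, z₁ ^ 2 + a * z₁ * z₂ + b * z₂ ^ 2 = 0 → z₁ = 0 ∧ z₂ = 0) (hm : 2 ≤ m)
    (P : PT (qMinus m K (j a) (j b)) (m + 1)) (hsq : (2 : F) ≠ 0 → ∀ x : F, IsSquare (j x))
    (hn : 5 ≤ Fintype.card ((Fin m ⊕ Fin m) ⊕ Fin 2)) (β : MulAut (POmega F ⇑(qMinus m F a b))) :
    β ∈ autSubgroupOf (fun β => ∃ g : GL ((Fin m ⊕ Fin m) ⊕ Fin 2) F, g ∈ Geo.quadSimilarityGroup (F := F) ⇑(qMinus m F a b) ∧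
      PreservesSingularClassesMinus m a b (g : Matrix ((Fin m ⊕ Fin m) ⊕ Fin 2) ((Fin m ⊕ Fin m) ⊕ Fin 2) F) ∧
      IsInducedBySemilinearPOmega ⇑(qMinus m F a b) g (RingEquiv.refl F) β) ↔
    MulAut.congr (pomEquiv (nd_minus hab) hn) β ∈ HS (qMinus m F a b) (mS j P) := by
  have key : ∀ g : Geo.quadSimilarityGroup (F := F) ⇑(qMinus m F a b), g.1 ∈ mS j P ↔
      PreservesSingularClassesMinus m a b ((g.1 : GL ((Fin m ⊕ Fin m) ⊕ Fin 2) F) : Matrix ((Fin m ⊕ Fin m) ⊕ Fin 2) ((Fin m ⊕ Fin m) ⊕ Fin 2) F) := by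
    intro g
    rw [psm_iff hab hm, mem_mS_cr (qMinus_jV j a b) (nd_minus hab) hn (card_minus_ι m) P hsq]
  apply autSub_iff (nd_minus hab) hn (mS j P)
  intro β
  constructor
  · rintro ⟨g, h1, h2, h3⟩
    exact ⟨g, h1, (key ⟨g, h1⟩).mpr h2, h3⟩
  · rintro ⟨g, h1, h2, h3⟩
    exact ⟨g, h1, (key ⟨g, h1⟩).mp h2, h3⟩

theorem no_ts_minus (hab : ∀ z₁ z₂ : F, z₁ ^ 2 + a * z₁ * z₂ + b * z₂ ^ 2 = 0 → z₁ = 0 ∧ z₂ = 0) :
    ¬ ∃ U : Submodule F ((Fin m ⊕ Fin m) ⊕ Fin 2 → F), TS (qMinus m F a b) U ∧ finrank F U = m + 1 := by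
  rintro ⟨U, hU, hUm⟩
  have h1 := finrank_le_of_ts_minus m a b hab U (fun u hu => by rw [← qMinus_coe]; exact hU u hu)
  omega

theorem surj_minus (hab : ∀ z₁ z₂ : F, z₁ ^ 2 + a * z₁ * z₂ + b * z₂ ^ 2 = 0 → z₁ = 0 ∧ z₂ = 0) (hm : 2 ≤ m) :
    Function.Surjective (aE (qMinus m F a b)) :=
  aE_surj (nd_minus hab) (by rw [fr_minus]; omega) (Or.inl fun R hR => by
    have h1 := finrank_le_of_ts_minus m a b hab R (fun u hu => by rw [← qMinus_coe]; exact hR u hu)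
    rw [fr_minus]
    omega)

theorem zn_minus_eq {a' b' : F} (hab : ∀ z₁ z₂ : F, z₁ ^ 2 + a * z₁ * z₂ + b * z₂ ^ 2 = 0 → z₁ = 0 ∧ z₂ = 0)
    (hab' : ∀ z₁ z₂ : F, z₁ ^ 2 + a' * z₁ * z₂ + b' * z₂ ^ 2 = 0 → z₁ = 0 ∧ z₂ = 0) : zn (qMinus m F a b) = zn (qMinus m F a' b') := by
  rw [zn_minus hab rfl, zn_minus hab' rfl]

/-- similarities with any multiplier -/
theorem exists_sim_minus {a' b' : F} (hab : ∀ z₁ z₂ : F, z₁ ^ 2 + a * z₁ * z₂ + b * z₂ ^ 2 = 0 → z₁ = 0 ∧ z₂ = 0)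
    (hab' : ∀ z₁ z₂ : F, z₁ ^ 2 + a' * z₁ * z₂ + b' * z₂ ^ 2 = 0 → z₁ = 0 ∧ z₂ = 0) (c : Fˣ) :
    ∃ S : Sim (qMinus m F a b) (qMinus m F a' b'), S.c = c := by
  obtain ⟨φ, hφ⟩ := class_even (m + 1) (nd_minus (m := m) hab) (nd_minus (m := m) hab') (fr_minus F m) (fr_minus F m)
    (zn_minus_eq hab hab') c.ne_zero
  obtain ⟨ψ, hψ⟩ := exists_simEquiv c.ne_zero hφ (nd_minus hab) rfl
  exact ⟨⟨ψ, c, hψ⟩, rfl⟩

theorem qMinus_svI (σ : F ≃+* F) {a b : F} (ha : σ a = a) (hb : σ b = b) (x : (Fin m ⊕ Fin m) ⊕ Fin 2 → F) :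
    qMinus m F a b (svI σ x) = σ (qMinus m F a b x) := by
  have := qMinus_jV (m := m) (σ : F →+* F) a b x
  rw [show (σ : F →+* F) a = a from ha, show (σ : F →+* F) b = b from hb] at this
  exact this.symm

/-- the coordinate form of a field automorphism of minus type -/
theorem field_form_minus (hab : ∀ z₁ z₂ : F, z₁ ^ 2 + a * z₁ * z₂ + b * z₂ ^ 2 = 0 → z₁ = 0 ∧ z₂ = 0) (hm : 2 ≤ m)
    (hn : 5 ≤ Fintype.card ((Fin m ⊕ Fin m) ⊕ Fin 2)) {x : MulAut (POmega F ⇑(qMinus m F a b))}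
    (hx : ∃ (a' b' : F) (ψ : POmega F ⇑(qMinus m F a b) ≃* POmega F ⇑(qMinus m F a' b')) (σ : F ≃+* F),
      (∀ z₁ z₂ : F, z₁ ^ 2 + a' * z₁ * z₂ + b' * z₂ ^ 2 = 0 → z₁ = 0 ∧ z₂ = 0) ∧
      σ ≠ RingEquiv.refl F ∧ σ a' = a' ∧ σ b' = b' ∧
      IsFieldAutPOmegaOf ⇑(qMinus m F a' b') σ ((ψ.symm.trans x).trans ψ)) :
    ∃ p : SSG (qMinus m F a b), p.1.2 ≠ 1 ∧ MulAut.congr (pomEquiv (nd_minus hab) hn) x = aE (qMinus m F a b) p := by
  obtain ⟨a', b', ψ, σ, hab', hσ, ha', hb', hy⟩ := hx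
  obtain ⟨S, -⟩ := exists_sim_minus (m := m) hab hab' 1
  rw [fieldPOm_iff (nd_minus hab') hn (qMinus_svI σ ha' hb')] at hy
  set e := pomEquiv (nd_minus hab) hn with he
  set e' := pomEquiv (nd_minus hab') hn with he'
  obtain ⟨q, hq⟩ := surj_minus hab hm (((e.symm.trans ψ).trans e').trans S.pe.symm : MulAut (PE (qMinus m F a b)))
  refine ⟨q⁻¹ * S.ss.symm (stdS (qMinus m F a' b') σ (qMinus_svI σ ha' hb')) * q, ?_, ?_⟩
  · show q.1.2⁻¹ * σ * q.1.2 ≠ 1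
    rw [mul_assoc, fP_comm σ, inv_mul_cancel_left]
    exact hσ
  · have h1 : aE (qMinus m F a b) (S.ss.symm (stdS (qMinus m F a' b') σ (qMinus_svI σ ha' hb'))) =
        MulAut.congr S.pe.symm (MulAut.congr e' ((ψ.symm.trans x).trans ψ)) := by
      rw [hy]
      have h2 := S.congr_pe (S.ss.symm (stdS (qMinus m F a' b') σ (qMinus_svI σ ha' hb')))
      rw [MulEquiv.apply_symm_apply] at h2
      rw [← h2]
      ext1 y
      show _ = S.pe.symm (S.pe _)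
      rw [MulEquiv.symm_apply_apply]
      show _ = (aE (qMinus m F a b) _) (S.pe.symm (S.pe y))
      rw [MulEquiv.symm_apply_apply]
    rw [map_mul, map_mul, map_inv, h1, hq]
    ext1 y
    show e (x (e.symm y)) = (((e.symm.trans ψ).trans e').trans S.pe.symm : PE (qMinus m F a b) ≃* PE (qMinus m F a b)).symm
      (S.pe.symm (e' (ψ (x (ψ.symm (e'.symm (S.pe (S.pe.symm (e' (ψ (e.symm y)))))))))))
    rw [MulEquiv.eq_symm_apply]
    show S.pe.symm (e' (ψ (e.symm (e (x (e.symm y)))))) = _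
    simp only [MulEquiv.symm_apply_apply, MulEquiv.apply_symm_apply]

end minus

end Cfsg.Agent.H17
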