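import Mathlib
import Cfsg.Agent.H17.Minus3

set_option autoImplicit false

/-! Prime order elements in a field automorphism coset, minus type. -/

namespace Cfsg.Agent.H17

open Cfsg Cfsg.Agent.H5 Module
open scoped MatrixGroups Matrix

universe u

theorem coset_minus' {F : Type u} [Field F] [Finite F] {m : ℕ} (hm : 3 ≤ m) {a b : F}
    (hab : ∀ z₁ z₂ : F, z₁ ^ 2 + a * z₁ * z₂ + b * z₂ ^ 2 = 0 → z₁ = 0 ∧ z₂ = 0) (x δ : MulAut (POmega F ⇑(qMinus m F a b)))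
    (hx : ∃ (a' b' : F) (ψ : POmega F ⇑(qMinus m F a b) ≃* POmega F ⇑(qMinus m F a' b')) (σ : F ≃+* F),
      (∀ z₁ z₂ : F, z₁ ^ 2 + a' * z₁ * z₂ + b' * z₂ ^ 2 = 0 → z₁ = 0 ∧ z₂ = 0) ∧
      σ ≠ RingEquiv.refl F ∧ σ a' = a' ∧ σ b' = b' ∧
      IsFieldAutPOmegaOf ⇑(qMinus m F a' b') σ ((ψ.symm.trans x).trans ψ))
    {r : ℕ} (hr : r.Prime) (hxr : orderOf x = r)
    (hδ : δ ∈ autSubgroupOf (fun β => ∃ g : GL ((Fin m ⊕ Fin m) ⊕ Fin 2) F, g ∈ Geo.quadSimilarityGroup (F := F) ⇑(qMinus m F a b) ∧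
      PreservesSingularClassesMinus m a b (g : Matrix ((Fin m ⊕ Fin m) ⊕ Fin 2) ((Fin m ⊕ Fin m) ⊕ Fin 2) F) ∧
      IsInducedBySemilinearPOmega ⇑(qMinus m F a b) g (RingEquiv.refl F) β)) :
    orderOf (δ * x) = r ↔ IsConjUnder (autSubgroupOf (fun β => ∃ g : GL ((Fin m ⊕ Fin m) ⊕ Fin 2) F, g ∈ Geo.quadSimilarityGroup (F := F) ⇑(qMinus m F a b) ∧
      PreservesSingularClassesMinus m a b (g : Matrix ((Fin m ⊕ Fin m) ⊕ Fin 2) ((Fin m ⊕ Fin m) ⊕ Fin 2) F) ∧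
      IsInducedBySemilinearPOmega ⇑(qMinus m F a b) g (RingEquiv.refl F) β)) x (δ * x) := by
  have hn : 5 ≤ Fintype.card ((Fin m ⊕ Fin m) ⊕ Fin 2) := by rw [card_minus_ι]; omega
  have hn' : 5 ≤ finrank F ((Fin m ⊕ Fin m) ⊕ Fin 2 → F) := semi_card (F := F) hn
  obtain ⟨K, _, _, hK2⟩ := exists_quad_ext F
  haveI : FiniteDimensional F K := FiniteDimensional.of_finrank_eq_succ hK2
  haveI : Finite K := Module.finite_of_finite F
  have P := PT_ext hK2 hab m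
  have hsq : (2 : F) ≠ 0 → ∀ x : F, IsSquare (algebraMap F K x) := fun h20 x => sq_quad hK2 h20 x
  obtain ⟨p, hp1, hp2⟩ := field_form_minus hab (by omega) hn hx
  rw [inndiagMinus_iff hab (by omega) P hsq hn] at hδ
  rw [isConjUnder_equiv (MulAut.congr (pomEquiv (nd_minus hab) hn)) (inndiagMinus_iff hab (by omega) P hsq hn)]
  have hord : ∀ y : MulAut (POmega F ⇑(qMinus m F a b)), orderOf (MulAut.congr (pomEquiv (nd_minus hab) hn) y) = orderOf y := fun y =>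
      orderOf_injective (MulAut.congr (pomEquiv (nd_minus hab) hn)).toMonoidHom (MulAut.congr (pomEquiv (nd_minus hab) hn)).injective y
  constructor
  · intro h
    obtain ⟨g, hg1, hg2⟩ := mem_HS.mp hδ
    have hxr' : aE (qMinus m F a b) p ^ r = 1 := by rw [← hp2, ← hxr, ← hord, pow_orderOf_eq_one]
    have hxr2 : aE (qMinus m F a b) (goSS _ g * p) ^ r = 1 := by
      rw [map_mul, hg2, ← hp2, ← map_mul, ← h, ← hord, pow_orderOf_eq_one]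
    have hτ := ss_order (nd_minus hab) hn' hr hxr' hp1
    obtain ⟨F₀, _, _, i, hi⟩ := exists_fixF F hr.ne_zero hτ
    have hdp : (goSS (qMinus m F a b) g * p).1.2 = p.1.2 := by
      show 1 * p.1.2 = p.1.2
      rw [one_mul]
    obtain ⟨κ, hκ1, hκ2⟩ := conj_m (qMinus_jV (algebraMap F K) a b) P (nd_minus hab) hn' (fr_minus F m) (no_ts_minus hab)
      hdp hτ hr.pos hi hxr' hxr2
    refine ⟨κ, hκ1, ?_⟩
    rw [hp2, ← hκ2, map_mul, map_mul, hg2, hp2]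
  · rintro ⟨h, _, hh⟩
    rw [← hord, hh, orderOf_transport, hord, hxr]

theorem coset_minus {F : Type u} [Field F] [Finite F] {m : ℕ} (hm : 3 ≤ m) {a b : F} (Qf : F → F → ((Fin m ⊕ Fin m) ⊕ Fin 2 → F) → F)
    (hQf : Qf = fun a b => ⇑(qMinus m F a b))
    (hab : ∀ z₁ z₂ : F, z₁ ^ 2 + a * z₁ * z₂ + b * z₂ ^ 2 = 0 → z₁ = 0 ∧ z₂ = 0) (x δ : MulAut (POmega F (Qf a b)))
    (hx : ∃ (a' b' : F) (ψ : POmega F (Qf a b) ≃* POmega F (Qf a' b')) (σ : F ≃+* F),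
      (∀ z₁ z₂ : F, z₁ ^ 2 + a' * z₁ * z₂ + b' * z₂ ^ 2 = 0 → z₁ = 0 ∧ z₂ = 0) ∧
      σ ≠ RingEquiv.refl F ∧ σ a' = a' ∧ σ b' = b' ∧
      IsFieldAutPOmegaOf (Qf a' b') σ ((ψ.symm.trans x).trans ψ))
    {r : ℕ} (hr : r.Prime) (hxr : orderOf x = r)
    (hδ : δ ∈ autSubgroupOf (fun β => ∃ g : GL ((Fin m ⊕ Fin m) ⊕ Fin 2) F, g ∈ Geo.quadSimilarityGroup (F := F) (Qf a b) ∧
      PreservesSingularClassesMinus m a b (g : Matrix ((Fin m ⊕ Fin m) ⊕ Fin 2) ((Fin m ⊕ Fin m) ⊕ Fin 2) F) ∧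
      IsInducedBySemilinearPOmega (Qf a b) g (RingEquiv.refl F) β)) :
    orderOf (δ * x) = r ↔ IsConjUnder (autSubgroupOf (fun β => ∃ g : GL ((Fin m ⊕ Fin m) ⊕ Fin 2) F, g ∈ Geo.quadSimilarityGroup (F := F) (Qf a b) ∧
      PreservesSingularClassesMinus m a b (g : Matrix ((Fin m ⊕ Fin m) ⊕ Fin 2) ((Fin m ⊕ Fin m) ⊕ Fin 2) F) ∧
      IsInducedBySemilinearPOmega (Qf a b) g (RingEquiv.refl F) β)) x (δ * x) := by
  subst hQf
  exact coset_minus' hm hab x δ hx hr hxr hδ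

theorem quadFormMinus_eq (m : ℕ) (F : Type*) [Field F] : quadFormMinus m F = fun a b => ⇑(qMinus m F a b) := by
  funext a b
  exact (qMinus_coe m F a b).symm

end Cfsg.Agent.H17
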