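import Mathlib
import Cfsg.Agent.H17.Minus4

set_option autoImplicit false

/-! Field automorphisms of minus type: order, transport to the standard form. -/

namespace Cfsg.Agent.H17

open Cfsg Cfsg.Agent.H5 Module
open scoped MatrixGroups Matrix

section card

theorem card_fix {F F₀ : Type*} [Field F] [Finite F] [Field F₀] {τ : F ≃+* F} {r : ℕ} (hr : r ≠ 0) (hτ : orderOf τ = r)
    {j : F₀ →+* F} (hj : ∀ x, τ x = x ↔ ∃ y, j y = x) : Nat.card F = Nat.card F₀ ^ r := by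
  classical
  haveI := Fintype.ofFinite F
  obtain ⟨p, hp⟩ := CharP.exists F
  haveI : Fact p.Prime := ⟨CharP.char_is_prime F p⟩
  obtain ⟨⟨f, hf0⟩, -, hF⟩ := FiniteField.card F p
  simp only [PNat.mk_coe] at hF
  have hF' : Nat.card F = p ^ f := by rw [Nat.card_eq_fintype_card, hF]
  have hrf : r ∣ f := by
    have h := (ringAut_cyclic (F := F) p f (by omega) hF').2
    rw [← h, ← hτ]
    exact orderOf_dvd_natCard τ
  have hfr : f / r ≠ 0 := by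
    obtain ⟨k, hk⟩ := hrf
    rw [hk, Nat.mul_div_cancel_left _ (Nat.pos_of_ne_zero hr)]
    rintro rfl
    rw [mul_zero] at hk
    omega
  obtain ⟨_, j', hj'⟩ := exists_fixed_emb hF' τ hτ (GaloisField p (f / r)) (GaloisField.card p (f / r) hfr)
  have h1 : Nat.card F₀ = Nat.card {x : F // τ x = x} :=
    Nat.card_congr (Equiv.ofBijective (fun y : F₀ => (⟨j y, (hj _).mpr ⟨y, rfl⟩⟩ : {x : F // τ x = x}))
      ⟨fun y y' h => j.injective (congrArg Subtype.val h), fun x => by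
        obtain ⟨y, hy⟩ := (hj _).mp x.2
        exact ⟨y, Subtype.ext hy⟩⟩)
  have h2 : Nat.card (GaloisField p (f / r)) = Nat.card {x : F // τ x = x} :=
    Nat.card_congr (Equiv.ofBijective (fun y : GaloisField p (f / r) => (⟨j' y, (hj' _).mpr ⟨y, rfl⟩⟩ : {x : F // τ x = x}))
      ⟨fun y y' h => j'.injective (congrArg Subtype.val h), fun x => by
        obtain ⟨y, hy⟩ := (hj' _).mp x.2
        exact ⟨y, Subtype.ext hy⟩⟩)
  rw [h1, ← h2, GaloisField.card p (f / r) hfr, hF', ← pow_mul, Nat.div_mul_cancel hrf]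

theorem finrank_fix_two {F F₀ : Type*} [Field F] [Finite F] [Field F₀] [Finite F₀] {τ : F ≃+* F} (hτ : orderOf τ = 2)
    {j : F₀ →+* F} (hj : ∀ x, τ x = x ↔ ∃ y, j y = x) : @finrank F₀ F _ _ j.toAlgebra.toModule = 2 := by
  letI := j.toAlgebra
  have h1 := card_fix (by norm_num) hτ hj
  have h2 : Nat.card F = Nat.card F₀ ^ finrank F₀ F := Module.natCard_eq_pow_finrank
  rw [h1] at h2
  exact (Nat.pow_right_injective (Finite.one_lt_card (α := F₀)) h2).symm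

end card

section simgl

variable {F : Type*} [Field F] {ι : Type} [Fintype ι] [DecidableEq ι] {Q Qs : QuadraticForm F (ι → F)}

/-- a matrix similarity -/
def simGL (B : GL ι F) (e : Fˣ) (h : ∀ x, Q ((B : Matrix ι ι F) *ᵥ x) = e * Qs x) : Sim Qs Q where
  φ := LinearEquiv.ofLinear (B : Matrix ι ι F).mulVecLin ((B⁻¹ : GL ι F) : Matrix ι ι F).mulVecLin
    (by
      apply LinearMap.ext
      intro x
      show (B : Matrix ι ι F) *ᵥ (((B⁻¹ : GL ι F) : Matrix ι ι F) *ᵥ x) = x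
      rw [Matrix.mulVec_mulVec, ← Units.val_mul, mul_inv_cancel, Units.val_one, Matrix.one_mulVec])
    (by
      apply LinearMap.ext
      intro x
      show ((B⁻¹ : GL ι F) : Matrix ι ι F) *ᵥ ((B : Matrix ι ι F) *ᵥ x) = x
      rw [Matrix.mulVec_mulVec, ← Units.val_mul, inv_mul_cancel, Units.val_one, Matrix.one_mulVec])
  c := e
  h := h

theorem simGL_mem {B : GL ι F} {e : Fˣ} (h : ∀ x, Q ((B : Matrix ι ι F) *ᵥ x) = e * Qs x) {g : GL ι F}
    (hg : g ∈ Geo.quadSimilarityGroup (F := F) ⇑Qs) : B * g * B⁻¹ ∈ Geo.quadSimilarityGroup (F := F) ⇑Q := by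
  obtain ⟨κ, hκ⟩ := hg
  refine ⟨κ, fun v => ?_⟩
  rw [Units.val_mul, ← Matrix.mulVec_mulVec, Units.val_mul, ← Matrix.mulVec_mulVec, h, hκ]
  have h1 := h (((B⁻¹ : GL ι F) : Matrix ι ι F) *ᵥ v)
  rw [Matrix.mulVec_mulVec, ← Units.val_mul, mul_inv_cancel, Units.val_one, Matrix.one_mulVec] at h1
  rw [h1]
  ring

theorem simGL_ss {B : GL ι F} {e : Fˣ} (h : ∀ x, Q ((B : Matrix ι ι F) *ᵥ x) = e * Qs x) (g : Geo.quadSimilarityGroup (F := F) ⇑Qs) :
    (simGL B e h).ss (goSS Qs g) = goSS Q ⟨B * g.1 * B⁻¹, simGL_mem h g.2⟩ := by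
  apply ss_ext
  · intro x
    show (B : Matrix ι ι F) *ᵥ ((g.1 : Matrix ι ι F) *ᵥ (((B⁻¹ : GL ι F) : Matrix ι ι F) *ᵥ x)) =
      ((B * g.1 * B⁻¹ : GL ι F) : Matrix ι ι F) *ᵥ x
    rw [Units.val_mul, Units.val_mul, ← Matrix.mulVec_mulVec, ← Matrix.mulVec_mulVec]
  · rfl

theorem simGL_symm {B : GL ι F} {e : Fˣ} (h : ∀ x, Q ((B : Matrix ι ι F) *ᵥ x) = e * Qs x) (x : ι → F) :
    Qs (((B⁻¹ : GL ι F) : Matrix ι ι F) *ᵥ x) = ((e⁻¹ : Fˣ) : F) * Q x := (simGL B e h).h_symm x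

variable {K : Type*} [Field K] {QK QsK : QuadraticForm K (ι → K)} {j : F →+* K} {k : ℕ}

theorem simGL_ext {B : GL ι F} {e : Fˣ} (h : ∀ x, Q ((B : Matrix ι ι F) *ᵥ x) = e * Qs x)
    (hext : ∀ v, j (Q v) = QK (jV j v)) (hexts : ∀ v, j (Qs v) = QsK (jV j v)) (x : ι → K) :
    QK ((jI ι j B : Matrix ι ι K) *ᵥ x) = ((Units.map (j : F →* K) e : Kˣ) : K) * QsK x :=
  ext_sim hexts hext B (e : F) h x

theorem mS_simGL {B : GL ι F} {e : Fˣ} (h : ∀ x, Q ((B : Matrix ι ι F) *ᵥ x) = e * Qs x)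
    (hext : ∀ v, j (Q v) = QK (jV j v)) (hexts : ∀ v, j (Qs v) = QsK (jV j v)) (P : PT QK k) (Ps : PT QsK k)
    (g : Geo.quadSimilarityGroup (F := F) ⇑Qs) : B * g.1 * B⁻¹ ∈ mS j P ↔ g.1 ∈ mS j Ps := by
  show jI ι j (B * g.1 * B⁻¹) ∈ evS P ↔ jI ι j g.1 ∈ evS Ps
  have h1 := jI_mem hexts g.2
  have hE := simGL_ext h hext hexts
  have h2 : jI ι j (B * g.1 * B⁻¹) = jI ι j B * jI ι j g.1 * (jI ι j B)⁻¹ := by rw [map_mul, map_mul, map_inv]
  rw [h2, mem_evS h1, mem_evS (simGL_mem hE h1), ← (simGL _ _ hE).ev_iff (goSS QsK ⟨jI ι j g.1, h1⟩), simGL_ss hE]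

theorem HS_simGL {B : GL ι F} {e : Fˣ} (h : ∀ x, Q ((B : Matrix ι ι F) *ᵥ x) = e * Qs x)
    (hext : ∀ v, j (Q v) = QK (jV j v)) (hexts : ∀ v, j (Qs v) = QsK (jV j v)) (P : PT QK k) (Ps : PT QsK k)
    (α : MulAut (PE Qs)) : α ∈ HS Qs (mS j Ps) ↔ MulAut.congr (simGL B e h).pe α ∈ HS Q (mS j P) := by
  have one : ∀ {Q Qs : QuadraticForm F (ι → F)} {QK QsK : QuadraticForm K (ι → K)} {B : GL ι F} {e : Fˣ} (h : ∀ x, Q ((B : Matrix ι ι F) *ᵥ x) = e * Qs x)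
      (_ : ∀ v, j (Q v) = QK (jV j v)) (_ : ∀ v, j (Qs v) = QsK (jV j v)) (P : PT QK k) (Ps : PT QsK k)
      (α : MulAut (PE Qs)), α ∈ HS Qs (mS j Ps) → MulAut.congr (simGL B e h).pe α ∈ HS Q (mS j P) := by
    intro Q Qs QK QsK B e h hext hexts P Ps α hα
    obtain ⟨g, hg, rfl⟩ := mem_HS.mp hα
    rw [Sim.congr_pe, simGL_ss]
    exact mem_HS.mpr ⟨_, (mS_simGL h hext hexts P Ps g).mpr hg, rfl⟩
  refine ⟨one h hext hexts P Ps α, fun hα => ?_⟩
  obtain ⟨g, hg, he⟩ := mem_HS.mp hα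
  have h1 : goSS Q g = (simGL B e h).ss ((simGL B e h).ss.symm (goSS Q g)) := ((simGL B e h).ss.apply_symm_apply _).symm
  obtain ⟨g', hg'⟩ := exists_goSS ((simGL B e h).ss.symm (goSS Q g)) rfl
  rw [← hg', simGL_ss h] at h1
  rw [h1] at he
  have h2 : g = ⟨B * g'.1 * B⁻¹, simGL_mem h g'.2⟩ := by
    apply Subtype.ext
    apply Units.ext
    apply Matrix.toLin'.injective
    apply LinearMap.ext
    intro x
    have := congrArg (fun p : SSG Q => p.1.1 x) h1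
    rw [Matrix.toLin'_apply, Matrix.toLin'_apply]
    exact this
  rw [h2] at hg
  have h3 := (mS_simGL h hext hexts P Ps g').mp hg
  refine mem_HS.mpr ⟨g', h3, ?_⟩
  rw [← simGL_ss h, ← Sim.congr_pe] at he
  exact (MulAut.congr (simGL B e h).pe).injective he

end simgl

section two

variable {F : Type*} [Field F] [Finite F] {m : ℕ} {a b : F}

/-- minus type forms have no semisimilarities of order two with field part of order two -/
theorem no_two_minus (hab : ∀ z₁ z₂ : F, z₁ ^ 2 + a * z₁ * z₂ + b * z₂ ^ 2 = 0 → z₁ = 0 ∧ z₂ = 0)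
    (s : SSG (qMinus m F a b)) (hs : s ^ 2 = 1) (hτ : orderOf s.1.2 = 2) (hm : 2 ≤ m) : False := by
  have hnd := nd_minus (m := m) hab
  have hQ : ∃ x, qMinus m F a b x ≠ 0 := exists_ne_q hnd (by rw [fr_minus]; omega)
  obtain ⟨F₀, _, _, j, hj⟩ := exists_fixF F (by norm_num) hτ
  obtain ⟨B, d, Q₀, hB, hQ₀⟩ := ss_descend hQ s hτ (by norm_num) (j := j) hj hs
  have D := desc_of_coords s (j := j) hj hB hQ₀
  have hfr : finrank F₀ ((Fin m ⊕ Fin m) ⊕ Fin 2 → F₀) = finrank F ((Fin m ⊕ Fin m) ⊕ Fin 2 → F) := by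
    rw [fr_minus, fr_minus]
  by_cases hts : ∃ U : Submodule F₀ ((Fin m ⊕ Fin m) ⊕ Fin 2 → F₀), TS Q₀ U ∧ finrank F₀ U = m + 1
  · obtain ⟨U, hU, hUm⟩ := hts
    exact no_ts_minus hab ⟨_, D.bc_TS hU, (D.bc_finrank hfr U).trans hUm⟩
  · obtain ⟨a₀, b₀, hab₀⟩ := exists_ab (F := F₀)
    have hz := class_even_ts (m + 1) (nd_minus (m := m) hab₀) (D.nd hnd) (fr_minus F₀ m) (fr_minus F₀ m)
      ⟨fun h => absurd h (no_ts_minus hab₀), fun h => absurd h hts⟩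
    obtain ⟨φ, hφ⟩ := class_even (m + 1) (nd_minus (m := m) hab₀) (D.nd hnd) (fr_minus F₀ m) (fr_minus F₀ m) hz (c := 1) one_ne_zero
    obtain ⟨g, hg⟩ := mulVec_of_lin one_ne_zero (nd_minus (m := m) hab₀) hφ
    obtain ⟨K, hK⟩ : ∃ K : QuadraticForm F ((Fin m ⊕ Fin m) ⊕ Fin 2 → F), ∀ x, K x = (d : F) * qMinus m F a b ((B : Matrix _ _ F) *ᵥ x) :=
      ⟨(d : F) • (qMinus m F a b).comp (B : Matrix _ _ F).mulVecLin, fun x => rfl⟩
    have h2 := ext_sim (Q := qMinus m F (j a₀) (j b₀)) (Q' := K) (qMinus_jV j a₀ b₀) (fun v => by rw [hQ₀, hK]) g 1 hg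
    letI := j.toAlgebra
    obtain ⟨z₁, z₂, hz1, hz2⟩ := exists_zero_ext (K := F) (finrank_fix_two hτ hj) hab₀
    obtain ⟨E, hE, hEm⟩ := exists_ts_of_zero (m := m) hz1 hz2
    apply no_ts_minus (m := m) hab
    have h3 : ∀ x, qMinus m F a b (((B * jI _ j g : GL _ F) : Matrix ((Fin m ⊕ Fin m) ⊕ Fin 2) ((Fin m ⊕ Fin m) ⊕ Fin 2) F) *ᵥ x) = ((d⁻¹ : Fˣ) : F) * qMinus m F (j a₀) (j b₀) x := by
      intro x
      have h3 := h2 x
      rw [hK, map_one, one_mul] at h3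
      rw [← h3, Units.val_mul, ← Matrix.mulVec_mulVec, ← mul_assoc, ← Units.val_mul, inv_mul_cancel, Units.val_one, one_mul]
    refine ⟨E.map (simGL _ _ h3).φ.toLinearMap, (simGL _ _ h3).TS_map hE, ?_⟩
    rw [← hEm]
    exact LinearEquiv.finrank_map_eq (simGL _ _ h3).φ E

end two

end Cfsg.Agent.H17
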