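import Mathlib
import Cfsg.Agent.H17.Minus5

set_option autoImplicit false

/-! Standard form of semisimilarities of finite order; class splitting for odd prime order, even dimension. -/

namespace Cfsg.Agent.H17

open Cfsg Cfsg.Agent.H5 Module
open scoped MatrixGroups Matrix

section std

variable {F F₀ : Type*} [Field F] [Finite F] [Field F₀] [Finite F₀] {ι : Type} [Fintype ι] [DecidableEq ι]

/-- normal form of a semisimilarity of order `r` when the type of the descended form is known -/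
theorem std_of_zn {Q : QuadraticForm F (ι → F)} (hne : ∃ x, Q x ≠ 0) (hnd : ND Q) {k : ℕ} (hk : Fintype.card ι = 2 * k) (s : SSG Q) {r : ℕ}
    (hτ : orderOf s.1.2 = r) (hr : 0 < r) {j : F₀ →+* F} (hj : ∀ x, s.1.2 x = x ↔ ∃ y, j y = x) (hs : s ^ r = 1)
    {Q1 : QuadraticForm F₀ (ι → F₀)} {Qs : QuadraticForm F (ι → F)} (h1 : ∀ v, j (Q1 v) = Qs (jV j v)) (hnd1 : ND Q1)
    (hcl : ∀ (Q₀ : QuadraticForm F₀ (ι → F₀)) (β : (ι → F₀) → (ι → F)) (d : Fˣ), Desc Q Q₀ j β d s → zn Q1 = zn Q₀) :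
    ∃ (B : GL ι F) (e : Fˣ), (∀ x, s.1.1 ((B : Matrix ι ι F) *ᵥ x) = (B : Matrix ι ι F) *ᵥ svI s.1.2 x) ∧
      ∀ x, Q ((B : Matrix ι ι F) *ᵥ x) = e * Qs x := by
  obtain ⟨b, d, Q₀, hb, hQ₀⟩ := ss_descend hne s hτ hr (j := j) hj hs
  have D := desc_of_coords s (j := j) hj hb hQ₀
  have hfr : finrank F₀ (ι → F₀) = 2 * k := by rw [Module.finrank_fintype_fun_eq_card]; exact hk
  obtain ⟨φ, hφ⟩ := class_even k hnd1 (D.nd hnd) hfr hfr (hcl _ _ _ D) (c := 1) one_ne_zero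
  obtain ⟨g, hg⟩ := mulVec_of_lin one_ne_zero hnd1 hφ
  obtain ⟨K, hK⟩ : ∃ K : QuadraticForm F (ι → F), ∀ x, K x = (d : F) * Q ((b : Matrix ι ι F) *ᵥ x) :=
    ⟨(d : F) • Q.comp (b : Matrix ι ι F).mulVecLin, fun x => rfl⟩
  have h2 := ext_sim (Q := Qs) (Q' := K) h1 (fun v => by rw [hQ₀, hK]) g 1 hg
  have hj' : ∀ y, s.1.2 (j y) = j y := fun y => (hj _).mpr ⟨y, rfl⟩
  refine ⟨b * jI ι j g, d⁻¹, ?_, ?_⟩
  · intro x
    rw [Units.val_mul, ← Matrix.mulVec_mulVec, hb, svI_mulVec, glI_jI hj', ← Matrix.mulVec_mulVec]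
  · intro x
    have h3 := h2 x
    rw [hK, map_one, one_mul] at h3
    rw [← h3, Units.val_mul, ← Matrix.mulVec_mulVec, ← mul_assoc, ← Units.val_mul, inv_mul_cancel, Units.val_one, one_mul]

omit [Finite F] in
theorem std_ss {Q Qs : QuadraticForm F (ι → F)} {s : SSG Q} {B : GL ι F} {e : Fˣ} (h : ∀ x, Q ((B : Matrix ι ι F) *ᵥ x) = e * Qs x)
    (hB : ∀ x, s.1.1 ((B : Matrix ι ι F) *ᵥ x) = (B : Matrix ι ι F) *ᵥ svI s.1.2 x) (hσ : ∀ x, Qs (svI s.1.2 x) = s.1.2 (Qs x)) :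
    (simGL B e h).ss (stdS Qs s.1.2 hσ) = s := by
  apply ss_ext
  · intro x
    obtain ⟨y, rfl⟩ := (simGL B e h).φ.surjective x
    rw [Sim.ss_apply', stdS_apply]
    exact (hB y).symm
  · rfl

end std

section split

variable {F : Type*} [Field F] [Finite F] {ι : Type} [Fintype ι] [DecidableEq ι] {Q : QuadraticForm F (ι → F)}

theorem isSq_two (h2 : (2 : F) = 0) (x : F) : IsSquare x := by
  haveI : CharP F 2 := CharTwo.of_one_ne_zero_of_two_eq_zero one_ne_zero h2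
  exact FiniteField.isSquare_of_char_two (ringChar.eq_iff.mpr inferInstance) _

/-- proper similarities with square multiplier -/
theorem cr_sq (hnd : ND Q) {k : ℕ} (hk : Fintype.card ι = 2 * k) {g : Geo.quadSimilarityGroup (F := F) ⇑Q}
    (hc : Cr Q k g) (hs : IsSquare (ssK (goSS Q g) : F)) : ∃ (c : Fˣ) (h : OG Q), h ∈ DG Q ∧ goSS Q g = scSS Q c * ogSS Q h := by
  rcases hc with ⟨h2, hd⟩ | ⟨_, h⟩
  · obtain ⟨c, hc⟩ := hs
    have hc0 : c ≠ 0 := by
      rintro rfl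
      exact (ssK (goSS Q g)).ne_zero (by rw [hc, mul_zero])
    obtain ⟨h, hh⟩ := sq_split (p := goSS Q g) rfl (c := Units.mk0 c hc0) hc.symm
    refine ⟨_, h, ?_, hh⟩
    rw [mem_dg_iff h2 hnd]
    have h3 := go_det hh
    rw [hd, hc, hk, pow_mul, Units.val_mk0, ← pow_two] at h3
    have h4 : (c ^ 2) ^ k ≠ 0 := pow_ne_zero _ (pow_ne_zero _ hc0)
    have h5 : (c ^ 2) ^ k * odet Q h = (c ^ 2) ^ k * 1 := by rw [mul_one]; exact h3.symm
    exact mul_left_cancel₀ h4 h5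
  · exact h

theorem dg_eg_two (h2 : (2 : F) = 0) (hnd : ND Q) (hn : 5 ≤ finrank F (ι → F)) {g : OG Q} (hg : g ∈ DG Q) : g ∈ EG Q := by
  unfold DG at hg
  induction hg using Subgroup.closure_induction with
  | mem x hx =>
    obtain ⟨u, v, hu, hv, rfl⟩ := hx
    exact uv_mem_eg hnd hn hu hv (isSq_two h2 _)
  | one => exact one_mem _
  | mul a b _ _ ha hb => exact mul_mem ha hb
  | inv a _ ha => exact inv_mem ha

variable {F₀ K : Type*} [Field F₀] [Finite F₀] [Field K] [Finite K] {Q₀ : QuadraticForm F₀ (ι → F₀)} {QK : QuadraticForm K (ι → K)}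
  {j : F₀ →+* F} {i : F →+* K} {k : ℕ}

theorem inn_le_mS (hext : ∀ v, i (Q v) = QK (jV i v)) (hnd : ND Q) (hn : 5 ≤ Fintype.card ι) (hk : Fintype.card ι = 2 * k) (P : PT QK k)
    (hsq : (2 : F) ≠ 0 → ∀ x : F, IsSquare (i x)) : Inn (PE Q) ≤ HS Q (mS i P) := by
  have hnF : 5 ≤ finrank F (ι → F) := by rw [Module.finrank_fintype_fun_eq_card]; exact hn
  rintro _ ⟨x, rfl⟩
  obtain ⟨g, rfl⟩ := QuotientGroup.mk_surjective x
  obtain ⟨g', hg'⟩ := exists_goSS (ogSS Q g.1) rfl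
  refine mem_HS.mpr ⟨g', ?_, ?_⟩
  · rw [mem_mS_cr hext hnd hn hk P hsq]
    have hdg : g.1 ∈ DG Q := EG_le_DG hnd hnF g.2
    by_cases h2 : (2 : F) = 0
    · right
      exact ⟨h2, 1, g.1, hdg, by rw [hg', map_one, one_mul]⟩
    · left
      refine ⟨h2, ?_⟩
      have h3 : goSS Q g' = scSS Q 1 * ogSS Q g.1 := by rw [hg', map_one, one_mul]
      rw [go_det h3, odet_dg hdg, Units.val_one, one_pow, one_mul]
      have h4 : (ssK (goSS Q g') : F) = 1 := by
        apply ssK_eq (exists_ne_q hnd (by omega))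
        intro x
        rw [hg', ogSS_apply, og_q, one_mul]; rfl
      rw [h4, one_pow]
  · rw [hg']; exact aE_ogSS g

/-- the class of a standard field automorphism of odd order does not split -/
theorem split_std_even (hext₀ : ∀ v, j (Q₀ v) = Q (jV j v)) (hext : ∀ v, i (Q v) = QK (jV i v)) (hnd : ND Q)
    (hn : 5 ≤ Fintype.card ι) (hk : Fintype.card ι = 2 * k) (P : PT QK k) (hsq : (2 : F) ≠ 0 → ∀ x : F, IsSquare (i x))
    {σ : F ≃+* F} {r : ℕ} (hσ : orderOf σ = r) (ho : Odd r) (hj : ∀ x, σ x = x ↔ ∃ y, j y = x) (hQσ : ∀ x, Q (svI σ x) = σ (Q x))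
    (hsim : ∀ c : F₀, c ≠ 0 → ∃ φ : (ι → F₀) →ₗ[F₀] (ι → F₀), ∀ x, Q₀ (φ x) = c * Q₀ x) :
    splitClassCount (HS Q (mS i P)) (Inn (PE Q)) (aE Q (stdS Q σ hQσ)) = 1 := by
  haveI := Inn_normal (G := PE Q)
  have hnF : 5 ≤ finrank F (ι → F) := by rw [Module.finrank_fintype_fun_eq_card]; exact hn
  have hnF₀ : 5 ≤ finrank F₀ (ι → F₀) := by rw [Module.finrank_fintype_fun_eq_card]; exact hn
  have hnd₀ : ND Q₀ := descend_nd hext₀ hnd
  have hj' : ∀ y, σ (j y) = j y := fun y => (hj _).mpr ⟨y, rfl⟩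
  rw [splitClassCount_eq (inn_le_mS hext hnd hn hk P hsq), Subgroup.relIndex_eq_one]
  intro α hα
  obtain ⟨g, hg, rfl⟩ := mem_HS.mp hα
  have hgc := (mem_mS_cr hext hnd hn hk P hsq g).mp hg
  by_cases h2 : (2 : F) = 0
  · obtain ⟨c, h, hh, he⟩ := cr_sq hnd hk hgc (isSq_two h2 _)
    rw [he, map_mul, aE_sc hnd hnF, one_mul]
    exact Subgroup.mem_sup_left (aE_eg_mem_inn (dg_eg_two h2 hnd hnF hh))
  · have h2₀ := two_ne_zero_of_emb j h2
    obtain ⟨d, u₀, v₀, hd, hu₀, hv₀⟩ := exists_two h2₀ hnd₀ (by omega)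
    have hd0 : d ≠ 0 := by rintro rfl; exact hd IsSquare.zero
    obtain ⟨hu', ju⟩ := JR.refl hext₀ (u := u₀) (by rw [hu₀]; exact one_ne_zero)
    obtain ⟨hv', jv⟩ := JR.refl hext₀ (u := v₀) (by rw [hv₀]; exact hd0)
    have nsd : ¬ IsSquare (j d) := fun h => hd (sq_descend hσ ho hj h2 h)
    have ns : ¬ IsSquare (Q (jV j u₀) * Q (jV j v₀)) := by
      rw [← hext₀, ← hext₀, hu₀, hv₀, map_one, one_mul]
      exact nsd
    have cfr : ∀ (w₀ : ι → F₀) (hw : Q (jV j w₀) ≠ 0), aE Q (ogSS Q (H5.refl hw)) * aE Q (stdS Q σ hQσ) = aE Q (stdS Q σ hQσ) * aE Q (ogSS Q (H5.refl hw)) := by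
      intro w₀ hw
      rw [← map_mul (aE Q), ← map_mul (aE Q), fixed_refl_comm hnd hnF _ hj' w₀ hw]
    -- square multiplier case
    have hsqc : ∀ g : Geo.quadSimilarityGroup (F := F) ⇑Q, g.1 ∈ mS i P → IsSquare (ssK (goSS Q g) : F) →
        aE Q (goSS Q g) ∈ Inn (PE Q) ⊔ (HS Q (mS i P) ⊓ Subgroup.centralizer {aE Q (stdS Q σ hQσ)}) := by
      intro g hg hs
      obtain ⟨c, h, hh, he⟩ := cr_sq hnd hk ((mem_mS_cr hext hnd hn hk P hsq g).mp hg) hs
      rw [he, map_mul, aE_sc hnd hnF, one_mul]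
      rcases dg_cases h2 hnd hnF hu' hv' ns hh with h3 | h3
      · exact Subgroup.mem_sup_left (aE_eg_mem_inn h3)
      · have hw : aE Q (ogSS Q (H5.refl hu' * H5.refl hv')) ∈ HS Q (mS i P) ⊓ Subgroup.centralizer {aE Q (stdS Q σ hQσ)} := by
          constructor
          · obtain ⟨w, hw⟩ := exists_goSS (ogSS Q (H5.refl hu' * H5.refl hv')) rfl
            refine mem_HS.mpr ⟨w, ?_, by rw [hw]⟩
            obtain ⟨wu, hwu⟩ := exists_goSS (ogSS Q (H5.refl hu')) rfl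
            obtain ⟨wv, hwv⟩ := exists_goSS (ogSS Q (H5.refl hv')) rfl
            have h5 : w = wu * wv := by
              apply Subtype.ext
              apply Units.ext
              apply Matrix.toLin'.injective
              apply LinearMap.ext
              intro x
              have h6 : goSS Q w = goSS Q (wu * wv) := by rw [hw, map_mul, map_mul, hwu, hwv]
              have := congrArg (fun p : SSG Q => p.1.1 x) h6
              rw [Matrix.toLin'_apply, Matrix.toLin'_apply]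
              exact this
            rw [h5, mS_mul hext P]
            exact ⟨fun h => absurd h (mS_refl hext P wu hu' hwu), fun h => absurd h (mS_refl hext P wv hv' hwv)⟩
          · refine Subgroup.mem_centralizer_singleton_iff.mpr ?_
            rw [map_mul, map_mul, mul_assoc, cfr v₀ hv', ← mul_assoc, cfr u₀ hu', mul_assoc]
        have h4 := Subgroup.mul_mem _ (Subgroup.mem_sup_left (T := HS Q (mS i P) ⊓ Subgroup.centralizer {aE Q (stdS Q σ hQσ)}) (aE_eg_mem_inn h3)) (Subgroup.mem_sup_right (S := Inn (PE Q)) hw)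
        rwa [← map_mul, ← map_mul, inv_mul_cancel_right] at h4
    by_cases hs : IsSquare (ssK (goSS Q g) : F)
    · exact hsqc g hg hs
    · -- rational similarity with nonsquare multiplier
      obtain ⟨φ, hφ⟩ := hsim d hd0
      obtain ⟨g₀, hg₀⟩ := mulVec_of_lin hd0 hnd₀ hφ
      have hg₀m : g₀ ∈ Geo.quadSimilarityGroup (F := F₀) ⇑Q₀ := ⟨Units.mk0 d hd0, hg₀⟩
      have hκ : ∀ w : Geo.quadSimilarityGroup (F := F₀) ⇑Q₀, ∀ c : F₀, (∀ v, Q₀ ((w.1 : Matrix ι ι F₀) *ᵥ v) = c * Q₀ v) →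
          (ssK (goSS Q ⟨jI ι j w.1, jI_mem hext₀ w.2⟩) : F) = j c := by
        intro w c hw
        rw [ssK_ext hext₀ (exists_ne_q hnd₀ (by omega))]
        congr 1
        exact ssK_eq (exists_ne_q hnd₀ (by omega)) _ hw
      obtain ⟨w, hw1, hw2⟩ : ∃ w : Geo.quadSimilarityGroup (F := F₀) ⇑Q₀, (∀ v, Q₀ ((w.1 : Matrix ι ι F₀) *ᵥ v) = d * Q₀ v) ∧ jI ι j w.1 ∈ mS i P := by
        by_cases h5 : jI ι j g₀ ∈ mS i P
        · exact ⟨⟨g₀, hg₀m⟩, hg₀, h5⟩
        · obtain ⟨wu, hwu⟩ := exists_goSS (ogSS Q₀ (H5.refl (show Q₀ u₀ ≠ 0 by rw [hu₀]; exact one_ne_zero))) rfl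
          refine ⟨⟨g₀, hg₀m⟩ * wu, fun v => ?_, ?_⟩
          · show Q₀ (((g₀ * wu.1 : GL ι F₀) : Matrix ι ι F₀) *ᵥ v) = _
            rw [Units.val_mul, ← Matrix.mulVec_mulVec, hg₀]
            have : (wu.1 : Matrix ι ι F₀) *ᵥ v = (goSS Q₀ wu).1.1 v := rfl
            rw [this, hwu, ogSS_apply, og_q]
          · have h6 := mS_mul hext P ⟨jI ι j g₀, jI_mem hext₀ hg₀m⟩ ⟨jI ι j wu.1, jI_mem hext₀ wu.2⟩
            have h7 : jI ι j wu.1 ∉ mS i P := by
              apply mS_refl hext P ⟨jI ι j wu.1, jI_mem hext₀ wu.2⟩ hu'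
              have h8 := goSS_of_JR (j := j) (Q := Q) ⟨jI ι j wu.1, jI_mem hext₀ wu.2⟩ rfl (c := 1) (g₀ := H5.refl (show Q₀ u₀ ≠ 0 by rw [hu₀]; exact one_ne_zero))
                (fun v => by
                  have := congrArg (fun p : SSG Q₀ => p.1.1 v) hwu
                  rw [one_smul]; exact this) ju
              rw [h8, map_one, map_one, one_mul]
            show jI ι j (g₀ * wu.1) ∈ mS i P
            rw [map_mul]
            exact h6.mpr ⟨fun h => absurd h h5, fun h => absurd h h7⟩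
      set G : Geo.quadSimilarityGroup (F := F) ⇑Q := ⟨jI ι j w.1, jI_mem hext₀ w.2⟩ with hG
      have hGm : G.1 ∈ mS i P := hw2
      have hGs : aE Q (goSS Q G) ∈ HS Q (mS i P) ⊓ Subgroup.centralizer {aE Q (stdS Q σ hQσ)} := by
        refine ⟨mem_HS.mpr ⟨G, hGm, rfl⟩, Subgroup.mem_centralizer_singleton_iff.mpr ?_⟩
        rw [← map_mul (aE Q), ← map_mul (aE Q), std_goSS]
        congr 3
        apply Subtype.ext
        exact (glI_jI hj' w.1).symm
      have hne : ∃ x, Q x ≠ 0 := exists_ne_q hnd (by omega)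
      have h7 : IsSquare (ssK (goSS Q (g * G⁻¹)) : F) := by
        have h8 : (ssK (goSS Q (g * G⁻¹)) : F) * ssK (goSS Q G) = ssK (goSS Q g) := by
          have h9 : goSS Q g = goSS Q (g * G⁻¹) * goSS Q G := by rw [← map_mul, inv_mul_cancel_right]
          conv_rhs => rw [h9, ssK_mul hne]
          rfl
        have h10 := hκ w d hw1
        rw [← hG] at h10
        have h11 : ¬ IsSquare (ssK (goSS Q G) : F) := by rw [h10]; exact nsd
        by_contra h12
        apply hs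
        rw [← h8]
        exact nonsq_mul h2 h12 h11
      have h8 := hsqc (g * G⁻¹) ((mS i P).mul_mem hg ((mS i P).inv_mem hGm)) h7
      have h9 := Subgroup.mul_mem _ h8 (Subgroup.mem_sup_right (S := Inn (PE Q)) hGs)
      rwa [← map_mul, ← map_mul, inv_mul_cancel_right] at h9

end split

end Cfsg.Agent.H17
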