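import Mathlib
import Cfsg.Agent.H17.Minus6

set_option autoImplicit false

/-! Field automorphisms of prime order of minus type groups. -/

namespace Cfsg.Agent.H17

open Cfsg Cfsg.Agent.H5 Module
open scoped MatrixGroups Matrix

universe u v

theorem field_minus' {F : Type u} [Field F] [Finite F] {m : ℕ} (hm : 3 ≤ m) {p f : ℕ} [Fact p.Prime] (hF : Nat.card F = p ^ f) {a b : F}
    (hab : ∀ z₁ z₂ : F, z₁ ^ 2 + a * z₁ * z₂ + b * z₂ ^ 2 = 0 → z₁ = 0 ∧ z₂ = 0) (x : MulAut (POmega F ⇑(qMinus m F a b)))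
    (hx : ∃ (a' b' : F) (ψ : POmega F ⇑(qMinus m F a b) ≃* POmega F ⇑(qMinus m F a' b')) (σ : F ≃+* F),
      (∀ z₁ z₂ : F, z₁ ^ 2 + a' * z₁ * z₂ + b' * z₂ ^ 2 = 0 → z₁ = 0 ∧ z₂ = 0) ∧
      σ ≠ RingEquiv.refl F ∧ σ a' = a' ∧ σ b' = b' ∧
      IsFieldAutPOmegaOf ⇑(qMinus m F a' b') σ ((ψ.symm.trans x).trans ψ))
    {r : ℕ} (hr : r.Prime) (hxr : orderOf x = r) (F₀ : Type v) [Field F₀] [Finite F₀] (hF₀ : Nat.card F₀ = p ^ (f / r)) :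
    Odd r ∧ r ∣ f ∧ (∃ a₀ b₀ : F₀, (∀ z₁ z₂ : F₀, z₁ ^ 2 + a₀ * z₁ * z₂ + b₀ * z₂ ^ 2 = 0 → z₁ = 0 ∧ z₂ = 0) ∧
      Nonempty (↥(autSubgroupOf (fun β : POmega F ⇑(qMinus m F a b) ≃* _ => ∃ g : GL ((Fin m ⊕ Fin m) ⊕ Fin 2) F, g ∈ Geo.quadSimilarityGroup (F := F) ⇑(qMinus m F a b) ∧
      PreservesSingularClassesMinus m a b (g : Matrix ((Fin m ⊕ Fin m) ⊕ Fin 2) ((Fin m ⊕ Fin m) ⊕ Fin 2) F) ∧
      IsInducedBySemilinearPOmega ⇑(qMinus m F a b) g (RingEquiv.refl F) β) ⊓ Subgroup.centralizer {x}) ≃*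
        ↥(autSubgroupOf (fun β : POmega F₀ ⇑(qMinus m F₀ a₀ b₀) ≃* _ => ∃ g : GL ((Fin m ⊕ Fin m) ⊕ Fin 2) F₀, g ∈ Geo.quadSimilarityGroup (F := F₀) ⇑(qMinus m F₀ a₀ b₀) ∧
      PreservesSingularClassesMinus m a₀ b₀ (g : Matrix ((Fin m ⊕ Fin m) ⊕ Fin 2) ((Fin m ⊕ Fin m) ⊕ Fin 2) F₀) ∧
      IsInducedBySemilinearPOmega ⇑(qMinus m F₀ a₀ b₀) g (RingEquiv.refl F₀) β)))) ∧
      splitClassCount (autSubgroupOf (fun β : POmega F ⇑(qMinus m F a b) ≃* _ => ∃ g : GL ((Fin m ⊕ Fin m) ⊕ Fin 2) F, g ∈ Geo.quadSimilarityGroup (F := F) ⇑(qMinus m F a b) ∧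
      PreservesSingularClassesMinus m a b (g : Matrix ((Fin m ⊕ Fin m) ⊕ Fin 2) ((Fin m ⊕ Fin m) ⊕ Fin 2) F) ∧
      IsInducedBySemilinearPOmega ⇑(qMinus m F a b) g (RingEquiv.refl F) β)) (Inn (POmega F ⇑(qMinus m F a b))) x = 1 := by
  have hn : 5 ≤ Fintype.card ((Fin m ⊕ Fin m) ⊕ Fin 2) := by rw [card_minus_ι]; omega
  have hn' : 5 ≤ finrank F ((Fin m ⊕ Fin m) ⊕ Fin 2 → F) := semi_card (F := F) hn
  have hnd := nd_minus (m := m) hab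
  have hne : ∃ x, qMinus m F a b x ≠ 0 := exists_ne_q hnd (by omega)
  obtain ⟨K, _, _, hK2⟩ := exists_quad_ext F
  haveI : FiniteDimensional F K := FiniteDimensional.of_finrank_eq_succ hK2
  haveI : Finite K := Module.finite_of_finite F
  have P := PT_ext hK2 hab m
  have hsq : (2 : F) ≠ 0 → ∀ x : F, IsSquare (algebraMap F K x) := fun h20 x => sq_quad hK2 h20 x
  obtain ⟨q, hp1, hp2⟩ := field_form_minus hab (by omega) hn hx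
  have hord : ∀ y : MulAut (POmega F ⇑(qMinus m F a b)), orderOf (MulAut.congr (pomEquiv (nd_minus hab) hn) y) = orderOf y := fun y =>
      orderOf_injective (MulAut.congr (pomEquiv (nd_minus hab) hn)).toMonoidHom (MulAut.congr (pomEquiv (nd_minus hab) hn)).injective y
  have hxr' : aE (qMinus m F a b) q ^ r = 1 := by rw [← hp2, ← hxr, ← hord, pow_orderOf_eq_one]
  have hτ := ss_order hnd hn' hr hxr' hp1
  obtain ⟨y, hy⟩ := ss_normalize hnd hn' q hτ hr.pos hxr'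
  obtain ⟨s, hs⟩ : ∃ s, s = scSS _ y * q := ⟨_, rfl⟩
  rw [← hs] at hy
  have hs2 : s.1.2 = q.1.2 := by rw [hs]; show 1 * q.1.2 = q.1.2; rw [one_mul]
  have hsa : aE _ s = aE _ q := by rw [hs, map_mul, aE_sc hnd hn', one_mul]
  rw [← hs2] at hτ
  rw [← hsa] at hp2
  have hodd : Odd r := by
    rcases hr.eq_two_or_odd' with h | h
    · subst h
      exact absurd (no_two_minus hab s hy hτ (by omega)) id
    · exact h
  obtain ⟨hrf, j, hj⟩ := exists_fixed_emb hF s.1.2 hτ F₀ hF₀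
  obtain ⟨a₀, b₀, hab₀⟩ := exists_ab (F := F₀)
  have hnd₀ := nd_minus (m := m) hab₀
  have hj' : ∀ y, s.1.2 (j y) = j y := fun y => (hj _).mpr ⟨y, rfl⟩
  obtain ⟨B, e, hB, hBe⟩ := std_of_zn hne hnd (card_minus_ι m) s hτ hr.pos hj hy (qMinus_jV (m := m) j a₀ b₀) hnd₀ (by
    intro Q₀ β d D
    have hfr : finrank F₀ ((Fin m ⊕ Fin m) ⊕ Fin 2 → F₀) = finrank F ((Fin m ⊕ Fin m) ⊕ Fin 2 → F) := by
      rw [fr_minus, fr_minus]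
    apply class_even_ts (m + 1) hnd₀ (D.nd hnd) (fr_minus F₀ m) (fr_minus F₀ m)
    refine ⟨fun h => absurd h (no_ts_minus hab₀), ?_⟩
    rintro ⟨U, hU, hUm⟩
    exact absurd ⟨_, D.bc_TS hU, (D.bc_finrank hfr U).trans hUm⟩ (no_ts_minus hab))
  have habs : ∀ z₁ z₂ : F, z₁ ^ 2 + j a₀ * z₁ * z₂ + j b₀ * z₂ ^ 2 = 0 → z₁ = 0 ∧ z₂ = 0 := by
    intro z₁ z₂ hz
    by_contra hcon
    obtain ⟨E, hE, hEm⟩ := exists_ts_of_zero (m := m) hz hcon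
    exact no_ts_minus hab ⟨_, (simGL B e hBe).TS_map hE, by
      rw [← hEm]; exact LinearEquiv.finrank_map_eq (simGL B e hBe).φ E⟩
  have hnds := nd_minus (m := m) habs
  have Ps := PT_ext hK2 habs m
  have hQσ : ∀ x, qMinus m F (j a₀) (j b₀) (svI s.1.2 x) = s.1.2 (qMinus m F (j a₀) (j b₀) x) := qMinus_svI s.1.2 (hj' _) (hj' _)
  have hstd : MulAut.congr (simGL B e hBe).pe (aE _ (stdS (qMinus m F (j a₀) (j b₀)) s.1.2 hQσ)) = aE _ s := by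
    rw [Sim.congr_pe, std_ss hBe hB]
  refine ⟨hodd, hrf, ⟨a₀, b₀, hab₀, ?_⟩, ?_⟩
  · obtain ⟨e1⟩ := cent_equiv' (MulAut.congr (pomEquiv hnd hn)) (inndiagMinus_iff hab (by omega) P hsq hn) x
    rw [hp2] at e1
    obtain ⟨e2⟩ := cent_equiv' (MulAut.congr (simGL B e hBe).pe) (HS_simGL hBe (qMinus_jV (algebraMap F K) a b) (qMinus_jV (algebraMap F K) (j a₀) (j b₀)) P Ps)
      (aE _ (stdS (qMinus m F (j a₀) (j b₀)) s.1.2 hQσ))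
    rw [hstd] at e2
    obtain ⟨K₀, _, _, hK₀⟩ := exists_quad_ext F₀
    haveI : FiniteDimensional F₀ K₀ := FiniteDimensional.of_finrank_eq_succ hK₀
    haveI : Finite K₀ := Module.finite_of_finite F₀
    have P₀ := PT_ext hK₀ hab₀ m
    have hsq₀ : (2 : F₀) ≠ 0 → ∀ x : F₀, IsSquare (algebraMap F₀ K₀ x) := fun h20 x => sq_quad hK₀ h20 x
    obtain ⟨e3⟩ := cent_std hnds hn' hτ hr.pos hj hQσ (qMinus_jV j a₀ b₀) (mS (algebraMap F K) Ps) (mS (algebraMap F₀ K₀) P₀)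
      (fun c => sI_mem_mS Ps c) (by
        intro g hg
        rw [mem_mS_cr (qMinus_jV (algebraMap F₀ K₀) a₀ b₀) hnd₀ hn (card_minus_ι m) P₀ hsq₀ ⟨g, hg⟩,
          mem_mS_cr (qMinus_jV (algebraMap F K) (j a₀) (j b₀)) hnds hn (card_minus_ι m) Ps hsq ⟨jI _ j g, jI_mem (qMinus_jV j a₀ b₀) hg⟩,
          cr_ext (qMinus_jV j a₀ b₀) hnd₀ hn ⟨g, hg⟩])
    obtain ⟨e4⟩ := sub_equiv (MulAut.congr (pomEquiv hnd₀ hn)) (inndiagMinus_iff hab₀ (by omega) P₀ hsq₀ hn)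
    exact ⟨e1.trans (e2.symm.trans (e3.trans e4.symm))⟩
  · rw [split_equiv (MulAut.congr (pomEquiv hnd hn)) (inndiagMinus_iff hab (by omega) P hsq hn) (inn_iff hnd hn), hp2, ← hstd,
      ← split_equiv (MulAut.congr (simGL B e hBe).pe) (HS_simGL hBe (qMinus_jV (algebraMap F K) a b) (qMinus_jV (algebraMap F K) (j a₀) (j b₀)) P Ps)
        (simGL B e hBe).inn_iff]
    apply split_std_even (qMinus_jV j a₀ b₀) (qMinus_jV (algebraMap F K) (j a₀) (j b₀)) hnds hn (card_minus_ι m) Ps hsq hτ hodd hj hQσ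
    intro c hc
    obtain ⟨S, hS⟩ := exists_sim_minus (m := m) hab₀ hab₀ (Units.mk0 c hc)
    exact ⟨S.φ.toLinearMap, fun x => by
      have := S.h x
      rw [hS] at this
      exact this⟩

theorem field_minus {F : Type u} [Field F] [Finite F] {m : ℕ} (hm : 3 ≤ m) {p f : ℕ} [Fact p.Prime] (hF : Nat.card F = p ^ f) {a b : F}
    (hab : ∀ z₁ z₂ : F, z₁ ^ 2 + a * z₁ * z₂ + b * z₂ ^ 2 = 0 → z₁ = 0 ∧ z₂ = 0) (Qf : F → F → ((Fin m ⊕ Fin m) ⊕ Fin 2 → F) → F)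
    (hQf : Qf = fun a b => ⇑(qMinus m F a b)) (x : MulAut (POmega F (Qf a b)))
    (hx : ∃ (a' b' : F) (ψ : POmega F (Qf a b) ≃* POmega F (Qf a' b')) (σ : F ≃+* F),
      (∀ z₁ z₂ : F, z₁ ^ 2 + a' * z₁ * z₂ + b' * z₂ ^ 2 = 0 → z₁ = 0 ∧ z₂ = 0) ∧
      σ ≠ RingEquiv.refl F ∧ σ a' = a' ∧ σ b' = b' ∧
      IsFieldAutPOmegaOf (Qf a' b') σ ((ψ.symm.trans x).trans ψ))
    {r : ℕ} (hr : r.Prime) (hxr : orderOf x = r) (F₀ : Type v) [Field F₀] [Finite F₀] (hF₀ : Nat.card F₀ = p ^ (f / r))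
    (Qf₀ : F₀ → F₀ → ((Fin m ⊕ Fin m) ⊕ Fin 2 → F₀) → F₀) (hQf₀ : Qf₀ = fun a b => ⇑(qMinus m F₀ a b)) :
    Odd r ∧ r ∣ f ∧ (∃ a₀ b₀ : F₀, (∀ z₁ z₂ : F₀, z₁ ^ 2 + a₀ * z₁ * z₂ + b₀ * z₂ ^ 2 = 0 → z₁ = 0 ∧ z₂ = 0) ∧
      Nonempty (↥(autSubgroupOf (fun β : POmega F (Qf a b) ≃* _ => ∃ g : GL ((Fin m ⊕ Fin m) ⊕ Fin 2) F, g ∈ Geo.quadSimilarityGroup (F := F) (Qf a b) ∧
      PreservesSingularClassesMinus m a b (g : Matrix ((Fin m ⊕ Fin m) ⊕ Fin 2) ((Fin m ⊕ Fin m) ⊕ Fin 2) F) ∧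
      IsInducedBySemilinearPOmega (Qf a b) g (RingEquiv.refl F) β) ⊓ Subgroup.centralizer {x}) ≃*
        ↥(autSubgroupOf (fun β : POmega F₀ (Qf₀ a₀ b₀) ≃* _ => ∃ g : GL ((Fin m ⊕ Fin m) ⊕ Fin 2) F₀, g ∈ Geo.quadSimilarityGroup (F := F₀) (Qf₀ a₀ b₀) ∧
      PreservesSingularClassesMinus m a₀ b₀ (g : Matrix ((Fin m ⊕ Fin m) ⊕ Fin 2) ((Fin m ⊕ Fin m) ⊕ Fin 2) F₀) ∧
      IsInducedBySemilinearPOmega (Qf₀ a₀ b₀) g (RingEquiv.refl F₀) β)))) ∧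
      splitClassCount (autSubgroupOf (fun β : POmega F (Qf a b) ≃* _ => ∃ g : GL ((Fin m ⊕ Fin m) ⊕ Fin 2) F, g ∈ Geo.quadSimilarityGroup (F := F) (Qf a b) ∧
      PreservesSingularClassesMinus m a b (g : Matrix ((Fin m ⊕ Fin m) ⊕ Fin 2) ((Fin m ⊕ Fin m) ⊕ Fin 2) F) ∧
      IsInducedBySemilinearPOmega (Qf a b) g (RingEquiv.refl F) β)) (Inn (POmega F (Qf a b))) x = 1 := by
  subst hQf
  subst hQf₀
  exact field_minus' hm hF hab x hx hr hxr F₀ hF₀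

end Cfsg.Agent.H17
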