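import Mathlib
import Cfsg.Agent.H17.Minus7

set_option autoImplicit false

/-! The diagonal torus of the plus type form and its spinor norms. -/

namespace Cfsg.Agent.H17

open Cfsg Cfsg.Agent.H5 Module

section torus

variable {F : Type*} [Field F] {m : ℕ}

theorem qPlus_sum (x : Fin m ⊕ Fin m → F) : qPlus m F x = ∑ i, x (Sum.inl i) * x (Sum.inr i) := by
  rw [qPlus_coe]; rfl

/-- the diagonal torus -/
def tor (m : ℕ) (F : Type*) [Field F] : (Fin m → Fˣ) →* OG (qPlus m F) where
  toFun t := ⟨{ toFun := fun x => Sum.elim (fun i => (t i : F) * x (Sum.inl i)) (fun i => ((t i)⁻¹ : Fˣ) * x (Sum.inr i))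
                map_add' := fun x y => by funext i; rcases i with i | i <;> exact mul_add _ _ _
                map_smul' := fun a x => by
                  funext i
                  rcases i with i | i
                  · show (t i : F) * (a * x (Sum.inl i)) = a * ((t i : F) * x (Sum.inl i)); ring
                  · show ((t i)⁻¹ : Fˣ) * (a * x (Sum.inr i)) = a * (((t i)⁻¹ : Fˣ) * x (Sum.inr i)); ring
                invFun := fun x => Sum.elim (fun i => ((t i)⁻¹ : Fˣ) * x (Sum.inl i)) (fun i => (t i : F) * x (Sum.inr i))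
                left_inv := fun x => by
                  funext i
                  rcases i with i | i
                  · show (((t i)⁻¹ : Fˣ) : F) * ((t i : F) * x (Sum.inl i)) = x (Sum.inl i)
                    rw [← mul_assoc, Units.inv_mul, one_mul]
                  · show (t i : F) * ((((t i)⁻¹ : Fˣ) : F) * x (Sum.inr i)) = x (Sum.inr i)
                    rw [← mul_assoc, Units.mul_inv, one_mul]
                right_inv := fun x => by
                  funext i
                  rcases i with i | i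
                  · show (t i : F) * ((((t i)⁻¹ : Fˣ) : F) * x (Sum.inl i)) = x (Sum.inl i)
                    rw [← mul_assoc, Units.mul_inv, one_mul]
                  · show (((t i)⁻¹ : Fˣ) : F) * ((t i : F) * x (Sum.inr i)) = x (Sum.inr i)
                    rw [← mul_assoc, Units.inv_mul, one_mul] }, fun x => by
      rw [qPlus_sum, qPlus_sum]
      apply Finset.sum_congr rfl
      intro i _
      show ((t i : F) * x (Sum.inl i)) * ((((t i)⁻¹ : Fˣ) : F) * x (Sum.inr i)) = _
      have := Units.mul_inv (t i)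
      linear_combination x (Sum.inl i) * x (Sum.inr i) * this⟩
  map_one' := og_ext fun x => by
    funext i
    rcases i with i | i
    · show ((1 : Fˣ) : F) * x (Sum.inl i) = x (Sum.inl i)
      rw [Units.val_one, one_mul]
    · show (((1 : Fˣ)⁻¹ : Fˣ) : F) * x (Sum.inr i) = x (Sum.inr i)
      rw [inv_one, Units.val_one, one_mul]
  map_mul' s t := og_ext fun x => by
    funext i
    rcases i with i | i
    · show ((s i * t i : Fˣ) : F) * x (Sum.inl i) = (s i : F) * ((t i : F) * x (Sum.inl i))
      rw [Units.val_mul, mul_assoc]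
    · show (((s i * t i)⁻¹ : Fˣ) : F) * x (Sum.inr i) = (((s i)⁻¹ : Fˣ) : F) * ((((t i)⁻¹ : Fˣ) : F) * x (Sum.inr i))
      rw [mul_inv, Units.val_mul, mul_assoc]

theorem tor_inl (t : Fin m → Fˣ) (x : Fin m ⊕ Fin m → F) (i : Fin m) : tor m F t x (Sum.inl i) = t i * x (Sum.inl i) := rfl

theorem tor_inr (t : Fin m → Fˣ) (x : Fin m ⊕ Fin m → F) (i : Fin m) : tor m F t x (Sum.inr i) = ((t i)⁻¹ : Fˣ) * x (Sum.inr i) := rfl

/-- the vector `e_i - t f_i` -/
def efv (i : Fin m) (t : F) : Fin m ⊕ Fin m → F := Pi.single (Sum.inl i) 1 - t • Pi.single (Sum.inr i) 1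

theorem efv_inl (i : Fin m) (t : F) (k : Fin m) : efv i t (Sum.inl k) = if k = i then 1 else 0 := by
  unfold efv
  rw [Pi.sub_apply, Pi.smul_apply, Pi.single_apply, Pi.single_apply]
  simp

theorem efv_inr (i : Fin m) (t : F) (k : Fin m) : efv i t (Sum.inr k) = if k = i then -t else 0 := by
  unfold efv
  rw [Pi.sub_apply, Pi.smul_apply, Pi.single_apply, Pi.single_apply]
  by_cases h : k = i
  · subst h; simp
  · simp [h]

theorem q_efv (i : Fin m) (t : F) : qPlus m F (efv i t) = -t := by
  rw [qPlus_sum, Finset.sum_eq_single i]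
  · rw [efv_inl, efv_inr, if_pos rfl, if_pos rfl, one_mul]
  · intro k _ hk
    rw [efv_inl, if_neg hk, zero_mul]
  · intro h; exact absurd (Finset.mem_univ _) h

theorem q_efv_ne (i : Fin m) {t : F} (ht : t ≠ 0) : qPlus m F (efv i t) ≠ 0 := by
  rw [q_efv]; exact neg_ne_zero.mpr ht

theorem pB_efv (i : Fin m) (t : F) (x : Fin m ⊕ Fin m → F) : pB (qPlus m F) (efv i t) x = x (Sum.inr i) - t * x (Sum.inl i) := by
  rw [pB_plus, Finset.sum_eq_single i]
  · rw [efv_inl, efv_inr, if_pos rfl, if_pos rfl]; ring
  · intro k _ hk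
    rw [efv_inl, efv_inr, if_neg hk, if_neg hk]; ring
  · intro h; exact absurd (Finset.mem_univ _) h

/-- the reflection in `e_i - t f_i` -/
theorem refl_efv (i : Fin m) {t : F} (ht : t ≠ 0) (x : Fin m ⊕ Fin m → F) :
    refl (q_efv_ne i ht) x = Function.update (Function.update x (Sum.inl i) (t⁻¹ * x (Sum.inr i))) (Sum.inr i) (t * x (Sum.inl i)) := by
  rw [refl_apply, q_efv, pB_efv]
  funext k
  rw [Pi.sub_apply, Pi.smul_apply, smul_eq_mul]
  rcases k with k | k
  · rw [efv_inl, Function.update_of_ne (by simp)]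
    by_cases h : k = i
    · subst h
      rw [if_pos rfl, Function.update_self]
      field_simp
      ring
    · rw [if_neg h, Function.update_of_ne (by simpa using h)]
      ring
  · rw [efv_inr]
    by_cases h : k = i
    · subst h
      rw [if_pos rfl, Function.update_self]
      field_simp
      ring
    · rw [if_neg h, Function.update_of_ne (by simpa using h), Function.update_of_ne (by simp)]
      ring

theorem tor_single (i : Fin m) (c : Fˣ) : tor m F (Pi.mulSingle i c) = refl (q_efv_ne i (one_ne_zero (α := F))) * refl (q_efv_ne i c.ne_zero) := by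
  apply og_ext
  intro x
  show _ = refl (q_efv_ne i one_ne_zero) (refl (q_efv_ne i c.ne_zero) x)
  rw [refl_efv _ c.ne_zero, refl_efv _ one_ne_zero]
  funext k
  rcases k with k | k
  · rw [tor_inl, Function.update_of_ne (by simp)]
    by_cases h : k = i
    · subst h
      rw [Function.update_self, Pi.mulSingle_eq_same, Function.update_self]
      simp
    · rw [Pi.mulSingle_eq_of_ne h, Function.update_of_ne (by simpa using h), Function.update_of_ne (by simp),
        Function.update_of_ne (by simpa using h)]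
      simp
  · rw [tor_inr]
    by_cases h : k = i
    · subst h
      rw [Function.update_self, Pi.mulSingle_eq_same, Function.update_of_ne (by simp), Function.update_self]
      simp
    · rw [Pi.mulSingle_eq_of_ne h, Function.update_of_ne (by simpa using h), Function.update_of_ne (by simp),
        Function.update_of_ne (by simpa using h), Function.update_of_ne (by simp)]
      simp

theorem tor_dg (t : Fin m → Fˣ) : tor m F t ∈ DG (qPlus m F) := by
  have h1 : t ∈ (DG (qPlus m F)).comap (tor m F) := by
    rw [← Finset.univ_prod_mulSingle t]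
    apply Subgroup.prod_mem
    intro i _
    rw [Subgroup.mem_comap, tor_single]
    exact dg_mem _ _
  exact h1

end torus

section spin

variable {F : Type*} [Field F] [Finite F] {m : ℕ}

theorem tor_single_eg (hm : 3 ≤ m) (i : Fin m) {c : Fˣ} (hc : IsSquare (c : F)) : tor m F (Pi.mulSingle i c) ∈ EG (qPlus m F) := by
  rw [tor_single]
  apply uv_mem_eg nd_plus (by rw [fr_plus]; omega)
  rw [q_efv, q_efv]
  obtain ⟨s, hs⟩ := hc
  exact ⟨s, by rw [hs]; ring⟩

theorem tor_single_not (h2 : (2 : F) ≠ 0) (hm : 3 ≤ m) (i : Fin m) {c : Fˣ} (hc : ¬ IsSquare (c : F)) :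
    tor m F (Pi.mulSingle i c) ∉ EG (qPlus m F) := by
  rw [tor_single]
  apply uv_not_mem_eg h2 nd_plus (by rw [fr_plus]; omega)
  rw [q_efv, q_efv]
  rintro ⟨s, hs⟩
  exact hc ⟨s, by linear_combination hs⟩

/-- the spinor norm on the torus -/
theorem tor_mem_iff (h2 : (2 : F) ≠ 0) (hm : 3 ≤ m) (t : Fin m → Fˣ) : tor m F t ∈ EG (qPlus m F) ↔ IsSquare ((∏ i, t i : Fˣ) : F) := by
  set N : Subgroup (Fin m → Fˣ) := (EG (qPlus m F)).comap (tor m F) with hN
  have hnd : ND (qPlus m F) := nd_plus
  have hn : 5 ≤ finrank F (Fin m ⊕ Fin m → F) := by rw [fr_plus]; omega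
  let i₀ : Fin m := ⟨0, by omega⟩
  have hsame : ∀ (i : Fin m) (c : Fˣ), (Pi.mulSingle i c)⁻¹ * Pi.mulSingle i₀ c ∈ N := by
    intro i c
    show tor m F _ ∈ EG _
    rw [map_mul, map_inv]
    by_cases hc : IsSquare (c : F)
    · exact mul_mem (inv_mem (tor_single_eg hm i hc)) (tor_single_eg hm i₀ hc)
    · -- both nontrivial in DG / EG
      have h1 : tor m F (Pi.mulSingle i₀ c) * (tor m F (Pi.mulSingle i c))⁻¹ ∈ EG (qPlus m F) := by
        have h3 := tor_single_not h2 hm i hc
        rw [tor_single] at h3 ⊢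
        rw [tor_single i c]
        have h4 : ¬ IsSquare (qPlus m F (efv i 1) * qPlus m F (efv i (c : F))) := by
          rw [q_efv, q_efv]
          rintro ⟨s, hs⟩
          exact hc ⟨s, by linear_combination hs⟩
        rcases dg_cases h2 hnd hn (q_efv_ne i (one_ne_zero (α := F))) (q_efv_ne i c.ne_zero) h4
          (dg_mem (q_efv_ne i₀ (one_ne_zero (α := F))) (q_efv_ne i₀ c.ne_zero)) with h5 | h5
        · have := tor_single_not h2 hm i₀ hc
          rw [tor_single] at this
          exact absurd h5 this
        · exact h5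
      rw [← map_inv, ← map_mul] at h1 ⊢
      rwa [mul_comm] at h1
  have hprod : (t : Fin m → Fˣ)⁻¹ * Pi.mulSingle i₀ (∏ i, t i) ∈ N := by
    rw [← QuotientGroup.eq]
    conv_lhs => rw [← Finset.univ_prod_mulSingle t]
    have h3 : (Pi.mulSingle i₀ (∏ i, t i) : Fin m → Fˣ) = ∏ i, Pi.mulSingle i₀ (t i) :=
      map_prod (MonoidHom.mulSingle (fun _ : Fin m => Fˣ) i₀) t Finset.univ
    rw [h3]
    show QuotientGroup.mk' N _ = QuotientGroup.mk' N _
    rw [map_prod, map_prod]
    apply Finset.prod_congr rfl
    intro i _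
    exact QuotientGroup.eq.mpr (hsame i (t i))
  have h4 : t ∈ N ↔ Pi.mulSingle i₀ (∏ i, t i) ∈ N := by
    constructor
    · intro h
      have := N.mul_mem h hprod
      rwa [mul_inv_cancel_left] at this
    · intro h
      have := N.mul_mem h (N.inv_mem hprod)
      rwa [mul_inv_rev, inv_inv, mul_inv_cancel_left] at this
  show t ∈ N ↔ _
  rw [h4]
  constructor
  · intro h
    by_contra hc
    exact tor_single_not h2 hm i₀ hc h
  · intro h
    exact tor_single_eg hm i₀ h

theorem neg_eq_tor : ogNeg (qPlus m F) = tor m F (fun _ => -1) := by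
  apply og_ext
  intro x
  rw [ogNeg_apply]
  funext k
  rcases k with k | k
  · rw [tor_inl]; simp
  · rw [tor_inr]; simp

theorem neg_plus_iff (h2 : (2 : F) ≠ 0) (hm : 3 ≤ m) : ogNeg (qPlus m F) ∈ EG (qPlus m F) ↔ IsSquare ((-1 : F) ^ m) := by
  rw [neg_eq_tor, tor_mem_iff h2 hm]
  simp

end spin

end Cfsg.Agent.H17
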