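import Mathlib
import Cfsg.Agent.H5.OrthNeg
import Cfsg.Agent.H5.OrthIndex2

set_option autoImplicit false

/-! The spinor norm criterion for products of reflections, all characteristics. -/

namespace Cfsg.Agent.H17

open Cfsg Cfsg.Agent.H5 Module

section chi

variable {F : Type*} [Field F] [Finite F]

theorem sq_mul_iff {a b : F} (ha : a ≠ 0) (hb : b ≠ 0) : IsSquare (a * b) ↔ (IsSquare a ↔ IsSquare b) := by
  by_cases h2 : (2 : F) = 0
  · exact ⟨fun _ => ⟨fun _ => sq_char_two h2 _, fun _ => sq_char_two h2 _⟩, fun _ => sq_char_two h2 _⟩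
  · by_cases h : IsSquare a
    · by_cases h' : IsSquare b
      · exact ⟨fun _ => ⟨fun _ => h', fun _ => h⟩, fun _ => h.mul h'⟩
      · have := sq_mul_nonsq h ha h'
        exact ⟨fun h3 => absurd h3 this, fun h3 => absurd (h3.mp h) h'⟩
    · by_cases h' : IsSquare b
      · have := sq_mul_nonsq h' hb h
        rw [mul_comm] at this
        exact ⟨fun h3 => absurd h3 this, fun h3 => absurd (h3.mpr h') h⟩
      · exact ⟨fun _ => ⟨fun h3 => absurd h3 h, fun h3 => absurd h3 h'⟩, fun _ => nonsq_mul h2 h h'⟩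

/-- the quadratic character -/
noncomputable def chi (F : Type*) [Field F] [Finite F] : Fˣ →* ℤˣ :=
  haveI := Classical.propDecidable
  { toFun := fun u => if IsSquare (u : F) then 1 else -1
    map_one' := by rw [if_pos]; exact ⟨1, by simp⟩
    map_mul' := fun a b => by
      have h := sq_mul_iff (a := (a : F)) (b := (b : F)) a.ne_zero b.ne_zero
      rw [← Units.val_mul] at h
      by_cases h1 : IsSquare (a : F) <;> by_cases h2 : IsSquare (b : F)
      · rw [if_pos h1, if_pos h2, if_pos (h.mpr ⟨fun _ => h2, fun _ => h1⟩)]; rfl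
      · rw [if_pos h1, if_neg h2, if_neg (fun h3 => h2 ((h.mp h3).mp h1))]; rfl
      · rw [if_neg h1, if_pos h2, if_neg (fun h3 => h1 ((h.mp h3).mpr h2))]; rfl
      · rw [if_neg h1, if_neg h2, if_pos (h.mpr ⟨fun h3 => absurd h3 h1, fun h3 => absurd h3 h2⟩)]; rfl }

theorem chi_apply (u : Fˣ) [Decidable (IsSquare (u : F))] : chi F u = if IsSquare (u : F) then 1 else -1 := by
  unfold chi
  simp only [MonoidHom.coe_mk, OneHom.coe_mk]
  congr

theorem chi_eq_one {u : Fˣ} : chi F u = 1 ↔ IsSquare (u : F) := by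
  classical
  rw [chi_apply]
  by_cases h : IsSquare (u : F)
  · simp [h]
  · rw [if_neg h]
    exact ⟨fun h1 => absurd h1 (by decide), fun h1 => absurd h1 h⟩

theorem chi_eq_neg {u : Fˣ} : chi F u = -1 ↔ ¬ IsSquare (u : F) := by
  classical
  rw [chi_apply]
  by_cases h : IsSquare (u : F)
  · rw [if_pos h]
    exact ⟨fun h1 => absurd h1 (by decide), fun h1 => absurd h h1⟩
  · simp [h]

end chi

section list

variable {F V : Type*} [Field F] [AddCommGroup V] [Module F V] {Q : QuadraticForm F V}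

/-- product of reflections -/
noncomputable def lsp (l : List {v : V // Q v ≠ 0}) : OG Q := (l.map (fun v => refl v.2)).prod

/-- product of values -/
noncomputable def lq (l : List {v : V // Q v ≠ 0}) : Fˣ := (l.map (fun v => Units.mk0 (Q v.1) v.2)).prod

theorem lsp_nil : lsp ([] : List {v : V // Q v ≠ 0}) = 1 := rfl
theorem lq_nil : lq ([] : List {v : V // Q v ≠ 0}) = 1 := rfl

theorem lsp_cons (v : {v : V // Q v ≠ 0}) (l : List {v : V // Q v ≠ 0}) : lsp (v :: l) = refl v.2 * lsp l := by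
  simp [lsp]

theorem lq_cons (v : {v : V // Q v ≠ 0}) (l : List {v : V // Q v ≠ 0}) : lq (v :: l) = Units.mk0 (Q v.1) v.2 * lq l := by
  simp [lq]

theorem lsp_append (l l' : List {v : V // Q v ≠ 0}) : lsp (l ++ l') = lsp l * lsp l' := by simp [lsp]
theorem lq_append (l l' : List {v : V // Q v ≠ 0}) : lq (l ++ l') = lq l * lq l' := by simp [lq]

theorem lq_val (l : List {v : V // Q v ≠ 0}) : ((lq l : Fˣ) : F) = (l.map (fun v => Q v.1)).prod := by
  induction l with
  | nil => rfl
  | cons v l ih => rw [lq_cons, Units.val_mul, ih, List.map_cons, List.prod_cons]; rfl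

theorem lsp_mem (l : List {v : V // Q v ≠ 0}) : lsp l ∈ RG Q := by
  induction l with
  | nil => exact one_mem _
  | cons v l ih => rw [lsp_cons]; exact mul_mem (refl_mem v.2) ih

theorem lsp_reverse (l : List {v : V // Q v ≠ 0}) : lsp l.reverse = (lsp l)⁻¹ := by
  induction l with
  | nil => rw [List.reverse_nil, lsp_nil, inv_one]
  | cons v l ih => rw [List.reverse_cons, lsp_append, ih, lsp_cons, lsp_cons, lsp_nil, mul_one, _root_.mul_inv_rev, refl_inv]

theorem exists_lsp {g : OG Q} (hg : g ∈ RG Q) : ∃ l : List {v : V // Q v ≠ 0}, lsp l = g := by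
  unfold RG at hg
  induction hg using Subgroup.closure_induction with
  | mem x hx =>
    obtain ⟨v, hv, rfl⟩ := hx
    exact ⟨[⟨v, hv⟩], by rw [lsp_cons, lsp_nil, mul_one]⟩
  | one => exact ⟨[], rfl⟩
  | mul a b _ _ ha hb =>
    obtain ⟨l, rfl⟩ := ha
    obtain ⟨l', rfl⟩ := hb
    exact ⟨l ++ l', lsp_append l l'⟩
  | inv a _ ha =>
    obtain ⟨l, rfl⟩ := ha
    exact ⟨l.reverse, lsp_reverse l⟩

variable [FiniteDimensional F V]

theorem lsp_dg (hnd : ND Q) (l : List {v : V // Q v ≠ 0}) : lsp l ∈ DG Q ↔ Even l.length := by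
  have key : ∀ l : List {v : V // Q v ≠ 0}, (Even l.length → lsp l ∈ DG Q) ∧ (Odd l.length → ∀ (v : V) (hv : Q v ≠ 0), refl hv * lsp l ∈ DG Q) := by
    intro l
    induction l with
    | nil =>
      refine ⟨fun _ => one_mem _, fun h => ?_⟩
      simp at h
    | cons u l ih =>
      rw [List.length_cons]
      constructor
      · intro h
        rw [lsp_cons]
        exact ih.2 (by rcases Nat.even_or_odd l.length with h' | h'; · exact absurd h (by rw [Nat.not_even_iff_odd]; exact h'.add_one)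
                       · exact h') u.1 u.2
      · intro h v hv
        rw [lsp_cons, ← mul_assoc]
        refine mul_mem (dg_mem hv u.2) (ih.1 ?_)
        rcases Nat.even_or_odd l.length with h' | h'
        · exact h'
        · exact absurd h (by rw [Nat.not_odd_iff_even]; exact h'.add_one)
  refine ⟨fun h => ?_, (key l).1⟩
  by_contra hcon
  rw [Nat.not_even_iff_odd] at hcon
  have hne : ∃ v, Q v ≠ 0 := by
    cases l with
    | nil => simp at hcon
    | cons u l => exact ⟨u.1, u.2⟩
  obtain ⟨v, hv⟩ := hne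
  exact refl_notMem_dg hnd hv ((Subgroup.mul_mem_cancel_right _ h).mp ((key l).2 hcon v hv))

variable [Finite F]

theorem comm_eq_dg_two (h2 : (2 : F) = 0) (hnd : ND Q) (hrg : RG Q = ⊤) : commutator (OG Q) = DG Q := by
  apply le_antisymm
  · by_cases hne : ∃ v, Q v ≠ 0
    · obtain ⟨v, hv⟩ := hne
      exact comm_le_of_index_two (dg_index hnd hrg hv)
    · push Not at hne
      intro g _
      rw [nd_triv hnd hne g]
      exact one_mem _
  · unfold DG
    rw [Subgroup.closure_le]
    rintro g ⟨u, v, hu, hv, rfl⟩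
    have h1 := ab_refl_eq hnd hu hv (sq_char_two h2 _)
    have h3 : Abelianization.of (refl hu * refl hv) = 1 := by
      rw [map_mul, h1, ab_refl_sq]
    have h4 : (Abelianization.of : OG Q →* Abelianization (OG Q)).ker = commutator (OG Q) := Abelianization.ker_of _
    rw [SetLike.mem_coe, ← h4, MonoidHom.mem_ker]
    exact h3

/-- the spinor norm criterion -/
theorem lsp_comm (hnd : ND Q) (hn : (2 : F) ≠ 0 → 2 ≤ finrank F V) (hrg : RG Q = ⊤) (l : List {v : V // Q v ≠ 0}) :
    lsp l ∈ commutator (OG Q) ↔ Even l.length ∧ IsSquare ((lq l : Fˣ) : F) := by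
  by_cases h2 : (2 : F) = 0
  · rw [comm_eq_dg_two h2 hnd hrg, lsp_dg hnd]
    exact ⟨fun h => ⟨h, sq_char_two h2 _⟩, fun h => h.1⟩
  · haveI : Finite V := Module.finite_of_finite F
    obtain ⟨d, hd⟩ := exists_nonsq h2
    have hd0 : d ≠ 0 := by rintro rfl; exact hd IsSquare.zero
    rw [mem_comm_iff h2 hnd (hn h2) hd]
    have r1 : ∀ v : {v : V // Q v ≠ 0}, psi Q 1 (refl v.2) = -chi F (Units.mk0 (Q v.1) v.2) := by
      intro v
      have h := psi_refl h2 1 one_ne_zero v.2
      rw [one_mul] at h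
      by_cases hs : IsSquare (Q v.1)
      · rw [h.1 hs, chi_eq_one.mpr hs]
      · rw [h.2 hs, chi_eq_neg.mpr hs]; rfl
    have r2 : ∀ v : {v : V // Q v ≠ 0}, psi Q d (refl v.2) = chi F (Units.mk0 (Q v.1) v.2) := by
      intro v
      have h := psi_refl h2 d hd0 v.2
      by_cases hs : IsSquare (Q v.1)
      · rw [h.2 (by rw [mul_comm]; exact sq_mul_nonsq hs v.2 hd), chi_eq_one.mpr hs]
      · rw [h.1 (nonsq_mul h2 hd hs), chi_eq_neg.mpr hs]
    have e1 : ∀ l : List {v : V // Q v ≠ 0}, psi Q 1 (lsp l) = (-1) ^ l.length * chi F (lq l) := by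
      intro l
      induction l with
      | nil => rw [lsp_nil, lq_nil, map_one, map_one]; rfl
      | cons v l ih =>
        rw [lsp_cons, lq_cons, map_mul, map_mul, ih, r1, List.length_cons, pow_succ]
        rw [neg_mul, mul_neg_one, neg_mul, mul_left_comm]
    have e2 : ∀ l : List {v : V // Q v ≠ 0}, psi Q d (lsp l) = chi F (lq l) := by
      intro l
      induction l with
      | nil => rw [lsp_nil, lq_nil, map_one, map_one]
      | cons v l ih => rw [lsp_cons, lq_cons, map_mul, map_mul, ih, r2]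
    rw [e1, e2]
    constructor
    · rintro ⟨h3, h4⟩
      rw [h4, mul_one] at h3
      refine ⟨?_, chi_eq_one.mp h4⟩
      by_contra hodd
      rw [Nat.not_even_iff_odd] at hodd
      rw [hodd.neg_one_pow] at h3
      exact absurd h3 (by decide)
    · rintro ⟨h3, h4⟩
      rw [chi_eq_one.mpr h4, h3.neg_one_pow]
      exact ⟨rfl, rfl⟩

end list

section frozen

variable {F : Type*} [Field F] {ι : Type} [Fintype ι] [DecidableEq ι] {Q : QuadraticForm F (ι → F)}

theorem ogEquiv_eq_iff (g : isometryGroup F ⇑Q) (h : OG Q) :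
    ogEquiv Q g = h ↔ ∀ x, ((g : Matrix.GeneralLinearGroup ι F) : Matrix ι ι F).mulVec x = h x :=
  ⟨fun H x => by rw [← H]; rfl, fun H => og_ext H⟩

theorem omega_iff (g : isometryGroup F ⇑Q) : g ∈ Omega F ⇑Q ↔ ogEquiv Q g ∈ commutator (OG Q) :=
  mem_comm_equiv (ogEquiv Q) g

theorem exists_omega_iff (p : Matrix.GeneralLinearGroup ι F → Prop) :
    (∃ g : isometryGroup F ⇑Q, g ∈ Omega F ⇑Q ∧ p g) ↔ ∃ h ∈ commutator (OG Q), p ((ogEquiv Q).symm h) := by
  constructor
  · rintro ⟨g, h1, h2⟩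
    exact ⟨ogEquiv Q g, (omega_iff g).mp h1, by rw [MulEquiv.symm_apply_apply]; exact h2⟩
  · rintro ⟨h, h1, h2⟩
    exact ⟨(ogEquiv Q).symm h, by rw [omega_iff, MulEquiv.apply_symm_apply]; exact h1, h2⟩

theorem symm_mulVec (h : OG Q) (x : ι → F) : ((((ogEquiv Q).symm h : isometryGroup F ⇑Q) : Matrix.GeneralLinearGroup ι F) : Matrix ι ι F).mulVec x = h x := by
  have := (ogEquiv_eq_iff ((ogEquiv Q).symm h) h).mp (MulEquiv.apply_symm_apply _ _) x
  exact this

/-- with a prescribed matrix -/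
theorem exists_omega_mat (M : Matrix ι ι F) (h : OG Q) (hM : ∀ x, M.mulVec x = h x) :
    (∃ g : isometryGroup F ⇑Q, g ∈ Omega F ⇑Q ∧ ((g : Matrix.GeneralLinearGroup ι F) : Matrix ι ι F) = M) ↔ h ∈ commutator (OG Q) := by
  constructor
  · rintro ⟨k, h1, h2⟩
    have : ogEquiv Q k = h := (ogEquiv_eq_iff k h).mpr fun x => by rw [h2, hM]
    rw [← this]
    exact (omega_iff k).mp h1
  · intro h1
    refine ⟨(ogEquiv Q).symm h, by rw [omega_iff, MulEquiv.apply_symm_apply]; exact h1, ?_⟩
    apply Matrix.toLin'.injective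
    apply LinearMap.ext
    intro x
    rw [Matrix.toLin'_apply, Matrix.toLin'_apply, symm_mulVec, hM]

theorem lsp_pmap_mulVec (vs : List (ι → F)) (hvs : ∀ v ∈ vs, Q v ≠ 0) (x : ι → F) :
    ((vs.map (fun v => reflectionMatrix ⇑Q v)).prod).mulVec x = lsp (Q := Q) (vs.pmap (fun v hv => ⟨v, hv⟩) hvs) x := by
  induction vs with
  | nil =>
    show (1 : Matrix ι ι F).mulVec x = x
    exact Matrix.one_mulVec x
  | cons v vs ih =>
    rw [List.map_cons, List.prod_cons, List.pmap, lsp_cons, ← Matrix.mulVec_mulVec, ih (fun w hw => hvs w (List.mem_cons_of_mem v hw)),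
      reflectionMatrix_mulVec, og_mul, refl_apply]

theorem lq_pmap (vs : List (ι → F)) (hvs : ∀ v ∈ vs, Q v ≠ 0) :
    ((lq (Q := Q) (vs.pmap (fun v hv => ⟨v, hv⟩) hvs) : Fˣ) : F) = (vs.map (fun v => Q v)).prod := by
  induction vs with
  | nil => rfl
  | cons v vs ih => rw [List.pmap, lq_cons, Units.val_mul, ih (fun w hw => hvs w (List.mem_cons_of_mem v hw)), List.map_cons, List.prod_cons]; rfl

end frozen

end Cfsg.Agent.H17
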