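import Mathlib
import Cfsg.Agent.H17.Spin
import Cfsg.Agent.H17.PlusT
import Cfsg.Agent.H17.Par4

set_option autoImplicit false

/-! More on membership in the commutator subgroup of an orthogonal group. -/

namespace Cfsg.Agent.H17

open Cfsg Cfsg.Agent.H5 Module
open scoped commutatorElement

section ev

variable {F V : Type*} [Field F] [AddCommGroup V] [Module F V] [FiniteDimensional F V] {Q : QuadraticForm F V} {m : ℕ}

theorem PT.ev_og_iff' (P : PT Q m) (hrg : RG Q = ⊤) (g : OG Q) : Ev m (ogSS Q g) ↔ g ∈ DG Q := by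
  refine ⟨fun h => ?_, P.dg_ev⟩
  by_contra hg
  have h1 := rg_dg g (by rw [hrg]; trivial)
  by_cases hne : ∃ v, Q v ≠ 0
  · obtain ⟨v, hv⟩ := hne
    have h2 := (h1.resolve_left hg) v hv
    have h3 := P.dg_ev h2
    rw [map_mul, P.ev_mul] at h3
    exact P.refl_not_ev hv (h3.mpr h)
  · push Not at hne
    apply hg
    rw [nd_triv P.nd hne g]
    exact one_mem _

theorem dg_iff_parity (hnd : ND Q) (hrg : RG Q = ⊤) (g : OG Q) : g ∈ DG Q ↔ Even (finrank F (fixS g) + finrank F V) := by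
  refine ⟨dg_parity hnd, fun h => ?_⟩
  by_contra hg
  have h1 := rg_dg g (by rw [hrg]; trivial)
  by_cases hne : ∃ v, Q v ≠ 0
  · obtain ⟨v, hv⟩ := hne
    have h2 := dg_parity hnd ((h1.resolve_left hg) v hv)
    rcases fixS_refl hnd hv g with h3 | h3
    · rw [← h3] at h
      rw [Nat.even_iff] at h h2
      omega
    · rw [h3] at h2
      rw [Nat.even_iff] at h h2
      omega
  · push Not at hne
    apply hg
    rw [nd_triv hnd hne g]
    exact one_mem _

end ev

section small

variable {F V : Type*} [Field F] [Finite F] [AddCommGroup V] [Module F V] [FiniteDimensional F V] {Q : QuadraticForm F V}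

/-- the spinor norm criterion, all dimensions -/
theorem lsp_comm' (hnd : ND Q) (hrg : RG Q = ⊤) (l : List {v : V // Q v ≠ 0}) :
    lsp l ∈ commutator (OG Q) ↔ Even l.length ∧ IsSquare ((lq l : Fˣ) : F) := by
  by_cases hn : 2 ≤ finrank F V
  · exact lsp_comm hnd (fun _ => hn) hrg l
  by_cases h2 : (2 : F) = 0
  · exact lsp_comm hnd (fun h => absurd h2 h) hrg l
  cases l with
  | nil =>
    rw [lsp_nil, lq_nil, Units.val_one]
    exact ⟨fun _ => ⟨by simp, IsSquare.one⟩, fun _ => one_mem _⟩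
  | cons v₀ l' =>
    generalize hl : v₀ :: l' = l
    have h0 : v₀.1 ≠ 0 := fun h => v₀.2 (by rw [h, q_zero])
    have hsp : ∀ x : V, ∃ c : F, x = c • v₀.1 := by
      intro x
      have h1 : finrank F V = 1 := by
        have : 0 < finrank F V := by
          rw [Module.finrank_pos_iff]
          exact ⟨v₀.1, 0, h0⟩
        omega
      obtain ⟨c, hc⟩ := exists_smul_eq_of_finrank_eq_one h1 h0 x
      exact ⟨c, hc.symm⟩
    have hcomm : commutator (OG Q) ≤ DG Q := by
      rw [commutator_def, Subgroup.commutator_le]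
      intro a _ b _
      have : ⁅a, b⁆ = 1 := by
        rw [commutatorElement_eq_one_iff_mul_comm]
        apply og_ext
        intro x
        obtain ⟨c, rfl⟩ := hsp x
        obtain ⟨s, hs⟩ := hsp (a v₀.1)
        obtain ⟨t, ht⟩ := hsp (b v₀.1)
        rw [og_mul, og_mul, og_smul, og_smul, og_smul, og_smul, hs, ht, og_smul, og_smul, hs, ht, smul_comm s t]
      rw [this]; exact one_mem _
    have hdg : ∀ g ∈ DG Q, g = 1 := by
      have hr : ∀ (u : V) (hu : Q u ≠ 0) (x : V), refl hu x = -x := by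
        intro u hu x
        have hu0 : u ≠ 0 := fun h => hu (by rw [h, q_zero])
        obtain ⟨c, hc⟩ := hsp u
        have hc0 : c ≠ 0 := by rintro rfl; exact hu0 (by rw [hc, zero_smul])
        obtain ⟨d, hd⟩ := hsp x
        have : x = (d * c⁻¹) • u := by rw [hc, smul_smul, mul_assoc, inv_mul_cancel₀ hc0, mul_one, hd]
        rw [this, og_smul, refl_self, smul_neg]
      intro g hg
      unfold DG at hg
      induction hg using Subgroup.closure_induction with
      | mem x hx =>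
        obtain ⟨u, v, hu, hv, rfl⟩ := hx
        apply og_ext
        intro x
        rw [og_mul, hr, hr, neg_neg]; rfl
      | one => rfl
      | mul a b _ _ ha hb => rw [ha, hb, mul_one]
      | inv a _ ha => rw [ha, inv_one]
    have hsq : ∀ l : List {v : V // Q v ≠ 0}, IsSquare ((lq l : Fˣ) * Q v₀.1 ^ l.length : F) := by
      intro l
      induction l with
      | nil => rw [lq_nil, Units.val_one, List.length_nil, pow_zero, mul_one]; exact IsSquare.one
      | cons v l ih =>
        obtain ⟨c, hc⟩ := hsp v.1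
        rw [lq_cons, Units.val_mul, List.length_cons, pow_succ]
        have e : ((Units.mk0 (Q v.1) v.2 : Fˣ) : F) * (lq l : Fˣ) * (Q v₀.1 ^ l.length * Q v₀.1) = (c * Q v₀.1) * (c * Q v₀.1) * ((lq l : Fˣ) * Q v₀.1 ^ l.length) := by
          rw [Units.val_mk0, hc, q_smul]; ring
        rw [e]
        exact (IsSquare.mul ⟨_, rfl⟩ ih)
    constructor
    · intro h
      have h3 := hcomm h
      rw [lsp_dg hnd] at h3
      refine ⟨h3, ?_⟩
      have h4 := hsq l
      have h5 : Q v₀.1 ^ l.length ≠ 0 := pow_ne_zero _ v₀.2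
      have h6 : IsSquare (Q v₀.1 ^ l.length) := by
        obtain ⟨k, hk⟩ := h3
        exact ⟨Q v₀.1 ^ k, by rw [hk, pow_add]⟩
      exact ((sq_mul_iff (Units.ne_zero _) h5).mp h4).mpr h6
    · rintro ⟨h, -⟩
      rw [hdg _ ((lsp_dg hnd l).mpr h)]
      exact one_mem _

/-- adjusting into the commutator subgroup -/
theorem adjust (hnd : ND Q) (hrg : RG Q = ⊤) (S : Subgroup (OG Q))
    (h1 : ∃ l₁ : List {v : V // Q v ≠ 0}, Odd l₁.length ∧ lsp l₁ ∈ S)
    (h2 : (2 : F) ≠ 0 → ∃ l₂ : List {v : V // Q v ≠ 0}, Even l₂.length ∧ lsp l₂ ∈ S ∧ ¬ IsSquare ((lq l₂ : Fˣ) : F)) (g : OG Q) :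
    ∃ s ∈ S, s * g ∈ commutator (OG Q) := by
  obtain ⟨l, hl⟩ := exists_lsp (g := g) (by rw [hrg]; trivial)
  have key : ∃ l' : List {v : V // Q v ≠ 0}, lsp l' ∈ S ∧ Even (l' ++ l).length := by
    rcases Nat.even_or_odd l.length with he | ho
    · exact ⟨[], one_mem _, he⟩
    · obtain ⟨l₁, ho₁, hS₁⟩ := h1
      exact ⟨l₁, hS₁, by rw [List.length_append]; exact ho₁.add_odd ho⟩
  obtain ⟨l', hl'S, hl'e⟩ := key
  by_cases hsq : IsSquare ((lq (l' ++ l) : Fˣ) : F)
  · exact ⟨lsp l', hl'S, by rw [← hl, ← lsp_append, lsp_comm' hnd hrg]; exact ⟨hl'e, hsq⟩⟩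
  · have h2' : (2 : F) ≠ 0 := fun h => hsq (sq_char_two h _)
    obtain ⟨l₂, he₂, hS₂, hn₂⟩ := h2 h2'
    refine ⟨lsp l₂ * lsp l', mul_mem hS₂ hl'S, ?_⟩
    rw [← hl, mul_assoc, ← lsp_append, ← lsp_append, lsp_comm' hnd hrg]
    refine ⟨by rw [List.length_append]; exact he₂.add hl'e, ?_⟩
    rw [lq_append, Units.val_mul]
    exact nonsq_mul h2' hn₂ hsq

end small

section stab

variable {F V : Type*} [Field F] [AddCommGroup V] [Module F V] {Q : QuadraticForm F V}

/-- the stabilizer of a subspace -/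
def stS (Q : QuadraticForm F V) (W : Submodule F V) : Subgroup (OG Q) where
  carrier := {g | ∀ x, g x ∈ W ↔ x ∈ W}
  mul_mem' {a b} ha hb x := by rw [og_mul, ha, hb]
  one_mem' x := Iff.rfl
  inv_mem' {a} ha x := by rw [← ha ((a⁻¹ : OG Q) x), og_inv']

theorem mem_stS {W : Submodule F V} {g : OG Q} : g ∈ stS Q W ↔ ∀ x, g x ∈ W ↔ x ∈ W := Iff.rfl

variable [FiniteDimensional F V]

theorem mem_stS_of {W : Submodule F V} {g : OG Q} (h : ∀ x ∈ W, g x ∈ W) : g ∈ stS Q W := by
  intro x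
  refine ⟨fun hx => ?_, h x⟩
  have h1 : W.map (g.1 : V →ₗ[F] V) = W := by
    apply Submodule.eq_of_le_of_finrank_eq
    · rintro _ ⟨y, hy, rfl⟩
      exact h y hy
    · exact LinearEquiv.finrank_map_eq g.1 W
  have h2 : g x ∈ W.map (g.1 : V →ₗ[F] V) := by rw [h1]; exact hx
  obtain ⟨y, hy, hyx⟩ := h2
  have : y = x := og_inj g hyx
  rwa [← this]

end stab

end Cfsg.Agent.H17
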