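import Mathlib
import Cfsg.Agent.H17.Spin2

set_option autoImplicit false

/-! Explicit elements of orthogonal groups: Levi factors, pair involutions, sums of forms. -/

namespace Cfsg.Agent.H17

open Cfsg Cfsg.Agent.H5 Module

section sum

variable {F : Type*} [Field F] {ι κ : Type} {Q₁ : QuadraticForm F (ι → F)} {Q₂ : QuadraticForm F (κ → F)}

noncomputable def qsum (Q₁ : QuadraticForm F (ι → F)) (Q₂ : QuadraticForm F (κ → F)) : QuadraticForm F (ι ⊕ κ → F) :=
  Q₁.comp (LinearMap.funLeft F F Sum.inl) + Q₂.comp (LinearMap.funLeft F F Sum.inr)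

theorem qsum_coe : ⇑(qsum Q₁ Q₂) = fun v => Q₁ (v ∘ Sum.inl) + Q₂ (v ∘ Sum.inr) := rfl

theorem qsum_apply (v : ι ⊕ κ → F) : qsum Q₁ Q₂ v = Q₁ (v ∘ Sum.inl) + Q₂ (v ∘ Sum.inr) := rfl

theorem pB_qsum (x y : ι ⊕ κ → F) : pB (qsum Q₁ Q₂) x y = pB Q₁ (x ∘ Sum.inl) (y ∘ Sum.inl) + pB Q₂ (x ∘ Sum.inr) (y ∘ Sum.inr) := by
  rw [pB_apply, pB_apply, pB_apply, QuadraticMap.polar, QuadraticMap.polar, QuadraticMap.polar, qsum_apply, qsum_apply, qsum_apply]
  have e1 : (x + y) ∘ Sum.inl = x ∘ Sum.inl + y ∘ (Sum.inl : ι → ι ⊕ κ) := rfl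
  have e2 : (x + y) ∘ Sum.inr = x ∘ Sum.inr + y ∘ (Sum.inr : κ → ι ⊕ κ) := rfl
  rw [e1, e2]; ring

theorem elim_comp (v : ι ⊕ κ → F) : Sum.elim (v ∘ Sum.inl) (v ∘ Sum.inr) = v := Sum.elim_comp_inl_inr v

theorem nd_qsum (h1 : ND Q₁) (h2 : ND Q₂) : ND (qsum Q₁ Q₂) := by
  intro x hx
  have e1 : x ∘ Sum.inl = 0 := h1 _ fun y => by
    have h := hx (Sum.elim y 0)
    rw [pB_qsum, Sum.elim_comp_inl, Sum.elim_comp_inr] at h
    rw [← h]
    have : pB Q₂ (x ∘ Sum.inr) 0 = 0 := map_zero _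
    rw [this, add_zero]
  have e2 : x ∘ Sum.inr = 0 := h2 _ fun y => by
    have h := hx (Sum.elim 0 y)
    rw [pB_qsum, Sum.elim_comp_inl, Sum.elim_comp_inr] at h
    rw [← h]
    have : pB Q₁ (x ∘ Sum.inl) 0 = 0 := map_zero _
    rw [this, zero_add]
  rw [← elim_comp x, e1, e2]
  funext k; rcases k with k | k <;> rfl

/-- the product of the isometry groups -/
def exs (Q₁ : QuadraticForm F (ι → F)) (Q₂ : QuadraticForm F (κ → F)) : OG Q₁ × OG Q₂ →* OG (qsum Q₁ Q₂) where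
  toFun g := ⟨{ toFun := fun x => Sum.elim (g.1 (x ∘ Sum.inl)) (g.2 (x ∘ Sum.inr))
                map_add' := fun x y => by
                  have e1 : (x + y) ∘ Sum.inl = x ∘ Sum.inl + y ∘ (Sum.inl : ι → ι ⊕ κ) := rfl
                  have e2 : (x + y) ∘ Sum.inr = x ∘ Sum.inr + y ∘ (Sum.inr : κ → ι ⊕ κ) := rfl
                  rw [e1, e2, og_add, og_add]
                  funext k; rcases k with k | k <;> rfl
                map_smul' := fun a x => by
                  have e1 : (a • x) ∘ Sum.inl = a • (x ∘ (Sum.inl : ι → ι ⊕ κ)) := rfl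
                  have e2 : (a • x) ∘ Sum.inr = a • (x ∘ (Sum.inr : κ → ι ⊕ κ)) := rfl
                  rw [e1, e2, og_smul, og_smul]
                  funext k; rcases k with k | k <;> rfl
                invFun := fun x => Sum.elim ((g.1⁻¹ : OG Q₁) (x ∘ Sum.inl)) ((g.2⁻¹ : OG Q₂) (x ∘ Sum.inr))
                left_inv := fun x => by
                  show Sum.elim ((g.1⁻¹ : OG Q₁) (Sum.elim (g.1 (x ∘ Sum.inl)) (g.2 (x ∘ Sum.inr)) ∘ Sum.inl)) ((g.2⁻¹ : OG Q₂) (Sum.elim (g.1 (x ∘ Sum.inl)) (g.2 (x ∘ Sum.inr)) ∘ Sum.inr)) = x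
                  rw [Sum.elim_comp_inl, Sum.elim_comp_inr, og_inv, og_inv, elim_comp]
                right_inv := fun x => by
                  show Sum.elim (g.1 (Sum.elim ((g.1⁻¹ : OG Q₁) (x ∘ Sum.inl)) ((g.2⁻¹ : OG Q₂) (x ∘ Sum.inr)) ∘ Sum.inl)) (g.2 (Sum.elim ((g.1⁻¹ : OG Q₁) (x ∘ Sum.inl)) ((g.2⁻¹ : OG Q₂) (x ∘ Sum.inr)) ∘ Sum.inr)) = x
                  rw [Sum.elim_comp_inl, Sum.elim_comp_inr, og_inv', og_inv', elim_comp] },
    fun x => by
      show qsum Q₁ Q₂ (Sum.elim (g.1 (x ∘ Sum.inl)) (g.2 (x ∘ Sum.inr))) = _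
      rw [qsum_apply, Sum.elim_comp_inl, Sum.elim_comp_inr, og_q, og_q, qsum_apply]⟩
  map_one' := og_ext fun x => elim_comp x
  map_mul' g h := og_ext fun x => rfl

theorem exs_apply (g : OG Q₁ × OG Q₂) (x : ι ⊕ κ → F) : exs Q₁ Q₂ g x = Sum.elim (g.1 (x ∘ Sum.inl)) (g.2 (x ∘ Sum.inr)) := rfl

def inlv (v : {v : ι → F // Q₁ v ≠ 0}) : {v : ι ⊕ κ → F // qsum Q₁ Q₂ v ≠ 0} :=
  ⟨Sum.elim v.1 0, by rw [qsum_apply, Sum.elim_comp_inl, Sum.elim_comp_inr, q_zero, add_zero]; exact v.2⟩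

def inrv (v : {v : κ → F // Q₂ v ≠ 0}) : {v : ι ⊕ κ → F // qsum Q₁ Q₂ v ≠ 0} :=
  ⟨Sum.elim 0 v.1, by rw [qsum_apply, Sum.elim_comp_inl, Sum.elim_comp_inr, q_zero, zero_add]; exact v.2⟩

theorem exs_refl_l (v : {v : ι → F // Q₁ v ≠ 0}) : exs Q₁ Q₂ (refl v.2, 1) = refl (inlv (Q₂ := Q₂) v).2 := by
  apply og_ext
  intro x
  rw [exs_apply, refl_apply, refl_apply, pB_qsum]
  have e1 : (inlv (Q₂ := Q₂) v).1 ∘ Sum.inl = v.1 := Sum.elim_comp_inl _ _
  have e2 : (inlv (Q₂ := Q₂) v).1 ∘ Sum.inr = 0 := Sum.elim_comp_inr _ _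
  have e3 : qsum Q₁ Q₂ (inlv (Q₂ := Q₂) v).1 = Q₁ v.1 := by rw [qsum_apply, e1, e2, q_zero, add_zero]
  have e4 : pB Q₂ 0 (x ∘ Sum.inr) = 0 := by rw [map_zero]; rfl
  rw [e3, e1, e2, e4, add_zero]
  funext k
  rcases k with k | k
  · rfl
  · show x (Sum.inr k) = x (Sum.inr k) - _ * 0
    rw [mul_zero, sub_zero]

theorem exs_refl_r (v : {v : κ → F // Q₂ v ≠ 0}) : exs Q₁ Q₂ (1, refl v.2) = refl (inrv (Q₁ := Q₁) v).2 := by
  apply og_ext
  intro x
  rw [exs_apply, refl_apply, refl_apply, pB_qsum]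
  have e1 : (inrv (Q₁ := Q₁) v).1 ∘ Sum.inl = 0 := Sum.elim_comp_inl _ _
  have e2 : (inrv (Q₁ := Q₁) v).1 ∘ Sum.inr = v.1 := Sum.elim_comp_inr _ _
  have e3 : qsum Q₁ Q₂ (inrv (Q₁ := Q₁) v).1 = Q₂ v.1 := by rw [qsum_apply, e1, e2, q_zero, zero_add]
  have e4 : pB Q₁ 0 (x ∘ Sum.inl) = 0 := by rw [map_zero]; rfl
  rw [e3, e1, e2, e4, zero_add]
  funext k
  rcases k with k | k
  · show x (Sum.inl k) = x (Sum.inl k) - _ * 0
    rw [mul_zero, sub_zero]
  · rfl

theorem exs_lsp_l (l : List {v : ι → F // Q₁ v ≠ 0}) : exs Q₁ Q₂ (lsp l, 1) = lsp (l.map (inlv (Q₂ := Q₂))) := by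
  induction l with
  | nil => exact map_one _
  | cons v l ih =>
    rw [List.map_cons, lsp_cons, lsp_cons, ← ih, ← exs_refl_l, ← map_mul, Prod.mk_mul_mk, mul_one]

theorem exs_lsp_r (l : List {v : κ → F // Q₂ v ≠ 0}) : exs Q₁ Q₂ (1, lsp l) = lsp (l.map (inrv (Q₁ := Q₁))) := by
  induction l with
  | nil => exact map_one _
  | cons v l ih =>
    rw [List.map_cons, lsp_cons, lsp_cons, ← ih, ← exs_refl_r, ← map_mul, Prod.mk_mul_mk, mul_one]

theorem lq_inlv (l : List {v : ι → F // Q₁ v ≠ 0}) : lq (l.map (inlv (Q₂ := Q₂))) = lq l := by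
  induction l with
  | nil => rfl
  | cons v l ih =>
    rw [List.map_cons, lq_cons, lq_cons, ih]
    congr 1
    apply Units.ext
    show qsum Q₁ Q₂ (Sum.elim v.1 0) = Q₁ v.1
    rw [qsum_apply, Sum.elim_comp_inl, Sum.elim_comp_inr, q_zero, add_zero]

theorem lq_inrv (l : List {v : κ → F // Q₂ v ≠ 0}) : lq (l.map (inrv (Q₁ := Q₁))) = lq l := by
  induction l with
  | nil => rfl
  | cons v l ih =>
    rw [List.map_cons, lq_cons, lq_cons, ih]
    congr 1
    apply Units.ext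
    show qsum Q₁ Q₂ (Sum.elim 0 v.1) = Q₂ v.1
    rw [qsum_apply, Sum.elim_comp_inl, Sum.elim_comp_inr, q_zero, zero_add]

variable [Finite ι] [Finite κ]

theorem fixS_exs (g : OG Q₁) (h : OG Q₂) : finrank F (fixS (exs Q₁ Q₂ (g, h))) = finrank F (fixS g) + finrank F (fixS h) := by
  rw [← Module.finrank_prod]
  apply LinearEquiv.finrank_eq
  exact
    { toFun := fun x => (⟨x.1 ∘ Sum.inl, by
          have h1 := (mem_fixS _ _).mp x.2
          rw [mem_fixS]
          rw [exs_apply] at h1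
          have := congrArg (fun f => f ∘ Sum.inl) h1
          simpa using this⟩, ⟨x.1 ∘ Sum.inr, by
          have h1 := (mem_fixS _ _).mp x.2
          rw [mem_fixS]
          rw [exs_apply] at h1
          have := congrArg (fun f => f ∘ Sum.inr) h1
          simpa using this⟩)
      map_add' := fun x y => rfl
      map_smul' := fun a x => rfl
      invFun := fun p => ⟨Sum.elim p.1.1 p.2.1, by
          rw [mem_fixS, exs_apply, Sum.elim_comp_inl, Sum.elim_comp_inr, (mem_fixS g _).mp p.1.2, (mem_fixS h _).mp p.2.2]⟩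
      left_inv := fun x => Subtype.ext (elim_comp x.1)
      right_inv := fun p => Prod.ext (Subtype.ext (Sum.elim_comp_inl p.1.1 p.2.1)) (Subtype.ext (Sum.elim_comp_inr p.1.1 p.2.1)) }

end sum

section levi

variable {F : Type*} [Field F] {m : ℕ}

/-- the Levi factor -/
def lev (m : ℕ) (F : Type*) [Field F] : GL (Fin m) F →* OG (qPlus m F) where
  toFun A := ⟨{ toFun := fun x => Sum.elim ((A : Matrix (Fin m) (Fin m) F).mulVec (x ∘ Sum.inl)) ((((A⁻¹ : GL (Fin m) F) : Matrix (Fin m) (Fin m) F).transpose).mulVec (x ∘ Sum.inr))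
                map_add' := fun x y => by
                  have e1 : (x + y) ∘ Sum.inl = x ∘ Sum.inl + y ∘ (Sum.inl : Fin m → Fin m ⊕ Fin m) := rfl
                  have e2 : (x + y) ∘ Sum.inr = x ∘ Sum.inr + y ∘ (Sum.inr : Fin m → Fin m ⊕ Fin m) := rfl
                  rw [e1, e2, Matrix.mulVec_add, Matrix.mulVec_add]
                  funext k; rcases k with k | k <;> rfl
                map_smul' := fun a x => by
                  have e1 : (a • x) ∘ Sum.inl = a • (x ∘ (Sum.inl : Fin m → Fin m ⊕ Fin m)) := rfl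
                  have e2 : (a • x) ∘ Sum.inr = a • (x ∘ (Sum.inr : Fin m → Fin m ⊕ Fin m)) := rfl
                  rw [e1, e2, Matrix.mulVec_smul, Matrix.mulVec_smul]
                  funext k; rcases k with k | k <;> rfl
                invFun := fun x => Sum.elim (((A⁻¹ : GL (Fin m) F) : Matrix (Fin m) (Fin m) F).mulVec (x ∘ Sum.inl)) (((A : Matrix (Fin m) (Fin m) F).transpose).mulVec (x ∘ Sum.inr))
                left_inv := fun x => by
                  simp only [Sum.elim_comp_inl, Sum.elim_comp_inr, Matrix.mulVec_mulVec, ← Matrix.transpose_mul, ← Units.val_mul, inv_mul_cancel, Units.val_one, Matrix.transpose_one, Matrix.one_mulVec, elim_comp]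
                right_inv := fun x => by
                  simp only [Sum.elim_comp_inl, Sum.elim_comp_inr, Matrix.mulVec_mulVec, ← Matrix.transpose_mul, ← Units.val_mul, mul_inv_cancel, Units.val_one, Matrix.transpose_one, Matrix.one_mulVec, elim_comp] },
    fun x => by
      rw [qPlus_sum, qPlus_sum]
      show dotProduct ((A : Matrix (Fin m) (Fin m) F).mulVec (x ∘ Sum.inl)) ((((A⁻¹ : GL (Fin m) F) : Matrix (Fin m) (Fin m) F).transpose).mulVec (x ∘ Sum.inr)) = dotProduct (x ∘ Sum.inl) (x ∘ Sum.inr)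
      rw [Matrix.dotProduct_mulVec, Matrix.vecMul_transpose, Matrix.mulVec_mulVec, ← Units.val_mul, inv_mul_cancel, Units.val_one, Matrix.one_mulVec]⟩
  map_one' := og_ext fun x => by
    show Sum.elim ((1 : Matrix (Fin m) (Fin m) F).mulVec (x ∘ Sum.inl)) ((((1⁻¹ : GL (Fin m) F) : Matrix (Fin m) (Fin m) F).transpose).mulVec (x ∘ Sum.inr)) = x
    rw [inv_one, Units.val_one, Matrix.transpose_one, Matrix.one_mulVec, Matrix.one_mulVec, elim_comp]
  map_mul' A B := og_ext fun x => by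
    show Sum.elim (((A * B : GL (Fin m) F) : Matrix (Fin m) (Fin m) F).mulVec (x ∘ Sum.inl)) (((((A * B)⁻¹ : GL (Fin m) F)) : Matrix (Fin m) (Fin m) F).transpose.mulVec (x ∘ Sum.inr)) =
      Sum.elim ((A : Matrix (Fin m) (Fin m) F).mulVec ((B : Matrix (Fin m) (Fin m) F).mulVec (x ∘ Sum.inl))) (((((A)⁻¹ : GL (Fin m) F)) : Matrix (Fin m) (Fin m) F).transpose.mulVec (((((B)⁻¹ : GL (Fin m) F)) : Matrix (Fin m) (Fin m) F).transpose.mulVec (x ∘ Sum.inr)))
    rw [_root_.mul_inv_rev, Units.val_mul, Units.val_mul, Matrix.transpose_mul, Matrix.mulVec_mulVec, Matrix.mulVec_mulVec]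

theorem lev_apply (A : GL (Fin m) F) (x : Fin m ⊕ Fin m → F) : lev m F A x =
    Sum.elim ((A : Matrix (Fin m) (Fin m) F).mulVec (x ∘ Sum.inl)) ((((A⁻¹ : GL (Fin m) F) : Matrix (Fin m) (Fin m) F).transpose).mulVec (x ∘ Sum.inr)) := rfl

/-- the standard maximal totally singular subspace -/
abbrev Ustd (m : ℕ) (F : Type*) [Field F] : Submodule F (Fin m ⊕ Fin m → F) := LinearMap.ker (LinearMap.funLeft F F (Sum.inr : Fin m → Fin m ⊕ Fin m))

theorem mem_Ustd {x : Fin m ⊕ Fin m → F} : x ∈ Ustd m F ↔ ∀ i, x (Sum.inr i) = 0 := by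
  rw [LinearMap.mem_ker]
  exact ⟨fun h i => congrFun h i, fun h => funext h⟩

theorem Ustd_TS : TS (qPlus m F) (Ustd m F) := by
  intro x hx
  rw [qPlus_sum]
  apply Finset.sum_eq_zero
  intro i _
  rw [mem_Ustd.mp hx, mul_zero]

theorem Ustd_finrank : finrank F (Ustd m F) = m := by
  have h1 := LinearMap.finrank_range_add_finrank_ker (LinearMap.funLeft F F (Sum.inr : Fin m → Fin m ⊕ Fin m))
  have h2 : LinearMap.range (LinearMap.funLeft F F (Sum.inr : Fin m → Fin m ⊕ Fin m)) = ⊤ := by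
    rw [LinearMap.range_eq_top]
    exact LinearMap.funLeft_surjective_of_injective F F _ Sum.inr_injective
  rw [h2, finrank_top, fr_plus, Module.finrank_fin_fun] at h1
  have h3 : finrank F (Ustd m F) = finrank F (LinearMap.ker (LinearMap.funLeft F F (Sum.inr : Fin m → Fin m ⊕ Fin m))) := rfl
  omega

theorem imS_of_stable {V : Type*} [AddCommGroup V] [Module F V] [FiniteDimensional F V] {Q : QuadraticForm F V} {g : OG Q} {E : Submodule F V} (h : ∀ x ∈ E, g x ∈ E) : imS (ogSS Q g) E = E := by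
  ext y
  rw [mem_imS]
  have h1 := (mem_stS (Q := Q)).mp (mem_stS_of h) ((ogSS Q g).1.1.symm y)
  have h2 : g ((ogSS Q g).1.1.symm y) = y := (ogSS Q g).1.1.apply_symm_apply y
  rw [h2] at h1
  exact h1.symm

theorem lev_dg (hrg : RG (qPlus m F) = ⊤) (A : GL (Fin m) F) : lev m F A ∈ DG (qPlus m F) := by
  rw [← (PT_plus F m).ev_og_iff' hrg]
  apply ev_of_stable (PT_plus F m) Ustd_TS Ustd_finrank
  apply imS_of_stable
  intro x hx
  rw [mem_Ustd] at hx ⊢
  intro i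
  rw [lev_apply]
  have : x ∘ Sum.inr = 0 := funext hx
  rw [this, Matrix.mulVec_zero]; rfl

end levi

end Cfsg.Agent.H17
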