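import Mathlib
import Cfsg.Agent.H17.Minus3
import Cfsg.Agent.H17.Spin3

set_option autoImplicit false

/-! Standard bases of quadratic forms over finite fields. -/

namespace Cfsg.Agent.H17

open Cfsg Cfsg.Agent.H5 Module
open scoped MatrixGroups Matrix

theorem exists_zeta (F : Type*) [Field F] [Finite F] : ∃ ζ : F, ∀ t : F, t ^ 2 + t + ζ ≠ 0 := by
  by_contra h
  push Not at h
  have hs : Function.Surjective (fun t : F => t ^ 2 + t) := fun y => by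
    obtain ⟨t, ht⟩ := h (-y)
    exact ⟨t, by linear_combination ht⟩
  have hi := Finite.injective_iff_surjective.mpr hs
  have := hi (show (0 : F) ^ 2 + 0 = (-1) ^ 2 + (-1) by ring)
  exact one_ne_zero (neg_eq_zero.mp this.symm)

theorem zeta_aniso {F : Type*} [Field F] {ζ : F} (h : ∀ t : F, t ^ 2 + t + ζ ≠ 0) :
    ∀ z₁ z₂ : F, z₁ ^ 2 + 1 * z₁ * z₂ + ζ * z₂ ^ 2 = 0 → z₁ = 0 ∧ z₂ = 0 := by
  intro z₁ z₂ hz
  have h2 : z₂ = 0 := by
    by_contra hne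
    apply h (z₁ / z₂)
    field_simp
    linear_combination hz
  subst h2
  refine ⟨?_, rfl⟩
  have : z₁ ^ 2 = 0 := by linear_combination hz
  exact (pow_eq_zero_iff (by norm_num)).mp this

section std

universe u v
variable {F : Type u} [Field F] [Finite F] {V : Type v} [AddCommGroup V] [Module F V] [FiniteDimensional F V] {Q : QuadraticForm F V} {m : ℕ}

theorem std_plus (hnd : ND Q) (hm : finrank F V = 2 * m) (h : ∃ U : Submodule F V, TS Q U ∧ finrank F U = m) :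
    ∃ ψ : V ≃ₗ[F] (Fin m ⊕ Fin m → F), ∀ x, qPlus m F (ψ x) = Q x := by
  haveI : Finite V := Module.finite_of_finite F
  have hfr : finrank F (Fin m ⊕ Fin m → F) = 2 * m := by
    rw [Module.finrank_fintype_fun_eq_card, Fintype.card_sum, Fintype.card_fin]; omega
  obtain ⟨φ, hφ⟩ := class_even m hnd (nd_plus (m := m)) hm hfr
    (class_even_ts m hnd nd_plus hm hfr ⟨fun _ => ⟨Ustd m F, Ustd_TS, Ustd_finrank⟩, fun _ => h⟩) (one_ne_zero (α := F))
  obtain ⟨ψ, hψ⟩ := exists_simEquiv one_ne_zero hφ hnd (hm.trans hfr.symm)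
  exact ⟨ψ, fun x => by rw [hψ, one_mul]⟩

theorem std_minus (hnd : ND Q) (hm : finrank F V = 2 * (m + 1)) (h : ¬ ∃ U : Submodule F V, TS Q U ∧ finrank F U = m + 1)
    {a b : F} (hab : ∀ z₁ z₂ : F, z₁ ^ 2 + a * z₁ * z₂ + b * z₂ ^ 2 = 0 → z₁ = 0 ∧ z₂ = 0) :
    ∃ ψ : V ≃ₗ[F] ((Fin m ⊕ Fin m) ⊕ Fin 2 → F), ∀ x, qMinus m F a b (ψ x) = Q x := by
  haveI : Finite V := Module.finite_of_finite F
  obtain ⟨φ, hφ⟩ := class_even (m + 1) hnd (nd_minus (m := m) hab) hm (fr_minus F m)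
    (class_even_ts (m + 1) hnd (nd_minus (m := m) hab) hm (fr_minus F m) ⟨fun h' => absurd h' h, fun h' => absurd h' (no_ts_minus hab)⟩)
    (one_ne_zero (α := F))
  obtain ⟨ψ, hψ⟩ := exists_simEquiv one_ne_zero hφ hnd (hm.trans (fr_minus F m).symm)
  exact ⟨ψ, fun x => by rw [hψ, one_mul]⟩

theorem std_odd (h2 : (2 : F) ≠ 0) (hnd : ND Q) (hm : finrank F V = 2 * m + 1) :
    ∃ c : F, c ≠ 0 ∧ ∃ ψ : V ≃ₗ[F] (Unit ⊕ (Fin m ⊕ Fin m) → F), ∀ x, qOdd m F (ψ x) = c * Q x := by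
  haveI : Finite V := Module.finite_of_finite F
  obtain ⟨c, hc, φ, hφ⟩ := class_odd h2 m hnd (nd_odd (m := m) h2) hm (fr_odd F m)
  obtain ⟨ψ, hψ⟩ := exists_simEquiv hc hφ hnd (hm.trans (fr_odd F m).symm)
  exact ⟨c, hc, ψ, hψ⟩

omit [Finite F] in
theorem two_ne_odd (hnd : ND Q) (hm : finrank F V = 2 * m + 1) : (2 : F) ≠ 0 := by
  intro h2
  have := even_of_alt (pB Q) (fun x => pB_self2 h2 x) hnd
  rw [hm, ← Nat.not_odd_iff_even] at this
  exact this ⟨m, rfl⟩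

theorem std_basis_even (hm : 1 ≤ m) (hV : Module.finrank F V = 2 * m) (hQ : (QuadraticMap.polarBilin Q).Nondegenerate) :
    (∃ b : Module.Basis (Fin m ⊕ Fin m) F V, (∀ i, Q (b (Sum.inl i)) = 0 ∧ Q (b (Sum.inr i)) = 0) ∧ (∀ i j, QuadraticMap.polar ⇑Q (b (Sum.inl i)) (b (Sum.inr j)) = if i = j then 1 else 0) ∧ (∀ i j, QuadraticMap.polar ⇑Q (b (Sum.inl i)) (b (Sum.inl j)) = 0 ∧ QuadraticMap.polar ⇑Q (b (Sum.inr i)) (b (Sum.inr j)) = 0)) ∨ (∃ (b : Module.Basis ((Fin (m - 1) ⊕ Fin (m - 1)) ⊕ Fin 2) F V) (ζ : F), (∀ t : F, t ^ 2 + t + ζ ≠ 0) ∧ (∀ i, Q (b (Sum.inl (Sum.inl i))) = 0 ∧ Q (b (Sum.inl (Sum.inr i))) = 0) ∧ (∀ i j, QuadraticMap.polar ⇑Q (b (Sum.inl (Sum.inl i))) (b (Sum.inl (Sum.inr j))) = if i = j then 1 else 0) ∧ (∀ i j, QuadraticMap.polar ⇑Q (b (Sum.inl (Sum.inl i))) (b (Sum.inl (Sum.inl j))) = 0 ∧ QuadraticMap.polar ⇑Q (b (Sum.inl (Sum.inr i))) (b (Sum.inl (Sum.inr j))) = 0)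 ∧ (∀ i (k : Fin 2), QuadraticMap.polar ⇑Q (b (Sum.inl (Sum.inl i))) (b (Sum.inr k)) = 0 ∧ QuadraticMap.polar ⇑Q (b (Sum.inl (Sum.inr i))) (b (Sum.inr k)) = 0) ∧ Q (b (Sum.inr 0)) = 1 ∧ QuadraticMap.polar ⇑Q (b (Sum.inr 0)) (b (Sum.inr 1)) = 1 ∧ Q (b (Sum.inr 1)) = ζ) := by
  classical
  have hnd := nd_of hQ
  by_cases h : ∃ U : Submodule F V, TS Q U ∧ finrank F U = m
  · left
    obtain ⟨ψ, hψ⟩ := std_plus hnd hV h
    have hb : ∀ i, ψ (((Pi.basisFun F (Fin m ⊕ Fin m)).map ψ.symm) i) = Pi.single i 1 := fun i => by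
      rw [Basis.map_apply, LinearEquiv.apply_symm_apply, Pi.basisFun_apply]
    have hp : ∀ x y, QuadraticMap.polar ⇑Q x y = pB (qPlus m F) (ψ x) (ψ y) := fun x y => by
      rw [pB_apply]
      show _ = QuadraticMap.polar (qPlus m F) (ψ x) (ψ y)
      simp only [QuadraticMap.polar, ← map_add, hψ]
    refine ⟨(Pi.basisFun F (Fin m ⊕ Fin m)).map ψ.symm, fun i => ?_, fun i j => ?_, fun i j => ?_⟩
    · rw [← hψ, ← hψ, hb, hb, qPlus_sum, qPlus_sum]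
      simp [Pi.single_apply]
    · rw [hp, hb, hb, pB_plus]
      simp [Pi.single_apply, eq_comm]
    · rw [hp, hp, hb, hb, hb, hb, pB_plus, pB_plus]
      simp [Pi.single_apply]
  · right
    obtain ⟨k, rfl⟩ : ∃ k, m = k + 1 := ⟨m - 1, by omega⟩
    rw [show k + 1 - 1 = k from rfl]
    obtain ⟨ζ, hζ⟩ := exists_zeta F
    obtain ⟨ψ, hψ⟩ := std_minus hnd hV h (zeta_aniso hζ)
    have hb : ∀ i, ψ (((Pi.basisFun F ((Fin k ⊕ Fin k) ⊕ Fin 2)).map ψ.symm) i) = Pi.single i 1 := fun i => by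
      rw [Basis.map_apply, LinearEquiv.apply_symm_apply, Pi.basisFun_apply]
    have hp : ∀ x y, QuadraticMap.polar ⇑Q x y = pB (qMinus k F 1 ζ) (ψ x) (ψ y) := fun x y => by
      rw [pB_apply]
      show _ = QuadraticMap.polar (qMinus k F 1 ζ) (ψ x) (ψ y)
      simp only [QuadraticMap.polar, ← map_add, hψ]
    refine ⟨(Pi.basisFun F ((Fin k ⊕ Fin k) ⊕ Fin 2)).map ψ.symm, ζ, hζ, fun i => ?_, fun i j => ?_, fun i j => ?_, fun i j => ?_, ?_, ?_, ?_⟩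
    · rw [← hψ, ← hψ, hb, hb, qMinus_coe]
      simp [quadFormMinus, Pi.single_apply]
    · rw [hp, hb, hb, pB_minus]
      simp [Pi.single_apply, eq_comm]
    · rw [hp, hp, hb, hb, hb, hb, pB_minus, pB_minus]
      simp [Pi.single_apply]
    · rw [hp, hp, hb, hb, hb, pB_minus, pB_minus]
      simp [Pi.single_apply]
    · rw [← hψ, hb, qMinus_coe]
      simp [quadFormMinus, Pi.single_apply]
    · rw [hp, hb, hb, pB_minus]
      simp [Pi.single_apply]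
    · rw [← hψ, hb, qMinus_coe]
      simp [quadFormMinus, Pi.single_apply]

theorem std_basis_odd (hV : Module.finrank F V = 2 * m + 1) (hQ : (QuadraticMap.polarBilin Q).Nondegenerate) :
    ∃ b : Module.Basis (Unit ⊕ (Fin m ⊕ Fin m)) F V, Q (b (Sum.inl ())) ≠ 0 ∧ (∀ i, QuadraticMap.polar ⇑Q (b (Sum.inl ())) (b (Sum.inr (Sum.inl i))) = 0 ∧ QuadraticMap.polar ⇑Q (b (Sum.inl ())) (b (Sum.inr (Sum.inr i))) = 0) ∧ (∀ i, Q (b (Sum.inr (Sum.inl i))) = 0 ∧ Q (b (Sum.inr (Sum.inr i))) = 0) ∧ (∀ i j, QuadraticMap.polar ⇑Q (b (Sum.inr (Sum.inl i))) (b (Sum.inr (Sum.inr j))) = if i = j then 1 else 0) ∧ (∀ i j, QuadraticMap.polar ⇑Q (b (Sum.inr (Sum.inl i))) (b (Sum.inr (Sum.inl j))) = 0 ∧ QuadraticMap.polar ⇑Q (b (Sum.inr (Sum.inr i))) (b (Sum.inr (Sum.inr j))) = 0) := by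
  classical
  have hnd := nd_of hQ
  have h2 := two_ne_odd hnd hV
  obtain ⟨c, hc, ψ, hψ⟩ := std_odd h2 hnd hV
  have hp : ∀ x y, c * QuadraticMap.polar ⇑Q x y = pB (qOdd m F) (ψ x) (ψ y) := fun x y => by
    rw [pB_apply]
    show _ = QuadraticMap.polar (qOdd m F) (ψ x) (ψ y)
    simp only [QuadraticMap.polar, ← map_add, hψ]
    ring
  have hu : ∀ i, IsUnit ((Sum.elim (fun _ => 1) (Sum.elim (fun _ => c) (fun _ => 1)) : Unit ⊕ (Fin m ⊕ Fin m) → F) i) := by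
    rintro (⟨⟩ | i | i)
    · exact isUnit_one
    · exact isUnit_iff_ne_zero.mpr hc
    · exact isUnit_one
  have hb : ∀ i, ψ ((((Pi.basisFun F (Unit ⊕ (Fin m ⊕ Fin m))).map ψ.symm).isUnitSMul hu) i) =
      (Sum.elim (fun _ => 1) (Sum.elim (fun _ => c) (fun _ => 1)) : Unit ⊕ (Fin m ⊕ Fin m) → F) i • Pi.single i 1 := fun i => by
    rw [Basis.isUnitSMul_apply, map_smul, Basis.map_apply, LinearEquiv.apply_symm_apply, Pi.basisFun_apply]
  refine ⟨((Pi.basisFun F (Unit ⊕ (Fin m ⊕ Fin m))).map ψ.symm).isUnitSMul hu, ?_, fun i => ?_, fun i => ?_, fun i j => ?_, fun i j => ?_⟩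
  · intro h0
    have := hψ ((((Pi.basisFun F (Unit ⊕ (Fin m ⊕ Fin m))).map ψ.symm).isUnitSMul hu) (Sum.inl ()))
    rw [h0, mul_zero, hb, qOdd_coe] at this
    simp [quadFormOdd, Pi.single_apply] at this
  · constructor
    · apply mul_left_cancel₀ hc
      rw [hp, hb, hb, pB_odd, mul_zero]
      simp [Pi.single_apply]
    · apply mul_left_cancel₀ hc
      rw [hp, hb, hb, pB_odd, mul_zero]
      simp [Pi.single_apply]
  · constructor
    · apply mul_left_cancel₀ hc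
      rw [← hψ, hb, qOdd_coe, mul_zero]
      simp [quadFormOdd, Pi.single_apply]
    · apply mul_left_cancel₀ hc
      rw [← hψ, hb, qOdd_coe, mul_zero]
      simp [quadFormOdd, Pi.single_apply]
  · apply mul_left_cancel₀ hc
    rw [hp, hb, hb, pB_odd]
    simp [Pi.single_apply, eq_comm]
  · constructor
    · apply mul_left_cancel₀ hc
      rw [hp, hb, hb, pB_odd, mul_zero]
      simp [Pi.single_apply]
    · apply mul_left_cancel₀ hc
      rw [hp, hb, hb, pB_odd, mul_zero]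
      simp [Pi.single_apply]

end std

end Cfsg.Agent.H17
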