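import Mathlib
import Cfsg.Agent.H17.QStd
import Cfsg.Agent.H17.QModel3
import Cfsg.Agent.H17.GUConj
import Cfsg.Agent.H17.OutMinus
import Cfsg.Agent.H5.AltBasis
import Cfsg.Agent.H5.Sp

set_option autoImplicit false

/-! Embeddings of unitary groups into symplectic and orthogonal groups over the subfield. -/

namespace Cfsg.Agent.H17

open Cfsg Cfsg.Agent.H5 Module
open scoped MatrixGroups Matrix

section act

variable {K : Type*} [Field K] {F : Type*} [Field F] [Finite F] {p : ℕ} [Fact p.Prime] [CharP F p]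

/-- the action of a matrix group over `K` on the space of column vectors over the standard quadratic extension -/
noncomputable def actE (m : ℕ) (e : K ≃+* KK F p) : GL (Fin m) K →* ((Fin m → KK F p) ≃ₗ[F] (Fin m → KK F p)) where
  toFun g :=
    { toFun := fun v => ((g : Matrix (Fin m) (Fin m) K).map e) *ᵥ v
      map_add' := fun x y => Matrix.mulVec_add _ _ _
      map_smul' := fun c x => by rw [RingHom.id_apply, Matrix.mulVec_smul]
      invFun := fun v => (((g⁻¹ : GL (Fin m) K) : Matrix (Fin m) (Fin m) K).map e) *ᵥ v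
      left_inv := fun v => by
        show (((g⁻¹ : GL (Fin m) K) : Matrix (Fin m) (Fin m) K).map e) *ᵥ (((g : Matrix (Fin m) (Fin m) K).map e) *ᵥ v) = v
        rw [Matrix.mulVec_mulVec, ← Matrix.map_mul, ← Units.val_mul, inv_mul_cancel, Units.val_one, Matrix.map_one _ (map_zero _) (map_one _), Matrix.one_mulVec]
      right_inv := fun v => by
        show ((g : Matrix (Fin m) (Fin m) K).map e) *ᵥ ((((g⁻¹ : GL (Fin m) K) : Matrix (Fin m) (Fin m) K).map e) *ᵥ v) = v
        rw [Matrix.mulVec_mulVec, ← Matrix.map_mul, ← Units.val_mul, mul_inv_cancel, Units.val_one, Matrix.map_one _ (map_zero _) (map_one _), Matrix.one_mulVec] }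
  map_one' := by
    apply LinearEquiv.ext
    intro v
    show (((1 : GL (Fin m) K) : Matrix (Fin m) (Fin m) K).map e) *ᵥ v = v
    rw [Units.val_one, Matrix.map_one _ (map_zero _) (map_one _), Matrix.one_mulVec]
  map_mul' g h := by
    apply LinearEquiv.ext
    intro v
    show (((g * h : GL (Fin m) K) : Matrix (Fin m) (Fin m) K).map e) *ᵥ v = ((g : Matrix (Fin m) (Fin m) K).map e) *ᵥ (((h : Matrix (Fin m) (Fin m) K).map e) *ᵥ v)
    rw [Units.val_mul, Matrix.map_mul, Matrix.mulVec_mulVec]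

theorem actE_apply {m : ℕ} (e : K ≃+* KK F p) (g : GL (Fin m) K) (v : Fin m → KK F p) :
    actE m e g v = ((g : Matrix (Fin m) (Fin m) K).map e) *ᵥ v := rfl

theorem actE_inj {m : ℕ} (e : K ≃+* KK F p) : Function.Injective (actE m e : GL (Fin m) K → _) := by
  intro g h hgh
  apply Units.ext
  apply Matrix.ext
  intro i j
  have h1 := congrFun (LinearEquiv.congr_fun hgh (Pi.single j 1)) i
  rw [actE_apply, actE_apply, Matrix.mulVec_single_one, Matrix.mulVec_single_one] at h1
  exact e.injective h1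

/-- the sesquilinear product -/
theorem actE_herm {m : ℕ} (e : K ≃+* KK F p) {q : ℕ} (hq : Nat.card F = q) {g : GL (Fin m) K} (hg : g ∈ Cfsg.GU m K q) (x y : Fin m → KK F p) :
    ∑ i, actE m e g x i * sK F p (actE m e g y i) = ∑ i, x i * sK F p (y i) := by
  have h0 : ∀ z : KK F p, sK F p z = z ^ q := fun z => by rw [sK_apply, hq]
  have h1 : ∀ (x : Fin m → KK F p) i, actE m e g x i = e (((g : Matrix (Fin m) (Fin m) K) *ᵥ (e.symm ∘ x)) i) := by
    intro x i
    rw [actE_apply, Matrix.mulVec, Matrix.mulVec, dotProduct, dotProduct, map_sum]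
    refine Finset.sum_congr rfl fun j _ => ?_
    rw [map_mul, Function.comp_apply, RingEquiv.apply_symm_apply]
    rfl
  have h2 : ∑ i, ((g : Matrix (Fin m) (Fin m) K) *ᵥ (e.symm ∘ x)) i * (((g : Matrix (Fin m) (Fin m) K) *ᵥ (e.symm ∘ y)) i) ^ q =
      ∑ i, (e.symm ∘ x) i * ((e.symm ∘ y) i) ^ q := hg (e.symm ∘ x) (e.symm ∘ y)
  have h3 := congrArg e h2
  rw [map_sum, map_sum] at h3
  calc ∑ i, actE m e g x i * sK F p (actE m e g y i) = ∑ i, e (((g : Matrix (Fin m) (Fin m) K) *ᵥ (e.symm ∘ x)) i * (((g : Matrix (Fin m) (Fin m) K) *ᵥ (e.symm ∘ y)) i) ^ q) := by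
        refine Finset.sum_congr rfl fun i _ => ?_
        rw [map_mul, map_pow, h0, h1, h1]
    _ = ∑ i, e ((e.symm ∘ x) i * ((e.symm ∘ y) i) ^ q) := h3
    _ = ∑ i, x i * sK F p (y i) := by
        refine Finset.sum_congr rfl fun i _ => ?_
        rw [map_mul, map_pow, h0, Function.comp_apply, Function.comp_apply, RingEquiv.apply_symm_apply, RingEquiv.apply_symm_apply]

end act

section forms

variable (F : Type*) [Field F] [Finite F] (p : ℕ) [Fact p.Prime] [CharP F p] (m : ℕ)

/-- the trace form of the standard hermitian form -/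
noncomputable def hQ : QuadraticForm F (Fin m → KK F p) := QuadraticMap.pi (fun _ => nK F p)

variable {F p m}

theorem hQ_apply (v : Fin m → KK F p) : hQ F p m v = ∑ i, nK F p (v i) := QuadraticMap.pi_apply _ _

theorem hQ_alg (v : Fin m → KK F p) : algebraMap F (KK F p) (hQ F p m v) = ∑ i, v i * sK F p (v i) := by
  rw [hQ_apply, map_sum]
  exact Finset.sum_congr rfl fun i _ => nK_apply _

theorem hQ_pB (x y : Fin m → KK F p) : pB (hQ F p m) x y = ∑ i, pB (nK F p) (x i) (y i) := by
  have h : ∀ {V : Type _} [AddCommGroup V] [Module F V] (Q : QuadraticForm F V) (x y : V), pB Q x y = Q (x + y) - Q x - Q y := fun Q x y => rfl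
  rw [h, hQ_apply, hQ_apply, hQ_apply, ← Finset.sum_sub_distrib, ← Finset.sum_sub_distrib]
  rfl

theorem hQ_nd : ND (hQ F p m) := by
  classical
  intro x hx
  funext i
  apply nK_nd
  intro z
  have h1 := hx (Pi.single i z)
  rw [hQ_pB, Finset.sum_eq_single i] at h1
  · rwa [Pi.single_eq_same] at h1
  · intro j _ hj
    rw [Pi.single_eq_of_ne hj, map_zero]
  · intro h
    exact absurd (Finset.mem_univ i) h

theorem finrank_hQ : finrank F (Fin m → KK F p) = 2 * m := by
  rw [Module.finrank_pi_fintype]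
  simp only [finrank_KK, Finset.sum_const, Finset.card_univ, Fintype.card_fin, smul_eq_mul]
  ring

theorem ts_even (k : ℕ) : ∃ U : Submodule F (Fin (k + k) → KK F p), TS (hQ F p (k + k)) U ∧ finrank F U = k + k := by
  obtain ⟨ε, hε⟩ := exists_theta (F := F) (p := p) (-1) (by norm_num)
  let L : (Fin k → KK F p) →ₗ[F] (Fin (k + k) → KK F p) :=
    { toFun := fun w => Fin.append w (fun i => (ε : KK F p) * w i)
      map_add' := fun x y => by
        funext i
        refine Fin.addCases (fun i => ?_) (fun i => ?_) i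
        · rw [Pi.add_apply, Fin.append_left, Fin.append_left, Fin.append_left, Pi.add_apply]
        · rw [Pi.add_apply, Fin.append_right, Fin.append_right, Fin.append_right, Pi.add_apply, mul_add]
      map_smul' := fun c x => by
        funext i
        refine Fin.addCases (fun i => ?_) (fun i => ?_) i
        · rw [Pi.smul_apply, Fin.append_left, Fin.append_left, Pi.smul_apply, RingHom.id_apply]
        · rw [Pi.smul_apply, Fin.append_right, Fin.append_right, Pi.smul_apply, RingHom.id_apply, mul_smul_comm] }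
  have hLl : ∀ w i, L w (Fin.castAdd k i) = w i := fun w i => Fin.append_left w (fun i => (ε : KK F p) * w i) i
  have hLr : ∀ w i, L w (Fin.natAdd k i) = (ε : KK F p) * w i := fun w i => Fin.append_right w (fun i => (ε : KK F p) * w i) i
  have hinj : Function.Injective L := by
    intro x y h
    funext i
    rw [← hLl x, h, hLl]
  refine ⟨LinearMap.range L, ?_, ?_⟩
  · rintro x ⟨w, rfl⟩
    rw [hQ_apply, Fin.sum_univ_add]
    simp only [hLl, hLr]
    rw [← Finset.sum_add_distrib]
    refine Finset.sum_eq_zero fun i _ => ?_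
    rw [nK_mul, hε]
    ring
  · rw [LinearMap.finrank_range_of_inj hinj, finrank_hQ]
    ring

theorem hQ_iso_plus {m : ℕ} (hm : Even m) : ∃ ψ : (Fin m → KK F p) ≃ₗ[F] (Fin m ⊕ Fin m → F), ∀ x, qPlus m F (ψ x) = hQ F p m x := by
  obtain ⟨k, rfl⟩ := hm
  exact std_plus hQ_nd finrank_hQ (ts_even k)

theorem hQ_iso_minus {k : ℕ} (hk : Even k) {a b : F} (hab : ∀ z₁ z₂ : F, z₁ ^ 2 + a * z₁ * z₂ + b * z₂ ^ 2 = 0 → z₁ = 0 ∧ z₂ = 0) :
    ∃ ψ : (Fin (k + 1) → KK F p) ≃ₗ[F] ((Fin k ⊕ Fin k) ⊕ Fin 2 → F), ∀ x, qMinus k F a b (ψ x) = hQ F p (k + 1) x := by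
  obtain ⟨ψ₀, hψ₀⟩ := hQ_iso_plus (F := F) (p := p) hk
  obtain ⟨φ, hφ⟩ := exists_iso_minus (p := p) k hab one_ne_zero
  let L : (Fin (k + 1) → KK F p) →ₗ[F] ((Fin k ⊕ Fin k → F) × KK F p) :=
    { toFun := fun x => (ψ₀ (fun i => x i.succ), x 0)
      map_add' := fun x y => Prod.ext (map_add ψ₀ (fun i => x i.succ) (fun i => y i.succ)) rfl
      map_smul' := fun c x => Prod.ext (map_smul ψ₀ c (fun i => x i.succ)) rfl }
  have hL : ∀ x, qM k F p (L x) = 1 * hQ F p (k + 1) x := by
    intro x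
    show qM k F p (ψ₀ (fun i => x i.succ), x 0) = _
    rw [qM_apply, hψ₀, one_mul, hQ_apply, hQ_apply, Fin.sum_univ_succ, add_comm]
  obtain ⟨L', hL'⟩ := exists_simEquiv one_ne_zero hL hQ_nd (by rw [finrank_hQ, finrank_qM])
  refine ⟨L'.trans φ.symm, fun x => ?_⟩
  rw [LinearEquiv.trans_apply]
  have h1 := hφ (φ.symm (L' x))
  rw [LinearEquiv.apply_symm_apply, one_mul, hL', one_mul] at h1
  exact h1.symm

end forms

section emb

variable {K : Type*} [Field K] {F : Type*} [Field F] [Finite F] {p : ℕ} [Fact p.Prime] [CharP F p] {m q : ℕ}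

/-- the unitary group acts by isometries of the trace form -/
noncomputable def guOG (m : ℕ) (e : K ≃+* KK F p) (hq : Nat.card F = q) : ↥(Cfsg.GU m K q) →* OG (hQ F p m) where
  toFun g := ⟨actE m e g, fun x => algebraMap_inj (p := p) (by rw [hQ_alg, hQ_alg, actE_herm e hq g.2])⟩
  map_one' := og_ext fun x => by
    show actE m e ((1 : ↥(Cfsg.GU m K q)) : GL (Fin m) K) x = x
    rw [OneMemClass.coe_one, map_one]; rfl
  map_mul' g h := og_ext fun x => by
    show actE m e ((g * h : ↥(Cfsg.GU m K q)) : GL (Fin m) K) x = actE m e g (actE m e h x)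
    rw [Subgroup.coe_mul, map_mul]; rfl

theorem guOG_inj (e : K ≃+* KK F p) (hq : Nat.card F = q) : Function.Injective (guOG m e hq) := by
  intro g h hgh
  apply Subtype.ext
  apply actE_inj e
  exact congrArg Subtype.val hgh

/-- the symplectic trace form -/
noncomputable def hS (F : Type*) [Field F] [Finite F] (p : ℕ) [Fact p.Prime] [CharP F p] (m : ℕ) (δ : KK F p) : LinearMap.BilinForm F (Fin m → KK F p) :=
  LinearMap.mk₂ F (fun x y => (exists_retr (F := F) (p := p)).choose (δ * ∑ i, (x i * sK F p (y i) - y i * sK F p (x i))))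
    (fun x x' y => by
      rw [← map_add, ← mul_add, ← Finset.sum_add_distrib]
      congr 2
      refine Finset.sum_congr rfl fun i _ => ?_
      rw [Pi.add_apply, map_add]; ring)
    (fun c x y => by
      rw [← map_smul]
      congr 1
      rw [← mul_smul_comm, Finset.smul_sum]
      congr 1
      refine Finset.sum_congr rfl fun i _ => ?_
      rw [Pi.smul_apply, map_smul, smul_sub, smul_mul_assoc, mul_smul_comm])
    (fun x y y' => by
      rw [← map_add, ← mul_add, ← Finset.sum_add_distrib]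
      congr 2
      refine Finset.sum_congr rfl fun i _ => ?_
      rw [Pi.add_apply, map_add]; ring)
    (fun c x y => by
      rw [← map_smul]
      congr 1
      rw [← mul_smul_comm, Finset.smul_sum]
      congr 1
      refine Finset.sum_congr rfl fun i _ => ?_
      rw [Pi.smul_apply, map_smul, smul_sub, smul_mul_assoc, mul_smul_comm])

theorem hS_alg {δ : KK F p} (hδ : sK F p δ = -δ) (x y : Fin m → KK F p) :
    algebraMap F (KK F p) (hS F p m δ x y) = δ * (∑ i, x i * sK F p (y i) - ∑ i, y i * sK F p (x i)) := by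
  rw [← Finset.sum_sub_distrib]
  obtain ⟨a, ha⟩ := exists_fix (F := F) (p := p) (z := δ * ∑ i, (x i * sK F p (y i) - y i * sK F p (x i))) (by
    rw [map_mul, hδ, map_sum, neg_mul, ← mul_neg, ← Finset.sum_neg_distrib]
    congr 1
    refine Finset.sum_congr rfl fun i _ => ?_
    rw [map_sub, map_mul, map_mul, sK_sK, sK_sK]
    ring)
  show algebraMap F (KK F p) ((exists_retr (F := F) (p := p)).choose (δ * ∑ i, (x i * sK F p (y i) - y i * sK F p (x i)))) = _
  rw [← ha, (exists_retr (F := F) (p := p)).choose_spec]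

theorem hS_alt {δ : KK F p} (hδ : sK F p δ = -δ) : (hS F p m δ).IsAlt := fun x => algebraMap_inj (p := p) (by
  rw [hS_alg hδ, sub_self, mul_zero, map_zero])

theorem hS_nd {δ : KK F p} (hδ : sK F p δ = -δ) (hδ0 : δ ≠ 0) (x : Fin m → KK F p) (hx : ∀ y, hS F p m δ x y = 0) : x = 0 := by
  classical
  have key : ∀ i z, x i * sK F p z - z * sK F p (x i) = 0 := by
    intro i z
    have h1 := congrArg (algebraMap F (KK F p)) (hx (Pi.single i z))
    rw [hS_alg hδ, map_zero] at h1
    have h2 := (mul_eq_zero.mp h1).resolve_left hδ0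
    rw [Finset.sum_eq_single i, Finset.sum_eq_single i, Pi.single_eq_same] at h2
    · exact h2
    · intro j _ hj
      rw [Pi.single_eq_of_ne hj, zero_mul]
    · intro h
      exact absurd (Finset.mem_univ i) h
    · intro j _ hj
      rw [Pi.single_eq_of_ne hj, map_zero, mul_zero]
    · intro h
      exact absurd (Finset.mem_univ i) h
  obtain ⟨z, hz⟩ := exists_sK_ne (F := F) (p := p)
  funext i
  have h1 := key i 1
  rw [map_one, mul_one, one_mul] at h1
  have h2 := key i z
  rw [← sub_eq_zero.mp h1, mul_comm z, ← mul_sub] at h2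
  exact (mul_eq_zero.mp h2).resolve_right (sub_ne_zero.mpr hz)

theorem exists_delta : ∃ δ : KK F p, sK F p δ = -δ ∧ δ ≠ 0 := by
  obtain ⟨z, hz⟩ := exists_sK_ne (F := F) (p := p)
  exact ⟨z - sK F p z, by rw [map_sub, sK_sK]; ring, sub_ne_zero.mpr (Ne.symm hz)⟩

/-- symplectic basis -/
theorem alt_std {V : Type*} [AddCommGroup V] [Module F V] [FiniteDimensional F V] (J : LinearMap.BilinForm F V) (hJ : J.IsAlt)
    (hnd : ∀ x, (∀ y, J x y = 0) → x = 0) (hm : finrank F V = 2 * m) :
    ∃ ψ : V ≃ₗ[F] (Fin m ⊕ Fin m → F), ∀ x y, sympB m F (ψ x) (ψ y) = J x y := by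
  obtain ⟨m', k, b, h1, h2, h3, h4⟩ := alt_basis _ J hJ rfl
  have hk : k = 0 := by
    rcases Nat.eq_zero_or_pos k with h | h
    · exact h
    · exfalso
      exact b.ne_zero (Sum.inr ⟨0, h⟩) (hnd _ fun y => h4 ⟨0, h⟩ y)
  subst hk
  have hmm : m' = m := by
    have := Module.finrank_eq_card_basis b
    rw [hm] at this
    simp at this
    omega
  subst hmm
  have hJn : ∀ x y, J y x = - J x y := fun x y => (hJ.neg_eq y x).symm ▸ by simp
  let b' : Basis (Fin m' ⊕ Fin m') F V := b.reindex (Equiv.sumEmpty (Fin m' ⊕ Fin m') (Fin 0))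
  let d : Basis (Fin m' ⊕ Fin m') F (Fin m' ⊕ Fin m' → F) := Pi.basisFun F _
  let ψ : V ≃ₗ[F] (Fin m' ⊕ Fin m' → F) := b'.equiv d (Equiv.sumComm _ _)
  refine ⟨ψ, ?_⟩
  suffices h : (sympB m' F).comp (ψ : V →ₗ[F] _) (ψ : V →ₗ[F] _) = J by
    intro x y
    exact LinearMap.congr_fun₂ h x y
  apply b'.ext
  intro i
  apply b'.ext
  intro j
  show sympB m' F (ψ (b' i)) (ψ (b' j)) = J (b' i) (b' j)
  have e1 : ∀ i, ψ (b' i) = Pi.single (i.swap) 1 := by
    intro i
    show b'.equiv d (Equiv.sumComm _ _) (b' i) = _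
    rw [Basis.equiv_apply]
    show d _ = _
    rw [Pi.basisFun_apply]
    rfl
  have e2 : ∀ i, b' i = b (Sum.inl i) := by
    intro i
    show (b.reindex (Equiv.sumEmpty (Fin m' ⊕ Fin m') (Fin 0))) i = _
    rw [Basis.reindex_apply]
    rfl
  rw [e1, e1, e2, e2, sympB_apply, sympForm_eq]
  rcases i with i | i <;> rcases j with j | j
  · rw [h2]
    simp
  · rw [h1]
    simp [Pi.single_apply, eq_comm]
  · rw [hJn, h1]
    simp [Pi.single_apply]
  · rw [h3]
    simp

theorem gu_sp (e : K ≃+* KK F p) (hq : Nat.card F = q) : ∃ φ : ↥(Cfsg.GU m K q) →* ↥(Matrix.symplecticGroup (Fin m) F), Function.Injective φ := by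
  classical
  obtain ⟨δ, hδ, hδ0⟩ := exists_delta (F := F) (p := p)
  obtain ⟨ψ, hψ⟩ := alt_std (m := m) (hS F p m δ) (hS_alt hδ) (hS_nd hδ hδ0) finrank_hQ
  have hg : ∀ (g : ↥(Cfsg.GU m K q)) x y, hS F p m δ (actE m e g x) (actE m e g y) = hS F p m δ x y := by
    intro g x y
    apply algebraMap_inj (p := p)
    rw [hS_alg hδ, hS_alg hδ, actE_herm e hq g.2, actE_herm e hq g.2]
  let M : ↥(Cfsg.GU m K q) → Matrix (Fin m ⊕ Fin m) (Fin m ⊕ Fin m) F := fun g =>
    LinearMap.toMatrix' ((ψ.symm.trans ((actE m e g : (Fin m → KK F p) ≃ₗ[F] (Fin m → KK F p)).trans ψ)).toLinearMap)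
  have hM : ∀ g x, M g *ᵥ x = ψ (actE m e g (ψ.symm x)) := fun g x => by
    rw [← Matrix.toLin'_apply, Matrix.toLin'_toMatrix']
    rfl
  have hsp : ∀ g, M g ∈ Matrix.symplecticGroup (Fin m) F := by
    intro g
    rw [mem_Sp_iff]
    intro u v
    rw [hM, hM, hψ, hg, ← hψ, LinearEquiv.apply_symm_apply, LinearEquiv.apply_symm_apply]
  have hext : ∀ {A B : Matrix (Fin m ⊕ Fin m) (Fin m ⊕ Fin m) F}, (∀ x, A *ᵥ x = B *ᵥ x) → A = B := by
    intro A B h
    apply Matrix.toLin'.injective
    apply LinearMap.ext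
    intro x
    rw [Matrix.toLin'_apply, Matrix.toLin'_apply, h]
  refine ⟨{ toFun := fun g => ⟨M g, hsp g⟩, map_one' := ?_, map_mul' := ?_ }, ?_⟩
  · apply Subtype.ext
    apply hext
    intro x
    show M 1 *ᵥ x = (1 : Matrix _ _ F) *ᵥ x
    rw [hM, OneMemClass.coe_one, map_one, Matrix.one_mulVec]
    exact LinearEquiv.apply_symm_apply _ _
  · intro g h
    apply Subtype.ext
    apply hext
    intro x
    show M (g * h) *ᵥ x = (M g * M h) *ᵥ x
    rw [← Matrix.mulVec_mulVec, hM, hM, hM, Subgroup.coe_mul, map_mul, LinearEquiv.symm_apply_apply]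
    rfl
  · intro g h hgh
    have h1 : M g = M h := congrArg Subtype.val hgh
    apply Subtype.ext
    apply actE_inj e
    apply LinearEquiv.ext
    intro x
    apply ψ.injective
    have h2 := congrArg (fun A => A *ᵥ (ψ x)) h1
    simp only [hM, LinearEquiv.symm_apply_apply] at h2
    exact h2

end emb


end Cfsg.Agent.H17
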