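import Mathlib

set_option autoImplicit false

/-! Orthonormal bases of symmetric non-alternating forms in characteristic two. -/

namespace Cfsg.Agent.H17

open Module

universe u v

theorem char_two_sqrt {F : Type*} [Field F] [Finite F] [CharP F 2] (a : F) : ∃ s : F, s * s = a := by
  haveI := Fintype.ofFinite F
  haveI : Fact (Nat.Prime 2) := ⟨Nat.prime_two⟩
  obtain ⟨s, hs⟩ := (PerfectRing.bijective_frobenius (R := F) (p := 2)).2 a
  exact ⟨s, by rw [← sq]; exact hs⟩

theorem orthonormal_two {F : Type u} [Field F] [Finite F] [CharP F 2] : ∀ (n : ℕ) {V : Type v} [AddCommGroup V] [Module F V] [FiniteDimensional F V]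
    (_ : finrank F V = n) (B : LinearMap.BilinForm F V) (_ : ∀ x y, B x y = B y x) (_ : ∀ x, (∀ y, B x y = 0) → x = 0)
    (_ : 0 < n → ∃ v : V, B v v ≠ 0), ∃ b : Basis (Fin n) F V, ∀ i j, B (b i) (b j) = if i = j then 1 else 0 := by
  have h2 : (2 : F) = 0 := by exact_mod_cast CharP.cast_eq_zero F 2
  have hadd : ∀ a : F, a + a = 0 := fun a => by rw [← two_mul, h2, zero_mul]
  intro n
  induction n with
  | zero =>
    intro V _ _ _ hn B _ _ _
    exact ⟨(finBasis F V).reindex (finCongr hn), fun i => i.elim0⟩
  | succ n ih =>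
    intro V _ _ _ hn B hS hnd hv
    obtain ⟨v₀, hv₀⟩ := hv (Nat.succ_pos n)
    -- unit vectors
    have hunit : ∃ v, B v v = 1 := by
      obtain ⟨s, hs⟩ := char_two_sqrt (B v₀ v₀)
      have hs0 : s ≠ 0 := by rintro rfl; rw [mul_zero] at hs; exact hv₀ hs.symm
      refine ⟨s⁻¹ • v₀, ?_⟩
      rw [map_smul, LinearMap.map_smul₂, smul_eq_mul, smul_eq_mul, ← hs]
      field_simp
    -- the complement of a unit vector
    have main : ∀ v, B v v = 1 → (0 < n → ∃ w, B v w = 0 ∧ B w w ≠ 0) → ∃ b : Basis (Fin (n + 1)) F V, ∀ i j, B (b i) (b j) = if i = j then 1 else 0 := by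
      intro v hv1 hw
      set N : Submodule F V := LinearMap.ker (B v) with hN
      have hmem : ∀ x, x ∈ N ↔ B v x = 0 := fun x => LinearMap.mem_ker
      have hproj : ∀ z, z - B v z • v ∈ N := fun z => by rw [hmem, map_sub, map_smul, hv1, smul_eq_mul, mul_one, sub_self]
      have hfr : finrank F N = n := by
        have h1 := LinearMap.finrank_range_add_finrank_ker (B v)
        have h3 : LinearMap.range (B v) = ⊤ := by
          rw [LinearMap.range_eq_top]
          intro a
          exact ⟨a • v, by rw [map_smul, hv1, smul_eq_mul, mul_one]⟩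
        rw [h3, finrank_top, finrank_self, hn, ← hN] at h1
        omega
      obtain ⟨b, hb⟩ := ih hfr (B.restrict N) (fun x y => hS x y) (by
        intro x hx
        apply Subtype.ext
        apply hnd
        intro z
        have h1 := hx ⟨_, hproj z⟩
        have h3 : B (x : V) (z - B v z • v) = 0 := h1
        rw [map_sub, map_smul, hS x v, (hmem x).mp x.2, smul_zero, sub_zero] at h3
        exact h3) (by
        intro hn0
        obtain ⟨w, hw1, hw2⟩ := hw hn0
        exact ⟨⟨w, (hmem w).mpr hw1⟩, hw2⟩)
      let b' : Basis (Fin (n + 1)) F V := Basis.mkFinCons v b (by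
        intro c x hx hcx
        have h1 := congrArg (B v) hcx
        rw [map_add, map_smul, hv1, (hmem x).mp hx, map_zero, smul_eq_mul, mul_one, add_zero] at h1
        exact h1) (by
        intro z
        exact ⟨-(B v z), by rw [neg_smul, ← sub_eq_add_neg]; exact hproj z⟩)
      have hb' : (b' : Fin (n + 1) → V) = Fin.cons v (N.subtype ∘ b) := Basis.coe_mkFinCons _ _ _ _
      refine ⟨b', ?_⟩
      intro i j
      rw [hb']
      refine Fin.cases ?_ (fun i => ?_) i <;> refine Fin.cases ?_ (fun j => ?_) j
      · rw [Fin.cons_zero, hv1, if_pos rfl]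
      · rw [Fin.cons_zero, Fin.cons_succ]
        show B v (b j : V) = _
        rw [(hmem _).mp (b j).2, if_neg (Fin.succ_ne_zero j).symm]
      · rw [Fin.cons_zero, Fin.cons_succ]
        show B (b i : V) v = _
        rw [hS, (hmem _).mp (b i).2, if_neg (Fin.succ_ne_zero i)]
      · rw [Fin.cons_succ, Fin.cons_succ]
        have := hb i j
        have h3 : B (b i : V) (b j : V) = if i = j then 1 else 0 := this
        show B (b i : V) (b j : V) = _
        rw [h3]
        simp only [Fin.succ_inj]
    obtain ⟨v, hv1⟩ := hunit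
    by_cases hc : 0 < n → ∃ w, B v w = 0 ∧ B w w ≠ 0
    · exact main v hv1 hc
    · push Not at hc
      obtain ⟨hn0, hc⟩ := hc
      -- the complement is alternating and nonzero
      obtain ⟨e, he0, he⟩ : ∃ e, e ≠ 0 ∧ B v e = 0 := by
        have h1 := LinearMap.finrank_range_add_finrank_ker (B v)
        have h3 : finrank F (LinearMap.range (B v)) ≤ 1 := by
          have := Submodule.finrank_le (LinearMap.range (B v))
          rwa [finrank_self] at this
        have h4 : 0 < finrank F (LinearMap.ker (B v)) := by omega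
        haveI := Module.nontrivial_of_finrank_pos h4
        obtain ⟨e, he⟩ := exists_ne (0 : LinearMap.ker (B v))
        exact ⟨e, fun h => he (Subtype.ext h), e.2⟩
      have hee : B e e = 0 := hc e he
      obtain ⟨z, hz⟩ : ∃ z, B e z ≠ 0 := by
        by_contra h
        push Not at h
        exact he0 (hnd e h)
      obtain ⟨f, hf, hef⟩ : ∃ f, B v f = 0 ∧ B e f = 1 := by
        refine ⟨(B e z)⁻¹ • (z - B v z • v), ?_, ?_⟩
        · rw [map_smul, map_sub, map_smul, hv1]; simp
        · rw [map_smul, map_sub, map_smul, hS e v, he, smul_zero, sub_zero, smul_eq_mul, inv_mul_cancel₀ hz]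
      have hff : B f f = 0 := hc f hf
      apply main (v + e)
      · rw [map_add, map_add, LinearMap.add_apply, LinearMap.add_apply, hv1, he, hS e v, he, hee]
        simp
      · intro _
        refine ⟨v + f, ?_, ?_⟩
        · rw [map_add, map_add, LinearMap.add_apply, LinearMap.add_apply, hv1, hf, hS e v, he, hef, add_zero, zero_add]
          exact hadd 1
        · rw [map_add, map_add, LinearMap.add_apply, LinearMap.add_apply, hv1, hf, hS f v, hf, hff]
          simp

end Cfsg.Agent.H17
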