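import Mathlib
import Cfsg.Agent.H17.SymTwo
import Cfsg.Agent.H5.AltBasis

set_option autoImplicit false

/-! Involutions of symplectic and orthogonal groups in characteristic two. -/

namespace Cfsg.Agent.H17

open Module Cfsg.Agent.H5

section basic

variable {F : Type*} [Field F] {V : Type*} [AddCommGroup V] [Module F V]

/-- isometries of a bilinear form with an extra function -/
def IG (B : LinearMap.BilinForm F V) (N : V → F) : Subgroup (V ≃ₗ[F] V) where
  carrier := {g | (∀ u v, B (g u) (g v) = B u v) ∧ ∀ u, N (g u) = N u}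
  one_mem' := ⟨fun _ _ => rfl, fun _ => rfl⟩
  mul_mem' := fun {a b} ha hb => ⟨fun u v => by
    show B (a (b u)) (a (b v)) = B u v
    rw [ha.1, hb.1], fun u => by
    show N (a (b u)) = N u
    rw [ha.2, hb.2]⟩
  inv_mem' := fun {a} ha => ⟨fun u v => by
    show B (a.symm u) (a.symm v) = B u v
    rw [← ha.1, LinearEquiv.apply_symm_apply, LinearEquiv.apply_symm_apply], fun u => by
    show N (a.symm u) = N u
    rw [← ha.2, LinearEquiv.apply_symm_apply]⟩

theorem mem_IG {B : LinearMap.BilinForm F V} {N : V → F} {g : V ≃ₗ[F] V} : g ∈ IG B N ↔ (∀ u v, B (g u) (g v) = B u v) ∧ ∀ u, N (g u) = N u := Iff.rfl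

variable {ι : Type} [Fintype ι]

/-- the square zero map attached to a family and an involution of the index set -/
noncomputable def TT (B : LinearMap.BilinForm F V) (e : ι → V) (τ : ι → ι) : V →ₗ[F] V := ∑ j, (B.flip (e j)).smulRight (e (τ j))

theorem TT_apply (B : LinearMap.BilinForm F V) (e : ι → V) (τ : ι → ι) (v : V) : TT B e τ v = ∑ j, B v (e j) • e (τ j) := by
  unfold TT
  rw [LinearMap.sum_apply]
  rfl

theorem TT_sq {B : LinearMap.BilinForm F V} {e : ι → V} (he : ∀ i j, B (e i) (e j) = 0) (τ : ι → ι) (v : V) : TT B e τ (TT B e τ v) = 0 := by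
  rw [TT_apply B e τ v, map_sum]
  refine Finset.sum_eq_zero fun j _ => ?_
  rw [map_smul, TT_apply]
  rw [Finset.sum_eq_zero, smul_zero]
  intro i _
  rw [he, zero_smul]

theorem TT_conj {B : LinearMap.BilinForm F V} {e e' : ι → V} {τ : ι → ι} {g : V ≃ₗ[F] V} (hg : ∀ u v, B (g u) (g v) = B u v) (hge : ∀ i, g (e i) = e' i) (v : V) :
    g (TT B e τ v) = TT B e' τ (g v) := by
  rw [TT_apply, TT_apply, map_sum]
  refine Finset.sum_congr rfl fun j _ => ?_
  rw [map_smul, hge, ← hge j, hg]

/-- dual vectors for a linearly independent family -/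
theorem exists_dual_inv [FiniteDimensional F V] {B : LinearMap.BilinForm F V} (hnd : ∀ x, (∀ y, B x y = 0) → x = 0) [DecidableEq ι] {e : ι → V} (he : LinearIndependent F e) (c : ι → F) :
    ∃ v, ∀ i, B v (e i) = c i := by
  have hinj : Function.Injective B := by
    rw [injective_iff_map_eq_zero]
    intro x hx
    exact hnd x fun y => by rw [hx]; rfl
  have hsurj : Function.Surjective B := by
    have h1 : finrank F V = finrank F (V →ₗ[F] F) := (Subspace.dual_finrank_eq).symm
    exact (LinearMap.injective_iff_surjective_of_finrank_eq_finrank h1).mp hinj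
  let b := Basis.extend he.linearIndepOn_id
  have hcs : ∃ f : V →ₗ[F] F, ∀ i, f (e i) = c i := by
    have h2 : LinearIndependent F e := he
    obtain ⟨f, hf⟩ := LinearMap.exists_extend (p := Submodule.span F (Set.range e)) ((Basis.span he).constr F c)
    refine ⟨f, fun i => ?_⟩
    have h3 : e i ∈ Submodule.span F (Set.range e) := Submodule.subset_span ⟨i, rfl⟩
    have h4 := LinearMap.congr_fun hf ⟨e i, h3⟩
    rw [LinearMap.comp_apply] at h4
    have h5 : (Basis.span he) i = ⟨e i, h3⟩ := Basis.span_apply he i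
    show f (e i) = c i
    rw [← h5] at h4
    rw [Basis.constr_basis] at h4
    rw [← h4, h5]; rfl
  obtain ⟨f, hf⟩ := hcs
  obtain ⟨v, hv⟩ := hsurj f
  exact ⟨v, fun i => by rw [hv, hf]⟩

theorem TT_rank [FiniteDimensional F V] {B : LinearMap.BilinForm F V} (hnd : ∀ x, (∀ y, B x y = 0) → x = 0) {e : ι → V} (he : LinearIndependent F e)
    {τ : ι → ι} (hτ : Function.Involutive τ) : finrank F (LinearMap.range (TT B e τ)) = Fintype.card ι := by
  classical
  have h1 : LinearMap.range (TT B e τ) = Submodule.span F (Set.range e) := by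
    apply le_antisymm
    · rintro _ ⟨v, rfl⟩
      rw [TT_apply]
      exact Submodule.sum_mem _ fun j _ => Submodule.smul_mem _ _ (Submodule.subset_span ⟨_, rfl⟩)
    · rw [Submodule.span_le]
      rintro _ ⟨i, rfl⟩
      obtain ⟨v, hv⟩ := exists_dual_inv hnd he (fun j => if j = τ i then 1 else 0)
      refine ⟨v, ?_⟩
      rw [TT_apply]
      simp only [hv, ite_smul, one_smul, zero_smul]
      rw [Finset.sum_ite_eq' Finset.univ (τ i) (fun j => e (τ j)), if_pos (Finset.mem_univ _), hτ]
  rw [h1, finrank_span_eq_card he]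

end basic

section setup

variable {F : Type*} [Field F] {V : Type*} [AddCommGroup V] [Module F V]

/-- the hypotheses used for the count -/
structure ISet (B : LinearMap.BilinForm F V) (N : V → F) (μ : F → F) (m M : ℕ) : Prop where
  alt : B.IsAlt
  nd : ∀ x, (∀ y, B x y = 0) → x = 0
  witt : ∀ {ι : Type} (x y : ι → V), LinearIndependent F x → LinearIndependent F y → (∀ i j, B (y i) (y j) = B (x i) (x j)) → (∀ i, N (y i) = N (x i)) →
    ∃ g ∈ IG B N, ∀ i, g (x i) = y i
  nT : ∀ g ∈ IG B N, ∀ v, N (g v - v) = μ (B v (g v - v))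
  nc : ∀ {s : ℕ} (e : Fin s → V), (∀ i j, B (e i) (e j) = 0) → (∀ i, N (e i) = μ 1) → ∀ v, N (v + TT B e id v) = N v
  na : ∀ {k : ℕ} (e : Fin k ⊕ Fin k → V), (∀ i j, B (e i) (e j) = 0) → (∀ i, N (e i) = μ 0) → ∀ v, N (v + TT B e Sum.swap v) = N v
  exc : ∀ s, s ≤ m → ∃ e : Fin s → V, LinearIndependent F e ∧ (∀ i j, B (e i) (e j) = 0) ∧ ∀ i, N (e i) = μ 1
  exa : ∀ k, 2 * k ≤ M → ∃ e : Fin k ⊕ Fin k → V, LinearIndependent F e ∧ (∀ i j, B (e i) (e j) = 0) ∧ ∀ i, N (e i) = μ 0
  bc : ∀ {s : ℕ} (e : Fin s → V), LinearIndependent F e → (∀ i j, B (e i) (e j) = 0) → s ≤ m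
  ba : ∀ {k : ℕ} (e : Fin k ⊕ Fin k → V), LinearIndependent F e → (∀ i j, B (e i) (e j) = 0) → (∀ i, N (e i) = μ 0) → 2 * k ≤ M

variable [Finite F] [CharP F 2] [FiniteDimensional F V] {B : LinearMap.BilinForm F V} {N : V → F} {μ : F → F} {m M : ℕ}

theorem two_zero (F : Type*) [Field F] [CharP F 2] : (2 : F) = 0 := by exact_mod_cast CharP.cast_eq_zero F 2

theorem neg_self2 {F : Type*} [Field F] [CharP F 2] (a : F) : -a = a := by linear_combination (-a) * two_zero F

theorem ISet.sym (H : ISet B N μ m M) (x y : V) : B x y = B y x := by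
  rw [← H.alt.neg_eq, neg_self2]

/-- the involution of a family -/
theorem invol_of_TT (H : ISet B N μ m M) {ι : Type} [Fintype ι] {e : ι → V} (h0 : ∀ i j, B (e i) (e j) = 0) {τ : ι → ι} (hτ : Function.Involutive τ)
    (hN : ∀ v, N (v + TT B e τ v) = N v) : ∃ g ∈ IG B N, ∀ v, g v - v = TT B e τ v := by
  have h2 : ∀ v : V, v + v = 0 := fun v => by rw [← two_smul F v, two_zero, zero_smul]
  let f : V →ₗ[F] V := LinearMap.id + TT B e τ
  have hf : ∀ v, f v = v + TT B e τ v := fun _ => rfl
  have hff : Function.Involutive f := by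
    intro v
    rw [hf, hf, map_add, TT_sq h0, add_zero, add_assoc, h2, add_zero]
  refine ⟨LinearEquiv.ofInvolutive f hff, ⟨?_, fun u => ?_⟩, fun v => ?_⟩
  · intro u v
    show B (f u) (f v) = B u v
    rw [hf, hf, map_add, map_add, LinearMap.add_apply, LinearMap.add_apply]
    have e1 : B (TT B e τ u) (TT B e τ v) = 0 := by
      rw [TT_apply B e τ u, map_sum, LinearMap.sum_apply]
      refine Finset.sum_eq_zero fun i _ => ?_
      rw [map_smul, LinearMap.smul_apply, TT_apply, map_sum]
      rw [Finset.sum_eq_zero, smul_zero]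
      intro j _
      rw [map_smul, h0, smul_zero]
    have e2 : B (TT B e τ u) v = B u (TT B e τ v) := by
      rw [TT_apply B e τ u, TT_apply B e τ v, map_sum, LinearMap.sum_apply, map_sum]
      rw [← Equiv.sum_comp (hτ.toPerm τ)]
      refine Finset.sum_congr rfl fun j _ => ?_
      show (B (B u (e (τ j)) • e (τ (τ j)))) v = B u (B v (e j) • e (τ j))
      rw [hτ, map_smul, LinearMap.smul_apply, map_smul, smul_eq_mul, smul_eq_mul, H.sym (e j) v, mul_comm]
    rw [e1, e2]
    linear_combination (B u (TT B e τ v)) * two_zero F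
  · exact hN u
  · show f v - v = _
    rw [hf, add_sub_cancel_left]

/-- decomposition of an involution -/
theorem invol_cases (H : ISet B N μ m M) {g : V ≃ₗ[F] V} (hg : g ∈ IG B N) (hg2 : ∀ v, g (g v) = v) :
    (∃ (s : ℕ) (e : Fin s → V), LinearIndependent F e ∧ (∀ i j, B (e i) (e j) = 0) ∧ (∀ i, N (e i) = μ 1) ∧ (0 < s) ∧ ∀ v, g v - v = TT B e id v) ∨
    (∃ (k : ℕ) (e : Fin k ⊕ Fin k → V), LinearIndependent F e ∧ (∀ i j, B (e i) (e j) = 0) ∧ (∀ i, N (e i) = μ 0) ∧ ∀ v, g v - v = TT B e Sum.swap v) := by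
  classical
  have hsub : ∀ x y : V, x - y = x + y := fun x y => by
    rw [sub_eq_add_neg]
    congr 1
    rw [neg_eq_iff_add_eq_zero, ← two_smul F y, two_zero, zero_smul]
  let T : V →ₗ[F] V := (g : V →ₗ[F] V) - LinearMap.id
  have hT : ∀ v, T v = g v - v := fun _ => rfl
  have hTT : ∀ v, T (T v) = 0 := by
    intro v
    rw [hT, hT, map_sub, hg2, hsub, hsub, hsub]
    have : v + g v + (g v + v) = (2 : F) • (v + g v) := by rw [two_smul]; abel
    rw [this, two_zero, zero_smul]
  have hadj : ∀ x y, B x (T y) = B (T x) y := by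
    intro x y
    rw [hT, hT, map_sub, map_sub, LinearMap.sub_apply]
    congr 1
    rw [← hg.1 x (g y), hg2]
  have hadj2 : ∀ x y, B x (T y) = B y (T x) := by
    intro x y
    rw [hadj, H.sym]
  -- complement of the kernel
  obtain ⟨W, hW⟩ := (LinearMap.ker T).exists_isCompl
  have hWker : ∀ x ∈ W, T x = 0 → x = 0 := by
    intro x hx h0
    have : x ∈ LinearMap.ker T ⊓ W := ⟨h0, hx⟩
    rw [hW.inf_eq_bot] at this
    exact this
  have hdec : ∀ v, ∃ w ∈ W, T v = T w ∧ ∃ k, T k = 0 ∧ v = w + k := by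
    intro v
    have : v ∈ LinearMap.ker T ⊔ W := by rw [hW.sup_eq_top]; exact Submodule.mem_top
    obtain ⟨k, hk, w, hw, rfl⟩ := Submodule.mem_sup.mp this
    refine ⟨w, hw, ?_, k, hk, add_comm _ _⟩
    rw [map_add, LinearMap.mem_ker.mp hk, zero_add]
  let β : LinearMap.BilinForm F W := (B.compl₂ T).domRestrict₁₂ W W
  have hβ : ∀ x y : W, β x y = B x.1 (T y.1) := fun _ _ => rfl
  have hβs : ∀ x y, β x y = β y x := fun x y => by rw [hβ, hβ, hadj2]
  have hβn : ∀ x, (∀ y, β x y = 0) → x = 0 := by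
    intro x hx
    apply Subtype.ext
    apply hWker _ x.2
    apply H.nd
    intro y
    obtain ⟨w, hw, h1, -⟩ := hdec y
    have h2 := hx ⟨w, hw⟩
    rw [hβ] at h2
    rw [← hadj, h1, h2]
  have hB0 : ∀ x y : V, B (T x) (T y) = 0 := by
    intro x y
    rw [← hadj, hTT, map_zero]
  -- families
  have hli : ∀ {ι : Type} (b : Basis ι F W), LinearIndependent F (fun i => T (b i).1) := by
    intro ι b
    have h1 := b.linearIndependent
    have h2 : LinearMap.ker (T.comp W.subtype) = ⊥ := by
      rw [LinearMap.ker_eq_bot']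
      intro x hx
      exact Subtype.ext (hWker _ x.2 hx)
    exact h1.map' _ h2
  by_cases hcase : ∃ v : W, β v v ≠ 0
  · left
    obtain ⟨b, hb⟩ := orthonormal_two (finrank F W) rfl β hβs hβn (fun _ => hcase)
    refine ⟨finrank F W, fun i => T (b i).1, hli b, fun i j => hB0 _ _, fun i => ?_, ?_, fun v => ?_⟩
    · have h1 := H.nT g hg (b i).1
      have h2 := hb i i
      rw [if_pos rfl, hβ] at h2
      rw [← hT, h2] at h1
      exact h1
    · obtain ⟨v, hv⟩ := hcase
      rw [finrank_pos_iff_exists_ne_zero]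
      exact ⟨v, fun h => hv (by rw [h, map_zero])⟩
    · rw [← hT, TT_apply]
      obtain ⟨w, hw, h1, k, hk, hv⟩ := hdec v
      rw [h1]
      have h2 := b.sum_repr ⟨w, hw⟩
      have h3 : w = ∑ i, b.repr ⟨w, hw⟩ i • (b i).1 := by
        have := (congrArg Subtype.val h2).symm
        rw [Submodule.coe_sum] at this
        exact this
      have h4 : ∀ j, B v (T (b j).1) = b.repr ⟨w, hw⟩ j := by
        intro j
        rw [hadj2, h1]
        have h5 : B (b j).1 (T w) = β (b j) ⟨w, hw⟩ := rfl
        rw [h5, ← h2, map_sum, Finset.sum_eq_single j]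
        · rw [map_smul, hb, if_pos rfl, smul_eq_mul, mul_one]
          rw [h2]
        · intro i _ hi
          rw [map_smul, hb, if_neg (Ne.symm hi), smul_zero]
        · intro h
          exact absurd (Finset.mem_univ _) h
      conv_lhs => rw [h3, map_sum]
      refine Finset.sum_congr rfl fun j _ => ?_
      rw [map_smul, h4]
      rfl
  · right
    push Not at hcase
    obtain ⟨k, l, b, hb1, hb2, hb3, hb4⟩ := alt_basis _ β hcase rfl
    have hl : l = 0 := by
      rcases Nat.eq_zero_or_pos l with h | h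
      · exact h
      · exfalso
        exact b.ne_zero (Sum.inr ⟨0, h⟩) (hβn _ fun y => hb4 ⟨0, h⟩ y)
    subst hl
    let b' : Basis (Fin k ⊕ Fin k) F W := b.reindex (Equiv.sumEmpty (Fin k ⊕ Fin k) (Fin 0))
    have hb' : ∀ i, b' i = b (Sum.inl i) := by
      intro i
      show (b.reindex (Equiv.sumEmpty (Fin k ⊕ Fin k) (Fin 0))) i = _
      rw [Basis.reindex_apply]
      rfl
    have hgram : ∀ i j : Fin k ⊕ Fin k, β (b' i) (b' j) = if i = j.swap then 1 else 0 := by
      intro i j
      rw [hb', hb']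
      rcases i with i | i <;> rcases j with j | j
      · rw [hb2, if_neg (by simp)]
      · rw [hb1]
        simp
      · rw [hβs, hb1]
        simp [eq_comm]
      · rw [hb3, if_neg (by simp)]
    refine ⟨k, fun i => T (b' i).1, hli b', fun i j => hB0 _ _, fun i => ?_, fun v => ?_⟩
    · have h1 := H.nT g hg (b' i).1
      have h2 : β (b' i) (b' i) = 0 := hcase _
      rw [hβ] at h2
      rw [← hT, h2] at h1
      exact h1
    · rw [← hT, TT_apply]
      obtain ⟨w, hw, h1, k', hk, hv⟩ := hdec v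
      rw [h1]
      have h2 := b'.sum_repr ⟨w, hw⟩
      have h3 : w = ∑ i, b'.repr ⟨w, hw⟩ i • (b' i).1 := by
        have := (congrArg Subtype.val h2).symm
        rw [Submodule.coe_sum] at this
        exact this
      have h4 : ∀ j : Fin k ⊕ Fin k, B v (T (b' j).1) = b'.repr ⟨w, hw⟩ j.swap := by
        intro j
        rw [hadj2, h1]
        have h5 : B (b' j).1 (T w) = β (b' j) ⟨w, hw⟩ := rfl
        rw [h5, ← h2, map_sum, Finset.sum_eq_single j.swap]
        · rw [map_smul, hgram, if_pos (by rw [Sum.swap_swap]), smul_eq_mul, mul_one]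
          rw [h2]
        · intro i _ hi
          rw [map_smul, hgram, if_neg, smul_zero]
          intro h
          apply hi
          rw [h, Sum.swap_swap]
        · intro h
          exact absurd (Finset.mem_univ _) h
      conv_lhs => rw [h3, map_sum]
      rw [← Equiv.sum_comp (Equiv.sumComm (Fin k) (Fin k))]
      refine Finset.sum_congr rfl fun j _ => ?_
      rw [map_smul, h4]
      rfl

end setup

end Cfsg.Agent.H17
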