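import Mathlib
import Cfsg.Agent.H17.InvTwo

set_option autoImplicit false

/-! Counting classes of involutions in characteristic two. -/

namespace Cfsg.Agent.H17

open Module Cfsg.Agent.H5

variable {F : Type*} [Field F] [Finite F] [CharP F 2] {V : Type*} [AddCommGroup V] [Module F V] [FiniteDimensional F V]
  {B : LinearMap.BilinForm F V} {N : V → F} {μ : F → F} {m M : ℕ}

theorem IG_order_two {B : LinearMap.BilinForm F V} {N : V → F} (g : IG B N) {T : V →ₗ[F] V} (hT : ∀ v, (g : V ≃ₗ[F] V) v - v = T v) (hT2 : ∀ v, T (T v) = 0) (hT0 : T ≠ 0) :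
    orderOf g = 2 := by
  haveI : Fact (Nat.Prime 2) := ⟨Nat.prime_two⟩
  have hg : ∀ v, (g : V ≃ₗ[F] V) v = T v + v := fun v => by rw [← hT]; abel
  apply orderOf_eq_prime
  · rw [pow_two]
    apply Subtype.ext
    apply LinearEquiv.ext
    intro v
    show (g : V ≃ₗ[F] V) ((g : V ≃ₗ[F] V) v) = v
    rw [hg, hg, map_add, hT2, zero_add, ← add_assoc]
    have : T v + T v = (2 : F) • T v := (two_smul F _).symm
    rw [this, two_zero, zero_smul, zero_add]
  · intro h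
    apply hT0
    apply LinearMap.ext
    intro v
    rw [← hT, h]
    exact sub_self v

theorem inv_count (H : ISet B N μ m M) :
    Nat.card {C : ConjClasses (IG B N) // ∃ g, ConjClasses.mk g = C ∧ orderOf g = 2} = m + M / 2 := by
  classical
  -- representatives
  have hrepc : ∀ i : Fin m, ∃ g : IG B N, ∃ e : Fin (i.val + 1) → V, LinearIndependent F e ∧ (∀ i j, B (e i) (e j) = 0) ∧ (∀ i, N (e i) = μ 1) ∧ ∀ v, (g : V ≃ₗ[F] V) v - v = TT B e id v := by
    intro i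
    obtain ⟨e, h1, h2, h3⟩ := H.exc (i.val + 1) i.2
    obtain ⟨g, hg, hgT⟩ := invol_of_TT H h2 (τ := id) (fun _ => rfl) (H.nc e h2 h3)
    exact ⟨⟨g, hg⟩, e, h1, h2, h3, hgT⟩
  have hrepa : ∀ i : Fin (M / 2), ∃ g : IG B N, ∃ e : Fin (i.val + 1) ⊕ Fin (i.val + 1) → V, LinearIndependent F e ∧ (∀ i j, B (e i) (e j) = 0) ∧ (∀ i, N (e i) = μ 0) ∧ ∀ v, (g : V ≃ₗ[F] V) v - v = TT B e Sum.swap v := by
    intro i
    obtain ⟨e, h1, h2, h3⟩ := H.exa (i.val + 1) (by have := i.2; omega)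
    obtain ⟨g, hg, hgT⟩ := invol_of_TT H h2 (τ := Sum.swap) (fun x => Sum.swap_swap x) (H.na e h2 h3)
    exact ⟨⟨g, hg⟩, e, h1, h2, h3, hgT⟩
  choose gc ec hc1 hc2 hc3 hc4 using hrepc
  choose ga ea ha1 ha2 ha3 ha4 using hrepa
  -- invariants
  let R : IG B N → ℕ := fun g => finrank F (LinearMap.range ((g : V ≃ₗ[F] V).toLinearMap - LinearMap.id))
  let A : IG B N → Prop := fun g => ∀ v, B v ((g : V ≃ₗ[F] V) v - v) = 0
  have hRA : ∀ g h : IG B N, IsConj g h → R g = R h ∧ (A g → A h) := by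
    intro g h hgh
    obtain ⟨c, hc⟩ := isConj_iff.mp hgh
    have h1 : ∀ v, (h : V ≃ₗ[F] V) ((c : V ≃ₗ[F] V) v) = (c : V ≃ₗ[F] V) ((g : V ≃ₗ[F] V) v) := by
      intro v
      have : h * c = c * g := by rw [← hc]; group
      exact LinearEquiv.congr_fun (congrArg Subtype.val this) v
    constructor
    · have h2 : LinearMap.range ((h : V ≃ₗ[F] V).toLinearMap - LinearMap.id) = (LinearMap.range ((g : V ≃ₗ[F] V).toLinearMap - LinearMap.id)).map ((c : V ≃ₗ[F] V) : V →ₗ[F] V) := by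
        ext x
        constructor
        · rintro ⟨v, rfl⟩
          refine ⟨(g : V ≃ₗ[F] V) ((c : V ≃ₗ[F] V).symm v) - (c : V ≃ₗ[F] V).symm v, ⟨_, rfl⟩, ?_⟩
          show (c : V ≃ₗ[F] V) ((g : V ≃ₗ[F] V) ((c : V ≃ₗ[F] V).symm v) - (c : V ≃ₗ[F] V).symm v) = (h : V ≃ₗ[F] V) v - v
          rw [map_sub, ← h1, LinearEquiv.apply_symm_apply]
        · rintro ⟨_, ⟨v, rfl⟩, rfl⟩
          refine ⟨(c : V ≃ₗ[F] V) v, ?_⟩
          show (h : V ≃ₗ[F] V) ((c : V ≃ₗ[F] V) v) - (c : V ≃ₗ[F] V) v = (c : V ≃ₗ[F] V) ((g : V ≃ₗ[F] V) v - v)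
          rw [map_sub, h1]
      show finrank F _ = finrank F _
      rw [h2]
      exact (LinearEquiv.finrank_map_eq (c : V ≃ₗ[F] V) _).symm
    · intro hA v
      obtain ⟨w, rfl⟩ := (c : V ≃ₗ[F] V).surjective v
      rw [h1, ← map_sub, c.2.1, hA]
  have hR : ∀ (g : IG B N) {ι : Type} [Fintype ι] (e : ι → V) (τ : ι → ι) (_ : Function.Involutive τ) (_ : LinearIndependent F e) (_ : ∀ v, (g : V ≃ₗ[F] V) v - v = TT B e τ v), R g = Fintype.card ι := by
    intro g ι _ e τ hτ he hgT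
    rw [← TT_rank H.nd he hτ]
    have h1 : (g : V ≃ₗ[F] V).toLinearMap - LinearMap.id = TT B e τ := LinearMap.ext fun v => hgT v
    show finrank F (LinearMap.range ((g : V ≃ₗ[F] V).toLinearMap - LinearMap.id)) = _
    rw [h1]
  have hAc : ∀ (g : IG B N) {s : ℕ} (e : Fin s → V) (_ : 0 < s) (_ : LinearIndependent F e) (_ : ∀ v, (g : V ≃ₗ[F] V) v - v = TT B e id v), ¬ A g := by
    intro g s e hs he hgT hA
    obtain ⟨v, hv⟩ := exists_dual_inv H.nd he (fun j => if j = ⟨0, hs⟩ then 1 else 0)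
    have h1 := hA v
    rw [hgT, TT_apply, map_sum, Finset.sum_eq_single ⟨0, hs⟩] at h1
    · rw [map_smul] at h1
      simp only [id] at h1
      rw [hv, if_pos rfl, smul_eq_mul, mul_one] at h1
      exact one_ne_zero h1
    · intro j _ hj
      rw [hv, if_neg hj, zero_smul, map_zero]
    · intro h
      exact absurd (Finset.mem_univ _) h
  have hAa : ∀ (g : IG B N) {k : ℕ} (e : Fin k ⊕ Fin k → V) (_ : ∀ v, (g : V ≃ₗ[F] V) v - v = TT B e Sum.swap v), A g := by
    intro g k e hgT v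
    rw [hgT, TT_apply, map_sum, Fintype.sum_sum_type]
    simp only [map_smul, smul_eq_mul, Sum.swap_inl, Sum.swap_inr]
    rw [← Finset.sum_add_distrib]
    refine Finset.sum_eq_zero fun i _ => ?_
    linear_combination (B v (e (Sum.inl i)) * B v (e (Sum.inr i))) * two_zero F
  have hordc : ∀ i, orderOf (gc i) = 2 := by
    intro i
    apply IG_order_two (gc i) (hc4 i) (TT_sq (hc2 i) id)
    intro h
    have h1 := TT_rank H.nd (hc1 i) (τ := id) (fun _ => rfl)
    rw [h, LinearMap.range_zero, finrank_bot, Fintype.card_fin] at h1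
    omega
  have horda : ∀ i, orderOf (ga i) = 2 := by
    intro i
    apply IG_order_two (ga i) (ha4 i) (TT_sq (ha2 i) Sum.swap)
    intro h
    have h1 := TT_rank H.nd (ha1 i) (τ := Sum.swap) (fun x => Sum.swap_swap x)
    rw [h, LinearMap.range_zero, finrank_bot, Fintype.card_sum, Fintype.card_fin] at h1
    omega
  have hcard : Nat.card (Fin m ⊕ Fin (M / 2)) = m + M / 2 := by
    rw [Nat.card_eq_fintype_card, Fintype.card_sum, Fintype.card_fin, Fintype.card_fin]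
  rw [← hcard]
  symm
  refine Nat.card_congr (Equiv.ofBijective (fun x => match x with
    | Sum.inl i => ⟨ConjClasses.mk (gc i), gc i, rfl, hordc i⟩
    | Sum.inr i => ⟨ConjClasses.mk (ga i), ga i, rfl, horda i⟩) ⟨?_, ?_⟩)
  · rintro (i | i) (j | j) h
    · have h1 : IsConj (gc i) (gc j) := ConjClasses.mk_eq_mk_iff_isConj.mp (congrArg Subtype.val h)
      have h2 := (hRA _ _ h1).1
      rw [hR (gc i) (ec i) id (fun _ => rfl) (hc1 i) (hc4 i), hR (gc j) (ec j) id (fun _ => rfl) (hc1 j) (hc4 j), Fintype.card_fin, Fintype.card_fin] at h2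
      congr 1
      exact Fin.ext (by omega)
    · have h1 : IsConj (gc i) (ga j) := ConjClasses.mk_eq_mk_iff_isConj.mp (congrArg Subtype.val h)
      exact absurd ((hRA _ _ h1.symm).2 (hAa _ (ea j) (ha4 j))) (hAc _ (ec i) (Nat.succ_pos _) (hc1 i) (hc4 i))
    · have h1 : IsConj (ga i) (gc j) := ConjClasses.mk_eq_mk_iff_isConj.mp (congrArg Subtype.val h)
      exact absurd ((hRA _ _ h1).2 (hAa _ (ea i) (ha4 i))) (hAc _ (ec j) (Nat.succ_pos _) (hc1 j) (hc4 j))
    · have h1 : IsConj (ga i) (ga j) := ConjClasses.mk_eq_mk_iff_isConj.mp (congrArg Subtype.val h)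
      have h2 := (hRA _ _ h1).1
      rw [hR (ga i) (ea i) Sum.swap (fun x => Sum.swap_swap x) (ha1 i) (ha4 i), hR (ga j) (ea j) Sum.swap (fun x => Sum.swap_swap x) (ha1 j) (ha4 j), Fintype.card_sum, Fintype.card_sum, Fintype.card_fin, Fintype.card_fin] at h2
      congr 1
      exact Fin.ext (by omega)
  · rintro ⟨C, g, rfl, hg⟩
    have hg2 : ∀ v, (g : V ≃ₗ[F] V) ((g : V ≃ₗ[F] V) v) = v := by
      intro v
      have h1 : g * g = 1 := by rw [← pow_two, ← hg, pow_orderOf_eq_one]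
      exact LinearEquiv.congr_fun (congrArg Subtype.val h1) v
    have hconj : ∀ {ι : Type} [Fintype ι] (e e' : ι → V) (τ : ι → ι) (h : IG B N) (_ : LinearIndependent F e) (_ : LinearIndependent F e') (_ : ∀ i j, B (e i) (e j) = 0) (_ : ∀ i j, B (e' i) (e' j) = 0)
        (_ : ∀ i, N (e' i) = N (e i)) (_ : ∀ v, (g : V ≃ₗ[F] V) v - v = TT B e τ v) (_ : ∀ v, (h : V ≃ₗ[F] V) v - v = TT B e' τ v), IsConj h g := by
      intro ι _ e e' τ h he he' h0 h0' hN h1 h2
      obtain ⟨c, hc, hce⟩ := H.witt e e' he he' (fun i j => by rw [h0, h0']) hN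
      refine IsConj.symm (isConj_iff.mpr ⟨⟨c, hc⟩, ?_⟩)
      rw [mul_inv_eq_iff_eq_mul]
      apply Subtype.ext
      apply LinearEquiv.ext
      intro v
      show c ((g : V ≃ₗ[F] V) v) = (h : V ≃ₗ[F] V) (c v)
      have e1 : (g : V ≃ₗ[F] V) v = TT B e τ v + v := by rw [← h1]; abel
      have e2 : (h : V ≃ₗ[F] V) (c v) = TT B e' τ (c v) + c v := by rw [← h2]; abel
      rw [e1, e2, map_add, TT_conj hc.1 hce]
    rcases invol_cases H g.2 hg2 with ⟨s, e, h1, h2, h3, h4, h5⟩ | ⟨k, e, h1, h2, h3, h5⟩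
    · have hs : s ≤ m := H.bc e h1 h2
      obtain ⟨i, rfl⟩ : ∃ i, s = i + 1 := ⟨s - 1, by omega⟩
      refine ⟨Sum.inl ⟨i, hs⟩, ?_⟩
      apply Subtype.ext
      show ConjClasses.mk (gc ⟨i, hs⟩) = ConjClasses.mk g
      rw [ConjClasses.mk_eq_mk_iff_isConj]
      exact hconj e (ec ⟨i, hs⟩) id _ h1 (hc1 ⟨i, hs⟩) h2 (hc2 ⟨i, hs⟩) (fun j => by rw [h3]; exact hc3 ⟨i, hs⟩ j) h5 (hc4 ⟨i, hs⟩)
    · have hk : 2 * k ≤ M := H.ba e h1 h2 h3
      have hk0 : 0 < k := by
        by_contra hk0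
        have hk0 : k = 0 := by omega
        subst hk0
        have h6 : g = 1 := by
          apply Subtype.ext
          apply LinearEquiv.ext
          intro v
          show (g : V ≃ₗ[F] V) v = v
          have := h5 v
          rw [TT_apply, Fintype.sum_empty] at this
          exact sub_eq_zero.mp this
        rw [h6, orderOf_one] at hg
        omega
      obtain ⟨i, rfl⟩ : ∃ i, k = i + 1 := ⟨k - 1, by omega⟩
      have hi : i < M / 2 := by omega
      refine ⟨Sum.inr ⟨i, hi⟩, ?_⟩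
      apply Subtype.ext
      show ConjClasses.mk (ga ⟨i, hi⟩) = ConjClasses.mk g
      rw [ConjClasses.mk_eq_mk_iff_isConj]
      exact hconj e (ea ⟨i, hi⟩) Sum.swap _ h1 (ha1 ⟨i, hi⟩) h2 (ha2 ⟨i, hi⟩) (fun j => by rw [h3]; exact ha3 ⟨i, hi⟩ j) h5 (ha4 ⟨i, hi⟩)

end Cfsg.Agent.H17
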