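import Mathlib
import Cfsg.Agent.H16.JNil2
import Cfsg.Agent.H5.AltBasis

set_option autoImplicit false

/-! Multiplicities of Jordan blocks of unipotent isometries. -/

namespace Cfsg.Agent.H17

open Module Cfsg.Agent.H16.JNil Cfsg.Agent.H5
open scoped MatrixGroups Matrix

section parity

variable {F : Type*} [Field F] {V : Type*} [AddCommGroup V] [Module F V] {J : LinearMap.BilinForm F V} {u : V ≃ₗ[F] V}

/-- the nilpotent part -/
def nuE (u : V ≃ₗ[F] V) : Module.End F V := (u : Module.End F V) - 1

theorem nuE_apply (u : V ≃ₗ[F] V) (x : V) : nuE u x = u x - x := rfl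

theorem nuE_u (u : V ≃ₗ[F] V) (x : V) : nuE u (u x) = u (nuE u x) := by
  rw [nuE_apply, nuE_apply, map_sub]

theorem nuE_symm (u : V ≃ₗ[F] V) (x : V) : nuE u (u.symm x) = u.symm (nuE u x) := by
  apply u.injective
  rw [← nuE_u, LinearEquiv.apply_symm_apply, LinearEquiv.apply_symm_apply]

theorem nuE_pow_symm (u : V ≃ₗ[F] V) (i : ℕ) (x : V) : (nuE u ^ i) (u.symm x) = u.symm ((nuE u ^ i) x) := by
  induction i with
  | zero => rfl
  | succ i ih => rw [pow_succ', Module.End.mul_apply, ih, nuE_symm]; rfl

theorem j_shift (hu : ∀ x y, J (u x) (u y) = J x y) (a b : V) : J (nuE u a) (u b) = - J a (nuE u b) := by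
  rw [nuE_apply, nuE_apply, map_sub, map_sub, LinearMap.sub_apply, hu]
  ring

theorem j_zero (hu : ∀ x y, J (u x) (u y) = J x y) (i : ℕ) : ∀ (l : ℕ) (a b : V), (nuE u ^ (i + l)) b = 0 → J ((nuE u ^ i) a) ((nuE u ^ l) b) = 0 := by
  induction i with
  | zero =>
    intro l a b h
    rw [zero_add] at h
    rw [h, map_zero]
  | succ i ih =>
    intro l a b h
    have h1 : (nuE u ^ l) b = u (u.symm ((nuE u ^ l) b)) := (u.apply_symm_apply _).symm
    rw [h1, pow_succ', Module.End.mul_apply, j_shift hu, ← nuE_pow_symm]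
    have h2 : nuE u ((nuE u ^ l) (u.symm b)) = (nuE u ^ (l + 1)) (u.symm b) := by rw [pow_succ']; rfl
    rw [h2, ih (l + 1) a (u.symm b), neg_zero]
    rw [nuE_pow_symm, show i + (l + 1) = i + 1 + l by omega, h, map_zero]

theorem j_zero' (hr : J.IsRefl) (hu : ∀ x y, J (u x) (u y) = J x y) (i l : ℕ) (a b : V) (h : (nuE u ^ (i + l)) a = 0) :
    J ((nuE u ^ i) a) ((nuE u ^ l) b) = 0 := by
  apply hr
  apply j_zero hu l i b a
  rw [add_comm, h]

theorem j_move (hu : ∀ x y, J (u x) (u y) = J x y) (i : ℕ) : ∀ (a y : V), (nuE u ^ (i + 1)) y = 0 → J ((nuE u ^ i) a) y = (-1) ^ i * J a ((nuE u ^ i) y) := by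
  induction i with
  | zero =>
    intro a y _
    rw [pow_zero, pow_zero, one_mul]; rfl
  | succ i ih =>
    intro a y h
    have h1 : y = u (u.symm y) := (u.apply_symm_apply _).symm
    have h2 : (nuE u ^ (i + 1)) a = nuE u ((nuE u ^ i) a) := by rw [pow_succ']; rfl
    conv_lhs => rw [h1, h2, j_shift hu]
    rw [ih a (nuE u (u.symm y))]
    · have h3 : (nuE u ^ i) (nuE u (u.symm y)) = (nuE u ^ (i + 1)) (u.symm y) := by rw [pow_succ]; rfl
      have h4 : u.symm ((nuE u ^ (i + 1)) y) = (nuE u ^ (i + 1)) y := by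
        apply u.injective
        rw [LinearEquiv.apply_symm_apply]
        have h5 : nuE u ((nuE u ^ (i + 1)) y) = 0 := by
          rw [pow_succ'] at h
          exact h
        rw [nuE_apply, sub_eq_zero] at h5
        exact h5.symm
      rw [h3, nuE_pow_symm, h4, pow_succ]
      ring
    · have h3 : (nuE u ^ (i + 1)) (nuE u (u.symm y)) = (nuE u ^ (i + 1 + 1)) (u.symm y) := by
        rw [pow_succ (nuE u) (i + 1)]; rfl
      rw [h3, nuE_pow_symm, h, map_zero]

variable [FiniteDimensional F V] {ι : Type*} [Fintype ι] {k : ι → ℕ}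

/-- the kernel of `ν ^ j` in a Jordan basis -/
theorem mem_ker_of_basis {ν : Module.End F V} {b : Basis (Σ i, Fin (k i)) F V} (hb : ∀ i (s : Fin (k i)),
    ν (b ⟨i, s⟩) = if hs : s.val + 1 < k i then b ⟨i, ⟨s.val + 1, hs⟩⟩ else 0) (j : ℕ) {y : V} (hy : (ν ^ j) y = 0) (x : Σ i, Fin (k i))
    (hx : x.2.val + j < k x.1) : b.repr y x = 0 := by
  classical
  have h1 := congrArg (fun z => b.repr z ⟨x.1, ⟨x.2.val + j, hx⟩⟩) hy
  simp only [map_zero, Finsupp.coe_zero, Pi.zero_apply] at h1
  rw [← h1]
  conv_rhs => rw [← b.sum_repr y]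
  rw [map_sum, map_sum, Finsupp.finset_sum_apply, Finset.sum_eq_single x]
  · rw [map_smul, map_smul, Finsupp.smul_apply, pow_basis hb j x.1 x.2, dif_pos hx, Basis.repr_self, Finsupp.single_eq_same, smul_eq_mul, mul_one]
  · rintro ⟨i, s⟩ _ hne
    rw [map_smul, map_smul, Finsupp.smul_apply, pow_basis hb j i s]
    split_ifs with h
    · rw [Basis.repr_self, Finsupp.single_eq_of_ne, smul_zero]
      intro h2
      apply hne
      obtain ⟨i', s'⟩ := x
      have h3 : i' = i := congrArg Sigma.fst h2
      subst h3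
      have h4 := eq_of_heq (Sigma.mk.inj h2).2
      have h5 : s'.val + j = s.val + j := congrArg Fin.val h4
      congr 1
      exact Fin.ext (by omega)
    · rw [map_zero, Finsupp.zero_apply, smul_zero]
  · intro h
    exact absurd (Finset.mem_univ x) h

theorem parity (hr : J.IsRefl) (hnd : J.Nondegenerate) (hu : ∀ x y, J (u x) (u y) = J x y) (HT : HasType (nuE u) k) {j : ℕ} (hj : 1 ≤ j)
    (halt : ∀ x, (nuE u ^ j) x = 0 → J x ((nuE u ^ (j - 1)) x) = 0) : Even (Finset.univ.filter (fun i => k i = j)).card := by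
  classical
  obtain ⟨b, hb⟩ := HT.basis
  have hpow := pow_basis hb
  set I := {i : ι // k i = j} with hI
  have hIcard : Fintype.card I = (Finset.univ.filter (fun i => k i = j)).card := Fintype.card_subtype _
  rw [← hIcard]
  let c : I → V := fun i => b ⟨i.1, ⟨0, by rw [i.2]; exact hj⟩⟩
  have hcli : LinearIndependent F c := by
    have h1 := b.linearIndependent
    refine h1.comp (fun i : I => (⟨i.1, ⟨0, by rw [i.2]; exact hj⟩⟩ : Σ i, Fin (k i))) ?_
    intro i i' h
    exact Subtype.ext (congrArg Sigma.fst h)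
  set C := Submodule.span F (Set.range c) with hC
  have hCfr : finrank F C = Fintype.card I := finrank_span_eq_card hcli
  rw [← hCfr]
  have hcj : ∀ i : I, (nuE u ^ j) (c i) = 0 := by
    intro i
    show (nuE u ^ j) (b ⟨i.1, ⟨0, _⟩⟩) = 0
    rw [hpow, dif_neg]
    show ¬ (0 + j < k i.1)
    rw [i.2]
    omega
  have hCW : ∀ x ∈ C, (nuE u ^ j) x = 0 := by
    intro x hx
    have h1 : C ≤ LinearMap.ker (nuE u ^ j) := by
      rw [hC, Submodule.span_le]
      rintro _ ⟨i, rfl⟩
      exact hcj i
    exact h1 hx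
  -- the form on `C`
  let β : LinearMap.BilinForm F C := (J.compl₂ (nuE u ^ (j - 1))).domRestrict₁₂ C C
  have hβ : ∀ x y : C, β x y = J x.1 ((nuE u ^ (j - 1)) y.1) := fun _ _ => rfl
  apply even_of_alt β
  · intro x
    rw [hβ]
    exact halt _ (hCW _ x.2)
  · intro x hx
    -- `z = ν^(j-1) x` is orthogonal to `ker ν^j`
    set z := (nuE u ^ (j - 1)) x.1 with hz
    have hzW : ∀ y, (nuE u ^ j) y = 0 → J y z = 0 := by
      intro y hy
      -- expand `y`
      rw [← b.sum_repr y, map_sum, LinearMap.sum_apply]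
      refine Finset.sum_eq_zero fun w _ => ?_
      rw [map_smul, LinearMap.smul_apply, smul_eq_mul]
      by_cases hw : w.2.val + j < k w.1
      · rw [mem_ker_of_basis hb j hy w hw, zero_mul]
      · have hw' : k w.1 ≤ w.2.val + j := by omega
        apply mul_eq_zero_of_right
        obtain ⟨i, s⟩ := w
        simp only at hw'
        rcases Nat.eq_zero_or_pos s.val with hs | hs
        · rcases Nat.lt_or_ge (k i) j with hk | hk
          · -- `ν^(j-1) b = 0`
            have h1 : (nuE u ^ (j - 1)) (b ⟨i, s⟩) = 0 := by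
              rw [hpow, dif_neg]
              omega
            apply hr
            exact j_zero hu (j - 1) 0 x.1 (b ⟨i, s⟩) (by rw [add_zero]; exact h1)
          · have hk' : k i = j := by omega
            -- use the radical condition
            have hbC : b ⟨i, s⟩ ∈ C := by
              apply Submodule.subset_span
              refine ⟨⟨i, hk'⟩, ?_⟩
              show b ⟨i, ⟨0, _⟩⟩ = b ⟨i, s⟩
              congr 2
              exact Fin.ext hs.symm
            have h1 := hx ⟨b ⟨i, s⟩, hbC⟩
            rw [hβ] at h1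
            have h2 := j_move hu (j - 1) x.1 (b ⟨i, s⟩) (by rw [Nat.sub_add_cancel hj]; exact hCW _ hbC)
            apply hr
            rw [hz, h2]
            show (-1) ^ (j - 1) * J x.1 ((nuE u ^ (j - 1)) (b ⟨i, s⟩)) = 0
            have h3 : J x.1 ((nuE u ^ (j - 1)) (b ⟨i, s⟩)) = 0 := h1
            rw [h3, mul_zero]
        · -- `b = ν b'`
          have h1 : b ⟨i, s⟩ = (nuE u ^ 1) (b ⟨i, ⟨s.val - 1, by have := s.2; omega⟩⟩) := by
            rw [pow_one, hb, dif_pos (by show s.val - 1 + 1 < k i; have := s.2; omega)]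
            congr 2
            exact Fin.ext (by show s.val = s.val - 1 + 1; omega)
          apply hr
          rw [h1, hz]
          exact j_zero' hr hu (j - 1) 1 x.1 _ (by rw [Nat.sub_add_cancel hj]; exact hCW _ x.2)
    -- hence `z` is in the image of `ν^j`
    have hzim : z ∈ LinearMap.range (nuE u ^ j) := by
      have h1 : LinearMap.range (nuE u ^ j) = J.orthogonal (LinearMap.ker (nuE u ^ j)) := by
        apply Submodule.eq_of_le_of_finrank_eq
        · rintro _ ⟨w, rfl⟩
          rw [LinearMap.BilinForm.mem_orthogonal_iff]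
          intro y hy
          rw [LinearMap.mem_ker] at hy
          show J y ((nuE u ^ j) w) = 0
          exact j_zero' hr hu 0 j y w (by rw [zero_add]; exact hy)
        · rw [LinearMap.BilinForm.finrank_orthogonal hnd]
          have := LinearMap.finrank_range_add_finrank_ker (nuE u ^ j)
          omega
      rw [h1, LinearMap.BilinForm.mem_orthogonal_iff]
      intro y hy
      exact hzW y hy
    obtain ⟨w, hw⟩ := hzim
    -- compare coordinates
    have hcoef : ∀ i : I, b.repr x.1 ⟨i.1, ⟨0, by rw [i.2]; exact hj⟩⟩ = 0 := by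
      intro i
      have hlt : 0 + (j - 1) < k i.1 := by rw [i.2]; omega
      -- coordinate of `z` at `(i, j-1)`
      have e1 : b.repr z ⟨i.1, ⟨0 + (j - 1), hlt⟩⟩ = b.repr x.1 ⟨i.1, ⟨0, by rw [i.2]; exact hj⟩⟩ := by
        rw [hz]
        conv_lhs => rw [← b.sum_repr x.1]
        rw [map_sum, map_sum, Finsupp.finset_sum_apply, Finset.sum_eq_single (⟨i.1, ⟨0, by rw [i.2]; exact hj⟩⟩ : Σ i, Fin (k i))]
        · rw [map_smul, map_smul, Finsupp.smul_apply, hpow, dif_pos hlt, Basis.repr_self, Finsupp.single_eq_same, smul_eq_mul, mul_one]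
        · rintro ⟨i', s'⟩ _ hne
          rw [map_smul, map_smul, Finsupp.smul_apply, hpow]
          split_ifs with h
          · rw [Basis.repr_self, Finsupp.single_eq_of_ne, smul_zero]
            intro h2
            apply hne
            have h3 : i.1 = i' := congrArg Sigma.fst h2
            subst h3
            have h4 := eq_of_heq (Sigma.mk.inj h2).2
            have h5 : 0 + (j - 1) = s'.val + (j - 1) := congrArg Fin.val h4
            congr 1
            exact Fin.ext (by show s'.val = 0; omega)
          · rw [map_zero, Finsupp.zero_apply, smul_zero]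
        · intro h
          exact absurd (Finset.mem_univ _) h
      -- coordinate of `ν^j w` at `(i, j-1)` vanishes
      have e2 : b.repr z ⟨i.1, ⟨0 + (j - 1), hlt⟩⟩ = 0 := by
        rw [← hw]
        conv_lhs => rw [← b.sum_repr w]
        rw [map_sum, map_sum, Finsupp.finset_sum_apply]
        refine Finset.sum_eq_zero fun w' _ => ?_
        obtain ⟨i', s'⟩ := w'
        rw [map_smul, map_smul, Finsupp.smul_apply, hpow]
        split_ifs with h
        · rw [Basis.repr_self, Finsupp.single_eq_of_ne, smul_zero]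
          intro h2
          have h3 : i.1 = i' := congrArg Sigma.fst h2
          subst h3
          have h4 := eq_of_heq (Sigma.mk.inj h2).2
          have h5 : 0 + (j - 1) = s'.val + j := congrArg Fin.val h4
          omega
        · rw [map_zero, Finsupp.zero_apply, smul_zero]
      rw [← e1, e2]
    -- `x` is in the span of the `c i`
    obtain ⟨g, hg⟩ := (Submodule.mem_span_range_iff_exists_fun F).mp x.2
    apply Subtype.ext
    show x.1 = 0
    rw [← hg]
    refine Finset.sum_eq_zero fun i _ => ?_
    have h1 := hcoef i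
    rw [← hg, map_sum, Finsupp.finset_sum_apply, Finset.sum_eq_single i] at h1
    · have h2 : b.repr (g i • c i) ⟨i.1, ⟨0, by rw [i.2]; exact hj⟩⟩ = g i := by
        show b.repr (g i • b ⟨i.1, ⟨0, _⟩⟩) _ = g i
        rw [map_smul, Basis.repr_self, Finsupp.smul_apply, Finsupp.single_eq_same, smul_eq_mul, mul_one]
      rw [h2] at h1
      rw [h1, zero_smul]
    · intro i' _ hne
      show b.repr (g i' • b ⟨i'.1, ⟨0, _⟩⟩) _ = 0
      rw [map_smul, Basis.repr_self, Finsupp.smul_apply, Finsupp.single_eq_of_ne, smul_zero]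
      intro h
      exact hne (Subtype.ext (congrArg Sigma.fst h).symm)
    · intro h
      exact absurd (Finset.mem_univ i) h

end parity

end Cfsg.Agent.H17
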