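import Mathlib

set_option autoImplicit false

/-! Regular nilpotent endomorphisms: `N ^ n = 0` on an `n`-dimensional space with one-dimensional kernel. -/

namespace Cfsg.Agent.H17

open Module

variable {F V : Type*} [Field F] [AddCommGroup V] [Module F V] [FiniteDimensional F V]

theorem finrank_ker_pow_succ_le (N : V →ₗ[F] V) (k : ℕ) :
    finrank F (LinearMap.ker (N ^ (k + 1))) ≤ finrank F (LinearMap.ker (N ^ k)) + finrank F (LinearMap.ker N) := by
  let f : LinearMap.ker (N ^ (k + 1)) →ₗ[F] LinearMap.ker N :=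
    (N ^ k).restrict (p := LinearMap.ker (N ^ (k + 1))) (q := LinearMap.ker N) (by
      intro x hx
      rw [LinearMap.mem_ker] at hx ⊢
      rw [pow_succ'] at hx
      exact hx)
  have h1 := LinearMap.finrank_range_add_finrank_ker f
  have h2 : finrank F (LinearMap.range f) ≤ finrank F (LinearMap.ker N) := Submodule.finrank_le _
  have h3 : finrank F (LinearMap.ker f) ≤ finrank F (LinearMap.ker (N ^ k)) := by
    let g : LinearMap.ker f →ₗ[F] LinearMap.ker (N ^ k) :=
      { toFun := fun x => ⟨(x : LinearMap.ker (N ^ (k + 1))).1, by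
          have := congrArg Subtype.val (LinearMap.mem_ker.mp x.2)
          exact LinearMap.mem_ker.mpr this⟩
        map_add' := fun x y => rfl
        map_smul' := fun c x => rfl }
    apply LinearMap.finrank_le_finrank_of_injective (f := g)
    intro x y h
    apply Subtype.ext
    apply Subtype.ext
    have h' : ((g x : LinearMap.ker (N ^ k)) : V) = ((g y : LinearMap.ker (N ^ k)) : V) := by rw [h]
    exact h'
  omega

theorem finrank_ker_pow_le (N : V →ₗ[F] V) (h1 : finrank F (LinearMap.ker N) ≤ 1) (k : ℕ) :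
    finrank F (LinearMap.ker (N ^ k)) ≤ k := by
  induction k with
  | zero =>
    have : LinearMap.ker (N ^ 0) = ⊥ := by rw [pow_zero]; exact LinearMap.ker_id
    rw [this, finrank_bot]
  | succ k ih =>
    have := finrank_ker_pow_succ_le N k
    omega

theorem finrank_ker_pow_add_le (N : V →ₗ[F] V) (h1 : finrank F (LinearMap.ker N) ≤ 1) (k j : ℕ) :
    finrank F (LinearMap.ker (N ^ (k + j))) ≤ finrank F (LinearMap.ker (N ^ k)) + j := by
  induction j with
  | zero => simp
  | succ j ih =>
    have := finrank_ker_pow_succ_le N (k + j)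
    rw [← add_assoc]
    omega

/-- For a regular nilpotent `N`, `dim ker N^k = k`. -/
theorem finrank_ker_pow_eq (N : V →ₗ[F] V) (h1 : finrank F (LinearMap.ker N) ≤ 1) {n : ℕ} (hn : finrank F V = n)
    (hN : N ^ n = 0) {k : ℕ} (hk : k ≤ n) : finrank F (LinearMap.ker (N ^ k)) = k := by
  have h2 := finrank_ker_pow_le N h1 k
  have h3 := finrank_ker_pow_add_le N h1 k (n - k)
  rw [Nat.add_sub_cancel' hk, hN, LinearMap.ker_zero, finrank_top, hn] at h3
  omega

theorem pow_finrank_restrict {N : V →ₗ[F] V} (hN : IsNilpotent N) (W : Submodule F V) (hW : ∀ v ∈ W, N v ∈ W) :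
    W ≤ LinearMap.ker (N ^ finrank F W) := by
  have hres : IsNilpotent (N.restrict hW) := by
    obtain ⟨k, hk⟩ := hN
    refine ⟨k, ?_⟩
    ext w
    rw [Module.End.pow_restrict k]
    simp [LinearMap.restrict_coe_apply, hk]
  have h1 : (N.restrict hW) ^ finrank F W = 0 := by
    have h2 := LinearMap.aeval_self_charpoly (N.restrict hW)
    rw [hres.charpoly_eq_X_pow_finrank] at h2
    simpa using h2
  intro w hw
  rw [LinearMap.mem_ker]
  have h3 := congrArg (fun T => ((T ⟨w, hw⟩ : W) : V)) h1
  simp only [LinearMap.zero_apply, ZeroMemClass.coe_zero] at h3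
  rw [Module.End.pow_restrict _, LinearMap.restrict_coe_apply] at h3
  exact h3

/-- The invariant subspaces of a regular nilpotent operator form a chain. -/
theorem eq_ker_pow_of_invariant (N : V →ₗ[F] V) (h1 : finrank F (LinearMap.ker N) ≤ 1) {n : ℕ} (hn : finrank F V = n)
    (hN : N ^ n = 0) (W : Submodule F V) (hW : ∀ v ∈ W, N v ∈ W) : W = LinearMap.ker (N ^ finrank F W) := by
  have hle : finrank F W ≤ n := hn ▸ Submodule.finrank_le W
  apply Submodule.eq_of_le_of_finrank_eq (pow_finrank_restrict ⟨n, hN⟩ W hW)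
  rw [finrank_ker_pow_eq N h1 hn hN hle]

/-- There is a cyclic vector; the powers of `N` applied to it form a basis. -/
theorem linearIndependent_pow_apply (N : V →ₗ[F] V) {n : ℕ} 
    (hN : N ^ n = 0) (v : V) (hv : (N ^ (n - 1)) v ≠ 0) : LinearIndependent F (fun i : Fin n => (N ^ (i : ℕ)) v) := by
  classical
  rw [Fintype.linearIndependent_iff]
  intro g hg
  by_contra hcon
  push Not at hcon
  -- smallest index with g i ≠ 0
  obtain ⟨i0, hi0⟩ := hcon
  let S := Finset.univ.filter (fun i : Fin n => g i ≠ 0)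
  have hS : S.Nonempty := ⟨i0, by simp [S, hi0]⟩
  let i := S.min' hS
  have hi : g i ≠ 0 := by
    have := S.min'_mem hS
    simpa [S] using this
  have hlt : ∀ j : Fin n, j < i → g j = 0 := by
    intro j hj
    by_contra hne
    have : i ≤ j := S.min'_le j (by simp [S, hne])
    exact absurd hj (not_lt.mpr this)
  have hin : (i : ℕ) ≤ n - 1 := by have := i.2; omega
  have h1 : (N ^ (n - 1 - (i : ℕ))) (∑ j, g j • (N ^ (j : ℕ)) v) = 0 := by rw [hg, map_zero]
  rw [map_sum, Finset.sum_eq_single i] at h1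
  · rw [map_smul, ← LinearMap.comp_apply, ← Module.End.mul_eq_comp, ← pow_add, Nat.sub_add_cancel hin] at h1
    rcases smul_eq_zero.mp h1 with h | h
    · exact hi h
    · exact hv h
  · intro j _ hj
    rcases lt_or_gt_of_ne hj with h | h
    · rw [hlt j h, zero_smul, map_zero]
    · rw [map_smul, ← LinearMap.comp_apply, ← Module.End.mul_eq_comp, ← pow_add]
      have h5 : (i : ℕ) < (j : ℕ) := h
      have : n - 1 - (i : ℕ) + (j : ℕ) = n + ((j : ℕ) - (i : ℕ) - 1) := by omega
      rw [this, pow_add, hN, zero_mul, LinearMap.zero_apply, smul_zero]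
  · intro h; exact absurd (Finset.mem_univ _) h

theorem exists_cyclic (N : V →ₗ[F] V) (h1 : finrank F (LinearMap.ker N) ≤ 1) {n : ℕ} (hpos : 1 ≤ n) (hn : finrank F V = n)
    (hN : N ^ n = 0) : ∃ v : V, (N ^ (n - 1)) v ≠ 0 := by
  by_contra hcon
  push Not at hcon
  have h2 : N ^ (n - 1) = 0 := LinearMap.ext hcon
  have h3 := finrank_ker_pow_eq N h1 hn hN (k := n - 1) (by omega)
  rw [h2, LinearMap.ker_zero, finrank_top, hn] at h3
  omega

/-- For a regular nilpotent operator, evaluation at a cyclic vector identifies the commutant with the space. -/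
theorem commutant_bijective (N : V →ₗ[F] V) {n : ℕ} (hpos : 1 ≤ n) (hn : finrank F V = n)
    (hN : N ^ n = 0) (v : V) (hv : (N ^ (n - 1)) v ≠ 0) :
    Function.Bijective (fun T : {T : V →ₗ[F] V // Commute T N} => (T : V →ₗ[F] V) v) := by
  classical
  haveI : Nonempty (Fin n) := ⟨⟨0, hpos⟩⟩
  let b : Basis (Fin n) F V := basisOfLinearIndependentOfCardEqFinrank (linearIndependent_pow_apply N hN v hv) (by simp [hn])
  have hb : ∀ i : Fin n, b i = (N ^ (i : ℕ)) v := by
    intro i; simp [b]
  have hcomm : ∀ (T : V →ₗ[F] V), Commute T N → ∀ k : ℕ, T ((N ^ k) v) = (N ^ k) (T v) := by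
    intro T hT k
    have := hT.pow_right k
    exact congrArg (fun S => S v) this
  constructor
  · rintro ⟨S, hS⟩ ⟨T, hT⟩ h
    apply Subtype.ext
    apply b.ext
    intro i
    show S (b i) = T (b i)
    rw [hb, hcomm S hS, hcomm T hT]
    exact congrArg _ h
  · intro w
    -- w = ∑ c_i N^i v ; T = ∑ c_i N^i
    refine ⟨⟨∑ i : Fin n, b.repr w i • N ^ (i : ℕ), ?_⟩, ?_⟩
    · apply Commute.sum_left
      intro i _
      exact ((Commute.refl N).pow_left _).smul_left _
    · show (∑ i : Fin n, b.repr w i • N ^ (i : ℕ)) v = w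
      rw [LinearMap.sum_apply]
      conv_rhs => rw [← b.sum_repr w]
      refine Finset.sum_congr rfl (fun i _ => ?_)
      rw [LinearMap.smul_apply, hb]

/-- An element of the commutant is a polynomial in `N`. -/
theorem commutant_eq_sum (N : V →ₗ[F] V) {n : ℕ} (hpos : 1 ≤ n) (hn : finrank F V = n)
    (hN : N ^ n = 0) (v : V) (hv : (N ^ (n - 1)) v ≠ 0) (T : V →ₗ[F] V) (hT : Commute T N) :
    ∃ c : Fin n → F, T = ∑ i : Fin n, c i • N ^ (i : ℕ) := by
  classical
  haveI : Nonempty (Fin n) := ⟨⟨0, hpos⟩⟩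
  let b : Basis (Fin n) F V := basisOfLinearIndependentOfCardEqFinrank (linearIndependent_pow_apply N hN v hv) (by simp [hn])
  have hb : ∀ i : Fin n, b i = (N ^ (i : ℕ)) v := by
    intro i; simp [b]
  refine ⟨fun i => b.repr (T v) i, ?_⟩
  have h1 := (commutant_bijective N hpos hn hN v hv).1
  have h2 : Commute (∑ i : Fin n, b.repr (T v) i • N ^ (i : ℕ)) N := by
    apply Commute.sum_left
    intro i _
    exact ((Commute.refl N).pow_left _).smul_left _
  have h3 := @h1 ⟨T, hT⟩ ⟨_, h2⟩ (by
    show T v = (∑ i : Fin n, b.repr (T v) i • N ^ (i : ℕ)) v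
    rw [LinearMap.sum_apply]
    conv_lhs => rw [← b.sum_repr (T v)]
    refine Finset.sum_congr rfl (fun i _ => ?_)
    rw [LinearMap.smul_apply, hb])
  exact congrArg Subtype.val h3

/-- An element `T` of the commutant of a regular nilpotent `N` is injective iff `T v ∉ ker N^(n-1)`. -/
theorem commutant_injective_iff (N : V →ₗ[F] V) {n : ℕ} (hpos : 1 ≤ n) (hn : finrank F V = n)
    (hN : N ^ n = 0) (v : V) (hv : (N ^ (n - 1)) v ≠ 0) (T : V →ₗ[F] V) (hT : Commute T N) :
    Function.Injective T ↔ (N ^ (n - 1)) (T v) ≠ 0 := by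
  classical
  haveI : Nonempty (Fin n) := ⟨⟨0, hpos⟩⟩
  have hcomm : ∀ k : ℕ, ∀ x, T ((N ^ k) x) = (N ^ k) (T x) := by
    intro k x
    have := hT.pow_right k
    exact congrArg (fun S => S x) this
  constructor
  · intro h h0
    rw [← hcomm] at h0
    exact hv (h (by rw [h0, map_zero]))
  · intro h
    let b : Basis (Fin n) F V := basisOfLinearIndependentOfCardEqFinrank (linearIndependent_pow_apply N hN v hv) (by simp [hn])
    let b' : Basis (Fin n) F V := basisOfLinearIndependentOfCardEqFinrank (linearIndependent_pow_apply N hN (T v) h) (by simp [hn])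
    have hTb : ∀ i, T (b i) = b' i := by
      intro i
      simp only [b, b', coe_basisOfLinearIndependentOfCardEqFinrank]
      exact hcomm _ _
    have : T = (b.equiv b' (Equiv.refl _) : V →ₗ[F] V) := by
      apply b.ext
      intro i
      rw [hTb]; simp
    rw [this]
    exact (b.equiv b' (Equiv.refl _)).injective

end Cfsg.Agent.H17
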