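import Mathlib
import Cfsg.Agent.H17.RegNil

set_option autoImplicit false

/-! Regular nilpotent matrices: ranks of powers, commutant. -/

namespace Cfsg.Agent.H17

open Module
open scoped MatrixGroups Matrix

variable {F : Type*} [Field F] {ι : Type*} [Fintype ι] [DecidableEq ι] {n : ℕ}

theorem finrank_ker_toLin (M : Matrix ι ι F) : finrank F (LinearMap.ker (Matrix.toLin' M)) + M.rank = Fintype.card ι := by
  have h1 := LinearMap.finrank_range_add_finrank_ker (Matrix.toLin' M)
  rw [Module.finrank_fintype_fun_eq_card] at h1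
  have h2 : finrank F (LinearMap.range (Matrix.toLin' M)) = M.rank := rfl
  omega

theorem reg_rank_pow (hn : Fintype.card ι = n) {M : Matrix ι ι F} (h0 : M ^ n = 0) (h1 : M.rank = n - 1) (t : ℕ) : (M ^ t).rank = n - t := by
  have hk : finrank F (LinearMap.ker (Matrix.toLin' M)) ≤ 1 := by
    have := finrank_ker_toLin M
    omega
  have h0' : (Matrix.toLin' M) ^ n = 0 := by rw [← Matrix.toLin'_pow, h0, map_zero]
  have h2 := finrank_ker_toLin (M ^ t)
  rw [Matrix.toLin'_pow] at h2
  rcases le_total t n with h | h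
  · rw [finrank_ker_pow_eq (Matrix.toLin' M) hk (by rw [Module.finrank_fintype_fun_eq_card, hn]) h0' h, hn] at h2
    omega
  · have : M ^ t = 0 := by
      rw [← Nat.sub_add_cancel h, pow_add, h0, mul_zero]
    rw [this, Matrix.rank_zero]
    omega

theorem reg_cyclic (hn : Fintype.card ι = n) (hpos : 1 ≤ n) {M : Matrix ι ι F} (h0 : M ^ n = 0) (h1 : M.rank = n - 1) :
    ∃ v : ι → F, ((Matrix.toLin' M) ^ (n - 1)) v ≠ 0 := by
  have hk : finrank F (LinearMap.ker (Matrix.toLin' M)) ≤ 1 := by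
    have := finrank_ker_toLin M
    omega
  exact exists_cyclic (Matrix.toLin' M) hk hpos (by rw [Module.finrank_fintype_fun_eq_card, hn]) (by rw [← Matrix.toLin'_pow, h0, map_zero])

/-- the commutant of a regular nilpotent matrix consists of the polynomials in it -/
theorem reg_comm_sum (hn : Fintype.card ι = n) (hpos : 1 ≤ n) {M : Matrix ι ι F} (h0 : M ^ n = 0) (h1 : M.rank = n - 1)
    {C : Matrix ι ι F} (hC : C * M = M * C) : ∃ c : Fin n → F, C = ∑ i : Fin n, c i • M ^ (i : ℕ) := by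
  obtain ⟨v, hv⟩ := reg_cyclic hn hpos h0 h1
  obtain ⟨c, hc⟩ := commutant_eq_sum (Matrix.toLin' M) hpos (by rw [Module.finrank_fintype_fun_eq_card, hn]) (by rw [← Matrix.toLin'_pow, h0, map_zero]) v hv
    (Matrix.toLin' C) (by
      show Matrix.toLin' C ∘ₗ Matrix.toLin' M = Matrix.toLin' M ∘ₗ Matrix.toLin' C
      rw [← Matrix.toLin'_mul, ← Matrix.toLin'_mul, hC])
  refine ⟨c, Matrix.toLin'.injective ?_⟩
  rw [hc, map_sum]
  exact Finset.sum_congr rfl fun i _ => by rw [map_smul, Matrix.toLin'_pow]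

theorem reg_comm (hn : Fintype.card ι = n) (hpos : 1 ≤ n) {M : Matrix ι ι F} (h0 : M ^ n = 0) (h1 : M.rank = n - 1)
    {C : Matrix ι ι F} (hC : C * M = M * C) : ∃ c : F, IsNilpotent (C - Matrix.scalar ι c) := by
  obtain ⟨c, rfl⟩ := reg_comm_sum hn hpos h0 h1 hC
  obtain ⟨k, rfl⟩ : ∃ k, n = k + 1 := ⟨n - 1, by omega⟩
  refine ⟨c 0, ?_⟩
  rw [Fin.sum_univ_succ]
  have e1 : c 0 • M ^ ((0 : Fin (k + 1)) : ℕ) = Matrix.scalar ι (c 0) := by
    rw [Fin.val_zero, pow_zero]
    ext i j
    rw [Matrix.smul_apply, Matrix.scalar_apply, Matrix.one_apply, Matrix.diagonal_apply, smul_eq_mul]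
    split_ifs
    · rw [mul_one]
    · rw [mul_zero]
  rw [e1, add_sub_cancel_left]
  have e2 : ∑ i : Fin k, c i.succ • M ^ ((i.succ : Fin (k + 1)) : ℕ) = M * ∑ i : Fin k, c i.succ • M ^ (i : ℕ) := by
    rw [Finset.mul_sum]
    refine Finset.sum_congr rfl fun i _ => ?_
    rw [mul_smul_comm, Fin.val_succ, pow_succ']
  rw [e2]
  apply Commute.isNilpotent_mul_right
  · exact Commute.sum_right _ _ _ fun i _ => ((Commute.refl M).pow_right _).smul_right _
  · exact ⟨_, h0⟩

theorem det_of_nilp {C : Matrix ι ι F} {c : F} (h : IsNilpotent (C - Matrix.scalar ι c)) : C.det = c ^ Fintype.card ι := by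
  have h1 : IsNilpotent (Matrix.scalar ι c - C) := by rw [← neg_sub]; exact h.neg
  have h2 := Matrix.isNilpotent_charpoly_sub_pow_of_isNilpotent h1
  have h3 : (Matrix.scalar ι c - C).charpoly = Polynomial.X ^ Fintype.card ι := sub_eq_zero.mp (isNilpotent_iff_eq_zero.mp h2)
  have h4 := Matrix.eval_charpoly (Matrix.scalar ι c - C) c
  rw [h3, sub_sub_cancel, Polynomial.eval_pow, Polynomial.eval_X] at h4
  exact h4.symm

theorem scalar_nilp [Nonempty ι] {c : F} (h : IsNilpotent (Matrix.scalar ι c)) : c = 0 := by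
  obtain ⟨k, hk⟩ := h
  rw [← map_pow] at hk
  have h1 : c ^ k = 0 := by
    have := congrFun (congrFun hk (Classical.arbitrary ι)) (Classical.arbitrary ι)
    rwa [Matrix.scalar_apply, Matrix.diagonal_apply_eq, Matrix.zero_apply] at this
  exact eq_zero_of_pow_eq_zero h1

end Cfsg.Agent.H17
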