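import Mathlib
import Cfsg.Agent.H16.JNil2
import Cfsg.Agent.H17.GUConj

set_option autoImplicit false

/-! Unipotent elements of linear groups and unitary groups: similarity by ranks. -/

namespace Cfsg.Agent.H17

open Module Cfsg.Agent.H16.JNil
open scoped MatrixGroups Matrix

section rank

variable {K : Type*} [Field K] {n : ℕ}

theorem unip_conj {A B : GL (Fin n) K} (hA : IsNilpotent (Ng A)) (hB : IsNilpotent (Ng B))
    (h : ∀ t : ℕ, finrank K (LinearMap.range (Ng A ^ t)) = finrank K (LinearMap.range (Ng B ^ t))) : IsConj A B := by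
  obtain ⟨μ, hμ⟩ := exists_PT (Ng A) (Module.finrank_fin_fun K) hA
  obtain ⟨ν, hν⟩ := exists_PT (Ng B) (Module.finrank_fin_fun K) hB
  have h1 : μ = ν := by
    apply Nat.Partition.ext
    apply count_of_sums (fun x hx => (μ.parts_pos hx).ne') (fun x hx => (ν.parts_pos hx).ne')
    intro t
    rw [← hμ.rank t, ← hν.rank t, h]
  subst h1
  rw [conj_iff]
  exact hμ.similar hν

theorem finrank_Ng (A : GL (Fin n) K) (t : ℕ) : finrank K (LinearMap.range (Ng A ^ t)) = (((A : Matrix (Fin n) (Fin n) K) - 1) ^ t).rank := by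
  unfold Ng
  rw [← Matrix.toLin'_pow]
  rfl

theorem nilp_Ng (A : GL (Fin n) K) : IsNilpotent (Ng A) ↔ IsNilpotent ((A : Matrix (Fin n) (Fin n) K) - 1) := by
  unfold Ng
  constructor
  · rintro ⟨k, hk⟩
    refine ⟨k, ?_⟩
    rw [← Matrix.toLin'_pow] at hk
    exact (LinearEquiv.map_eq_zero_iff _).mp hk
  · rintro ⟨k, hk⟩
    refine ⟨k, ?_⟩
    rw [← Matrix.toLin'_pow, hk, map_zero]

/-- similarity of unipotent matrices is detected by the ranks of `(A - 1) ^ t` -/
theorem unip_conj_rank {A B : GL (Fin n) K} (hA : IsNilpotent ((A : Matrix (Fin n) (Fin n) K) - 1)) (hB : IsNilpotent ((B : Matrix (Fin n) (Fin n) K) - 1))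
    (h : ∀ t : ℕ, (((A : Matrix (Fin n) (Fin n) K) - 1) ^ t).rank = (((B : Matrix (Fin n) (Fin n) K) - 1) ^ t).rank) : IsConj A B :=
  unip_conj ((nilp_Ng A).mpr hA) ((nilp_Ng B).mpr hB) fun t => by rw [finrank_Ng, finrank_Ng, h]

theorem rank_map_equiv [Finite K] (σ : K ≃+* K) (M : Matrix (Fin n) (Fin n) K) : (M.map σ).rank = M.rank := by
  have h1 : ∀ v : Fin n → K, (M.map σ).mulVecLin (σ ∘ v) = σ ∘ (M.mulVecLin v) := by
    intro v
    funext i
    rw [Matrix.mulVecLin_apply, Matrix.mulVecLin_apply]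
    exact (RingHom.map_mulVec (σ : K →+* K) M v i).symm
  have h2 : Nat.card (LinearMap.range (M.map σ).mulVecLin) = Nat.card (LinearMap.range M.mulVecLin) := by
    symm
    refine Nat.card_congr (Equiv.ofBijective (fun w => ⟨σ ∘ w.1, ?_⟩) ⟨?_, ?_⟩)
    · obtain ⟨w, v, rfl⟩ := w
      exact ⟨σ ∘ v, h1 v⟩
    · intro w w' h
      apply Subtype.ext
      funext i
      exact σ.injective (congrFun (congrArg Subtype.val h) i)
    · rintro ⟨w, v, rfl⟩
      refine ⟨⟨M.mulVecLin (σ.symm ∘ v), LinearMap.mem_range_self _ _⟩, ?_⟩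
      apply Subtype.ext
      show σ ∘ (M.mulVecLin (σ.symm ∘ v)) = (M.map σ).mulVecLin v
      rw [← h1]
      congr 1
      funext i
      exact σ.apply_symm_apply _
  have h3 : ∀ W : Submodule K (Fin n → K), Nat.card W = Nat.card K ^ finrank K W := fun W => Module.natCard_eq_pow_finrank (K := K)
  rw [h3, h3] at h2
  exact Nat.pow_right_injective (Finite.one_lt_card (α := K)) h2

/-- a unipotent matrix is similar to its conjugate inverse transpose -/
theorem unip_conj_invT [Finite K] (σ : K ≃+* K) {A : GL (Fin n) K} (hA : IsNilpotent ((A : Matrix (Fin n) (Fin n) K) - 1)) (B : GL (Fin n) K)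
    (hB : ((A : Matrix (Fin n) (Fin n) K).map σ)ᵀ * (B : Matrix (Fin n) (Fin n) K) = 1) : IsConj A B := by
  set C : Matrix (Fin n) (Fin n) K := ((A : Matrix (Fin n) (Fin n) K).map σ)ᵀ with hC
  have hC1 : C - 1 = (((A : Matrix (Fin n) (Fin n) K) - 1).map σ)ᵀ := by
    rw [hC, ← Matrix.transpose_one (α := K) (n := Fin n), ← Matrix.transpose_sub]
    congr 1
    ext i j
    rw [Matrix.sub_apply, Matrix.map_apply, Matrix.map_apply, Matrix.sub_apply, map_sub, Matrix.one_apply, Matrix.transpose_apply, Matrix.one_apply]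
    congr 1
    simp only [eq_comm (a := j) (b := i)]
    split_ifs
    · rw [map_one]
    · rw [map_zero]
  have hCB : C * (B : Matrix (Fin n) (Fin n) K) = 1 := hB
  have hBC : (B : Matrix (Fin n) (Fin n) K) * C = 1 := mul_eq_one_comm.mp hCB
  have hB1 : (B : Matrix (Fin n) (Fin n) K) - 1 = (-(B : Matrix (Fin n) (Fin n) K)) * (C - 1) := by
    rw [mul_sub, neg_mul, hBC, mul_one]; abel
  have hcomm : Commute (-(B : Matrix (Fin n) (Fin n) K)) (C - 1) := by
    apply Commute.sub_right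
    · apply Commute.neg_left
      show (B : Matrix (Fin n) (Fin n) K) * C = C * B
      rw [hCB, hBC]
    · exact Commute.one_right _
  have hpow : ∀ t : ℕ, ((B : Matrix (Fin n) (Fin n) K) - 1) ^ t = (-(B : Matrix (Fin n) (Fin n) K)) ^ t * (C - 1) ^ t := fun t => by
    rw [hB1, hcomm.mul_pow]
  have hCpow : ∀ t : ℕ, (C - 1) ^ t = ((((A : Matrix (Fin n) (Fin n) K) - 1) ^ t).map σ)ᵀ := by
    intro t
    rw [hC1, ← Matrix.transpose_pow]
    congr 1
    exact (map_pow (RingHom.mapMatrix (σ : K →+* K)) ((A : Matrix (Fin n) (Fin n) K) - 1) t).symm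
  have hrank : ∀ t : ℕ, (((B : Matrix (Fin n) (Fin n) K) - 1) ^ t).rank = (((A : Matrix (Fin n) (Fin n) K) - 1) ^ t).rank := by
    intro t
    rw [hpow, Matrix.rank_mul_eq_right_of_isUnit_det, hCpow, Matrix.rank_transpose, rank_map_equiv]
    rw [← Matrix.isUnit_iff_isUnit_det]
    exact (B.isUnit.neg).pow t
  apply unip_conj_rank hA ?_ (fun t => (hrank t).symm)
  obtain ⟨k, hk⟩ := hA
  refine ⟨k, ?_⟩
  rw [hpow, hCpow, hk, Matrix.map_zero _ (map_zero σ), Matrix.transpose_zero, mul_zero]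

end rank

section gu

variable {K : Type*} [Field K] [Fintype K] {q n : ℕ}

/-- every unipotent class of `GL_n(q²)` meets `GU_n(q)` -/
theorem gu_unip (hK : Fintype.card K = q ^ 2) {A : GL (Fin n) K} (hA : IsNilpotent ((A : Matrix (Fin n) (Fin n) K) - 1)) :
    ∃ B : ↥(Cfsg.GU n K q), IsConj A (B : GL (Fin n) K) := by
  rw [gu_similar hK A]
  obtain ⟨σ, hσ, hσ2, hσ1⟩ := Cfsg.Agent.H5.exists_frob hK
  let e : K ≃+* K := RingEquiv.ofBijective σ (Finite.injective_iff_bijective.mp σ.injective)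
  have hdet : IsUnit (((A : Matrix (Fin n) (Fin n) K).map (fun x : K => x ^ q)).transpose) := by
    have h1 : ((A : Matrix (Fin n) (Fin n) K).map (fun x : K => x ^ q)).transpose = sT n σ A := by
      unfold sT
      congr 1
      ext i j
      exact (hσ _).symm
    rw [h1]
    exact ((sT_AI hσ2).u A).isUnit
  obtain ⟨B, hB⟩ := (Matrix.isUnit_nonsing_inv_iff.mpr hdet)
  have h2 : ((A : Matrix (Fin n) (Fin n) K).map e)ᵀ * (B : Matrix (Fin n) (Fin n) K) = 1 := by
    rw [hB]
    have h3 : (A : Matrix (Fin n) (Fin n) K).map e = (A : Matrix (Fin n) (Fin n) K).map (fun x : K => x ^ q) := by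
      ext i j
      exact hσ _
    rw [h3]
    exact Matrix.mul_nonsing_inv _ ((Matrix.isUnit_iff_isUnit_det _).mp hdet)
  rw [← hB]
  exact (Units.coeHom _).map_isConj (unip_conj_invT e hA B h2)

end gu

end Cfsg.Agent.H17
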