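import Mathlib
import Cfsg.Agent.H17.CommInv
import Cfsg.Agent.H17.RegUni
import Cfsg.Agent.H17.UnipGU

set_option autoImplicit false

/-! Adjoints for the standard symplectic form; regular unipotent elements. -/

namespace Cfsg.Agent.H17

open Module Cfsg.Agent.H16.JNil
open scoped MatrixGroups Matrix

section adj

variable {F : Type*} [Field F] {m : ℕ}

/-- the adjoint for the symplectic form -/
def sJ (X : Matrix (Fin m ⊕ Fin m) (Fin m ⊕ Fin m) F) : Matrix (Fin m ⊕ Fin m) (Fin m ⊕ Fin m) F :=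
  -(Matrix.J (Fin m) F * Xᵀ * Matrix.J (Fin m) F)

theorem sJ_AI : AI (sJ : Matrix (Fin m ⊕ Fin m) (Fin m ⊕ Fin m) F → _) where
  add x y := by
    unfold sJ
    rw [Matrix.transpose_add, mul_add, add_mul, neg_add]
  mul x y := by
    unfold sJ
    rw [Matrix.transpose_mul, neg_mul_neg]
    have h : Matrix.J (Fin m) F * Matrix.J (Fin m) F = -1 := Matrix.J_squared _ _
    calc -(Matrix.J (Fin m) F * (yᵀ * xᵀ) * Matrix.J (Fin m) F) = Matrix.J (Fin m) F * yᵀ * (-1) * xᵀ * Matrix.J (Fin m) F := by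
          rw [mul_neg_one, neg_mul, neg_mul]; simp only [mul_assoc]
      _ = Matrix.J (Fin m) F * yᵀ * (Matrix.J (Fin m) F * Matrix.J (Fin m) F) * xᵀ * Matrix.J (Fin m) F := by rw [h]
      _ = _ := by simp only [mul_assoc]
  inv x := by
    unfold sJ
    have h : Matrix.J (Fin m) F * Matrix.J (Fin m) F = -1 := Matrix.J_squared _ _
    rw [Matrix.transpose_neg, Matrix.transpose_mul, Matrix.transpose_mul, Matrix.transpose_transpose, Matrix.J_transpose]
    calc -(Matrix.J (Fin m) F * -(-Matrix.J (Fin m) F * (x * -Matrix.J (Fin m) F)) * Matrix.J (Fin m) F) =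
        (Matrix.J (Fin m) F * Matrix.J (Fin m) F) * x * (Matrix.J (Fin m) F * Matrix.J (Fin m) F) := by noncomm_ring
      _ = x := by rw [h]; noncomm_ring
  one := by
    unfold sJ
    rw [Matrix.transpose_one, mul_one, Matrix.J_squared, neg_neg]

theorem mem_Sp_sJ {A : Matrix (Fin m ⊕ Fin m) (Fin m ⊕ Fin m) F} : A ∈ Matrix.symplecticGroup (Fin m) F ↔ sJ A * A = 1 := by
  rw [SymplecticGroup.mem_iff']
  unfold sJ
  have h : Matrix.J (Fin m) F * Matrix.J (Fin m) F = -1 := Matrix.J_squared _ _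
  constructor
  · intro h1
    rw [neg_mul, mul_assoc, mul_assoc, ← mul_assoc Aᵀ, h1, h, neg_neg]
  · intro h1
    have h2 : Matrix.J (Fin m) F * (Aᵀ * Matrix.J (Fin m) F * A) = -1 := by
      rw [neg_mul, mul_assoc, mul_assoc, ← mul_assoc Aᵀ] at h1
      rw [← h1, neg_neg]
    have h3 := congrArg (fun X => -(Matrix.J (Fin m) F * X)) h2
    simp only [← mul_assoc, h] at h3
    simpa using h3

theorem sJ_scalar (c : F) : sJ (m := m) (Matrix.scalar (Fin m ⊕ Fin m) c) = Matrix.scalar (Fin m ⊕ Fin m) c := by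
  unfold sJ
  have h1 : (Matrix.scalar (Fin m ⊕ Fin m) c)ᵀ = Matrix.scalar (Fin m ⊕ Fin m) c := by
    rw [Matrix.scalar_apply, Matrix.diagonal_transpose]
  have h : Matrix.J (Fin m) F * Matrix.J (Fin m) F = -1 := Matrix.J_squared _ _
  rw [h1, (Matrix.scalar_commute c (fun r => mul_comm _ _) (Matrix.J (Fin m) F)).symm.eq, mul_assoc, h, mul_neg, mul_one, neg_neg]

theorem sJ_pow (X : Matrix (Fin m ⊕ Fin m) (Fin m ⊕ Fin m) F) (k : ℕ) : sJ (X ^ k) = sJ X ^ k := by
  induction k with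
  | zero => rw [pow_zero, pow_zero, sJ_AI.one]
  | succ k ih => rw [pow_succ, sJ_AI.mul, ih, ← pow_succ']

theorem sJ_neg (X : Matrix (Fin m ⊕ Fin m) (Fin m ⊕ Fin m) F) : sJ (-X) = - sJ X := by
  unfold sJ
  rw [Matrix.transpose_neg]; noncomm_ring

theorem sJ_sub (X Y : Matrix (Fin m ⊕ Fin m) (Fin m ⊕ Fin m) F) : sJ (X - Y) = sJ X - sJ Y := by
  rw [sub_eq_add_neg, sJ_AI.add, sJ_neg, ← sub_eq_add_neg]

end adj

section sqrt

variable {F : Type*} [Field F] {R : Type*} [Ring R] [Algebra F R]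

/-- square roots of unipotent elements in odd characteristic -/
theorem unip_sqrt (p : ℕ) [Fact p.Prime] [CharP F p] (hp : p ≠ 2) {a : R} (ha : IsNilpotent (a - 1)) :
    ∃ k : ℕ, (a ^ k) ^ 2 = a := by
  rcases subsingleton_or_nontrivial R with h | h
  · exact ⟨0, Subsingleton.elim _ _⟩
  · haveI : CharP R p := charP_of_injective_algebraMap (FaithfulSMul.algebraMap_injective F R) p
    obtain ⟨n, hn⟩ := ha
    have h1 : (a - 1) ^ (p ^ n) = 0 := by
      have : n ≤ p ^ n := (Nat.lt_pow_self (Fact.out : p.Prime).one_lt).le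
      rw [← Nat.sub_add_cancel this, pow_add, hn, mul_zero]
    have h2 : a ^ (p ^ n) = 1 := by
      rw [sub_pow_char_pow_of_commute p n (Commute.one_right a), one_pow] at h1
      exact sub_eq_zero.mp h1
    have h3 : Odd (p ^ n) := ((Fact.out : p.Prime).odd_of_ne_two hp).pow
    obtain ⟨k, hk⟩ := h3
    refine ⟨k + 1, ?_⟩
    rw [← pow_mul, show (k + 1) * 2 = p ^ n + 1 by omega, pow_succ, h2, one_mul]

end sqrt

section reg

variable {F : Type*} [Field F] {ι : Type*} [Fintype ι] [DecidableEq ι] {n : ℕ}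

/-- regular nilpotent matrices of the same size are similar -/
theorem reg_similar (hn : Fintype.card ι = n) {M M' : Matrix ι ι F} (h0 : M ^ n = 0) (h1 : M.rank = n - 1) (h0' : M' ^ n = 0) (h1' : M'.rank = n - 1) :
    ∃ g : GL ι F, (g : Matrix ι ι F) * M = M' * g := by
  have hV : finrank F (ι → F) = n := by rw [Module.finrank_fintype_fun_eq_card, hn]
  obtain ⟨μ, hμ⟩ := exists_PT (Matrix.toLin' M) hV ⟨n, by rw [← Matrix.toLin'_pow, h0, map_zero]⟩
  obtain ⟨ν, hν⟩ := exists_PT (Matrix.toLin' M') hV ⟨n, by rw [← Matrix.toLin'_pow, h0', map_zero]⟩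
  have hμν : μ = ν := by
    apply Nat.Partition.ext
    apply count_of_sums (fun x hx => (μ.parts_pos hx).ne') (fun x hx => (ν.parts_pos hx).ne')
    intro t
    rw [← hμ.rank t, ← hν.rank t, ← Matrix.toLin'_pow, ← Matrix.toLin'_pow]
    show (M ^ t).rank = (M' ^ t).rank
    rw [reg_rank_pow hn h0 h1, reg_rank_pow hn h0' h1']
  subst hμν
  obtain ⟨e, he⟩ := hμ.similar hν
  have hdet : (LinearMap.toMatrix' (e : (ι → F) →ₗ[F] (ι → F))).det ≠ 0 := by
    intro h
    obtain ⟨v, hv, hv2⟩ := Matrix.exists_mulVec_eq_zero_iff.mpr h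
    rw [← Matrix.toLin'_apply, Matrix.toLin'_toMatrix'] at hv2
    exact hv (by simpa using hv2)
  refine ⟨Matrix.GeneralLinearGroup.mkOfDetNeZero _ hdet, ?_⟩
  apply Matrix.toLin'.injective
  apply LinearMap.ext
  intro v
  show Matrix.toLin' (LinearMap.toMatrix' (e : (ι → F) →ₗ[F] (ι → F)) * M) v = Matrix.toLin' (M' * LinearMap.toMatrix' (e : (ι → F) →ₗ[F] (ι → F))) v
  rw [Matrix.toLin'_mul, Matrix.toLin'_mul, Matrix.toLin'_toMatrix']
  exact he v

theorem exists_reg_nilp (F : Type*) [Field F] (m : ℕ) : ∃ N : Matrix (Fin m) (Fin m) F, N ^ m = 0 ∧ N.rank = m - 1 := by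
  rcases Nat.eq_zero_or_pos m with rfl | hm
  · exact ⟨0, Subsingleton.elim _ _, by rw [Matrix.rank_zero]⟩
  · obtain ⟨ν, hν⟩ := exists_of_partition F (n := m) ⟨{m}, by simpa using hm, by simp⟩
    have h0 := (hν.pow_zero_iff m).mpr (by simp)
    have h1 := hν.rank 1
    refine ⟨LinearMap.toMatrix' ν, ?_, ?_⟩
    · apply Matrix.toLin'.injective
      rw [Matrix.toLin'_pow, Matrix.toLin'_toMatrix', h0, map_zero]
    · show finrank F (LinearMap.range (Matrix.toLin' (LinearMap.toMatrix' ν))) = _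
      rw [Matrix.toLin'_toMatrix']
      rw [pow_one] at h1
      rw [h1]
      simp

end reg

section spreg

variable {F : Type*} [Field F] {m : ℕ}

theorem fromBlocks_upper_pow (A B D : Matrix (Fin m) (Fin m) F) (k : ℕ) : ∃ Y : Matrix (Fin m) (Fin m) F,
    (Matrix.fromBlocks A B 0 D) ^ k = Matrix.fromBlocks (A ^ k) Y 0 (D ^ k) := by
  induction k with
  | zero => exact ⟨0, by rw [pow_zero, pow_zero, pow_zero, Matrix.fromBlocks_one]⟩
  | succ k ih =>
    obtain ⟨Y, hY⟩ := ih
    refine ⟨A ^ k * B + Y * D, ?_⟩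
    rw [pow_succ, hY, Matrix.fromBlocks_multiply, pow_succ, pow_succ]
    simp

/-- the symplectic group contains regular unipotent elements -/
theorem exists_sp_reg (F : Type*) [Field F] {m : ℕ} (hm : 1 ≤ m) : ∃ u : Matrix.symplecticGroup (Fin m) F,
    ((u : Matrix (Fin m ⊕ Fin m) (Fin m ⊕ Fin m) F) - 1) ^ (2 * m) = 0 ∧ ((u : Matrix (Fin m ⊕ Fin m) (Fin m ⊕ Fin m) F) - 1).rank = 2 * m - 1 := by
  classical
  obtain ⟨N, hN0, hN1⟩ := exists_reg_nilp F m
  -- the inverse of `1 + N`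
  have hu : IsUnit (1 + N) := by
    rw [add_comm]
    exact IsNilpotent.isUnit_add_one ⟨m, hN0⟩
  obtain ⟨A₀, hA⟩ := hu
  obtain ⟨A, hAd⟩ : ∃ A : Matrix (Fin m) (Fin m) F, A = A₀ := ⟨_, rfl⟩
  rw [← hAd] at hA
  set B : Matrix (Fin m) (Fin m) F := ((A₀⁻¹ : (Matrix (Fin m) (Fin m) F)ˣ) : Matrix (Fin m) (Fin m) F) with hB
  have hAB : A * B = 1 := by rw [hAd]; exact Units.mul_inv A₀
  have hBA : B * A = 1 := by rw [hAd]; exact Units.inv_mul A₀
  have hBN : Commute B N := by
    have h1 : N = (A : Matrix (Fin m) (Fin m) F) - 1 := by rw [hA]; abel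
    have h2 : Commute B A := by show B * A = A * B; rw [hAB, hBA]
    rw [h1]
    exact h2.sub_right (Commute.one_right _)
  -- the kernel of `Nᵀ`
  have hk1 : finrank F (LinearMap.ker (Matrix.toLin' Nᵀ)) = 1 := by
    have h1 := finrank_ker_toLin Nᵀ
    rw [Matrix.rank_transpose, Fintype.card_fin, hN1] at h1
    omega
  obtain ⟨⟨η, hη⟩, hη0, hη1⟩ := finrank_eq_one_iff'.mp hk1
  have hη0' : η ≠ 0 := fun h => hη0 (Subtype.ext h)
  rw [LinearMap.mem_ker, Matrix.toLin'_apply] at hη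
  obtain ⟨i, hi⟩ : ∃ i, η i ≠ 0 := by
    by_contra h
    push Not at h
    exact hη0' (funext h)
  let S : Matrix (Fin m) (Fin m) F := Matrix.single i i 1
  have hS : Sᵀ = S := by
    show (Matrix.single i i 1)ᵀ = _
    rw [Matrix.transpose_single]
  let U : Matrix (Fin m ⊕ Fin m) (Fin m ⊕ Fin m) F := Matrix.fromBlocks A (A * S) 0 Bᵀ
  have hU : U ∈ Matrix.symplecticGroup (Fin m) F := by
    rw [SymplecticGroup.fromBlocks_mem_iff]
    refine ⟨by simp, ?_, ?_⟩
    · rw [Matrix.transpose_mul, hS, mul_assoc, ← Matrix.transpose_mul, hBA, Matrix.transpose_one, mul_one, Matrix.transpose_transpose, ← mul_assoc, hBA, one_mul]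
    · rw [Matrix.transpose_zero, zero_mul, sub_zero, ← Matrix.transpose_mul, hBA, Matrix.transpose_one]
  have hU1 : U - 1 = Matrix.fromBlocks N (A * S) 0 (-(Bᵀ * Nᵀ)) := by
    rw [sub_eq_iff_eq_add, ← Matrix.fromBlocks_one, Matrix.fromBlocks_add]
    show Matrix.fromBlocks A (A * S) 0 Bᵀ = _
    congr 1
    · rw [hA]; abel
    · rw [add_zero]
    · rw [add_zero]
    · rw [← Matrix.transpose_mul, ← hBN.eq]
      have h1 : B * N = 1 - B := by
        have : N = (A : Matrix (Fin m) (Fin m) F) - 1 := by rw [hA]; abel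
        rw [this, mul_sub, hBA, mul_one]
      rw [h1, Matrix.transpose_sub, Matrix.transpose_one]; abel
  refine ⟨⟨U, hU⟩, ?_, ?_⟩
  · show (U - 1) ^ (2 * m) = 0
    obtain ⟨Y, hY⟩ := fromBlocks_upper_pow N (A * S) (-(Bᵀ * Nᵀ)) m
    have h1 : (-(Bᵀ * Nᵀ)) ^ m = 0 := by
      have : Commute Bᵀ Nᵀ := by
        show Bᵀ * Nᵀ = Nᵀ * Bᵀ
        rw [← Matrix.transpose_mul, ← Matrix.transpose_mul, hBN.eq]
      rw [neg_pow, this.mul_pow, ← Matrix.transpose_pow N, hN0, Matrix.transpose_zero, mul_zero, mul_zero]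
    rw [mul_comm, pow_mul, hU1, hY, hN0, h1, pow_two, Matrix.fromBlocks_multiply]
    simp
  · show (U - 1).rank = 2 * m - 1
    -- the kernel is contained in `ker N`
    have hker : ∀ v, (U - 1) *ᵥ v = 0 → N *ᵥ (v ∘ Sum.inl) = 0 ∧ v ∘ Sum.inr = 0 := by
      intro v hv
      rw [hU1, Matrix.fromBlocks_mulVec] at hv
      have h1 : N *ᵥ (v ∘ Sum.inl) + (A * S) *ᵥ (v ∘ Sum.inr) = 0 := funext fun j => by
        have := congrFun hv (Sum.inl j)
        simpa using this
      have h2 : (-(Bᵀ * Nᵀ)) *ᵥ (v ∘ Sum.inr) = 0 := funext fun j => by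
        have := congrFun hv (Sum.inr j)
        simpa using this
      have h3 : Nᵀ *ᵥ (v ∘ Sum.inr) = 0 := by
        have h4 := congrArg (fun w => Aᵀ.mulVec w) h2
        simp only [Matrix.mulVec_mulVec, Matrix.mulVec_zero, mul_neg, ← mul_assoc, ← Matrix.transpose_mul, hBA, Matrix.transpose_one, one_mul] at h4
        rw [Matrix.neg_mulVec, neg_eq_zero, mul_assoc, hBA, mul_one] at h4
        exact h4
      obtain ⟨c, hc⟩ := hη1 ⟨v ∘ Sum.inr, by rw [LinearMap.mem_ker, Matrix.toLin'_apply]; exact h3⟩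
      have hc' : c • η = v ∘ Sum.inr := congrArg Subtype.val hc
      have h5 := congrArg (fun w => η ⬝ᵥ w) h1
      simp only [dotProduct_add, dotProduct_zero] at h5
      rw [Matrix.dotProduct_mulVec, ← Matrix.mulVec_transpose, hη, zero_dotProduct, zero_add, ← Matrix.mulVec_mulVec, Matrix.dotProduct_mulVec, ← Matrix.mulVec_transpose] at h5
      have h6 : (A : Matrix (Fin m) (Fin m) F)ᵀ *ᵥ η = η := by
        rw [hA, Matrix.transpose_add, Matrix.transpose_one, Matrix.add_mulVec, Matrix.one_mulVec, hη, add_zero]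
      rw [h6, ← hc'] at h5
      have h7 : η ⬝ᵥ S *ᵥ (c • η) = c * (η i * η i) := by
        show η ⬝ᵥ (Matrix.single i i 1) *ᵥ (c • η) = _
        rw [Matrix.mulVec_smul, dotProduct_smul, Matrix.single_mulVec]
        simp [dotProduct, Pi.single_apply, Function.update_apply]
      rw [h7] at h5
      have hc0 : c = 0 := (mul_eq_zero.mp h5).resolve_right (mul_ne_zero hi hi)
      have h8 : v ∘ Sum.inr = 0 := by rw [← hc', hc0, zero_smul]
      refine ⟨?_, h8⟩
      rw [h8, Matrix.mulVec_zero, add_zero] at h1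
      exact h1
    have hkd : finrank F (LinearMap.ker (Matrix.toLin' (U - 1))) ≤ finrank F (LinearMap.ker (Matrix.toLin' N)) := by
      let f : LinearMap.ker (Matrix.toLin' (U - 1)) →ₗ[F] LinearMap.ker (Matrix.toLin' N) :=
        { toFun := fun v => ⟨v.1 ∘ Sum.inl, by
            rw [LinearMap.mem_ker, Matrix.toLin'_apply]
            exact (hker v.1 (by have := v.2; rwa [LinearMap.mem_ker, Matrix.toLin'_apply] at this)).1⟩
          map_add' := fun a b => rfl
          map_smul' := fun a b => rfl }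
      apply LinearMap.finrank_le_finrank_of_injective (f := f)
      rw [injective_iff_map_eq_zero]
      intro v hv
      apply Subtype.ext
      funext j
      rcases j with j | j
      · exact congrFun (congrArg Subtype.val hv) j
      · exact congrFun (hker v.1 (by have := v.2; rwa [LinearMap.mem_ker, Matrix.toLin'_apply] at this)).2 j
    have hk2 := finrank_ker_toLin N
    have hk3 := finrank_ker_toLin (U - 1)
    rw [Fintype.card_fin, hN1] at hk2
    rw [Fintype.card_sum, Fintype.card_fin] at hk3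
    -- the kernel is nonzero
    have hk4 : (U - 1).rank ≠ 2 * m := by
      intro h
      have h1 : IsUnit (U - 1) := by
        rw [Matrix.isUnit_iff_isUnit_det, isUnit_iff_ne_zero]
        intro hd
        obtain ⟨v, hv, hv2⟩ := Matrix.exists_mulVec_eq_zero_iff.mpr hd
        have hz : finrank F (LinearMap.ker (Matrix.toLin' (U - 1))) = 0 := by omega
        rw [Submodule.finrank_eq_zero] at hz
        have : v ∈ LinearMap.ker (Matrix.toLin' (U - 1)) := by rw [LinearMap.mem_ker, Matrix.toLin'_apply]; exact hv2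
        rw [hz, Submodule.mem_bot] at this
        exact hv this
      obtain ⟨Y, hY⟩ := fromBlocks_upper_pow N (A * S) (-(Bᵀ * Nᵀ)) m
      have h2 := h1.pow m
      rw [hU1, hY, hN0] at h2
      rw [Matrix.isUnit_iff_isUnit_det, Matrix.det_fromBlocks_zero₂₁] at h2
      haveI : Nonempty (Fin m) := ⟨⟨0, hm⟩⟩
      rw [Matrix.det_zero, zero_mul] at h2
      exact h2.ne_zero rfl
    omega

end spreg

end Cfsg.Agent.H17
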