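import Mathlib
import Cfsg.Agent.H17.JParity
import Cfsg.Agent.H17.SpAdj
import Cfsg.Agent.H17.GUEmb
import Cfsg.Prelude.Def_JordanBlocks

set_option autoImplicit false

/-! Unipotent isometries with prescribed Jordan blocks. -/

namespace Cfsg.Agent.H17

open Module Cfsg.Agent.H16.JNil Cfsg.Agent.H5
open scoped MatrixGroups Matrix

section types

variable {F : Type*} [Field F] {V : Type*} [AddCommGroup V] [Module F V] {W : Type*} [AddCommGroup W] [Module F W]

/-- Jordan type as a multiset -/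
def MT (ν : Module.End F V) (s : Multiset ℕ) : Prop :=
  ∃ (ι : Type) (_ : Fintype ι) (k : ι → ℕ), HasType ν k ∧ Finset.univ.val.map k = s

theorem MT.similar {ν : Module.End F V} {μ : Module.End F W} {s : Multiset ℕ} (h : MT ν s) (h' : MT μ s) : ∃ e : V ≃ₗ[F] W, ∀ x, e (ν x) = μ (e x) := by
  obtain ⟨ι, _, k, hk, hs⟩ := h
  obtain ⟨ι', _, k', hk', hs'⟩ := h'
  obtain ⟨σ, hσ⟩ := exists_equiv_of_map k k' (hs.trans hs'.symm)
  have h1 := hk'.reindex σ
  have h2 : k' ∘ σ = k := funext hσ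
  rw [h2] at h1
  exact hk.similar h1

theorem MT.conj {ν : Module.End F V} {μ : Module.End F W} {s : Multiset ℕ} (h : MT ν s) (e : V ≃ₗ[F] W) (he : ∀ x, e (ν x) = μ (e x)) : MT μ s := by
  obtain ⟨ι, _, k, hk, hs⟩ := h
  refine ⟨ι, ‹_›, k, ?_, hs⟩
  have h1 := hk.conj e
  have h2 : e.toLinearMap ∘ₗ ν ∘ₗ e.symm.toLinearMap = μ := by
    apply LinearMap.ext
    intro x
    show e (ν (e.symm x)) = μ x
    rw [he, LinearEquiv.apply_symm_apply]
  rwa [h2] at h1

theorem MT.prod {ν : Module.End F V} {μ : Module.End F W} {s s' : Multiset ℕ} (h : MT ν s) (h' : MT μ s') : MT (LinearMap.prodMap ν μ) (s + s') := by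
  classical
  obtain ⟨ι, _, k, hk, hs⟩ := h
  obtain ⟨ι', _, k', hk', hs'⟩ := h'
  refine ⟨ι ⊕ ι', inferInstance, Sum.elim k k', ?_, ?_⟩
  · obtain ⟨b, hb⟩ := hk.basis
    obtain ⟨b', hb'⟩ := hk'.basis
    let e : ((Σ i, Fin (k i)) ⊕ (Σ i, Fin (k' i))) ≃ (Σ i : ι ⊕ ι', Fin (Sum.elim k k' i)) :=
      { toFun := fun x => match x with
          | Sum.inl x => ⟨Sum.inl x.1, x.2⟩
          | Sum.inr x => ⟨Sum.inr x.1, x.2⟩
        invFun := fun x => match x with
          | ⟨Sum.inl i, s⟩ => Sum.inl ⟨i, s⟩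
          | ⟨Sum.inr i, s⟩ => Sum.inr ⟨i, s⟩
        left_inv := fun x => by rcases x with x | x <;> rfl
        right_inv := fun x => by rcases x with ⟨i | i, s⟩ <;> rfl }
    let B : Basis (Σ i : ι ⊕ ι', Fin (Sum.elim k k' i)) F (V × W) := (b.prod b').reindex e
    have hBl : ∀ i (s : Fin (k i)), B ⟨Sum.inl i, s⟩ = (b ⟨i, s⟩, 0) := by
      intro i s
      show ((b.prod b').reindex e) ⟨Sum.inl i, s⟩ = _
      rw [Basis.reindex_apply]
      show (b.prod b') (Sum.inl ⟨i, s⟩) = _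
      rw [Basis.prod_apply]; rfl
    have hBr : ∀ i (s : Fin (k' i)), B ⟨Sum.inr i, s⟩ = (0, b' ⟨i, s⟩) := by
      intro i s
      show ((b.prod b').reindex e) ⟨Sum.inr i, s⟩ = _
      rw [Basis.reindex_apply]
      show (b.prod b') (Sum.inr ⟨i, s⟩) = _
      rw [Basis.prod_apply]; rfl
    have keyl : ∀ i (s : Fin (k i)), (LinearMap.prodMap ν μ) (B ⟨Sum.inl i, s⟩) = if hs : s.val + 1 < k i then B ⟨Sum.inl i, (⟨s.val + 1, hs⟩ : Fin (k i))⟩ else 0 := by
      intro i s
      rw [hBl, LinearMap.prodMap_apply, hb, map_zero]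
      by_cases h1 : s.val + 1 < k i
      · rw [dif_pos h1, dif_pos h1, hBl]
      · rw [dif_neg h1, dif_neg h1]; rfl
    have keyr : ∀ i (s : Fin (k' i)), (LinearMap.prodMap ν μ) (B ⟨Sum.inr i, s⟩) = if hs : s.val + 1 < k' i then B ⟨Sum.inr i, (⟨s.val + 1, hs⟩ : Fin (k' i))⟩ else 0 := by
      intro i s
      rw [hBr, LinearMap.prodMap_apply, hb', map_zero]
      by_cases h1 : s.val + 1 < k' i
      · rw [dif_pos h1, dif_pos h1, hBr]
      · rw [dif_neg h1, dif_neg h1]; rfl
    refine hasType_of_basis B ?_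
    rintro (i | i) s
    · exact keyl i s
    · exact keyr i s
  · rw [← hs, ← hs']
    have h1 : (Finset.univ : Finset (ι ⊕ ι')).val = Multiset.map Sum.inl Finset.univ.val + Multiset.map Sum.inr Finset.univ.val := rfl
    rw [h1, Multiset.map_add, Multiset.map_map, Multiset.map_map]
    rfl

theorem MT.of_PT {n : ℕ} {ν : Module.End F V} {μ : Nat.Partition n} (h : Cfsg.Agent.H16.JNil.PT ν μ) : MT ν μ.parts := by
  obtain ⟨m, k, hk, hs⟩ := h
  refine ⟨{i // k i ≠ 0}, inferInstance, fun i => k i, hk.drop, ?_⟩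
  rw [map_drop, hs]

theorem MT.single [FiniteDimensional F V] {n : ℕ} (hn : 1 ≤ n) (hV : finrank F V = n) {ν : Module.End F V} (hν : IsNilpotent ν)
    (h : ∀ t, finrank F (LinearMap.range (ν ^ t)) = n - t) : MT ν {n} := by
  obtain ⟨μ, hμ⟩ := exists_PT ν hV hν
  have h1 : μ.parts = {n} := by
    apply count_of_sums (fun x hx => (μ.parts_pos hx).ne') (fun x hx => by rw [Multiset.mem_singleton.mp hx]; omega)
    intro t
    rw [← hμ.rank t, h t, Multiset.map_singleton, Multiset.sum_singleton]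
  rw [← h1]
  exact MT.of_PT hμ

theorem MT.matrix {ι : Type*} [Fintype ι] [DecidableEq ι] {n : ℕ} (hn : 1 ≤ n) (hι : Fintype.card ι = n) {M : Matrix ι ι F} (h0 : M ^ n = 0) (h1 : M.rank = n - 1) :
    MT (Matrix.toLin' M) {n} := by
  apply MT.single hn (by rw [Module.finrank_fintype_fun_eq_card, hι]) ⟨n, by rw [← Matrix.toLin'_pow, h0, map_zero]⟩
  intro t
  rw [← Matrix.toLin'_pow]
  exact reg_rank_pow hι h0 h1 t

theorem MT.zero [Subsingleton V] (ν : Module.End F V) : MT ν 0 := by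
  refine ⟨Empty, inferInstance, Empty.elim, ?_, rfl⟩
  refine ⟨Empty.elim, fun i => i.elim, ?_, ?_⟩
  · exact linearIndependent_empty_type
  · exact Subsingleton.elim _ _

theorem hasType_jordan {t : ℕ} (d : Fin t → ℕ) : HasType (Matrix.toLin' (Cfsg.jordanTypeMatrix d F - 1)) d := by
  classical
  refine hasType_of_basis (Pi.basisFun F _) ?_
  intro i s
  rw [Pi.basisFun_apply, Matrix.toLin'_apply, Matrix.mulVec_single_one]
  funext x
  obtain ⟨j, r⟩ := x
  rw [Matrix.col_apply, Matrix.sub_apply]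
  unfold Cfsg.jordanTypeMatrix
  rw [Matrix.blockDiagonal'_apply, Matrix.one_apply]
  by_cases hij : j = i
  · subst hij
    have h1 : ((⟨j, r⟩ : Σ i, Fin (d i)) = ⟨j, s⟩) ↔ r = s := by
      constructor
      · intro h; exact eq_of_heq (Sigma.mk.inj h).2
      · rintro rfl; rfl
    have hL : Cfsg.jordanBlock (d j) F r s - (if r = s then (1 : F) else 0) = if r.val = s.val + 1 then 1 else 0 := by
      unfold Cfsg.jordanBlock
      rw [Matrix.of_apply]
      by_cases h2 : r = s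
      · subst h2
        rw [if_pos rfl, if_pos rfl, if_neg (by omega), sub_self]
      · have h3 : ¬ r.val = s.val := fun h => h2 (Fin.ext h)
        rw [if_neg h3, if_neg h2, sub_zero]
    simp only [dite_true, cast_eq, h1]
    rw [hL]
    by_cases h4 : s.val + 1 < d j
    · rw [dif_pos h4, Pi.basisFun_apply, Pi.single_apply]
      have h5 : ((⟨j, r⟩ : Σ i, Fin (d i)) = ⟨j, ⟨s.val + 1, h4⟩⟩) ↔ r.val = s.val + 1 := by
        constructor
        · intro h; exact congrArg Fin.val (eq_of_heq (Sigma.mk.inj h).2)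
        · intro h
          congr 1
          exact Fin.ext h
      simp only [h5]
    · rw [dif_neg h4, if_neg (by have := r.2; omega)]
      rfl
  · rw [dif_neg hij]
    have h1 : (⟨j, r⟩ : Σ i, Fin (d i)) ≠ ⟨i, s⟩ := fun h => hij (congrArg Sigma.fst h)
    rw [if_neg h1, sub_zero]
    split_ifs with h2
    · rw [Pi.basisFun_apply, Pi.single_apply, if_neg]
      exact fun h => hij (congrArg Sigma.fst h)
    · rfl

end types

end Cfsg.Agent.H17
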