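import Mathlib
import Cfsg.Agent.H17.JBuild

set_option autoImplicit false

/-! Unipotent isometries of symplectic and quadratic spaces with prescribed Jordan blocks. -/

namespace Cfsg.Agent.H17

open Module Cfsg.Agent.H16.JNil Cfsg.Agent.H5
open scoped MatrixGroups Matrix

universe w

section defs

variable (F : Type w) [Field F]

/-- there is a unipotent isometry of a symplectic space with Jordan type `s` -/
def SpS (s : Multiset ℕ) : Prop :=
  ∃ (V : Type w) (_ : AddCommGroup V) (_ : Module F V) (_ : FiniteDimensional F V) (J : LinearMap.BilinForm F V) (u : V ≃ₗ[F] V),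
    J.IsAlt ∧ (∀ x, (∀ y, J x y = 0) → x = 0) ∧ (∀ x y, J (u x) (u y) = J x y) ∧ MT (nuE u) s

/-- there is a unipotent isometry of a nondegenerate quadratic space with Jordan type `s` -/
def OS (s : Multiset ℕ) : Prop :=
  ∃ (V : Type w) (_ : AddCommGroup V) (_ : Module F V) (_ : FiniteDimensional F V) (Q : QuadraticForm F V) (u : V ≃ₗ[F] V),
    ND Q ∧ (∀ x, Q (u x) = Q x) ∧ MT (nuE u) s

variable {F}

theorem nuE_prod {V W : Type w} [AddCommGroup V] [Module F V] [AddCommGroup W] [Module F W] (u : V ≃ₗ[F] V) (v : W ≃ₗ[F] W) :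
    nuE (LinearEquiv.prodCongr u v) = LinearMap.prodMap (nuE u) (nuE v) := by
  apply LinearMap.ext
  intro x
  rfl

theorem SpS.add {s s' : Multiset ℕ} (h : SpS F s) (h' : SpS F s') : SpS F (s + s') := by
  obtain ⟨V, _, _, _, J, u, h1, h2, h3, h4⟩ := h
  obtain ⟨V', _, _, _, J', u', h1', h2', h3', h4'⟩ := h'
  let B : LinearMap.BilinForm F (V × V') := J.compl₁₂ (LinearMap.fst F V V') (LinearMap.fst F V V') + J'.compl₁₂ (LinearMap.snd F V V') (LinearMap.snd F V V')
  have hB : ∀ x y, B x y = J x.1 y.1 + J' x.2 y.2 := fun _ _ => rfl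
  refine ⟨V × V', inferInstance, inferInstance, inferInstance, B, LinearEquiv.prodCongr u u', ?_, ?_, ?_, ?_⟩
  · intro x
    rw [hB, h1, h1', add_zero]
  · intro x hx
    apply Prod.ext
    · apply h2
      intro y
      have := hx (y, 0)
      rw [hB, map_zero, add_zero] at this
      exact this
    · apply h2'
      intro y
      have := hx (0, y)
      rw [hB, map_zero, zero_add] at this
      exact this
  · intro x y
    rw [hB, hB]
    show J (u x.1) (u y.1) + J' (u' x.2) (u' y.2) = _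
    rw [h3, h3']
  · rw [nuE_prod]
    exact h4.prod h4'

theorem OS.add {s s' : Multiset ℕ} (h : OS F s) (h' : OS F s') : OS F (s + s') := by
  obtain ⟨V, _, _, _, Q, u, h2, h3, h4⟩ := h
  obtain ⟨V', _, _, _, Q', u', h2', h3', h4'⟩ := h'
  have hB : ∀ x y : V × V', pB (Q.prod Q') x y = pB Q x.1 y.1 + pB Q' x.2 y.2 := by
    intro x y
    have h : ∀ {V : Type w} [AddCommGroup V] [Module F V] (Q : QuadraticForm F V) (x y : V), pB Q x y = Q (x + y) - Q x - Q y := fun Q x y => rfl
    rw [h, h, h]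
    simp only [QuadraticMap.prod_apply, Prod.fst_add, Prod.snd_add]
    ring
  refine ⟨V × V', inferInstance, inferInstance, inferInstance, Q.prod Q', LinearEquiv.prodCongr u u', ?_, ?_, ?_⟩
  · intro x hx
    apply Prod.ext
    · apply h2
      intro y
      have := hx (y, 0)
      rw [hB, map_zero, add_zero] at this
      exact this
    · apply h2'
      intro y
      have := hx (0, y)
      rw [hB, map_zero, zero_add] at this
      exact this
  · intro x
    show Q (u x.1) + Q' (u' x.2) = Q x.1 + Q' x.2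
    rw [h3, h3']
  · rw [nuE_prod]
    exact h4.prod h4'

theorem SpS.zero : SpS F 0 := by
  refine ⟨PUnit, inferInstance, inferInstance, inferInstance, 0, LinearEquiv.refl F _, ?_, ?_, ?_, MT.zero _⟩
  · intro x; rfl
  · intro x _; exact Subsingleton.elim _ _
  · intro x y; rfl

theorem OS.zero : OS F 0 := by
  refine ⟨PUnit, inferInstance, inferInstance, inferInstance, 0, LinearEquiv.refl F _, ?_, ?_, MT.zero _⟩
  · intro x _; exact Subsingleton.elim _ _
  · intro x; rfl

/-- the linear equivalence of an invertible matrix -/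
noncomputable def mkE {ι : Type} [Fintype ι] [DecidableEq ι] {M N : Matrix ι ι F} (h : N * M = 1) : (ι → F) ≃ₗ[F] (ι → F) :=
  LinearEquiv.ofLinear (Matrix.toLin' M) (Matrix.toLin' N) (by rw [← Matrix.toLin'_mul, mul_eq_one_comm.mp h, Matrix.toLin'_one]) (by
    rw [← Matrix.toLin'_mul, h, Matrix.toLin'_one])

theorem mkE_apply {ι : Type} [Fintype ι] [DecidableEq ι] {M N : Matrix ι ι F} (h : N * M = 1) (x : ι → F) : mkE h x = M *ᵥ x := Matrix.toLin'_apply _ _

theorem nuE_mkE {ι : Type} [Fintype ι] [DecidableEq ι] {M N : Matrix ι ι F} (h : N * M = 1) : nuE (mkE h) = Matrix.toLin' (M - 1) := by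
  apply LinearMap.ext
  intro x
  rw [nuE_apply, mkE_apply, Matrix.toLin'_apply, Matrix.sub_mulVec, Matrix.one_mulVec]

theorem SpS.even {m : ℕ} (hm : 1 ≤ m) : SpS F {2 * m} := by
  obtain ⟨u, hu1, hu2⟩ := exists_sp_reg F hm
  have hinv : sJ (u : Matrix (Fin m ⊕ Fin m) (Fin m ⊕ Fin m) F) * u = 1 := mem_Sp_sJ.mp u.2
  refine ⟨Fin m ⊕ Fin m → F, inferInstance, inferInstance, inferInstance, sympB m F, mkE hinv, sympB_isAlt, sympB_nondegenerate.1, ?_, ?_⟩
  · intro x y
    rw [mkE_apply, mkE_apply]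
    exact mem_Sp_iff.mp u.2 x y
  · rw [nuE_mkE]
    exact MT.matrix (by omega) (by rw [Fintype.card_sum, Fintype.card_fin]; ring) hu1 hu2

/-- a regular unipotent matrix and its inverse transpose -/
theorem exists_jpair (F : Type w) [Field F] (d : ℕ) : ∃ A B : Matrix (Fin d) (Fin d) F, Aᵀ * B = 1 ∧ (A - 1) ^ d = 0 ∧ (A - 1).rank = d - 1 ∧
    (B - 1) ^ d = 0 ∧ (B - 1).rank = d - 1 := by
  obtain ⟨N, hN0, hN1⟩ := exists_reg_nilp F d
  have hu : IsUnit (1 + N) := by
    rw [add_comm]
    exact IsNilpotent.isUnit_add_one ⟨d, hN0⟩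
  obtain ⟨A₀, hA⟩ := hu
  set C : Matrix (Fin d) (Fin d) F := ((A₀⁻¹ : (Matrix (Fin d) (Fin d) F)ˣ) : Matrix (Fin d) (Fin d) F) with hC
  have hAC : (1 + N) * C = 1 := by rw [← hA]; exact Units.mul_inv A₀
  have hCA : C * (1 + N) = 1 := by rw [← hA]; exact Units.inv_mul A₀
  have hCN : Commute C N := by
    have h1 : N = (1 + N) - 1 := by abel
    have h2 : Commute C (1 + N) := by show C * (1 + N) = (1 + N) * C; rw [hAC, hCA]
    rw [h1]
    exact h2.sub_right (Commute.one_right _)
  have hCu : IsUnit C := IsUnit.of_mul_eq_one _ hCA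
  have hC1 : C - 1 = -(C * N) := by
    have h1 : C + C * N = 1 := by rw [← hCA, mul_add, mul_one]
    rw [sub_eq_iff_eq_add, ← h1]
    abel
  refine ⟨1 + N, Cᵀ, ?_, ?_, ?_, ?_, ?_⟩
  · rw [← Matrix.transpose_mul, hCA, Matrix.transpose_one]
  · rw [add_sub_cancel_left, hN0]
  · rw [add_sub_cancel_left, hN1]
  · have : Cᵀ - 1 = (C - 1)ᵀ := by rw [Matrix.transpose_sub, Matrix.transpose_one]
    rw [this, ← Matrix.transpose_pow, hC1, neg_pow, hCN.mul_pow, hN0, mul_zero, mul_zero, Matrix.transpose_zero]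
  · have : Cᵀ - 1 = (C - 1)ᵀ := by rw [Matrix.transpose_sub, Matrix.transpose_one]
    rw [this, Matrix.rank_transpose, hC1, ← neg_mul, Matrix.rank_mul_eq_right_of_isUnit_det _ _ ((Matrix.isUnit_iff_isUnit_det _).mp hCu.neg), hN1]

theorem SpS.pair {d : ℕ} (hd : 1 ≤ d) : SpS F {d, d} := by
  obtain ⟨A, B, hAB, hA0, hA1, hB0, hB1⟩ := exists_jpair F d
  have hBA : Bᵀ * A = 1 := by
    rw [← Matrix.transpose_one, ← hAB, Matrix.transpose_mul, Matrix.transpose_transpose]
  let J : LinearMap.BilinForm F ((Fin d → F) × (Fin d → F)) := LinearMap.mk₂ F (fun x y => x.1 ⬝ᵥ y.2 - y.1 ⬝ᵥ x.2)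
    (fun x x' y => by simp only [Prod.fst_add, Prod.snd_add, add_dotProduct, dotProduct_add]; ring)
    (fun c x y => by simp only [Prod.smul_fst, Prod.smul_snd, smul_dotProduct, dotProduct_smul, smul_eq_mul]; ring)
    (fun x y y' => by simp only [Prod.fst_add, Prod.snd_add, add_dotProduct, dotProduct_add]; ring)
    (fun c x y => by simp only [Prod.smul_fst, Prod.smul_snd, smul_dotProduct, dotProduct_smul, smul_eq_mul]; ring)
  have hJ : ∀ x y : ((Fin d → F) × (Fin d → F)), J x y = x.1 ⬝ᵥ y.2 - y.1 ⬝ᵥ x.2 := fun _ _ => rfl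
  have hdp : ∀ x y : Fin d → F, (A *ᵥ x) ⬝ᵥ (B *ᵥ y) = x ⬝ᵥ y := by
    intro x y
    rw [Matrix.dotProduct_mulVec, ← Matrix.mulVec_transpose, Matrix.mulVec_mulVec, hBA, Matrix.one_mulVec]
  have hBA' : Aᵀ * B = 1 := hAB
  refine ⟨((Fin d → F) × (Fin d → F)), inferInstance, inferInstance, inferInstance, J, LinearEquiv.prodCongr (mkE hBA) (mkE hAB), ?_, ?_, ?_, ?_⟩
  · intro x
    rw [hJ, sub_self]
  · intro x hx
    apply Prod.ext
    · funext i
      have := hx (0, Pi.single i 1)
      rw [hJ] at this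
      simpa using this
    · funext i
      have := hx (Pi.single i 1, 0)
      rw [hJ] at this
      simpa using this
  · intro x y
    rw [hJ, hJ]
    show (mkE hBA x.1) ⬝ᵥ (mkE hAB y.2) - (mkE hBA y.1) ⬝ᵥ (mkE hAB x.2) = _
    rw [mkE_apply, mkE_apply, mkE_apply, mkE_apply, hdp, hdp]
  · rw [nuE_prod, nuE_mkE, nuE_mkE]
    exact (MT.matrix hd (Fintype.card_fin d) hA0 hA1).prod (MT.matrix hd (Fintype.card_fin d) hB0 hB1)

theorem OS.pair {d : ℕ} (hd : 1 ≤ d) : OS F {d, d} := by
  obtain ⟨A, B, hAB, hA0, hA1, hB0, hB1⟩ := exists_jpair F d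
  have hBA : Bᵀ * A = 1 := by
    rw [← Matrix.transpose_one, ← hAB, Matrix.transpose_mul, Matrix.transpose_transpose]
  let J : LinearMap.BilinForm F ((Fin d → F) × (Fin d → F)) := LinearMap.mk₂ F (fun x y => x.1 ⬝ᵥ y.2)
    (fun x x' y => by simp only [Prod.fst_add, Prod.snd_add, add_dotProduct, dotProduct_add])
    (fun c x y => by simp only [Prod.smul_fst, Prod.smul_snd, smul_dotProduct, dotProduct_smul, smul_eq_mul])
    (fun x y y' => by simp only [Prod.fst_add, Prod.snd_add, add_dotProduct, dotProduct_add])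
    (fun c x y => by simp only [Prod.smul_fst, Prod.smul_snd, smul_dotProduct, dotProduct_smul, smul_eq_mul])
  let Q : QuadraticForm F ((Fin d → F) × (Fin d → F)) := LinearMap.BilinMap.toQuadraticMap J
  have hQ : ∀ x : ((Fin d → F) × (Fin d → F)), Q x = x.1 ⬝ᵥ x.2 := fun _ => rfl
  have hJ : ∀ x y : ((Fin d → F) × (Fin d → F)), pB Q x y = x.1 ⬝ᵥ y.2 + y.1 ⬝ᵥ x.2 := by
    intro x y
    have h : pB Q x y = Q (x + y) - Q x - Q y := rfl
    rw [h, hQ, hQ, hQ]
    simp only [Prod.fst_add, Prod.snd_add, add_dotProduct, dotProduct_add]; ring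
  have hdp : ∀ x y : Fin d → F, (A *ᵥ x) ⬝ᵥ (B *ᵥ y) = x ⬝ᵥ y := by
    intro x y
    rw [Matrix.dotProduct_mulVec, ← Matrix.mulVec_transpose, Matrix.mulVec_mulVec, hBA, Matrix.one_mulVec]
  refine ⟨((Fin d → F) × (Fin d → F)), inferInstance, inferInstance, inferInstance, Q, LinearEquiv.prodCongr (mkE hBA) (mkE hAB), ?_, ?_, ?_⟩
  · intro x hx
    apply Prod.ext
    · funext i
      have := hx (0, Pi.single i 1)
      rw [hJ] at this
      simpa using this
    · funext i
      have := hx (Pi.single i 1, 0)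
      rw [hJ] at this
      simpa using this
  · intro x
    rw [hQ, hQ]
    show (mkE hBA x.1) ⬝ᵥ (mkE hAB x.2) = _
    rw [mkE_apply, mkE_apply, hdp]
  · rw [nuE_prod, nuE_mkE, nuE_mkE]
    exact (MT.matrix hd (Fintype.card_fin d) hA0 hA1).prod (MT.matrix hd (Fintype.card_fin d) hB0 hB1)

/-- induction on multisets with even multiplicities of one parity class -/
theorem build_aux (P : Multiset ℕ → Prop) (good : ℕ → Prop) (h0 : P 0) (hadd : ∀ s s', P s → P s' → P (s + s')) (h1 : ∀ a, 1 ≤ a → good a → P {a})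
    (h2 : ∀ a, 1 ≤ a → P {a, a}) : ∀ (n : ℕ) (s : Multiset ℕ), s.card = n → (∀ a ∈ s, 1 ≤ a) → (∀ a, ¬ good a → Even (s.count a)) → P s := by
  classical
  intro n
  induction n using Nat.strong_induction_on with
  | _ n ih =>
    intro s hn hpos hev
    rcases Multiset.empty_or_exists_mem s with rfl | ⟨a, ha⟩
    · exact h0
    · by_cases hga : good a
      · obtain ⟨t, rfl⟩ := Multiset.exists_cons_of_mem ha
        rw [← Multiset.singleton_add]
        apply hadd _ _ (h1 a (hpos a ha) hga)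
        apply ih t.card (by rw [← hn, Multiset.card_cons]; omega) t rfl (fun b hb => hpos b (Multiset.mem_cons_of_mem hb))
        intro b hb
        have := hev b hb
        rwa [Multiset.count_cons_of_ne (by rintro rfl; exact hb hga)] at this
      · obtain ⟨t, rfl⟩ := Multiset.exists_cons_of_mem ha
        have h3 := hev a hga
        rw [Multiset.count_cons_self] at h3
        have h4 : a ∈ t := by
          rw [← Multiset.count_pos]
          rcases h3 with ⟨r, hr⟩
          omega
        obtain ⟨t', rfl⟩ := Multiset.exists_cons_of_mem h4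
        have h5 : a ::ₘ a ::ₘ t' = {a, a} + t' := by
          rw [Multiset.insert_eq_cons, Multiset.cons_add, Multiset.singleton_add]
        rw [h5]
        apply hadd _ _ (h2 a (hpos a ha))
        apply ih t'.card (by rw [← hn, Multiset.card_cons, Multiset.card_cons]; omega) t' rfl (fun b hb => hpos b (Multiset.mem_cons_of_mem (Multiset.mem_cons_of_mem hb)))
        intro b hb
        by_cases hab : b = a
        · subst hab
          rw [Multiset.count_cons_self] at h3
          rcases h3 with ⟨r, hr⟩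
          exact ⟨r - 1, by omega⟩
        · have := hev b hb
          rwa [Multiset.count_cons_of_ne hab, Multiset.count_cons_of_ne hab] at this

theorem SpS.build (s : Multiset ℕ) (hpos : ∀ a ∈ s, 1 ≤ a) (hev : ∀ a, Odd a → Even (s.count a)) : SpS F s :=
  build_aux (SpS F) (fun a => Even a) SpS.zero (fun _ _ h h' => h.add h') (fun a ha hga => by
    obtain ⟨r, rfl⟩ := hga
    have := SpS.even (F := F) (m := r) (by omega)
    rwa [two_mul] at this) (fun a ha => SpS.pair ha) s.card s rfl hpos (fun a ha => hev a (Nat.not_even_iff_odd.mp ha))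

end defs

end Cfsg.Agent.H17
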