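import Mathlib
import Cfsg.Agent.H17.JBuild2

set_option autoImplicit false

/-! Which unipotent Jordan types occur in symplectic and orthogonal groups. -/

namespace Cfsg.Agent.H17

open Module Cfsg.Agent.H16.JNil Cfsg.Agent.H5
open scoped MatrixGroups Matrix

section conj

variable {F : Type*} [Field F] {ι κ : Type} [Fintype ι] [DecidableEq ι] [Fintype κ] [DecidableEq κ]

theorem conj_iff_equiv (e : κ ≃ ι) (M : Matrix κ κ F) (A : Matrix ι ι F) :
    IsConj (Matrix.reindex e e M) A ↔ ∃ f : (κ → F) ≃ₗ[F] (ι → F), ∀ x, f (M *ᵥ x) = A *ᵥ f x := by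
  have hre : ∀ x : κ → F, (Matrix.reindex e e M) *ᵥ (x ∘ e.symm) = (M *ᵥ x) ∘ e.symm := by
    intro x
    rw [Matrix.reindex_apply, Matrix.submatrix_mulVec_equiv]
    congr 2
    funext i
    simp
  constructor
  · rintro ⟨c, hc⟩
    let g : (κ → F) ≃ₗ[F] (ι → F) := LinearEquiv.funCongrLeft F F e.symm
    have hg : ∀ x, g x = x ∘ e.symm := fun x => rfl
    refine ⟨g.trans (mkE (Units.inv_mul c)), fun x => ?_⟩
    rw [LinearEquiv.trans_apply, LinearEquiv.trans_apply, mkE_apply, mkE_apply, hg, hg, ← hre, Matrix.mulVec_mulVec, Matrix.mulVec_mulVec, hc.eq]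
  · rintro ⟨f, hf⟩
    let g : (ι → F) ≃ₗ[F] (κ → F) := LinearEquiv.funCongrLeft F F e
    have hg : ∀ x, g x = x ∘ e := fun x => rfl
    let h : (ι → F) ≃ₗ[F] (ι → F) := g.trans f
    have hu : IsUnit (LinearMap.toMatrix' (h : (ι → F) →ₗ[F] (ι → F))) := by
      have h1 : LinearMap.toMatrix' (h : (ι → F) →ₗ[F] (ι → F)) * LinearMap.toMatrix' (h.symm : (ι → F) →ₗ[F] (ι → F)) = 1 := by
        rw [← LinearMap.toMatrix'_comp]
        have : (h : (ι → F) →ₗ[F] (ι → F)) ∘ₗ (h.symm : (ι → F) →ₗ[F] (ι → F)) = LinearMap.id := by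
          apply LinearMap.ext
          intro x
          exact h.apply_symm_apply x
        rw [this, LinearMap.toMatrix'_id]
      exact IsUnit.of_mul_eq_one _ h1
    obtain ⟨c, hc⟩ := hu
    refine ⟨c, ?_⟩
    show (c : Matrix ι ι F) * Matrix.reindex e e M = A * c
    rw [hc]
    apply Matrix.toLin'.injective
    apply LinearMap.ext
    intro x
    rw [Matrix.toLin'_mul, Matrix.toLin'_mul, Matrix.toLin'_toMatrix', LinearMap.comp_apply, LinearMap.comp_apply, Matrix.toLin'_apply, Matrix.toLin'_apply]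
    show f (g (Matrix.reindex e e M *ᵥ x)) = A *ᵥ (f (g x))
    rw [← hf]
    congr 1
    have h2 := hre (x ∘ e)
    have h3 : (x ∘ e) ∘ e.symm = x := by funext i; simp
    rw [h3] at h2
    rw [h2, hg, hg]
    funext i
    simp

end conj

section jordan

variable {F : Type*} [Field F] {t : ℕ} {d : Fin t → ℕ}

theorem count_map_d (d : Fin t → ℕ) (j : ℕ) : (Finset.univ.val.map d).count j = (Finset.univ.filter (fun k : Fin t => d k = j)).card := by
  rw [Multiset.count_map, Finset.card_def, Finset.filter_val]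
  congr 1
  apply Multiset.filter_congr
  intro a _
  exact eq_comm

theorem mt_jordan (d : Fin t → ℕ) : MT (Matrix.toLin' (Cfsg.jordanTypeMatrix d F - 1)) (Finset.univ.val.map d) :=
  ⟨Fin t, inferInstance, d, hasType_jordan d, rfl⟩

theorem MT.finrank {V : Type*} [AddCommGroup V] [Module F V] {ν : Module.End F V} {s : Multiset ℕ} (h : MT ν s) : finrank F V = s.sum := by
  obtain ⟨ι, _, k, hk, rfl⟩ := h
  exact hk.finrank

/-- a matrix similar to the Jordan matrix has the given type -/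
theorem type_of_conj {ι : Type} [Fintype ι] [DecidableEq ι] (e : ((k : Fin t) × Fin (d k)) ≃ ι) {A : Matrix ι ι F}
    (h : IsConj (Matrix.reindex e e (Cfsg.jordanTypeMatrix d F)) A) : HasType (Matrix.toLin' (A - 1)) d := by
  obtain ⟨f, hf⟩ := (conj_iff_equiv e _ A).mp h
  have h1 := (hasType_jordan (F := F) d).conj f
  have h2 : f.toLinearMap ∘ₗ (Matrix.toLin' (Cfsg.jordanTypeMatrix d F - 1)) ∘ₗ f.symm.toLinearMap = Matrix.toLin' (A - 1) := by
    apply LinearMap.ext
    intro x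
    show f (Matrix.toLin' (Cfsg.jordanTypeMatrix d F - 1) (f.symm x)) = _
    rw [Matrix.toLin'_apply, Matrix.toLin'_apply, Matrix.sub_mulVec, Matrix.one_mulVec, map_sub, hf, LinearEquiv.apply_symm_apply, Matrix.sub_mulVec, Matrix.one_mulVec]
  rwa [h2] at h1

/-- a matrix with the right multiset type is similar to the Jordan matrix -/
theorem conj_of_mt {ι : Type} [Fintype ι] [DecidableEq ι] {A : Matrix ι ι F} (h : MT (Matrix.toLin' (A - 1)) (Finset.univ.val.map d)) :
    ∃ e : ((k : Fin t) × Fin (d k)) ≃ ι, IsConj (Matrix.reindex e e (Cfsg.jordanTypeMatrix d F)) A := by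
  have hcard : Fintype.card ((k : Fin t) × Fin (d k)) = Fintype.card ι := by
    have h1 := h.finrank
    rw [Module.finrank_fintype_fun_eq_card] at h1
    rw [h1, Fintype.card_sigma]
    simp only [Fintype.card_fin]
    rfl
  refine ⟨Fintype.equivOfCardEq hcard, ?_⟩
  rw [conj_iff_equiv]
  obtain ⟨f, hf⟩ := (mt_jordan (F := F) d).similar h
  refine ⟨f, fun x => ?_⟩
  have h1 := hf x
  rw [Matrix.toLin'_apply, Matrix.toLin'_apply, Matrix.sub_mulVec, Matrix.one_mulVec, Matrix.sub_mulVec, Matrix.one_mulVec, map_sub] at h1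
  exact sub_left_inj.mp h1

end jordan

section sp

universe w

variable {F : Type w} [Field F] {m t : ℕ} {d : Fin t → ℕ}

theorem alt_cond {V : Type*} [AddCommGroup V] [Module F V] {J : LinearMap.BilinForm F V} {u : V ≃ₗ[F] V} (hJ : J.IsAlt) (hu : ∀ x y, J (u x) (u y) = J x y)
    {j : ℕ} (hj : Odd j) (x : V) (hx : (nuE u ^ j) x = 0) : J x ((nuE u ^ (j - 1)) x) = 0 := by
  obtain ⟨i, rfl⟩ := hj
  have h1 := j_move hu i x ((nuE u ^ i) x) (by
    rw [← Module.End.mul_apply, ← pow_add, show i + 1 + i = 2 * i + 1 by ring]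
    exact hx)
  rw [hJ] at h1
  have h2 : (nuE u ^ i) ((nuE u ^ i) x) = (nuE u ^ (2 * i + 1 - 1)) x := by
    rw [← Module.End.mul_apply, ← pow_add, Nat.add_sub_cancel, two_mul]
  rw [h2] at h1
  exact (mul_eq_zero.mp h1.symm).resolve_left (pow_ne_zero _ (neg_ne_zero.mpr one_ne_zero))

theorem jordan_sp_iff [Finite F] (hd : ∀ k, 1 ≤ d k) (hsum : ∑ k, d k = 2 * m) :
    (∃ e : ((k : Fin t) × Fin (d k)) ≃ (Fin m ⊕ Fin m), ∃ A : Matrix.symplecticGroup (Fin m) F, IsConj (Matrix.reindex e e (Cfsg.jordanTypeMatrix d F)) (A : Matrix (Fin m ⊕ Fin m) (Fin m ⊕ Fin m) F)) ↔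
      ∀ j : ℕ, Odd j → Even (Finset.univ.filter (fun k : Fin t => d k = j)).card := by
  constructor
  · rintro ⟨e, A, hA⟩ j hj
    have h1 := type_of_conj e hA
    have hinv : sJ (A : Matrix (Fin m ⊕ Fin m) (Fin m ⊕ Fin m) F) * A = 1 := mem_Sp_sJ.mp A.2
    rw [← nuE_mkE hinv] at h1
    have hu : ∀ x y, sympB m F (mkE hinv x) (mkE hinv y) = sympB m F x y := by
      intro x y
      rw [mkE_apply, mkE_apply]
      exact mem_Sp_iff.mp A.2 x y
    exact parity (J := sympB m F) sympB_isAlt.isRefl sympB_nondegenerate hu h1 (by rcases hj with ⟨r, hr⟩; omega) (fun x hx => alt_cond sympB_isAlt hu hj x hx)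
  · intro h
    obtain ⟨V, _, _, _, J, u, h1, h2, h3, h4⟩ := SpS.build (F := F) (Finset.univ.val.map d) (by
      intro a ha
      obtain ⟨k, -, rfl⟩ := Multiset.mem_map.mp ha
      exact hd k) (by
      intro a ha
      rw [count_map_d]
      exact h a ha)
    have hfr : finrank F V = 2 * m := by rw [h4.finrank, ← hsum]; rfl
    obtain ⟨ψ, hψ⟩ := alt_std J h1 h2 hfr
    let g : (Fin m ⊕ Fin m → F) →ₗ[F] (Fin m ⊕ Fin m → F) := (ψ.symm.trans (u.trans ψ)).toLinearMap
    have hg : ∀ x, g x = ψ (u (ψ.symm x)) := fun _ => rfl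
    have hM : ∀ x, LinearMap.toMatrix' g *ᵥ x = g x := fun x => by
      rw [← Matrix.toLin'_apply, Matrix.toLin'_toMatrix']
    have hsp : LinearMap.toMatrix' g ∈ Matrix.symplecticGroup (Fin m) F := by
      rw [mem_Sp_iff]
      intro x y
      rw [hM, hM, hg, hg, hψ, h3, ← hψ, LinearEquiv.apply_symm_apply, LinearEquiv.apply_symm_apply]
    have h5 : MT (Matrix.toLin' (LinearMap.toMatrix' g - 1)) (Finset.univ.val.map d) := by
      apply h4.conj ψ
      intro x
      rw [Matrix.toLin'_apply, Matrix.sub_mulVec, hM, hg, LinearEquiv.symm_apply_apply, Matrix.one_mulVec, nuE_apply, map_sub]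
    obtain ⟨e, he⟩ := conj_of_mt h5
    exact ⟨e, ⟨_, hsp⟩, he⟩

end sp

end Cfsg.Agent.H17
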