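import Mathlib
import Cfsg.Agent.H17.JFinal
import Cfsg.Agent.H17.BlockIso
import Cfsg.Agent.H17.Spin

set_option autoImplicit false

/-! Regular unipotent isometries of quadratic spaces. -/

namespace Cfsg.Agent.H17

open Module Cfsg.Agent.H16.JNil Cfsg.Agent.H5
open scoped MatrixGroups Matrix

section reg

variable {F : Type*} [Field F] {V : Type*} [AddCommGroup V] [Module F V] [FiniteDimensional F V]

theorem MT.reg {n : ℕ} (hn : 1 ≤ n) (hV : Module.finrank F V = n) {ν : Module.End F V} (hν : IsNilpotent ν) (hk : Module.finrank F (LinearMap.ker ν) ≤ 1) : MT ν {n} := by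
  have h0 : ν ^ n = 0 := by
    have h1 := pow_finrank_restrict hν ⊤ (fun _ _ => Submodule.mem_top)
    rw [finrank_top, hV] at h1
    apply LinearMap.ext
    intro x
    exact h1 (Submodule.mem_top : x ∈ ⊤)
  apply MT.single hn hV hν
  intro t
  rcases le_total t n with h | h
  · have h1 := finrank_ker_pow_eq ν hk hV h0 h
    have h2 := LinearMap.finrank_range_add_finrank_ker (ν ^ t)
    omega
  · have : ν ^ t = 0 := by rw [← Nat.sub_add_cancel h, pow_add, h0, mul_zero]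
    rw [this, LinearMap.range_zero, finrank_bot]
    omega

/-- a kernel parametrised by a line has dimension at most one -/
theorem ker_le_one {ν : Module.End F V} (a : V) (h : ∀ x, ν x = 0 → ∃ c : F, x = c • a) : finrank F (LinearMap.ker ν) ≤ 1 := by
  have h1 : LinearMap.ker ν ≤ F ∙ a := by
    intro x hx
    obtain ⟨c, rfl⟩ := h x hx
    exact Submodule.smul_mem _ _ (Submodule.mem_span_singleton_self a)
  refine (Submodule.finrank_mono h1).trans ?_
  refine (finrank_span_le_card ({a} : Set V)).trans ?_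
  simp

end reg

section data

variable (F : Type*) [Field F]

/-- the data of a regular unipotent matrix with its inverse transpose, fixed vectors -/
theorem exists_data {k : ℕ} (hk : 1 ≤ k) : ∃ (A B : Matrix (Fin k) (Fin k) F) (ξ η w : Fin k → F),
    Aᵀ * B = 1 ∧ (A - 1) ^ k = 0 ∧ (B - 1) ^ k = 0 ∧ (∀ x, (A - 1) *ᵥ x = 0 → ∃ c : F, x = c • ξ) ∧ (∀ y, (B - 1) *ᵥ y = 0 → ∃ c : F, y = c • η) ∧
    Aᵀ *ᵥ η = η ∧ w ⬝ᵥ η = 1 := by
  obtain ⟨A, B, hAB, hA0, hA1, hB0, hB1⟩ := exists_jpair F k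
  have hk1 : finrank F (LinearMap.ker (Matrix.toLin' (A - 1))) = 1 := by
    have h1 := finrank_ker_toLin (A - 1)
    rw [hA1, Fintype.card_fin] at h1
    omega
  have hk2 : finrank F (LinearMap.ker (Matrix.toLin' (B - 1))) = 1 := by
    have h1 := finrank_ker_toLin (B - 1)
    rw [hB1, Fintype.card_fin] at h1
    omega
  obtain ⟨⟨ξ, hξ⟩, -, hξ1⟩ := finrank_eq_one_iff'.mp hk1
  obtain ⟨⟨η, hη⟩, hη0, hη1⟩ := finrank_eq_one_iff'.mp hk2
  have hη0' : η ≠ 0 := fun h => hη0 (Subtype.ext h)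
  obtain ⟨i, hi⟩ : ∃ i, η i ≠ 0 := by
    by_contra h
    push Not at h
    exact hη0' (funext h)
  rw [LinearMap.mem_ker, Matrix.toLin'_apply] at hη
  refine ⟨A, B, ξ, η, (η i)⁻¹ • Pi.single i 1, hAB, hA0, hB0, ?_, ?_, ?_, ?_⟩
  · intro x hx
    obtain ⟨c, hc⟩ := hξ1 ⟨x, by rw [LinearMap.mem_ker, Matrix.toLin'_apply]; exact hx⟩
    exact ⟨c, (congrArg Subtype.val hc).symm⟩
  · intro x hx
    obtain ⟨c, hc⟩ := hη1 ⟨x, by rw [LinearMap.mem_ker, Matrix.toLin'_apply]; exact hx⟩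
    exact ⟨c, (congrArg Subtype.val hc).symm⟩
  · rw [Matrix.sub_mulVec, Matrix.one_mulVec, sub_eq_zero] at hη
    nth_rewrite 1 [← hη]
    rw [Matrix.mulVec_mulVec, hAB, Matrix.one_mulVec]
  · rw [smul_dotProduct, single_one_dotProduct, smul_eq_mul, inv_mul_cancel₀ hi]

end data

universe w

section odd

variable {F : Type w} [Field F]

theorem OS.one (h2 : (2 : F) ≠ 0) : OS F {1} := by
  refine ⟨F, inferInstance, inferInstance, inferInstance, QuadraticMap.sq, LinearEquiv.refl F F, ?_, ?_, ?_⟩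
  · intro x hx
    have h1 : pB (QuadraticMap.sq : QuadraticForm F F) x 1 = QuadraticMap.sq (x + 1) - QuadraticMap.sq x - QuadraticMap.sq (1 : F) := rfl
    have h3 := hx 1
    rw [h1] at h3
    simp only [QuadraticMap.sq_apply] at h3
    have h4 : 2 * x = 0 := by linear_combination h3
    exact (mul_eq_zero.mp h4).resolve_left h2
  · intro x; rfl
  · apply MT.reg le_rfl (Module.finrank_self F)
    · refine ⟨1, ?_⟩
      rw [pow_one]
      apply LinearMap.ext
      intro x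
      rw [nuE_apply]
      exact sub_self x
    · exact (Submodule.finrank_le _).trans (Module.finrank_self F).le

/-- regular unipotent isometries in odd dimension, odd characteristic -/
theorem OS.odd (h2 : (2 : F) ≠ 0) {k : ℕ} (hk : 1 ≤ k) : OS F {2 * k + 1} := by
  obtain ⟨A, B, ξ, η, w₀, hAB, hA0, hB0, hξ, hη, hAη, hw⟩ := exists_data F hk
  have hBA : Bᵀ * A = 1 := by
    rw [← Matrix.transpose_one, ← hAB, Matrix.transpose_mul, Matrix.transpose_transpose]
  have hdp : ∀ x y : Fin k → F, (A *ᵥ x) ⬝ᵥ (B *ᵥ y) = x ⬝ᵥ y := by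
    intro x y
    rw [Matrix.dotProduct_mulVec, ← Matrix.mulVec_transpose, Matrix.mulVec_mulVec, hBA, Matrix.one_mulVec]
  have hAη' : ∀ x : Fin k → F, (A *ᵥ x) ⬝ᵥ η = x ⬝ᵥ η := by
    intro x
    rw [dotProduct_comm, Matrix.dotProduct_mulVec, ← Matrix.mulVec_transpose, hAη, dotProduct_comm]
  -- the space
  let J : LinearMap.BilinForm F (((Fin k → F) × (Fin k → F)) × F) := LinearMap.mk₂ F (fun x y => x.1.1 ⬝ᵥ y.1.2 + x.2 * y.2)
    (fun x x' y => by simp only [Prod.fst_add, Prod.snd_add, add_dotProduct, dotProduct_add]; ring)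
    (fun c x y => by simp only [Prod.smul_fst, Prod.smul_snd, smul_dotProduct, dotProduct_smul, smul_eq_mul]; ring)
    (fun x y y' => by simp only [Prod.fst_add, Prod.snd_add, add_dotProduct, dotProduct_add]; ring)
    (fun c x y => by simp only [Prod.smul_fst, Prod.smul_snd, smul_dotProduct, dotProduct_smul, smul_eq_mul]; ring)
  let Q : QuadraticForm F (((Fin k → F) × (Fin k → F)) × F) := LinearMap.BilinMap.toQuadraticMap J
  have hQ : ∀ x : (((Fin k → F) × (Fin k → F)) × F), Q x = x.1.1 ⬝ᵥ x.1.2 + x.2 * x.2 := fun _ => rfl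
  have hJ : ∀ x y : (((Fin k → F) × (Fin k → F)) × F), pB Q x y = x.1.1 ⬝ᵥ y.1.2 + y.1.1 ⬝ᵥ x.1.2 + 2 * x.2 * y.2 := by
    intro x y
    have h : pB Q x y = Q (x + y) - Q x - Q y := rfl
    rw [h, hQ, hQ, hQ]
    simp only [Prod.fst_add, Prod.snd_add, add_dotProduct, dotProduct_add]; ring
  have hnd : ND Q := by
    intro x hx
    apply Prod.ext
    · apply Prod.ext
      · funext i
        have := hx ((0, Pi.single i 1), 0)
        rw [hJ] at this
        simpa using this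
      · funext i
        have := hx ((Pi.single i 1, 0), 0)
        rw [hJ] at this
        simpa using this
    · have := hx ((0, 0), 1)
      rw [hJ] at this
      simp only [dotProduct_zero, zero_dotProduct, zero_add, mul_one] at this
      exact (mul_eq_zero.mp this).resolve_left h2
  -- the isometry
  let g : (((Fin k → F) × (Fin k → F)) × F) →ₗ[F] (((Fin k → F) × (Fin k → F)) × F) :=
    { toFun := fun v => ((A *ᵥ (v.1.1 - (2 * v.2 + w₀ ⬝ᵥ v.1.2) • w₀), B *ᵥ v.1.2), v.2 + w₀ ⬝ᵥ v.1.2)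
      map_add' := fun x y => by
        apply Prod.ext
        · apply Prod.ext
          · show A *ᵥ ((x.1.1 + y.1.1) - (2 * (x.2 + y.2) + w₀ ⬝ᵥ (x.1.2 + y.1.2)) • w₀) = A *ᵥ (x.1.1 - (2 * x.2 + w₀ ⬝ᵥ x.1.2) • w₀) + A *ᵥ (y.1.1 - (2 * y.2 + w₀ ⬝ᵥ y.1.2) • w₀)
            rw [← Matrix.mulVec_add, dotProduct_add]
            congr 1
            module
          · exact Matrix.mulVec_add B x.1.2 y.1.2
        · show x.2 + y.2 + w₀ ⬝ᵥ (x.1.2 + y.1.2) = x.2 + w₀ ⬝ᵥ x.1.2 + (y.2 + w₀ ⬝ᵥ y.1.2)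
          rw [dotProduct_add]; ring
      map_smul' := fun c x => by
        apply Prod.ext
        · apply Prod.ext
          · show A *ᵥ (c • x.1.1 - (2 * (c * x.2) + w₀ ⬝ᵥ (c • x.1.2)) • w₀) = c • (A *ᵥ (x.1.1 - (2 * x.2 + w₀ ⬝ᵥ x.1.2) • w₀))
            rw [← Matrix.mulVec_smul, dotProduct_smul]
            congr 1
            rw [smul_sub, smul_smul, smul_eq_mul]
            congr 2
            ring
          · exact Matrix.mulVec_smul B c x.1.2
        · show c * x.2 + w₀ ⬝ᵥ (c • x.1.2) = c * (x.2 + w₀ ⬝ᵥ x.1.2)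
          rw [dotProduct_smul, smul_eq_mul]; ring }
  have hg : ∀ v, g v = ((A *ᵥ (v.1.1 - (2 * v.2 + w₀ ⬝ᵥ v.1.2) • w₀), B *ᵥ v.1.2), v.2 + w₀ ⬝ᵥ v.1.2) := fun _ => rfl
  have hgQ : ∀ v, Q (g v) = Q v := by
    intro v
    rw [hQ, hQ, hg]
    simp only
    rw [hdp, sub_dotProduct, smul_dotProduct, smul_eq_mul]
    ring
  have hgJ : ∀ x y, pB Q (g x) (g y) = pB Q x y := by
    intro x y
    have h : ∀ x y, pB Q x y = Q (x + y) - Q x - Q y := fun _ _ => rfl
    rw [h, h, ← map_add, hgQ, hgQ, hgQ]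
  have hginj : Function.Injective g := by
    rw [injective_iff_map_eq_zero]
    intro x hx
    apply hnd
    intro y
    rw [← hgJ, hx, map_zero, LinearMap.zero_apply]
  let u : (((Fin k → F) × (Fin k → F)) × F) ≃ₗ[F] (((Fin k → F) × (Fin k → F)) × F) := LinearEquiv.ofInjectiveEndo g hginj
  have hu : ∀ x, u x = g x := fun _ => rfl
  have hν : ∀ v, nuE u v = (((A - 1) *ᵥ v.1.1 - (2 * v.2 + w₀ ⬝ᵥ v.1.2) • (A *ᵥ w₀), (B - 1) *ᵥ v.1.2), w₀ ⬝ᵥ v.1.2) := by
    intro v
    rw [nuE_apply, hu, hg]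
    apply Prod.ext
    · apply Prod.ext
      · show A *ᵥ (v.1.1 - (2 * v.2 + w₀ ⬝ᵥ v.1.2) • w₀) - v.1.1 = (A - 1) *ᵥ v.1.1 - (2 * v.2 + w₀ ⬝ᵥ v.1.2) • (A *ᵥ w₀)
        rw [Matrix.mulVec_sub, Matrix.sub_mulVec, Matrix.one_mulVec, Matrix.mulVec_smul]
        abel
      · show B *ᵥ v.1.2 - v.1.2 = (B - 1) *ᵥ v.1.2
        rw [Matrix.sub_mulVec, Matrix.one_mulVec]
    · show v.2 + w₀ ⬝ᵥ v.1.2 - v.2 = w₀ ⬝ᵥ v.1.2
      ring
  refine ⟨_, inferInstance, inferInstance, inferInstance, Q, u, hnd, fun x => hgQ x, ?_⟩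
  have hfr : finrank F (((Fin k → F) × (Fin k → F)) × F) = 2 * k + 1 := by
    rw [Module.finrank_prod, Module.finrank_prod, Module.finrank_fin_fun, Module.finrank_self]; ring
  apply MT.reg (by omega) hfr
  · -- nilpotency
    have e1 : ∀ j v, ((nuE u ^ j) v).1.2 = (B - 1) ^ j *ᵥ v.1.2 := by
      intro j v
      induction j with
      | zero => rw [pow_zero, pow_zero, Matrix.one_mulVec]; rfl
      | succ j ih => rw [pow_succ', Module.End.mul_apply, hν, ih, pow_succ', Matrix.mulVec_mulVec]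
    have e2 : ∀ v, ((nuE u ^ k) v).1.2 = 0 := fun v => by rw [e1, hB0, Matrix.zero_mulVec]
    have e3 : ∀ v, v.1.2 = 0 → v.2 = 0 → ∀ j, (nuE u ^ j) v = (((A - 1) ^ j *ᵥ v.1.1, 0), 0) := by
      intro v h3 h4 j
      induction j with
      | zero =>
        rw [pow_zero, pow_zero, Matrix.one_mulVec]
        exact Prod.ext (Prod.ext rfl h3) h4
      | succ j ih =>
        rw [pow_succ', Module.End.mul_apply, ih, hν]
        simp [pow_succ', Matrix.mulVec_mulVec]
    refine ⟨k + (1 + k), ?_⟩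
    apply LinearMap.ext
    intro v
    rw [pow_add, pow_add, LinearMap.zero_apply]
    have h5 : (nuE u ^ k * (nuE u ^ 1 * nuE u ^ k)) v = (nuE u ^ k) (nuE u ((nuE u ^ k) v)) := by rw [pow_one]; rfl
    rw [h5, e3 _ ?_ ?_, hA0, Matrix.zero_mulVec]
    · rfl
    · rw [hν, e2, Matrix.mulVec_zero]
    · rw [hν, e2, dotProduct_zero]
  · -- the kernel
    apply ker_le_one (((ξ, 0), 0) : ((Fin k → F) × (Fin k → F)) × F)
    intro v hv
    rw [hν] at hv
    have h3 : (A - 1) *ᵥ v.1.1 - (2 * v.2 + w₀ ⬝ᵥ v.1.2) • (A *ᵥ w₀) = 0 := congrArg (fun z : (((Fin k → F) × (Fin k → F)) × F) => z.1.1) hv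
    have h4 : (B - 1) *ᵥ v.1.2 = 0 := congrArg (fun z : (((Fin k → F) × (Fin k → F)) × F) => z.1.2) hv
    have h5 : w₀ ⬝ᵥ v.1.2 = 0 := congrArg (fun z : (((Fin k → F) × (Fin k → F)) × F) => z.2) hv
    obtain ⟨c, hc⟩ := hη _ h4
    have hc0 : c = 0 := by rw [hc, dotProduct_smul, hw, smul_eq_mul, mul_one] at h5; exact h5
    have hy : v.1.2 = 0 := by rw [hc, hc0, zero_smul]
    rw [h5, add_zero] at h3
    have h6 := congrArg (fun z => z ⬝ᵥ η) h3
    simp only [sub_dotProduct, smul_dotProduct, zero_dotProduct, Matrix.sub_mulVec, Matrix.one_mulVec, hAη', sub_self, hw, smul_eq_mul, mul_one, zero_sub, neg_eq_zero] at h6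
    have hz : v.2 = 0 := (mul_eq_zero.mp h6).resolve_left h2
    rw [hz, mul_zero, zero_smul, sub_zero] at h3
    obtain ⟨e, he⟩ := hξ _ h3
    exact ⟨e, Prod.ext (Prod.ext he (by rw [hy]; simp)) (by rw [hz]; simp)⟩

theorem OS.build_odd (h2 : (2 : F) ≠ 0) (s : Multiset ℕ) (hpos : ∀ a ∈ s, 1 ≤ a) (hev : ∀ a, Even a → Even (s.count a)) : OS F s :=
  build_aux (OS F) (fun a => Odd a) OS.zero (fun _ _ h h' => h.add h') (fun a ha hga => by
    obtain ⟨r, rfl⟩ := hga
    rcases Nat.eq_zero_or_pos r with rfl | hr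
    · exact OS.one h2
    · exact OS.odd h2 hr) (fun a ha => OS.pair ha) s.card s rfl hpos (fun a ha => hev a (Nat.not_odd_iff_even.mp ha))

end odd

section even

variable {F : Type w} [Field F]

/-- regular unipotent isometries in even dimension, characteristic two -/
theorem OS.even2 (h2 : (2 : F) = 0) {k : ℕ} (hk : 1 ≤ k) : OS F {2 * k} := by
  obtain ⟨A, B, ξ, η, w₀, hAB, hA0, hB0, hξ, hη, hAη, hw⟩ := exists_data F hk
  have hBA : Bᵀ * A = 1 := by
    rw [← Matrix.transpose_one, ← hAB, Matrix.transpose_mul, Matrix.transpose_transpose]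
  have hdp : ∀ x y : Fin k → F, (A *ᵥ x) ⬝ᵥ (B *ᵥ y) = x ⬝ᵥ y := by
    intro x y
    rw [Matrix.dotProduct_mulVec, ← Matrix.mulVec_transpose, Matrix.mulVec_mulVec, hBA, Matrix.one_mulVec]
  have hAη' : ∀ x : Fin k → F, (A *ᵥ x) ⬝ᵥ η = x ⬝ᵥ η := by
    intro x
    rw [dotProduct_comm, Matrix.dotProduct_mulVec, ← Matrix.mulVec_transpose, hAη, dotProduct_comm]
  have hBη : B *ᵥ η = η := by
    nth_rewrite 1 [← hAη]
    rw [Matrix.mulVec_mulVec, mul_eq_one_comm.mp hAB, Matrix.one_mulVec]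
  -- the space
  let J : LinearMap.BilinForm F ((Fin k → F) × (Fin k → F)) := LinearMap.mk₂ F (fun x y => x.1 ⬝ᵥ y.2)
    (fun x x' y => by simp only [Prod.fst_add, Prod.snd_add, add_dotProduct, dotProduct_add])
    (fun c x y => by simp only [Prod.smul_fst, Prod.smul_snd, smul_dotProduct, dotProduct_smul, smul_eq_mul])
    (fun x y y' => by simp only [Prod.fst_add, Prod.snd_add, add_dotProduct, dotProduct_add])
    (fun c x y => by simp only [Prod.smul_fst, Prod.smul_snd, smul_dotProduct, dotProduct_smul, smul_eq_mul])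
  let Q : QuadraticForm F ((Fin k → F) × (Fin k → F)) := LinearMap.BilinMap.toQuadraticMap J
  have hQ : ∀ x : ((Fin k → F) × (Fin k → F)), Q x = x.1 ⬝ᵥ x.2 := fun _ => rfl
  have hJ : ∀ x y : ((Fin k → F) × (Fin k → F)), pB Q x y = x.1 ⬝ᵥ y.2 + y.1 ⬝ᵥ x.2 := by
    intro x y
    have h : pB Q x y = Q (x + y) - Q x - Q y := rfl
    rw [h, hQ, hQ, hQ]
    simp only [Prod.fst_add, Prod.snd_add, add_dotProduct, dotProduct_add]; ring
  have hnd : ND Q := by
    intro x hx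
    apply Prod.ext
    · funext i
      have := hx (0, Pi.single i 1)
      rw [hJ] at this
      simpa using this
    · funext i
      have := hx (Pi.single i 1, 0)
      rw [hJ] at this
      simpa using this
  let σ : (Fin k → F) × (Fin k → F) → F := fun v => v.1 ⬝ᵥ η + w₀ ⬝ᵥ v.2
  have hσ : ∀ v, σ v = v.1 ⬝ᵥ η + w₀ ⬝ᵥ v.2 := fun _ => rfl
  have hσadd : ∀ v v', σ (v + v') = σ v + σ v' := by
    intro v v'
    rw [hσ, hσ, hσ, Prod.fst_add, Prod.snd_add, add_dotProduct, dotProduct_add]; ring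
  have hσsmul : ∀ (c : F) v, σ (c • v) = c * σ v := by
    intro c v
    rw [hσ, hσ, Prod.smul_fst, Prod.smul_snd, smul_dotProduct, dotProduct_smul, smul_eq_mul, smul_eq_mul]; ring
  let g : ((Fin k → F) × (Fin k → F)) →ₗ[F] ((Fin k → F) × (Fin k → F)) :=
    { toFun := fun v => (A *ᵥ (v.1 + σ v • w₀), B *ᵥ (v.2 + σ v • η))
      map_add' := fun x y => by
        apply Prod.ext
        · show A *ᵥ ((x.1 + y.1) + σ (x + y) • w₀) = A *ᵥ (x.1 + σ x • w₀) + A *ᵥ (y.1 + σ y • w₀)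
          rw [← Matrix.mulVec_add, hσadd]
          congr 1
          module
        · show B *ᵥ ((x.2 + y.2) + σ (x + y) • η) = B *ᵥ (x.2 + σ x • η) + B *ᵥ (y.2 + σ y • η)
          rw [← Matrix.mulVec_add, hσadd]
          congr 1
          module
      map_smul' := fun c x => by
        apply Prod.ext
        · show A *ᵥ (c • x.1 + σ (c • x) • w₀) = c • (A *ᵥ (x.1 + σ x • w₀))
          rw [← Matrix.mulVec_smul, hσsmul, smul_add, smul_smul]
        · show B *ᵥ (c • x.2 + σ (c • x) • η) = c • (B *ᵥ (x.2 + σ x • η))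
          rw [← Matrix.mulVec_smul, hσsmul, smul_add, smul_smul] }
  have hg : ∀ v, g v = (A *ᵥ (v.1 + σ v • w₀), B *ᵥ (v.2 + σ v • η)) := fun _ => rfl
  have hgQ : ∀ v, Q (g v) = Q v := by
    intro v
    rw [hQ, hQ, hg]
    simp only
    rw [hdp, add_dotProduct, dotProduct_add, dotProduct_add, smul_dotProduct, dotProduct_smul, smul_dotProduct, dotProduct_smul, hw, smul_eq_mul, smul_eq_mul, smul_eq_mul, smul_eq_mul, hσ]
    linear_combination ((v.1 ⬝ᵥ η + w₀ ⬝ᵥ v.2) ^ 2) * h2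
  have hgJ : ∀ x y, pB Q (g x) (g y) = pB Q x y := by
    intro x y
    have h : ∀ x y, pB Q x y = Q (x + y) - Q x - Q y := fun _ _ => rfl
    rw [h, h, ← map_add, hgQ, hgQ, hgQ]
  have hginj : Function.Injective g := by
    rw [injective_iff_map_eq_zero]
    intro x hx
    apply hnd
    intro y
    rw [← hgJ, hx, map_zero, LinearMap.zero_apply]
  let u : ((Fin k → F) × (Fin k → F)) ≃ₗ[F] ((Fin k → F) × (Fin k → F)) := LinearEquiv.ofInjectiveEndo g hginj
  have hu : ∀ x, u x = g x := fun _ => rfl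
  have hν : ∀ v, nuE u v = ((A - 1) *ᵥ v.1 + σ v • (A *ᵥ w₀), (B - 1) *ᵥ v.2 + σ v • η) := by
    intro v
    rw [nuE_apply, hu, hg]
    apply Prod.ext
    · show A *ᵥ (v.1 + σ v • w₀) - v.1 = (A - 1) *ᵥ v.1 + σ v • (A *ᵥ w₀)
      rw [Matrix.mulVec_add, Matrix.sub_mulVec, Matrix.one_mulVec, Matrix.mulVec_smul]
      abel
    · show B *ᵥ (v.2 + σ v • η) - v.2 = (B - 1) *ᵥ v.2 + σ v • η
      rw [Matrix.mulVec_add, Matrix.sub_mulVec, Matrix.one_mulVec, Matrix.mulVec_smul, hBη]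
      abel
  have hσν : ∀ v, σ (nuE u v) = w₀ ⬝ᵥ ((B - 1) *ᵥ v.2) := by
    intro v
    rw [hν, hσ]
    simp only
    rw [add_dotProduct, dotProduct_add, smul_dotProduct, dotProduct_smul, hw, hAη', hw, Matrix.sub_mulVec A, Matrix.one_mulVec, sub_dotProduct, hAη', smul_eq_mul]
    linear_combination (σ v) * h2
  refine ⟨_, inferInstance, inferInstance, inferInstance, Q, u, hnd, fun x => hgQ x, ?_⟩
  have hfr : finrank F ((Fin k → F) × (Fin k → F)) = 2 * k := by
    rw [Module.finrank_prod, Module.finrank_fin_fun]; ring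
  apply MT.reg (by omega) hfr
  · -- nilpotency
    have e1 : ∀ j v, (B - 1) *ᵥ ((nuE u ^ j) v).2 = (B - 1) ^ (j + 1) *ᵥ v.2 := by
      intro j v
      induction j with
      | zero => rw [pow_zero, zero_add, pow_one]; rfl
      | succ j ih =>
        rw [pow_succ', Module.End.mul_apply, hν]
        simp only
        rw [Matrix.mulVec_add, ih, Matrix.mulVec_smul, Matrix.sub_mulVec B 1 η, hBη, Matrix.one_mulVec, sub_self, smul_zero, add_zero, Matrix.mulVec_mulVec, ← pow_succ']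
    have e2 : ∀ v, (B - 1) *ᵥ ((nuE u ^ k) v).2 = 0 := fun v => by rw [e1, pow_succ, hB0, zero_mul, Matrix.zero_mulVec]
    have e3 : ∀ v, v.2 = 0 → σ v = 0 → ∀ j, (nuE u ^ j) v = ((A - 1) ^ j *ᵥ v.1, 0) := by
      intro v h3 h4 j
      have h5 : v.1 ⬝ᵥ η = 0 := by
        have := h4
        rw [hσ, h3, dotProduct_zero, add_zero] at this
        exact this
      have h6 : ∀ j, ((A - 1) ^ j *ᵥ v.1) ⬝ᵥ η = 0 := by
        intro j
        induction j with
        | zero => rw [pow_zero, Matrix.one_mulVec]; exact h5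
        | succ j ih => rw [pow_succ', ← Matrix.mulVec_mulVec, Matrix.sub_mulVec, Matrix.one_mulVec, sub_dotProduct, hAη', sub_self]
      induction j with
      | zero =>
        rw [pow_zero, pow_zero, Matrix.one_mulVec]
        exact Prod.ext rfl h3
      | succ j ih =>
        rw [pow_succ', Module.End.mul_apply, ih, hν]
        have h7 : σ ((A - 1) ^ j *ᵥ v.1, 0) = 0 := by rw [hσ]; simp only; rw [h6, dotProduct_zero, add_zero]
        rw [h7]
        simp [pow_succ', Matrix.mulVec_mulVec]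
    refine ⟨k + (1 + (1 + k)), ?_⟩
    apply LinearMap.ext
    intro v
    rw [pow_add, pow_add, pow_add, LinearMap.zero_apply]
    have h5 : (nuE u ^ k * (nuE u ^ 1 * (nuE u ^ 1 * nuE u ^ k))) v = (nuE u ^ k) (nuE u (nuE u ((nuE u ^ k) v))) := by rw [pow_one]; rfl
    have hs1 : σ (nuE u ((nuE u ^ k) v)) = 0 := by rw [hσν, e2, dotProduct_zero]
    have hs2 : (B - 1) *ᵥ (nuE u ((nuE u ^ k) v)).2 = 0 := by
      have h6 : nuE u ((nuE u ^ k) v) = (nuE u ^ (k + 1)) v := by rw [pow_succ']; rfl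
      rw [h6, e1, pow_succ, pow_succ, hB0, zero_mul, zero_mul, Matrix.zero_mulVec]
    rw [h5, e3 _ ?_ ?_, hA0, Matrix.zero_mulVec]
    · rfl
    · rw [hν]
      simp only
      rw [hs1, hs2, zero_smul, add_zero]
    · rw [hσν, hs2, dotProduct_zero]
  · -- the kernel
    apply ker_le_one ((ξ, -(ξ ⬝ᵥ η) • η) : (Fin k → F) × (Fin k → F))
    intro v hv
    rw [hν] at hv
    have h3 : (A - 1) *ᵥ v.1 + σ v • (A *ᵥ w₀) = 0 := congrArg Prod.fst hv
    have h4 : (B - 1) *ᵥ v.2 + σ v • η = 0 := congrArg Prod.snd hv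
    have h6 := congrArg (fun z => z ⬝ᵥ η) h3
    simp only [add_dotProduct, sub_dotProduct, smul_dotProduct, zero_dotProduct, Matrix.sub_mulVec, Matrix.one_mulVec, hAη', sub_self, hw, smul_eq_mul, mul_one, zero_add] at h6
    rw [h6, zero_smul, add_zero] at h3 h4
    obtain ⟨e, he⟩ := hξ _ h3
    obtain ⟨c, hc⟩ := hη _ h4
    rw [hσ, he, hc, smul_dotProduct, dotProduct_smul, hw, smul_eq_mul, smul_eq_mul, mul_one] at h6
    refine ⟨e, Prod.ext he ?_⟩
    show v.2 = e • (-(ξ ⬝ᵥ η) • η)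
    rw [hc, smul_smul]
    congr 1
    linear_combination h6

theorem OS.build_even (h2 : (2 : F) = 0) (s : Multiset ℕ) (hpos : ∀ a ∈ s, 1 ≤ a) (hev : ∀ a, Odd a → Even (s.count a)) : OS F s :=
  build_aux (OS F) (fun a => Even a) OS.zero (fun _ _ h h' => h.add h') (fun a ha hga => by
    obtain ⟨r, rfl⟩ := hga
    have := OS.even2 h2 (k := r) (by omega)
    rwa [two_mul] at this) (fun a ha => OS.pair ha) s.card s rfl hpos (fun a ha => hev a (Nat.not_even_iff_odd.mp ha))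

end even

section final

variable {F : Type w} [Field F] {n t : ℕ} {d : Fin t → ℕ}

theorem pB_of_isom {V : Type*} [AddCommGroup V] [Module F V] {Q : QuadraticForm F V} {u : V ≃ₗ[F] V} (hu : ∀ x, Q (u x) = Q x) (x y : V) :
    pB Q (u x) (u y) = pB Q x y := by
  have h : ∀ x y, pB Q x y = Q (x + y) - Q x - Q y := fun _ _ => rfl
  rw [h, h, ← map_add, hu, hu, hu]

/-- from an abstract isometry to the frozen group -/
theorem jordan_o_build {s : Multiset ℕ} (hs : s = Finset.univ.val.map d) (hsum : ∑ k, d k = n) (h : OS F s) :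
    ∃ Q : QuadraticForm F (Fin n → F), (QuadraticMap.polarBilin Q).Nondegenerate ∧ ∃ e : ((k : Fin t) × Fin (d k)) ≃ Fin n, ∃ A : ↥(Cfsg.isometryGroup F ⇑Q),
      IsConj (Matrix.reindex e e (Cfsg.jordanTypeMatrix d F)) ((A : Matrix.GeneralLinearGroup (Fin n) F) : Matrix (Fin n) (Fin n) F) := by
  subst hs
  obtain ⟨V, _, _, _, Q, u, h2, h3, h4⟩ := h
  have hfr : Module.finrank F V = Module.finrank F (Fin n → F) := by
    rw [h4.finrank, Module.finrank_fin_fun, ← hsum]; rfl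
  let ψ : V ≃ₗ[F] (Fin n → F) := LinearEquiv.ofFinrankEq _ _ hfr
  let Q' : QuadraticForm F (Fin n → F) := Q.comp ψ.symm.toLinearMap
  have hQ' : ∀ x, Q' x = Q (ψ.symm x) := fun _ => rfl
  have hpB : ∀ x y, pB Q' x y = pB Q (ψ.symm x) (ψ.symm y) := by
    intro x y
    have h : pB Q' x y = Q' (x + y) - Q' x - Q' y := rfl
    have h' : pB Q (ψ.symm x) (ψ.symm y) = Q (ψ.symm x + ψ.symm y) - Q (ψ.symm x) - Q (ψ.symm y) := rfl
    rw [h, h', hQ', hQ', hQ', map_add]
  have hnd : ND Q' := by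
    intro x hx
    have h5 : ψ.symm x = 0 := by
      apply h2
      intro y
      have := hx (ψ y)
      rwa [hpB, LinearEquiv.symm_apply_apply] at this
    exact (LinearEquiv.map_eq_zero_iff _).mp h5
  refine ⟨Q', hnd.nondeg, ?_⟩
  let g : (Fin n → F) ≃ₗ[F] (Fin n → F) := ψ.symm.trans (u.trans ψ)
  have hg : ∀ x, g x = ψ (u (ψ.symm x)) := fun _ => rfl
  let G : OG Q' := ⟨g, fun x => by
    show Q' (ψ (u (ψ.symm x))) = Q' x
    rw [hQ', hQ', LinearEquiv.symm_apply_apply, h3]⟩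
  have hG : ∀ x, ((((ogEquiv Q').symm G : Cfsg.isometryGroup F ⇑Q') : Matrix.GeneralLinearGroup (Fin n) F) : Matrix (Fin n) (Fin n) F) *ᵥ x = g x := fun x => symm_mulVec G x
  have h5 : MT (Matrix.toLin' (((((ogEquiv Q').symm G : Cfsg.isometryGroup F ⇑Q') : Matrix.GeneralLinearGroup (Fin n) F) : Matrix (Fin n) (Fin n) F) - 1)) (Finset.univ.val.map d) := by
    apply h4.conj ψ
    intro x
    rw [Matrix.toLin'_apply, Matrix.sub_mulVec, hG, hg, LinearEquiv.symm_apply_apply, Matrix.one_mulVec, nuE_apply, map_sub]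
  obtain ⟨e, he⟩ := conj_of_mt h5
  exact ⟨e, _, he⟩

/-- from the frozen group to an abstract isometry -/
theorem jordan_o_type {Q : QuadraticForm F (Fin n → F)} {e : ((k : Fin t) × Fin (d k)) ≃ Fin n} {A : ↥(Cfsg.isometryGroup F ⇑Q)}
    (hA : IsConj (Matrix.reindex e e (Cfsg.jordanTypeMatrix d F)) ((A : Matrix.GeneralLinearGroup (Fin n) F) : Matrix (Fin n) (Fin n) F)) :
    ∃ u : (Fin n → F) ≃ₗ[F] (Fin n → F), (∀ x, Q (u x) = Q x) ∧ HasType (nuE u) d := by
  have h1 := type_of_conj e hA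
  have hinv : (((A⁻¹ : ↥(Cfsg.isometryGroup F ⇑Q)) : Matrix.GeneralLinearGroup (Fin n) F) : Matrix (Fin n) (Fin n) F) * ((A : Matrix.GeneralLinearGroup (Fin n) F) : Matrix (Fin n) (Fin n) F) = 1 := by
    rw [← Units.val_mul, ← Subgroup.coe_mul, inv_mul_cancel]; rfl
  rw [← nuE_mkE hinv] at h1
  refine ⟨mkE hinv, fun x => ?_, h1⟩
  rw [mkE_apply]
  exact mem_isometryGroup.mp A.2 x

theorem sym_cond (h2 : (2 : F) ≠ 0) {V : Type*} [AddCommGroup V] [Module F V] {Q : QuadraticForm F V} {u : V ≃ₗ[F] V} (hu : ∀ x y, pB Q (u x) (u y) = pB Q x y)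
    {j : ℕ} (hj : Even j) (hj0 : 0 < j) (x : V) (hx : (nuE u ^ j) x = 0) : pB Q x ((nuE u ^ (j - 1)) x) = 0 := by
  have h1 := j_move hu (j - 1) x x (by rw [Nat.sub_add_cancel hj0]; exact hx)
  have hodd : Odd (j - 1) := by rcases hj with ⟨r, hr⟩; exact ⟨r - 1, by omega⟩
  rw [hodd.neg_one_pow] at h1
  have h3 : pB Q ((nuE u ^ (j - 1)) x) x = pB Q x ((nuE u ^ (j - 1)) x) := by
    have h : ∀ x y, pB Q x y = Q (x + y) - Q x - Q y := fun _ _ => rfl
    rw [h, h, add_comm]; ring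
  rw [h3] at h1
  have h4 : (2 : F) * pB Q x ((nuE u ^ (j - 1)) x) = 0 := by linear_combination h1
  exact (mul_eq_zero.mp h4).resolve_left h2

theorem pB_refl {V : Type*} [AddCommGroup V] [Module F V] (Q : QuadraticForm F V) : (pB Q).IsRefl := by
  intro x y h1
  have h : ∀ x y, pB Q x y = Q (x + y) - Q x - Q y := fun _ _ => rfl
  rw [h] at h1 ⊢
  rw [add_comm]
  linear_combination h1

theorem pB_alt2 (h2 : (2 : F) = 0) {V : Type*} [AddCommGroup V] [Module F V] (Q : QuadraticForm F V) : (pB Q).IsAlt := by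
  intro x
  have h : ∀ x y, pB Q x y = Q (x + y) - Q x - Q y := fun _ _ => rfl
  rw [h, ← two_smul F x, QuadraticMap.map_smul, smul_eq_mul]
  linear_combination (Q x) * h2

end final

end Cfsg.Agent.H17
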