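import Mathlib
import Cfsg.Agent.H17.InvTwoB
import Cfsg.Agent.H17.WittBound
import Cfsg.Agent.H17.JOrth
import Cfsg.Agent.H5.SpSimple

set_option autoImplicit false

/-! Numbers of classes of involutions in characteristic two: symplectic and orthogonal groups. -/

namespace Cfsg.Agent.H17

open Module Cfsg.Agent.H5
open scoped MatrixGroups Matrix

section congr

theorem card_classes_congr {G H : Type*} [Group G] [Group H] (e : G ≃* H) (P : G → Prop) (Q : H → Prop) (hPQ : ∀ g, P g ↔ Q (e g)) :
    Nat.card {C : ConjClasses G // ∃ g, ConjClasses.mk g = C ∧ P g} = Nat.card {C : ConjClasses H // ∃ g, ConjClasses.mk g = C ∧ Q g} := by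
  refine Nat.card_congr (Equiv.ofBijective (fun C => ⟨ConjClasses.map (e : G →* H) C.1, ?_⟩) ⟨?_, ?_⟩)
  · obtain ⟨C, g, rfl, hg⟩ := C
    exact ⟨e g, rfl, (hPQ g).mp hg⟩
  · rintro ⟨C, g, rfl, hg⟩ ⟨C', g', rfl, hg'⟩ h
    have h1 : IsConj (e g) (e g') := ConjClasses.mk_eq_mk_iff_isConj.mp (congrArg Subtype.val h)
    apply Subtype.ext
    show ConjClasses.mk g = ConjClasses.mk g'
    rw [ConjClasses.mk_eq_mk_iff_isConj]
    have h2 := (e.symm : H →* G).map_isConj h1
    simpa using h2
  · rintro ⟨C, g, rfl, hg⟩
    refine ⟨⟨ConjClasses.mk (e.symm g), e.symm g, rfl, (hPQ _).mpr (by rw [MulEquiv.apply_symm_apply]; exact hg)⟩, ?_⟩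
    apply Subtype.ext
    show ConjClasses.mk (e (e.symm g)) = ConjClasses.mk g
    rw [MulEquiv.apply_symm_apply]

theorem card_invol_congr {G H : Type*} [Group G] [Group H] (e : G ≃* H) :
    Nat.card {C : ConjClasses G // ∃ g, ConjClasses.mk g = C ∧ orderOf g = 2} = Nat.card {C : ConjClasses H // ∃ g, ConjClasses.mk g = C ∧ orderOf g = 2} :=
  card_classes_congr e _ _ fun g => by rw [e.orderOf_eq]

end congr

section iso

variable {F : Type*} [Field F] {V : Type*} [AddCommGroup V] [Module F V] [FiniteDimensional F V]

/-- a totally isotropic family has at most half the dimension -/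
theorem iso_bound {B : LinearMap.BilinForm F V} (hr : B.IsRefl) (hnd : B.Nondegenerate) {m : ℕ} (hV : finrank F V = 2 * m) {ι : Type} [Fintype ι] {e : ι → V}
    (he : LinearIndependent F e) (h0 : ∀ i j, B (e i) (e j) = 0) : Fintype.card ι ≤ m := by
  have h1 : finrank F (Submodule.span F (Set.range e)) = Fintype.card ι := finrank_span_eq_card he
  have h2 : Submodule.span F (Set.range e) ≤ B.orthogonal (Submodule.span F (Set.range e)) := by
    rw [Submodule.span_le]
    rintro _ ⟨i, rfl⟩
    rw [SetLike.mem_coe, LinearMap.BilinForm.mem_orthogonal_iff]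
    intro x hx
    show B x (e i) = 0
    have h3 : Submodule.span F (Set.range e) ≤ LinearMap.ker (B.flip (e i)) := by
      rw [Submodule.span_le]
      rintro _ ⟨j, rfl⟩
      exact h0 j i
    exact h3 hx
  have h3 := Submodule.finrank_mono h2
  rw [LinearMap.BilinForm.finrank_orthogonal hnd, h1, hV] at h3
  omega

end iso

section mk

variable {F : Type*} [Field F] {V : Type*} [AddCommGroup V] [Module F V] [FiniteDimensional F V]

theorem sub_family {P : V → Prop} {B : LinearMap.BilinForm F V} {M : ℕ} {ι : Type} [Fintype ι] (hι : Fintype.card ι ≤ M)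
    (e : Fin M → V) (he : LinearIndependent F e) (h0 : ∀ i j, B (e i) (e j) = 0) (hP : ∀ i, P (e i)) :
    ∃ e' : ι → V, LinearIndependent F e' ∧ (∀ i j, B (e' i) (e' j) = 0) ∧ ∀ i, P (e' i) := by
  have f : ι ↪ Fin M := by
    have h1 : Fintype.card ι ≤ Fintype.card (Fin M) := by rwa [Fintype.card_fin]
    exact (Function.Embedding.nonempty_of_card_le h1).some
  exact ⟨e ∘ f, he.comp f f.injective, fun i j => h0 _ _, fun i => hP _⟩

variable [CharP F 2]

theorem iset_quad {Q : QuadraticForm F V} (hnd : ND Q) {m M : ℕ} (hV : finrank F V = 2 * m)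
    (hc : ∃ e : Fin m → V, LinearIndependent F e ∧ (∀ i j, pB Q (e i) (e j) = 0) ∧ ∀ i, Q (e i) = 1)
    (ha : ∃ e : Fin M → V, LinearIndependent F e ∧ (∀ i j, pB Q (e i) (e j) = 0) ∧ ∀ i, Q (e i) = 0)
    (hM : ∀ U : Submodule F V, TS Q U → finrank F U ≤ M) : ISet (pB Q) (fun v => Q v) id m M where
  alt := pB_alt2 (two_zero F) Q
  nd := hnd
  witt := fun x y hx hy hB hN => by
    obtain ⟨g, hgB, hgN, hg⟩ := hnd.formData.witt_family x y hx hy hB hN
    exact ⟨g, ⟨hgB, hgN⟩, hg⟩
  nT := fun g hg v => by
    have h1 : Q (g v - v) = Q (g v) + Q v - pB Q (g v) v := by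
      rw [sub_eq_add_neg, q_add, q_neg, pr_neg]; ring
    have h2 : Q (g v) = Q v := hg.2 v
    show Q (g v - v) = pB Q v (g v - v)
    rw [h1, h2, map_sub, pB_self, pB_symm Q (g v) v]
    linear_combination (Q v + Q v - pB Q v (g v)) * two_zero F
  nc := fun {s} e h0 h1 v => by
    have e1 : ∀ t : Finset (Fin s), Q (∑ j ∈ t, pB Q v (e j) • e j) = ∑ j ∈ t, pB Q v (e j) * pB Q v (e j) := by
      classical
      intro t
      induction t using Finset.induction_on with
      | empty => rw [Finset.sum_empty, Finset.sum_empty, q_zero]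
      | insert a t hat ih =>
        rw [Finset.sum_insert hat, Finset.sum_insert hat, q_add, ih, q_smul, map_sum]
        have h2 : ∑ i ∈ t, pB Q (pB Q v (e a) • e a) (pB Q v (e i) • e i) = 0 := by
          refine Finset.sum_eq_zero fun i _ => ?_
          rw [map_smul, pl_smul, h0, mul_zero, smul_zero]
        have h3 : Q (e a) = 1 := h1 a
        rw [h2, h3]
        ring
    show Q (v + TT (pB Q) e id v) = Q v
    rw [q_add, TT_apply]
    simp only [id]
    rw [e1, map_sum]
    have h4 : ∑ x, pB Q v (pB Q v (e x) • e x) = ∑ x, pB Q v (e x) * pB Q v (e x) := Finset.sum_congr rfl fun x _ => by rw [map_smul, smul_eq_mul]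
    rw [h4]
    linear_combination (∑ x, pB Q v (e x) * pB Q v (e x)) * two_zero F
  na := fun {k} e h0 h1 v => by
    have e1 : ∀ t : Finset (Fin k ⊕ Fin k), Q (∑ j ∈ t, pB Q v (e j) • e j.swap) = 0 := by
      classical
      intro t
      induction t using Finset.induction_on with
      | empty => rw [Finset.sum_empty, q_zero]
      | insert a t hat ih =>
        rw [Finset.sum_insert hat, q_add, ih, q_smul, map_sum]
        have h2 : ∑ i ∈ t, pB Q (pB Q v (e a) • e a.swap) (pB Q v (e i) • e i.swap) = 0 := by
          refine Finset.sum_eq_zero fun i _ => ?_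
          rw [map_smul, pl_smul, h0, mul_zero, smul_zero]
        have h3 : Q (e a.swap) = 0 := h1 a.swap
        rw [h2, h3]
        ring
    show Q (v + TT (pB Q) e Sum.swap v) = Q v
    rw [q_add, TT_apply, e1, map_sum, Fintype.sum_sum_type]
    simp only [Sum.swap_inl, Sum.swap_inr, map_smul, smul_eq_mul]
    have h4 : ∑ x : Fin k, pB Q v (e (Sum.inr x)) * pB Q v (e (Sum.inl x)) = ∑ x : Fin k, pB Q v (e (Sum.inl x)) * pB Q v (e (Sum.inr x)) := Finset.sum_congr rfl fun x _ => mul_comm _ _
    rw [h4]
    linear_combination (∑ x : Fin k, pB Q v (e (Sum.inl x)) * pB Q v (e (Sum.inr x))) * two_zero F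
  exc := fun s hs => by
    obtain ⟨e, h1, h2, h3⟩ := hc
    exact sub_family (P := fun v => Q v = id 1) (by rwa [Fintype.card_fin]) e h1 h2 h3
  exa := fun k hk => by
    obtain ⟨e, h1, h2, h3⟩ := ha
    exact sub_family (P := fun v => Q v = id 0) (by rw [Fintype.card_sum, Fintype.card_fin]; omega) e h1 h2 h3
  bc := fun {s} e he h0 => by
    have := iso_bound (pB_refl Q) hnd.nondeg hV he h0
    rwa [Fintype.card_fin] at this
  ba := fun {k} e he h0 h1 => by
    have h2 : finrank F (Submodule.span F (Set.range e)) = 2 * k := by rw [finrank_span_eq_card he, Fintype.card_sum, Fintype.card_fin]; ring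
    rw [← h2]
    apply hM
    intro x hx
    induction hx using Submodule.span_induction with
    | mem x hx =>
      obtain ⟨i, rfl⟩ := hx
      exact h1 i
    | zero => exact q_zero _
    | add x y hx hy ihx ihy =>
      rw [q_add, ihx, ihy]
      have h3 : ∀ z ∈ Submodule.span F (Set.range e), ∀ i, pB Q z (e i) = 0 := by
        intro z hz i
        have h4 : Submodule.span F (Set.range e) ≤ LinearMap.ker ((pB Q).flip (e i)) := by
          rw [Submodule.span_le]
          rintro _ ⟨j, rfl⟩
          exact h0 j i
        exact h4 hz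
      have h4 : Submodule.span F (Set.range e) ≤ LinearMap.ker (pB Q x) := by
        rw [Submodule.span_le]
        rintro _ ⟨j, rfl⟩
        exact h3 x hx j
      have h5 : pB Q x y = 0 := h4 hy
      rw [h5]; ring
    | smul a x hx ih => rw [q_smul, ih, mul_zero]

theorem iset_sp (m : ℕ) : ISet (sympB m F) (fun _ => (0 : F)) (fun _ => 0) m m where
  alt := sympB_isAlt
  nd := sympB_nondegenerate.1
  witt := fun x y hx hy hB hN => by
    obtain ⟨g, hgB, hgN, hg⟩ := sp_formData.witt_family x y hx hy hB hN
    exact ⟨g, ⟨hgB, hgN⟩, hg⟩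
  nT := fun _ _ _ => rfl
  nc := fun _ _ _ _ => rfl
  na := fun _ _ _ _ => rfl
  exc := fun s hs => by
    apply sub_family (P := fun v => (0 : F) = 0) (B := sympB m F) (M := m) (ι := Fin s) (by rwa [Fintype.card_fin]) (fun i => Pi.single (Sum.inl i) 1)
    · rw [Fintype.linearIndependent_iff]
      intro g hg i
      have := congrFun hg (Sum.inl i)
      simpa [Finset.sum_apply, Pi.single_apply] using this
    · intro i j
      rw [sympB_apply, sympForm_eq]
      simp
    · intro i; rfl
  exa := fun k hk => by
    apply sub_family (P := fun v => (0 : F) = 0) (B := sympB m F) (M := m) (ι := Fin k ⊕ Fin k) (by rw [Fintype.card_sum, Fintype.card_fin]; omega) (fun i => Pi.single (Sum.inl i) 1)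
    · rw [Fintype.linearIndependent_iff]
      intro g hg i
      have := congrFun hg (Sum.inl i)
      simpa [Finset.sum_apply, Pi.single_apply] using this
    · intro i j
      rw [sympB_apply, sympForm_eq]
      simp
    · intro i; rfl
  bc := fun {s} e he h0 => by
    have := iso_bound sympB_isAlt.isRefl sympB_nondegenerate (m := m) (by rw [Module.finrank_fintype_fun_eq_card, Fintype.card_sum, Fintype.card_fin]; ring) he h0
    rwa [Fintype.card_fin] at this
  ba := fun {k} e he h0 _ => by
    have := iso_bound sympB_isAlt.isRefl sympB_nondegenerate (m := m) (by rw [Module.finrank_fintype_fun_eq_card, Fintype.card_sum, Fintype.card_fin]; ring) he h0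
    rw [Fintype.card_sum, Fintype.card_fin] at this
    omega

end mk

section groups

variable {F : Type*} [Field F]

/-- the symplectic group as an isometry group -/
noncomputable def spIG (m : ℕ) (F : Type*) [Field F] : Matrix.symplecticGroup (Fin m) F ≃* IG (sympB m F) (fun _ => (0 : F)) where
  toFun A := ⟨mkE (mem_Sp_sJ.mp A.2), fun u v => by rw [mkE_apply, mkE_apply]; exact mem_Sp_iff.mp A.2 u v, fun _ => rfl⟩
  invFun g := ⟨LinearMap.toMatrix' (g : (Fin m ⊕ Fin m → F) ≃ₗ[F] _).toLinearMap, by
    rw [mem_Sp_iff]
    intro u v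
    rw [← Matrix.toLin'_apply, ← Matrix.toLin'_apply, Matrix.toLin'_toMatrix']
    exact g.2.1 u v⟩
  left_inv A := by
    apply Subtype.ext
    apply Matrix.toLin'.injective
    apply LinearMap.ext
    intro v
    show Matrix.toLin' (LinearMap.toMatrix' _) v = _
    rw [Matrix.toLin'_toMatrix', Matrix.toLin'_apply]
    exact mkE_apply (mem_Sp_sJ.mp A.2) v
  right_inv g := by
    apply Subtype.ext
    apply LinearEquiv.ext
    intro v
    rw [mkE_apply, ← Matrix.toLin'_apply, Matrix.toLin'_toMatrix']
    rfl
  map_mul' A B := by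
    apply Subtype.ext
    apply LinearEquiv.ext
    intro v
    show mkE (mem_Sp_sJ.mp (A * B).2) v = mkE (mem_Sp_sJ.mp A.2) (mkE (mem_Sp_sJ.mp B.2) v)
    rw [mkE_apply, mkE_apply, mkE_apply, Matrix.mulVec_mulVec]
    rfl

/-- the orthogonal group as an isometry group -/
noncomputable def ogIG {V : Type*} [AddCommGroup V] [Module F V] (Q : QuadraticForm F V) : OG Q ≃* IG (pB Q) (fun v => Q v) :=
  MulEquiv.subgroupCongr (by
    ext g
    constructor
    · intro hg
      exact ⟨fun u v => pB_of_isom hg u v, hg⟩
    · intro hg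
      exact hg.2)

theorem invol_sp [Finite F] [CharP F 2] (m : ℕ) :
    Nat.card {C : ConjClasses ↥(Matrix.symplecticGroup (Fin m) F) // ∃ g : Matrix.symplecticGroup (Fin m) F, ConjClasses.mk g = C ∧ orderOf g = 2} = m + m / 2 :=
  (card_invol_congr (spIG m F)).trans (inv_count (iset_sp m))

theorem invol_quad [Finite F] [CharP F 2] {V : Type*} [AddCommGroup V] [Module F V] [FiniteDimensional F V] {Q : QuadraticForm F V} {m M : ℕ} (H : ISet (pB Q) (fun v => Q v) id m M) :
    Nat.card {C : ConjClasses ↥(OG Q) // ∃ g : OG Q, ConjClasses.mk g = C ∧ orderOf g = 2} = m + M / 2 :=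
  (card_invol_congr (ogIG Q)).trans (inv_count H)

theorem iset_plus [CharP F 2] (m : ℕ) : ISet (pB (qPlus m F)) (fun v => qPlus m F v) id m m := by
  have hV : finrank F (Fin m ⊕ Fin m → F) = 2 * m := by rw [Module.finrank_fintype_fun_eq_card, Fintype.card_sum, Fintype.card_fin]; ring
  apply iset_quad nd_plus hV
  · refine ⟨fun i => Pi.single (Sum.inl i) 1 + Pi.single (Sum.inr i) 1, ?_, ?_, ?_⟩
    · rw [Fintype.linearIndependent_iff]
      intro g hg i
      have := congrFun hg (Sum.inl i)
      simpa [Finset.sum_apply, Pi.single_apply] using this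
    · intro i j
      rw [pB_plus]
      simp only [Pi.add_apply, Pi.single_apply]
      rcases eq_or_ne i j with rfl | h
      · rw [Finset.sum_eq_single i]
        · simp only [if_true, Sum.inl.injEq, Sum.inr.injEq, reduceCtorEq, if_false]
          have := two_zero F
          ring_nf
          linear_combination this
        · intro k _ hk
          simp [hk]
        · intro h; exact absurd (Finset.mem_univ _) h
      · apply Finset.sum_eq_zero
        intro k _
        by_cases hk : k = i
        · subst hk
          simp [h]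
        · simp [hk]
    · intro i
      rw [qPlus_coe]
      unfold Cfsg.quadFormPlus
      rw [Finset.sum_eq_single i]
      · simp
      · intro k _ hk
        simp [hk]
      · intro h; exact absurd (Finset.mem_univ _) h
  · refine ⟨fun i => Pi.single (Sum.inl i) 1, ?_, ?_, ?_⟩
    · rw [Fintype.linearIndependent_iff]
      intro g hg i
      have := congrFun hg (Sum.inl i)
      simpa [Finset.sum_apply, Pi.single_apply] using this
    · intro i j
      rw [pB_plus]
      simp
    · intro i
      rw [qPlus_coe]
      unfold Cfsg.quadFormPlus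
      simp
  · intro U hU
    have h1 : finrank F U = Fintype.card (Fin (finrank F U)) := (Fintype.card_fin _).symm
    have h2 := iso_bound (pB_refl (qPlus m F)) nd_plus.nondeg hV (ι := Fin (finrank F U)) (e := fun i => ((finBasis F U) i : Fin m ⊕ Fin m → F))
      ((finBasis F U).linearIndependent.map' U.subtype (by simp)) (fun i j => hU.pb ((finBasis F U) i).2 ((finBasis F U) j).2)
    rwa [Fintype.card_fin] at h2

theorem iset_minus [Finite F] [CharP F 2] (k : ℕ) {a b : F} (hab : ∀ z₁ z₂ : F, z₁ ^ 2 + a * z₁ * z₂ + b * z₂ ^ 2 = 0 → z₁ = 0 ∧ z₂ = 0) :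
    ISet (pB (qMinus k F a b)) (fun v => qMinus k F a b v) id (k + 1) k := by
  have hV : finrank F ((Fin k ⊕ Fin k) ⊕ Fin 2 → F) = 2 * (k + 1) := by rw [Module.finrank_fintype_fun_eq_card, Fintype.card_sum, Fintype.card_sum, Fintype.card_fin, Fintype.card_fin]; ring
  apply iset_quad (nd_minus hab) hV
  · refine ⟨fun i => Fin.lastCases (motive := fun _ => ((Fin k ⊕ Fin k) ⊕ Fin 2 → F)) (Pi.single (Sum.inr 0) 1) (fun i => Pi.single (Sum.inl (Sum.inl i)) 1 + Pi.single (Sum.inl (Sum.inr i)) 1) i, ?_, ?_, ?_⟩
    · rw [Fintype.linearIndependent_iff]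
      intro g hg i
      rw [Fin.sum_univ_castSucc] at hg
      simp only [Fin.lastCases_last, Fin.lastCases_castSucc] at hg
      refine Fin.lastCases ?_ (fun i => ?_) i
      · have := congrFun hg (Sum.inr 0)
        simpa [Finset.sum_apply, Pi.single_apply] using this
      · have := congrFun hg (Sum.inl (Sum.inl i))
        simpa [Finset.sum_apply, Pi.single_apply] using this
    · intro i j
      have h2 := two_zero F
      rw [pB_minus]
      refine Fin.lastCases ?_ (fun i => ?_) i <;> refine Fin.lastCases ?_ (fun j => ?_) j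
      · simp only [Fin.lastCases_last]
        simp
        linear_combination h2
      · simp only [Fin.lastCases_last, Fin.lastCases_castSucc]
        simp
      · simp only [Fin.lastCases_last, Fin.lastCases_castSucc]
        simp
      · simp only [Fin.lastCases_castSucc]
        simp only [Pi.add_apply, Pi.single_apply]
        rcases eq_or_ne i j with rfl | h
        · rw [Finset.sum_eq_single i]
          · simp only [if_true, Sum.inl.injEq, Sum.inr.injEq, reduceCtorEq, if_false]
            ring_nf
            linear_combination h2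
          · intro k _ hk
            simp [hk]
          · intro h; exact absurd (Finset.mem_univ _) h
        · rw [Finset.sum_eq_zero]
          · simp
          · intro k _
            by_cases hk : k = i
            · subst hk
              simp [h]
            · simp [hk]
    · intro i
      rw [qMinus_coe]
      unfold Cfsg.quadFormMinus
      refine Fin.lastCases ?_ (fun i => ?_) i
      · simp only [Fin.lastCases_last]
        simp
      · simp only [Fin.lastCases_castSucc]
        rw [Finset.sum_eq_single i]
        · simp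
        · intro k _ hk
          simp [hk]
        · intro h; exact absurd (Finset.mem_univ _) h
  · refine ⟨fun i => Pi.single (Sum.inl (Sum.inl i)) 1, ?_, ?_, ?_⟩
    · rw [Fintype.linearIndependent_iff]
      intro g hg i
      have := congrFun hg (Sum.inl (Sum.inl i))
      simpa [Finset.sum_apply, Pi.single_apply] using this
    · intro i j
      rw [pB_minus]
      simp
    · intro i
      rw [qMinus_coe]
      unfold Cfsg.quadFormMinus
      simp
  · intro U hU
    apply finrank_le_of_ts_minus k a b hab
    intro u hu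
    rw [← qMinus_coe]
    exact hU u hu

end groups

end Cfsg.Agent.H17
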