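import Mathlib

set_option autoImplicit false

namespace Cfsg.Agent.H17

theorem two_ne_of_odd {F : Type*} [Field F] [Fintype F] (h : Odd (Fintype.card F)) : (2 : F) ≠ 0 := by
  intro h2
  have h1 : ringChar F = 2 := by
    have h3 : ringChar F ∣ 2 := (ringChar.spec F 2).mp (by exact_mod_cast h2)
    rcases (Nat.dvd_prime Nat.prime_two).mp h3 with h4 | h4
    · exact absurd h4 (CharP.ringChar_ne_one)
    · exact h4
  have h3 := FiniteField.even_card_of_char_two h1
  rw [← Nat.not_even_iff_odd] at h
  exact h (Nat.even_iff.mpr h3)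

end Cfsg.Agent.H17
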