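import Mathlib
import Cfsg.Agent.H17.PolJ

set_option autoImplicit false

/-! Abstract symplectic groups in characteristic two: automorphisms preserving transvections. -/

namespace Cfsg.Agent.H17.Pol

variable {F V G PG : Type*} [Field F] [AddCommGroup V] [Module F V] [Group G] [Group PG]
  {O : Pol F V G PG} {e f : V}

/-- symplectic forms in characteristic two -/
structure TType (O : Pol F V G PG) : Prop where
  two : (2 : F) = 0
  τ1 : ∀ a, O.τ a = a
  N0 : ∀ x, O.N x = 0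
  t0 : ∀ a, O.t a = 0

theorem TType.neg (hC : O.TType) (a : F) : -a = a := by linear_combination (-a) * hC.two

theorem TType.ε1 (hC : O.TType) : O.ε = 1 := by
  rcases O.hε with h | h
  · exact h
  · rw [h, hC.neg]

theorem TType.sym (hC : O.TType) (x y : V) : O.B x y = O.B y x := by rw [O.symm y x, hC.ε1, one_mul, hC.τ1]

theorem TType.alt (hC : O.TType) (x : V) : O.B x x = 0 := O.N_self x (hC.N0 x)

theorem TType.pt (hC : O.TType) {x : V} (hx : x ≠ 0) : O.Pt x := ⟨hx, hC.N0 x⟩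

theorem TType.ok (hC : O.TType) {e w : V} (z : F) (h : O.B e w = 0) : O.Ok e w z :=
  ⟨hC.N0 e, h, by rw [hC.N0, hC.t0, zero_add]⟩

theorem TType.X_act (hC : O.TType) {e w : V} (z : F) (h : O.B e w = 0) (x : V) :
    O.act (O.X e w z) x = x + O.B e x • (w + z • e) - O.B w x • e := by
  rw [Pol.X_act (hC.ok z h), hC.ε1, one_mul]

theorem TType.Z_act (hC : O.TType) (e : V) (z : F) (x : V) :
    O.act (O.X e 0 z) x = x + (O.B e x * z) • e := by
  rw [hC.X_act z (O.br_zero e), O.bl_zero]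
  module

theorem TType.Z_ne (hC : O.TType) {e : V} (he : e ≠ 0) {z : F} (hz : z ≠ 0) : O.pr (O.X e 0 z) ≠ 1 := by
  intro h
  have h1 := pr_X_eq_one (hC.ok z (O.br_zero e)) he h
  obtain ⟨x, hx⟩ := exists_B_one (O := O) he
  have h2 := hC.Z_act e z x
  rw [h1, act_one, hx, one_mul] at h2
  have h3 : z • e = 0 := by
    have := h2
    rwa [eq_comm, add_eq_left] at this
  rcases smul_eq_zero.mp h3 with h4 | h4
  · exact hz h4
  · exact he h4

theorem TType.mem_Zs' (hC : O.TType) {e : V} {y : PG} : y ∈ O.Zs e ↔ ∃ z, y = O.pr (O.X e 0 z) := by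
  rw [mem_Zs (hC.N0 e)]
  constructor
  · rintro ⟨z, -, h⟩; exact ⟨z, h⟩
  · rintro ⟨z, h⟩; exact ⟨z, hC.ok z (O.br_zero e), h⟩

theorem TType.Z_zero (hC : O.TType) (e : V) : O.pr (O.X e 0 0) = 1 := by
  rw [X_zero (hC.N0 e), map_one]

theorem TType.disj (hC : O.TType) {e e' : V} (he : e ≠ 0) (he' : e' ≠ 0) {y : PG} (hy : y ∈ O.Zs e) (hy' : y ∈ O.Zs e') (h1 : y ≠ 1) :
    ∃ c : F, e' = c • e := by
  obtain ⟨z1, rfl⟩ := hC.mem_Zs'.mp hy
  obtain ⟨z, he1⟩ := hC.mem_Zs'.mp hy'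
  have hz : z ≠ 0 := by
    rintro rfl
    rw [hC.Z_zero] at he1
    exact h1 he1
  obtain ⟨c, hc⟩ := (O.pr_eq _ _).mp he1.symm
  by_contra hcon
  obtain ⟨w, hw, hw'⟩ := exists_perp_not_perp (O := O) he hcon
  have h2 := hc w
  rw [hC.Z_act, hC.Z_act, hw] at h2
  have h3 : (O.B e' w * z) • e' = (c - 1) • w := by
    calc (O.B e' w * z) • e' = (w + (O.B e' w * z) • e') - w := by module
      _ = c • (w + (0 * z1) • e) - w := by rw [h2]
      _ = _ := by module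
  have h4 := congrArg (fun x => O.B e' x) h3
  simp only [O.br_smul, hC.alt, mul_zero] at h4
  have h5 : c - 1 = 0 := (mul_eq_zero.mp h4.symm).resolve_right hw'
  rw [h5, zero_smul] at h3
  rcases smul_eq_zero.mp h3 with h6 | h6
  · exact mul_ne_zero hw' hz h6
  · exact he' h6

theorem TType.Zs_inj (hC : O.TType) {e e' : V} (he : e ≠ 0) (he' : e' ≠ 0) (h : O.Zs e = O.Zs e') : ∃ c : F, e' = c • e := by
  have h1 : O.pr (O.X e 0 1) ∈ O.Zs e := hC.mem_Zs'.mpr ⟨1, rfl⟩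
  exact hC.disj he he' h1 (h ▸ h1) (hC.Z_ne he one_ne_zero)

theorem TType.cj_Zs_iff (hC : O.TType) {e : V} (he : e ≠ 0) (g : G) :
    cj (O.pr g) (O.Zs e) = O.Zs e ↔ ∃ c : F, O.act g e = c • e := by
  rw [Zs_conj]
  constructor
  · intro h
    obtain ⟨c, hc⟩ := hC.Zs_inj he (act_ne_zero g he) h.symm
    exact ⟨c, hc⟩
  · rintro ⟨c, hc⟩
    rw [hc]
    apply Zs_smul
    rintro rfl
    rw [zero_smul] at hc
    exact act_ne_zero g he hc

theorem TType.comm_iff (hC : O.TType) {e e' : V} (he : e ≠ 0) (he' : e' ≠ 0) {y y' : PG} (hy : y ∈ O.Zs e) (hy' : y' ∈ O.Zs e') (h1 : y ≠ 1) (h1' : y' ≠ 1) :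
    y * y' = y' * y ↔ O.B e e' = 0 := by
  obtain ⟨z, rfl⟩ := hC.mem_Zs'.mp hy
  have hz : z ≠ 0 := by
    rintro rfl
    exact h1 (hC.Z_zero e)
  constructor
  · intro h
    by_contra hb
    have h2 : y' ∈ O.Zs (O.act (O.X e 0 z) e') := by
      rw [← Zs_conj, mem_cj]
      have : (O.pr (O.X e 0 z))⁻¹ * y' * O.pr (O.X e 0 z) = y' := by rw [mul_assoc, ← h]; group
      rwa [this]
    obtain ⟨c, hc⟩ := hC.disj he' (act_ne_zero _ he') hy' h2 h1'
    rw [hC.Z_act] at hc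
    have h3 := congrArg (fun x => O.B e x) hc
    simp only [O.br_add, O.br_smul, hC.alt, mul_zero, add_zero] at h3
    have h4 : c = 1 := by
      have : (c - 1) * O.B e e' = 0 := by linear_combination -h3
      exact sub_eq_zero.mp ((mul_eq_zero.mp this).resolve_right hb)
    rw [h4, one_smul, add_eq_left] at hc
    rcases smul_eq_zero.mp hc with h6 | h6
    · exact mul_ne_zero hb hz h6
    · exact he h6
  · intro hb
    obtain ⟨z', rfl⟩ := hC.mem_Zs'.mp hy'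
    have h2 := X_conj (hC.ok z' (O.br_zero e')) (O.X e 0 z)
    have h3 : O.act (O.X e 0 z) e' = e' := by rw [hC.Z_act, hb]; module
    rw [h3, map_zero, mul_inv_eq_iff_eq_mul] at h2
    rw [← map_mul, ← map_mul, h2]

theorem TType.opChar_Qs [Finite V] [Finite G] (p : ℕ) [Fact p.Prime] [CharP F p] (hb : O.Big) (h : O.Hyp e f)
    (hC : O.TType) (hI : O.Irr e f) {w0 : V} (hw0 : O.InW e f w0) (hw0n : w0 ≠ 0) :
    OpChar p (O.Zs e) (O.Qs e) := by
  refine ⟨?_, ?_, ?_, ?_⟩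
  · rw [← map_QG h.e0]
    exact (isPGroup_QG p h.e0).map _
  · intro y hy
    obtain ⟨g, rfl⟩ := O.pr_surj y
    rw [hC.cj_Zs_iff h.ene] at hy
    exact (cj_Qs_iff hb h.ept g).mpr hy
  · intro x hx
    obtain ⟨g, rfl⟩ := O.pr_surj x
    rw [hC.cj_Zs_iff h.ene]
    exact Qs_fix h.e0 hx
  · intro R hR hRn hRle
    obtain ⟨P, hP⟩ := (isPGroup_QG (O := O) p h.e0).exists_le_sylow
    have hPe : ∀ g ∈ (P : Subgroup G), O.act g e = e := fun g hg => fixes_e p hb h.ept P.2 hP hg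
    -- `R ≤ P`
    have hRP : R ≤ (P : Subgroup G).map O.pr := by
      have h1 : (P : Subgroup G).map O.pr ≤ Subgroup.normalizer (R : Set PG) := by
        rintro _ ⟨g, hg, rfl⟩
        have h2 : cj (O.pr g) (O.Zs e) = O.Zs e := (hC.cj_Zs_iff h.ene g).mpr ⟨1, by rw [hPe g hg, one_smul]⟩
        have h3 := hRn _ h2
        rw [Subgroup.mem_normalizer_iff]
        intro x
        constructor
        · intro hx
          change O.pr g * x * (O.pr g)⁻¹ ∈ R
          rw [← h3]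
          exact ⟨x, hx, rfl⟩
        · intro hx
          change O.pr g * x * (O.pr g)⁻¹ ∈ R at hx
          rw [← h3, mem_cj] at hx
          have : (O.pr g)⁻¹ * (O.pr g * x * (O.pr g)⁻¹) * O.pr g = x := by group
          rwa [this] at hx
      have h2 : IsPGroup p ((P : Subgroup G).map O.pr ⊔ R : Subgroup PG) :=
        (P.2.map O.pr).to_sup_of_normal_right' hR h1
      have h3 := (P.mapSurjective O.pr_surj).is_maximal' h2 le_sup_left
      have h4 : (P.mapSurjective O.pr_surj : Subgroup PG) = (P : Subgroup G).map O.pr := Sylow.coe_mapSurjective _ _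
      rw [h4] at h3
      rw [← h3]
      exact le_sup_right
    obtain ⟨v, hv, hvn, hvP⟩ := fixes_w p h P.2 hPe hw0 hw0n
    -- the submodule of vectors fixed modulo `e`
    let K : Submodule F V :=
      { carrier := {w | ∀ g, O.act g e = e → O.pr g ∈ R → ∃ c : F, O.act g w = w + c • e}
        add_mem' := by
          intro a b ha hb g hg hgR
          obtain ⟨c, hc⟩ := ha g hg hgR
          obtain ⟨d, hd⟩ := hb g hg hgR
          exact ⟨c + d, by rw [map_add, hc, hd]; module⟩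
        zero_mem' := fun g _ _ => ⟨0, by rw [map_zero, zero_smul, add_zero]⟩
        smul_mem' := by
          intro a w hw g hg hgR
          obtain ⟨c, hc⟩ := hw g hg hgR
          exact ⟨a * c, by rw [act_smul', hc]; module⟩ }
    have hKL : ∀ g l, InL O e f g l → ∀ w ∈ K, O.InW e f w → O.act g w ∈ K := by
      intro m l hm w hw _ g hg hgR
      have hl := hm.l_ne h
      have h1 : O.act (m⁻¹ * g * m) e = e := by
        rw [act_mul, act_mul, hm.1, act_smul', hg, act_smul']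
        have h2 : O.act m⁻¹ (l • e) = e := by rw [← hm.1, act_inv_act]
        rwa [act_smul'] at h2
      have h2 : O.pr (m⁻¹ * g * m) ∈ R := by
        rw [map_mul, map_mul, map_inv]
        have h3 : cj (O.pr m) (O.Zs e) = O.Zs e := (hC.cj_Zs_iff h.ene m).mpr ⟨l, hm.1⟩
        have h4 := hRn _ h3
        rw [← h4, mem_cj] at hgR
        exact hgR
      obtain ⟨c, hc⟩ := hw _ h1 h2
      refine ⟨c * l, ?_⟩
      have h5 := congrArg (O.act m) hc
      rw [map_add, act_smul', hm.1, act_mul, act_mul, act_act_inv, smul_smul] at h5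
      exact h5
    have hKW := hI K hKL ⟨v, by
      intro g hg hgR
      obtain ⟨k, hk, hkg⟩ := hRP hgR
      have : g = k := pr_inj_St h.ene hg (hPe k hk) hkg.symm
      rw [this]
      exact hvP k hk, hv, hvn⟩
    intro r hr
    obtain ⟨g, hg, rfl⟩ := hRP hr
    obtain ⟨w, z, _, hok, hX⟩ := mem_QG_of_triv h (hPe g hg) (fun w hw => hKW w hw g (hPe g hg) hr)
    rw [hX]
    exact (mem_Qs h.e0).mpr ⟨_, _, hok, rfl⟩

/-- automorphisms preserving transvections -/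
def TP (O : Pol F V G PG) (α : MulAut PG) : Prop := ∀ e : V, e ≠ 0 → ∀ y ∈ O.Zs e, y ≠ 1 → ∃ e' : V, e' ≠ 0 ∧ α y ∈ O.Zs e'

theorem TType.image_le (hC : O.TType) {α : MulAut PG} (h1 : O.TP α) (h2 : O.TP α⁻¹) (he : e ≠ 0) :
    ∃ e' : V, e' ≠ 0 ∧ im α (O.Zs e) ≤ O.Zs e' := by
  obtain ⟨y1, hy1d⟩ : ∃ y, y = O.pr (O.X e 0 1) := ⟨_, rfl⟩
  have hy1 : y1 ∈ O.Zs e := hC.mem_Zs'.mpr ⟨1, hy1d⟩
  have hy1n : y1 ≠ 1 := by rw [hy1d]; exact hC.Z_ne he one_ne_zero
  obtain ⟨e', he', hye'⟩ := h1 e he y1 hy1 hy1n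
  refine ⟨e', he', ?_⟩
  rintro _ ⟨y, hy, rfl⟩
  change α y ∈ O.Zs e'
  by_cases hyn : y = 1
  · rw [hyn, map_one]; exact one_mem _
  obtain ⟨e'', he'', hye''⟩ := h1 e he y hy hyn
  by_cases hc : ∃ c : F, e'' = c • e'
  · obtain ⟨c, hc⟩ := hc
    have hc0 : c ≠ 0 := by
      rintro rfl
      rw [zero_smul] at hc
      exact he'' hc
    rwa [hc, Zs_smul _ hc0] at hye''
  exfalso
  obtain ⟨w, hw, hw'⟩ := exists_perp_not_perp (O := O) he' hc
  have hw0 : w ≠ 0 := by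
    rintro rfl
    exact hw' (O.br_zero _)
  obtain ⟨yw, hywd⟩ : ∃ y, y = O.pr (O.X w 0 1) := ⟨_, rfl⟩
  have hyw : yw ∈ O.Zs w := hC.mem_Zs'.mpr ⟨1, hywd⟩
  have hywn : yw ≠ 1 := by rw [hywd]; exact hC.Z_ne hw0 one_ne_zero
  obtain ⟨w', hw'0, hyw'⟩ := h2 w hw0 yw hyw hywn
  have hinvn : α⁻¹ yw ≠ 1 := fun h => hywn ((MulEquiv.map_eq_one_iff α⁻¹).mp h)
  have hαn : ∀ y, y ≠ 1 → α y ≠ 1 := fun y hy h => hy ((MulEquiv.map_eq_one_iff α).mp h)
  have hαi : α (α⁻¹ yw) = yw := by rw [← MulAut.mul_apply, mul_inv_cancel, MulAut.one_apply]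
  have k1 : α y1 * yw = yw * α y1 := (hC.comm_iff he' hw0 hye' hyw (hαn _ hy1n) hywn).mpr hw
  have k2 : y1 * α⁻¹ yw = α⁻¹ yw * y1 := by
    apply α.injective
    rw [map_mul, map_mul, hαi, k1]
  have k3 : O.B e w' = 0 := (hC.comm_iff he hw'0 hy1 hyw' hy1n hinvn).mp k2
  have k4 : y * α⁻¹ yw = α⁻¹ yw * y := (hC.comm_iff he hw'0 hy hyw' hyn hinvn).mpr k3
  have k5 : α y * yw = yw * α y := by
    have := congrArg α k4
    rwa [map_mul, map_mul, hαi] at this
  exact hw' ((hC.comm_iff he'' hw0 hye'' hyw (hαn _ hyn) hywn).mp k5)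

theorem TType.image_eq (hC : O.TType) {α : MulAut PG} (h1 : O.TP α) (h2 : O.TP α⁻¹) (he : e ≠ 0) :
    ∃ e' : V, e' ≠ 0 ∧ im α (O.Zs e) = O.Zs e' := by
  obtain ⟨e', he', hle⟩ := hC.image_le h1 h2 he
  obtain ⟨e3, he3, hle3⟩ := hC.image_le h2 (by rwa [inv_inv]) he'
  refine ⟨e', he', le_antisymm hle ?_⟩
  have hy1 : O.pr (O.X e 0 1) ∈ O.Zs e := hC.mem_Zs'.mpr ⟨1, rfl⟩
  have hy3 : O.pr (O.X e 0 1) ∈ O.Zs e3 := by
    apply hle3
    refine ⟨α (O.pr (O.X e 0 1)), hle (im_mem hy1), ?_⟩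
    change α⁻¹ (α _) = _
    rw [← MulAut.mul_apply, inv_mul_cancel, MulAut.one_apply]
  obtain ⟨c, hc⟩ := hC.disj he he3 hy1 hy3 (hC.Z_ne he one_ne_zero)
  have hc0 : c ≠ 0 := by
    rintro rfl
    rw [zero_smul] at hc
    exact he3 hc
  rw [hc, Zs_smul _ hc0] at hle3
  intro y hy
  refine ⟨α⁻¹ y, hle3 (im_mem hy), ?_⟩
  change α (α⁻¹ _) = _
  rw [← MulAut.mul_apply, mul_inv_cancel, MulAut.one_apply]

theorem TType.exists_image [Finite V] [Finite G] (p : ℕ) [Fact p.Prime] [CharP F p] (hb : O.Big) (h : O.Hyp e f)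
    (hC : O.TType) (hI : O.Irr e f) {w0 : V} (hw0 : O.InW e f w0) (hw0n : w0 ≠ 0) {α : MulAut PG} (h1 : O.TP α) (h2 : O.TP α⁻¹) :
    ∃ g : G, im α (O.Qs e) = O.Qs (O.act g e) ∧ im α (O.Zs e) = O.Zs (O.act g e) := by
  obtain ⟨e', he', hZ⟩ := hC.image_eq h1 h2 h.ene
  obtain ⟨f', hf'⟩ := exists_B_one (O := O) he'
  obtain ⟨g, a, b, ha, hb', hga, hgb⟩ := O.trans e f e' f' (hC.N0 _) (hC.N0 _) (by rw [h.ef]; exact one_ne_zero) (hC.N0 _) (hC.N0 _) (by rw [hf']; exact one_ne_zero)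
  have hZ2 : im α (O.Zs e) = cj (O.pr g) (O.Zs e) := by
    rw [hZ, Zs_conj, hga, Zs_smul _ ha]
  have hQ : im α (O.Qs e) = cj (O.pr g) (O.Qs e) := by
    have h1 := (hC.opChar_Qs p hb h hI hw0 hw0n).im α
    have h2 := (hC.opChar_Qs p hb h hI hw0 hw0n).im (MulAut.conj (O.pr g))
    rw [hZ2] at h1
    exact h1.unique h2
  exact ⟨g, by rw [hQ, Qs_conj], by rw [hZ2, Zs_conj]⟩

/-- the swapping transvection -/
theorem TType.swap (hC : O.TType) {w w' : V} (hw : O.InW e f w) (hw' : O.InW e f w') (hb : O.B w w' ≠ 0) :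
    ∃ g : G, O.InL e f g 1 ∧ O.act g w = w' ∧ g * g = 1 := by
  have hv := hw.add hw'
  refine ⟨O.X (w + w') 0 (O.B w w')⁻¹, ⟨?_, 1, ?_⟩, ?_, ?_⟩
  · rw [hC.Z_act, hC.sym, hv.1]; module
  · rw [hC.Z_act, hC.sym, hv.2]; module
  · rw [hC.Z_act, O.bl_add, hC.alt, zero_add, hC.sym w' w, mul_inv_cancel₀ hb]
    have h1 : w + w = 0 := by rw [← two_smul F, hC.two, zero_smul]
    calc w + (1 : F) • (w + w') = (w + w) + w' := by module
      _ = w' := by rw [h1, zero_add]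
  · have hok := hC.ok (O.B w w')⁻¹ (O.br_zero (w + w'))
    rw [X_mul hok hok, add_zero, O.bl_zero, mul_zero, sub_zero]
    have : (O.B w w')⁻¹ + (O.B w w')⁻¹ = 0 := by linear_combination (O.B w w')⁻¹ * hC.two
    rw [this, X_zero (hC.N0 _)]

/-- functions constant along swaps are constant -/
theorem TType.const (hC : O.TType) (hndW : ∀ w, O.InW e f w → w ≠ 0 → ∃ w', O.InW e f w' ∧ O.B w w' ≠ 0) {φ : V → F}
    (hφ : ∀ w w', O.InW e f w → O.InW e f w' → O.B w w' ≠ 0 → φ w = φ w') {w w' : V} (hw : O.InW e f w) (hw' : O.InW e f w') (h0 : w ≠ 0) (h0' : w' ≠ 0) :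
    φ w = φ w' := by
  by_cases hb : O.B w w' = 0
  swap
  · exact hφ w w' hw hw' hb
  obtain ⟨a, ha, hwa⟩ := hndW w hw h0
  obtain ⟨b, hb', hwb⟩ := hndW w' hw' h0'
  by_cases h1 : O.B w' a = 0
  swap
  · rw [hφ w a hw ha hwa, hφ w' a hw' ha h1]
  by_cases h2 : O.B w b = 0
  swap
  · rw [hφ w b hw hb' h2, hφ w' b hw' hb' hwb]
  have h3 : O.B w (a + b) ≠ 0 := by rw [O.br_add, h2, add_zero]; exact hwa
  have h4 : O.B w' (a + b) ≠ 0 := by rw [O.br_add, h1, zero_add]; exact hwb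
  rw [hφ w _ hw (ha.add hb') h3, hφ w' _ hw' (ha.add hb') h4]

theorem TType.nohom (hC : O.TType) (h : O.Hyp e f) (hndW : ∀ w, O.InW e f w → w ≠ 0 → ∃ w', O.InW e f w' ∧ O.B w w' ≠ 0) : O.NoHom e f := by
  intro φ h1 h2 w hw
  have h3 : ∀ w w', O.InW e f w → O.InW e f w' → O.B w w' ≠ 0 → φ w = φ w' := by
    intro w w' hw hw' hb
    obtain ⟨g, hg, hgw, -⟩ := hC.swap hw hw' hb
    have h4 := h2 g 1 hg w hw
    rw [map_one, one_smul, hgw, mul_one, one_mul] at h4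
    exact h4.symm
  have h00 : φ 0 = 0 := by
    have := h1 0 0 InW.zero InW.zero
    rw [add_zero] at this
    exact left_eq_add.mp this
  by_cases hw0 : w = 0
  · rw [hw0, h00]
  obtain ⟨w', hw', hb⟩ := hndW w hw hw0
  have hw'0 : w' ≠ 0 := by
    rintro rfl
    exact hb (O.br_zero _)
  have hs : w + w' ≠ 0 := by
    intro h5
    apply hb
    have : w' = -w := by rw [eq_neg_iff_add_eq_zero, add_comm]; exact h5
    rw [this, O.br_neg, hC.alt, neg_zero]
  have h5 := h1 w w' hw hw'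
  rw [hC.const hndW h3 (hw.add hw') hw hs hw0, hC.const hndW h3 hw' hw hw'0 hw0] at h5
  exact left_eq_add.mp h5

end Cfsg.Agent.H17.Pol
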