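import Mathlib
import Cfsg.Agent.H17.PolT

set_option autoImplicit false

/-! Abstract symplectic groups in characteristic two: automorphisms preserving transvections are induced by semisimilarities. -/

namespace Cfsg.Agent.H17.Pol

variable {F V G PG : Type*} [Field F] [AddCommGroup V] [Module F V] [Group G] [Group PG]
  {O : Pol F V G PG} {e f : V}

/-- three independent vectors over the prime field -/
def Tri (O : Pol F V G PG) (e f : V) : Prop := ∃ w w' w'' : V, O.InW e f w ∧ O.InW e f w' ∧ O.InW e f w'' ∧ w ≠ 0 ∧ w' ≠ 0 ∧ w'' ≠ 0 ∧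
  w' ≠ w ∧ w'' ≠ w ∧ w'' ≠ w' ∧ w'' ≠ w + w'

theorem TType.add_self (hC : O.TType) (x : V) : x + x = 0 := by rw [← two_smul F, hC.two, zero_smul]

theorem TType.kappa (hC : O.TType) (hb : O.Big) (h : O.Hyp e f) (hTri : O.Tri e f)
    (hndW : ∀ w, O.InW e f w → w ≠ 0 → ∃ w', O.InW e f w' ∧ O.B w w' ≠ 0)
    {w0 : V} (hw0 : O.InW e f w0) (hw0n : w0 ≠ 0) {α : MulAut PG} (hα : O.FP e f α) {A : V → V}
    (hA : O.IsA e f α A) {σ : F ≃+* F} (hσ : ∀ (a : F) (w : V), O.InW e f w → A (a • w) = σ a • A w) :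
    ∃ κ : F, κ ≠ 0 ∧ (∀ w w', O.InW e f w → O.InW e f w' → O.B (A w) (A w') = κ * σ (O.B w w')) ∧
      (∀ z, α (O.pr (O.X e 0 z)) = O.pr (O.X e 0 (κ * σ z))) := by
  obtain ⟨ζ, hζ0⟩ := exists_zeta h hα
  have hζ : ∀ z, α (O.pr (O.X e 0 z)) = O.pr (O.X e 0 (ζ z)) := fun z => (hζ0 z (hC.t0 _)).2
  have hq0 : ∀ w, ∃ q, O.InW e f w → α (O.pr (O.X e w 0)) = O.pr (O.X e (A w) q) := by
    intro w
    by_cases hw : O.InW e f w
    · obtain ⟨h1, z', h2, h3⟩ := hA w 0 hw (hC.ok 0 hw.1)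
      exact ⟨z', fun _ => h3⟩
    · exact ⟨0, fun h => absurd h hw⟩
  choose q hq using hq0
  have hAW : ∀ w, O.InW e f w → O.InW e f (A w) := fun w hw => hA.inW h hw
  -- basic relation
  have hrel : ∀ w w', O.InW e f w → O.InW e f w' → q w + q w' + O.B (A w) (A w') = q (w + w') + ζ (O.B w w') := by
    intro w w' hw hw'
    have e1 : O.X e w 0 * O.X e w' 0 = O.X e (w + w') 0 * O.X e 0 (O.B w w') := by
      rw [X_mul (hC.ok 0 hw.1) (hC.ok 0 hw'.1), X_mul (hC.ok 0 (hw.add hw').1) (hC.ok _ (O.br_zero e)), add_zero, O.br_zero, mul_zero, hC.ε1]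
      have e0 : (0 : F) - 1 * O.B w w' = 0 + O.B w w' - 0 := by linear_combination (-O.B w w') * hC.two
      rw [e0, add_zero (w + w')]
    have e2 := congrArg (fun g => α (O.pr g)) e1
    simp only [map_mul] at e2
    rw [hq w hw, hq w' hw', hq _ (hw.add hw'), hζ, ← map_mul, ← map_mul, X_mul (hC.ok _ (hAW w hw).1) (hC.ok _ (hAW w' hw').1),
      X_mul (hC.ok _ (hAW _ (hw.add hw')).1) (hC.ok _ (O.br_zero e)), add_zero, O.br_zero, mul_zero, hC.ε1] at e2
    have e3 := (Qs_unique h ((hAW w hw).add (hAW w' hw')) (hAW _ (hw.add hw')) (hC.ok _ ((hAW w hw).add (hAW w' hw')).1) (hC.ok _ (hAW _ (hw.add hw')).1) e2).2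
    linear_combination e3 + (O.B (A w) (A w')) * hC.two
  have hζadd : ∀ z z', ζ (z + z') = ζ z + ζ z' := by
    intro z z'
    have e1 : O.X e 0 z * O.X e 0 z' = O.X e 0 (z + z') := by
      rw [X_mul (hC.ok _ (O.br_zero e)) (hC.ok _ (O.br_zero e)), add_zero, O.bl_zero, mul_zero, sub_zero]
    have e2 := congrArg (fun g => α (O.pr g)) e1
    simp only [map_mul] at e2
    rw [hζ, hζ, hζ, ← map_mul, X_mul (hC.ok _ (O.br_zero e)) (hC.ok _ (O.br_zero e)), add_zero, O.bl_zero, mul_zero, sub_zero] at e2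
    exact (Qs_unique h InW.zero InW.zero (hC.ok _ (O.br_zero e)) (hC.ok _ (O.br_zero e)) e2).2.symm
  have hζ00 : ζ 0 = 0 := by
    have := hζadd 0 0
    rw [add_zero] at this
    exact left_eq_add.mp this
  -- `q` is constant
  have hqc : ∀ w w', O.InW e f w → O.InW e f w' → O.B w w' ≠ 0 → q w = q w' := by
    intro w w' hw hw' hbw
    obtain ⟨g, hg, hgw, hgg⟩ := hC.swap hw hw' hbw
    obtain ⟨g', l', hg', he'⟩ := exists_L hb h hα hg
    have hl' := hg'.l_ne h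
    have hl1 : l' = 1 := by
      have e1 : O.pr (g' * g') = O.pr 1 := by rw [map_mul, ← he', ← map_mul, ← map_mul, hgg, map_one, map_one]
      obtain ⟨c, hc⟩ := (O.pr_eq _ _).mp e1
      have e2 := hc e
      have e3 := hc f
      rw [act_mul, hg'.1, map_smul, hg'.1, act_one, smul_smul] at e2
      rw [act_mul, hg'.m_eq h, map_smul, hg'.m_eq h, act_one, smul_smul, hC.τ1] at e3
      have e4 : l' * l' = c := smul_left_injective F h.ene e2
      have e5 : l'⁻¹ * l'⁻¹ = c := smul_left_injective F h.fne e3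
      rw [← e4] at e5
      have e6 : (l' - 1) ^ 4 = 0 := by
        field_simp at e5
        have h2 := hC.two
        linear_combination -e5 + (-2 * l' ^ 3 + 3 * l' ^ 2 - 2 * l' + 1) * h2
      exact sub_eq_zero.mp (pow_eq_zero_iff (by norm_num) |>.mp e6)
    subst hl1
    have hAg := hA.L h hg hg' he' hw
    rw [map_one, one_smul, one_smul, hgw] at hAg
    have c1 := (hg.conj_X (hC.ok 0 hw.1)).1
    have c2 := (hg'.conj_X (hC.ok (q w) (hAW w hw).1)).1
    rw [map_one, one_smul, one_mul, one_mul] at c1 c2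
    rw [hgw] at c1
    have c3 := congrArg (fun g => α (O.pr g)) c1
    simp only [map_mul, map_inv] at c3
    rw [he', hq w hw, hq w' hw', ← map_mul, ← map_inv, ← map_mul, c2, ← hAg] at c3
    exact (Qs_unique h (hAW _ hw') (hAW _ hw') (hC.ok _ (hAW _ hw').1) (hC.ok _ (hAW _ hw').1) c3).2
  have hqc' : ∀ {w w' : V}, O.InW e f w → O.InW e f w' → w ≠ 0 → w' ≠ 0 → q w = q w' := fun hw hw' h0 h0' => hC.const hndW hqc hw hw' h0 h0'
  have hne : ∀ {x y : V}, x ≠ y → x + y ≠ 0 := by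
    intro x y hxy h0
    apply hxy
    have : x = -y := by rw [eq_neg_iff_add_eq_zero]; exact h0
    rw [this]
    have h2 := hC.add_self y
    rw [neg_eq_iff_add_eq_zero]; exact h2
  have hq1 : ∀ w, O.InW e f w → w ≠ 0 → q w = 0 := by
    obtain ⟨w, w', w'', hw, hw', hw'', n1, n2, n3, n4, n5, n6, n7⟩ := hTri
    intro x hx hx0
    have r1 := hrel w w' hw hw'
    have r2 := hrel w w'' hw hw''
    have r3 := hrel w (w' + w'') hw (hw'.add hw'')
    have hA1 : A (w' + w'') = A w' + A w'' := hA.add h hw' hw''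
    have m1 : w + (w' + w'') ≠ 0 := by
      rw [← add_assoc]
      exact hne (fun h => n7 h.symm)
    rw [hA1, O.br_add, O.br_add, hζadd, hqc' (hw.add (hw'.add hw'')) hx m1 hx0, hqc' (hw'.add hw'') hx (hne n6.symm) hx0, hqc' hw hx n1 hx0] at r3
    rw [hqc' (hw.add hw') hx (hne n4.symm) hx0, hqc' hw' hx n2 hx0, hqc' hw hx n1 hx0] at r1
    rw [hqc' (hw.add hw'') hx (hne n5.symm) hx0, hqc' hw'' hx n3 hx0, hqc' hw hx n1 hx0] at r2
    linear_combination r1 + r2 - r3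
  have hq00 : q 0 = 0 := by
    have r := hrel 0 0 InW.zero InW.zero
    have hA0 : A 0 = 0 := hA.zero h
    rw [add_zero, hA0, O.br_zero, hζ00, add_zero, add_zero] at r
    exact left_eq_add.mp r.symm
  have hq2 : ∀ w, O.InW e f w → q w = 0 := by
    intro w hw
    by_cases h0 : w = 0
    · rw [h0, hq00]
    · exact hq1 w hw h0
  have hBζ : ∀ w w', O.InW e f w → O.InW e f w' → O.B (A w) (A w') = ζ (O.B w w') := by
    intro w w' hw hw'
    have r := hrel w w' hw hw'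
    rw [hq2 w hw, hq2 w' hw', hq2 _ (hw.add hw'), add_zero, zero_add, zero_add] at r
    exact r
  obtain ⟨w1, hw1, hw1n⟩ := hndW w0 hw0 hw0n
  obtain ⟨w2, hw2d⟩ : ∃ w2, w2 = (O.B w0 w1)⁻¹ • w1 := ⟨_, rfl⟩
  have hw2 : O.InW e f w2 := by rw [hw2d]; exact hw1.smul _
  have hB1 : O.B w0 w2 = 1 := by rw [hw2d, O.br_smul, inv_mul_cancel₀ hw1n]
  have hζs : ∀ a, ζ a = ζ 1 * σ a := by
    intro a
    have e1 := hBζ w0 (a • w2) hw0 (hw2.smul a)
    have e2 := hBζ w0 w2 hw0 hw2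
    rw [hσ _ _ hw2, O.br_smul, O.br_smul, hB1, mul_one, e2, hB1] at e1
    rw [← e1, mul_comm]
  refine ⟨ζ 1, ?_, ?_, ?_⟩
  · intro h1
    have e1 := hζ 1
    rw [h1, hC.Z_zero] at e1
    exact hC.Z_ne h.ene one_ne_zero ((MulEquiv.map_eq_one_iff α).mp e1)
  · intro w w' hw hw'
    rw [hBζ w w' hw hw', hζs]
  · intro z
    rw [hζ, hζs]

theorem TType.semisim [Finite V] (h : O.Hyp e f) (hC : O.TType) {A : V → V} {σ : F ≃+* F} {κ : F}
    (hAW : ∀ w, O.InW e f w → O.InW e f (A w))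
    (hAadd : ∀ w w', O.InW e f w → O.InW e f w' → A (w + w') = A w + A w')
    (hσ : ∀ (a : F) (w : V), O.InW e f w → A (a • w) = σ a • A w)
    (hκ : κ ≠ 0)
    (hB : ∀ w w', O.InW e f w → O.InW e f w' → O.B (A w) (A w') = κ * σ (O.B w w')) :
    ∃ S : SemiSim O, S.σ = σ ∧ S.κ = κ ∧ S.T e = κ • e ∧ S.T f = f ∧ ∀ w, O.InW e f w → S.T w = A w := by
  obtain ⟨T, hT⟩ : ∃ T : V → V, ∀ x, T x = (κ * σ (O.ε * O.B f x)) • e + σ (O.B e x) • f + A (O.wc e f x) :=
    ⟨_, fun x => rfl⟩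
  have hA0 : A 0 = 0 := by
    have := hσ 0 0 InW.zero
    rwa [zero_smul, map_zero, zero_smul] at this
  have hTB : ∀ x y, O.B (T x) (T y) = κ * σ (O.B x y) := by
    intro x y
    have hx := hAW _ (wc_inW h x)
    have hy := hAW _ (wc_inW h y)
    rw [B_wc h x y, hT, hT]
    simp only [O.bl_add, O.br_add, O.bl_smul, O.br_smul, h.ee, h.ef, h.fe, h.ff, hx.we, hx.wf, hy.1, hy.2,
      hB _ _ (wc_inW h x) (wc_inW h y)]
    simp only [map_add, map_mul, hC.τ1, σε]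
    ring
  have hTinj : Function.Injective T := by
    intro x y hxy
    rw [← sub_eq_zero]
    apply O.nd
    intro z
    have h1 : κ * σ (O.B x z) = κ * σ (O.B y z) := by rw [← hTB, ← hTB, hxy]
    have h2 := σ.injective (mul_left_cancel₀ hκ h1)
    rw [O.bl_sub, h2, sub_self]
  refine ⟨⟨σ, κ, T, hκ, hC.τ1 κ, ?_, ?_, hTB, ?_, ?_, Finite.surjective_of_injective hTinj⟩, rfl, rfl, ?_, ?_, ?_⟩
  · intro x y
    rw [hT, hT, hT, wc_add, hAadd _ _ (wc_inW h x) (wc_inW h y), O.br_add, O.br_add, mul_add, map_add, map_add]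
    module
  · intro a x
    rw [hT, hT, wc_smul, hσ _ _ (wc_inW h x), O.br_smul, O.br_smul, map_mul, map_mul, map_mul, map_mul]
    module
  · intro x
    rw [hC.N0, hC.N0, map_zero, mul_zero]
  · intro b
    rw [hC.t0, hC.t0, map_zero, mul_zero]
  · change T e = κ • e
    rw [hT, wc_e h, hA0, h.fe, h.ee, O.εε, map_one, map_zero]
    module
  · change T f = f
    rw [hT, wc_f h, hA0, h.ff, h.ef, mul_zero, map_one, map_zero]
    module
  · intro w hw
    change T w = A w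
    rw [hT, wc_of_inW h hw, hw.1, hw.2, mul_zero, map_zero]
    module

theorem TType.induced [Finite V] [Finite F] (hb : O.Big) (h : O.Hyp e f) (hC : O.TType) (hc : O.Comm e f)
    (hI : Ind O) (hTri : O.Tri e f)
    (hndW : ∀ w, O.InW e f w → w ≠ 0 → ∃ w', O.InW e f w' ∧ O.B w w' ≠ 0)
    {w0 : V} (hw0 : O.InW e f w0) (hw0n : w0 ≠ 0)
    (hgen : Subgroup.closure ((O.Qs e : Set PG) ∪ (O.Qs f : Set PG)) = ⊤)
    {α : MulAut PG} (hα : O.FP e f α) : ∃ S : SemiSim O, Induced S α := by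
  obtain ⟨A, hA0⟩ := exists_A h hα
  have hA : O.IsA e f α A := hA0
  obtain ⟨σ, hσ⟩ := exists_sigma hb h hc hw0 hw0n hα hA
  obtain ⟨κ, hκ, hB, hz⟩ := hC.kappa hb h hTri hndW hw0 hw0n hα hA hσ
  obtain ⟨S, hS1, hS2, hS3, hS4, hS5⟩ := hC.semisim h (fun w hw => hA.inW h hw)
    (fun w w' hw hw' => hA.add h hw hw') hσ hκ hB
  obtain ⟨γ, hγ⟩ := hI S
  refine ⟨S, ?_⟩
  have hγFP : O.FP e f γ := hγ.FP h hκ one_ne_zero hS3 (by rw [hS4, one_smul])
  obtain ⟨w1, hw1, hw1n⟩ := hndW w0 hw0 hw0n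
  have hSe : S.κ⁻¹ • S.T e = e := by rw [hS3, hS2, smul_smul, inv_mul_cancel₀ hκ, one_smul]
  have hγX : ∀ w z, O.InW e f w → O.Ok e w z → O.Ok e (A w) (κ * σ z) ∧
      γ (O.pr (O.X e w z)) = O.pr (O.X e (A w) (κ * σ z)) := by
    intro w z hw hok
    have h1 := S.ok hok
    have h2 := hγ.X hok
    rw [hSe, hS5 w hw, hS1, hS2] at h1 h2
    exact ⟨h1, h2⟩
  have hγA : O.IsA e f γ A := fun w z hw hok => ⟨hA.inW h hw, _, (hγX w z hw hok).1, (hγX w z hw hok).2⟩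
  have hβ : O.FP e f (γ⁻¹ * α) := hγFP.inv.mul hα
  obtain ⟨A', hA'0⟩ := exists_A h hγFP.inv
  have hA' : O.IsA e f γ⁻¹ A' := hA'0
  have hβA' := hA'.mul hA
  have hβA : O.IsA e f (γ⁻¹ * α) id := by
    intro w z hw hok
    obtain ⟨u1, z', u2, u3⟩ := hβA' w z hw hok
    have h4 : (A' ∘ A) w = w := hγA.inv_left h hA' hw
    rw [h4] at u1 u2 u3
    exact ⟨u1, z', u2, u3⟩
  have hβ1 : γ⁻¹ * α = 1 := by
    refine eq_one_of_A_id hb h hw0 hw1 hw1n (hC.nohom h hndW) one_ne_zero (hC.t0 _) hgen hβ hβA ?_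
    intro z hzt
    rw [MulAut.mul_apply, hz z]
    have h4 := (hγX 0 z InW.zero (ok_Z h hzt)).2
    rw [hA.zero h] at h4
    rw [← h4, ← MulAut.mul_apply, inv_mul_cancel, MulAut.one_apply]
  have : α = γ := by
    rw [inv_mul_eq_one] at hβ1
    exact hβ1.symm
  rw [this]
  exact hγ

/-- hypotheses checked in each instance -/
structure GoodT (O : Pol F V G PG) : Prop where
  big : O.Big
  ttype : O.TType
  comm : ∀ e f, O.Hyp e f → O.Comm e f
  irr : ∀ e f, O.Hyp e f → O.Irr e f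
  tri : ∀ e f, O.Hyp e f → O.Tri e f
  gen : ∀ e f, O.Hyp e f → Subgroup.closure ((O.Qs e : Set PG) ∪ (O.Qs f : Set PG)) = ⊤
  ind : Ind O

theorem GoodT.all_induced [Finite V] [Finite G] [Finite F] (p : ℕ) [Fact p.Prime] [CharP F p] (hO : O.GoodT) (h : O.Hyp e f)
    {α : MulAut PG} (ht : O.TP α) (ht' : O.TP α⁻¹) : ∃ S : SemiSim O, Induced S α := by
  obtain ⟨w0, hw0, hw0n⟩ := exists_w0 hO.big h
  obtain ⟨w1, hw1, hw1n⟩ := exists_w0 hO.big h.swap
  obtain ⟨g1, hQ1, hZ1⟩ := hO.ttype.exists_image p hO.big h (hO.irr e f h) hw0 hw0n ht ht'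
  obtain ⟨g2, hQ2, hZ2⟩ := hO.ttype.exists_image p hO.big h.swap (hO.irr _ _ h.swap) hw1 hw1n ht ht'
  have hpt1 : O.Pt (O.act g1 e) := h.ept.act g1
  have hpt2 : O.Pt (O.act g2 f) := h.fpt.act g2
  have hne : O.B (O.act g1 e) (O.act g2 f) ≠ 0 := by
    intro h0
    obtain ⟨y, hy, hy1, hyf⟩ := (perp_iff hO.big hpt1 hpt2).mp h0
    rw [← hQ1] at hy
    rw [← hQ2] at hyf
    obtain ⟨x, hx, rfl⟩ := hy
    have h1 : O.B e f = 0 := by
      rw [perp_iff hO.big h.ept h.fpt]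
      refine ⟨x, hx, ?_, ?_⟩
      · rintro rfl
        exact hy1 (map_one _)
      · have h2 : im α (cj x (O.Qs f)) = im α (O.Qs f) := by
          rw [im_cj]; exact hyf
        have h3 : im α⁻¹ (im α (cj x (O.Qs f))) = im α⁻¹ (im α (O.Qs f)) := by rw [h2]
        have h4 : ∀ L : Subgroup PG, im α⁻¹ (im α L) = L := by
          intro L
          rw [← im_mul, inv_mul_cancel, im_one]
        rwa [h4, h4] at h3
    rw [h.ef] at h1
    exact one_ne_zero h1
  obtain ⟨g, a, b, ha, hb, hga, hgb⟩ := O.trans _ _ _ _ hpt1.sing hpt2.sing hne h.e0 h.f0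
    (by rw [h.ef]; exact one_ne_zero)
  have hFP : O.FP e f (MulAut.conj (O.pr g) * α) := by
    refine ⟨?_, ?_, ?_⟩
    · rw [im_mul, hQ1, im_conj, Qs_conj, hga, Qs_smul _ ha]
    · rw [im_mul, hQ2, im_conj, Qs_conj, hgb, Qs_smul _ hb]
    · rw [im_mul, hZ1, im_conj, Zs_conj, hga, Zs_smul _ ha]
  obtain ⟨S, hS⟩ := hO.ttype.induced hO.big h (hO.comm e f h) hO.ind (hO.tri e f h) (fun w hw hwn => ndW h hw hwn) hw0 hw0n
    (hO.gen e f h) hFP
  refine ⟨S.comp g⁻¹, ?_⟩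
  intro k k' hk
  have h1 : ∀ x, O.act (g * k' * g⁻¹) (S.T x) = S.T (O.act k x) := by
    intro x
    have h2 : O.act k' (O.act g⁻¹ (S.T x)) = O.act g⁻¹ (S.T (O.act k x)) := hk x
    rw [act_mul, act_mul, h2, act_act_inv]
  have h3 := hS _ _ h1
  rw [MulAut.mul_apply, MulAut.conj_apply, map_mul, map_mul, map_inv] at h3
  have h4 : O.pr g * α (O.pr k) * (O.pr g)⁻¹ = O.pr g * O.pr k' * (O.pr g)⁻¹ := h3
  exact mul_left_cancel (mul_right_cancel h4)

theorem TType.induced_one (hb : O.Big) (hC : O.TType) (h : O.Hyp e f) {S : SemiSim O} (hS : Induced S (1 : MulAut PG)) :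
    S.σ = 1 ∧ ∃ a : F, ∀ x, S.T x = a • x := by
  have hQ : ∀ e, O.Pt e → ∃ c : F, c ≠ 0 ∧ S.T e = c • e := by
    intro e he
    have h1 := hS.Qs e he.sing
    rw [im_one] at h1
    refine Qs_inj hb he ⟨?_, ?_⟩ h1
    · intro h0
      apply he.ne
      have h2 : S.T e = S.T 0 := by rw [h0, S.T_zero]
      exact S.T_inj h2
    · rw [S.T_N, he.sing, map_zero, mul_zero]
  obtain ⟨α, hα, hTe⟩ := hQ e h.ept
  obtain ⟨β, hβ, hTf⟩ := hQ f h.fpt
  have hκ : O.τ α * β = S.κ := by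
    have h1 := S.T_B e f
    rw [hTe, hTf, O.bl_smul, O.br_smul, h.ef, map_one, mul_one, mul_one] at h1
    exact h1
  have key : ∀ w z, O.InW e f w → O.Ok e w z → w = O.τ (S.κ⁻¹ * α) • S.T w ∧
      z = (S.κ⁻¹ * α) * O.τ (S.κ⁻¹ * α) * (S.κ * S.σ z) := by
    intro w z hw hok
    have h1 := hS.X hok
    have h2 := S.ok hok
    rw [hTe, smul_smul] at h1 h2
    have hne : S.κ⁻¹ * α ≠ 0 := mul_ne_zero (inv_ne_zero S.hκ) hα
    have h3 : O.Ok e (S.T w) (S.κ * S.σ z) := by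
      refine ⟨h.e0, ?_, h2.adm⟩
      have h4 := h2.ew
      rw [O.bl_smul] at h4
      exact (mul_eq_zero.mp h4).resolve_left (O.τ_ne hne)
    have h4 := h3.smul' (S.κ⁻¹ * α)
    rw [X_smul h3] at h1
    have hTw : O.InW e f (S.T w) := by
      refine ⟨h3.ew, ?_⟩
      have h5 := S.T_B f w
      rw [hw.2, map_zero, mul_zero, hTf, O.bl_smul] at h5
      exact (mul_eq_zero.mp h5).resolve_left (O.τ_ne hβ)
    exact Qs_unique h hw (hTw.smul _) hok h4 h1
  have hτκ : O.τ (S.κ⁻¹ * α) = β⁻¹ := by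
    rw [map_mul, map_inv₀, S.τκ, ← hκ, hC.τ1]
    field_simp
  have hTw : ∀ w, O.InW e f w → S.T w = β • w := by
    intro w hw
    obtain ⟨z, hok⟩ := exists_ok h.e0 hw.1
    have h1 := (key w z hw hok).1
    rw [hτκ] at h1
    conv_rhs => rw [h1, smul_smul, mul_inv_cancel₀ hβ, one_smul]
  obtain ⟨w0, hw0, hw0n⟩ := exists_w0 hb h
  have hσ : ∀ a, S.σ a = a := by
    intro a
    have h1 := hTw (a • w0) (hw0.smul a)
    rw [S.T_smul, hTw w0 hw0, smul_smul, smul_smul, ← sub_eq_zero, ← sub_smul] at h1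
    have h2 := (smul_eq_zero.mp h1).resolve_right hw0n
    have h3 : (S.σ a - a) * β = 0 := by linear_combination h2
    exact sub_eq_zero.mp ((mul_eq_zero.mp h3).resolve_right hβ)
  have hz := (key 0 1 InW.zero (hC.ok 1 (O.br_zero e))).2
  rw [hτκ, hσ] at hz
  have hβα : β = α := by
    have h2 := S.hκ
    rw [← hκ, hC.τ1] at hz h2
    field_simp at hz
    first
      | exact hz
      | exact hz.symm
      | linear_combination hz
  refine ⟨RingEquiv.ext hσ, α, fun x => ?_⟩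
  conv_lhs => rw [wc_eq (O := O) (e := e) (f := f) x]
  rw [S.T_add, S.T_add, S.T_smul, S.T_smul, hσ, hσ, hTe, hTf, hTw _ (wc_inW h x), hβα]
  conv_rhs => rw [wc_eq (O := O) (e := e) (f := f) x]
  module

end Cfsg.Agent.H17.Pol
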