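import Mathlib
import Cfsg.Agent.H17.SpField
import Cfsg.Agent.H17.Transport

set_option autoImplicit false

/-! `Inndiag(PSp)` is normal in the automorphism group. -/

namespace Cfsg.Agent.H17

open Cfsg Cfsg.Agent.H5
open scoped MatrixGroups Matrix

variable {F : Type*} [Field F] {m : ℕ}

theorem fS_cS_inv (σ : F ≃+* F) (g : GSp m F) : fS m F σ * cS m F g * (fS m F σ)⁻¹ = cS m F (gspMap m σ g) := by
  rw [fS_cS, mul_inv_cancel_right]

theorem innSp_transport [Finite F] (hm : 2 ≤ m) (α h : MulAut (PSp m F)) :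
    α * h * α⁻¹ ∈ inndiagPSp m F ↔ h ∈ inndiagPSp m F := by
  by_cases h2 : (2 : F) = 0
  · have hI : inndiagPSp m F = Inn (PSp m F) := by
      rw [inndiagPSp_eq]
      apply le_antisymm _ Inn_le_rangeSp
      rintro _ ⟨g, rfl⟩
      have hm1 : 1 ≤ m := by omega
      rw [cS_mem_Inn_iff hm hm1]
      haveI : CharP F 2 := by
        haveI : Fact (Nat.Prime 2) := ⟨Nat.prime_two⟩
        exact CharTwo.of_one_ne_zero_of_two_eq_zero one_ne_zero h2
      obtain ⟨y, hy⟩ := (FiniteField.isSquare_of_char_two (F := F) (ringChar.eq F 2) ((muS hm1 g : Fˣ) : F))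
      have hy0 : y ≠ 0 := by
        rintro rfl
        rw [mul_zero] at hy
        exact (muS hm1 g).ne_zero hy
      refine ⟨Units.mk0 y hy0, ?_⟩
      apply Units.ext
      change ((Units.mk0 y hy0 ^ 2 : Fˣ) : F) = _
      rw [Units.val_pow_eq_pow_val, Units.val_mk0, hy, pow_two]
    rw [hI]
    exact mem_Inn_transport α h
  · have key : ∀ α h : MulAut (PSp m F), h ∈ inndiagPSp m F → α * h * α⁻¹ ∈ inndiagPSp m F := by
      intro α h hh
      rw [inndiagPSp_eq] at hh ⊢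
      obtain ⟨k, rfl⟩ := hh
      obtain ⟨g, τ, rfl⟩ := aut_PSp hm h2 α
      refine ⟨g * gspMap m τ k * g⁻¹, ?_⟩
      rw [map_mul, map_mul, map_inv, ← fS_cS_inv, _root_.mul_inv_rev]
      group
    constructor
    · intro h1
      have := key α⁻¹ _ h1
      have h3 : α⁻¹ * (α * h * α⁻¹) * α⁻¹⁻¹ = h := by group
      rwa [h3] at this
    · exact key α h

theorem field_form_Sp {x : MulAut (PSp m F)} (hx : IsFieldAutClassPSp x) :
    ∃ (α : MulAut (PSp m F)) (σ : F ≃+* F), σ ≠ 1 ∧ x = α * fS m F σ * α⁻¹ := by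
  obtain ⟨α, σ, hσ, h⟩ := hx
  refine ⟨α⁻¹, σ, hσ, ?_⟩
  have h1 : α * x * α⁻¹ = fS m F σ := fieldSp_iff.mp h
  rw [← h1]
  group

theorem orderOf_fS (hm : 2 ≤ m) (σ : F ≃+* F) : orderOf (fS m F σ) = orderOf σ :=
  orderOf_injective (fS m F) (fS_injective hm) σ

end Cfsg.Agent.H17
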