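import Mathlib
import Cfsg.Agent.H17.InvTwoC

set_option autoImplicit false

/-! Symplectic groups in characteristic two: involutions which are not transvections have conjugates with product of order four. -/

namespace Cfsg.Agent.H17

open Module Cfsg.Agent.H5

section ring

theorem ring_four {R : Type*} [Ring R] (h2 : (2 : R) = 0) {a b : R} (ha : a * a = 0) (hb : b * b = 0) (hab : a * b * a = 0) :
    ((1 + a) * (1 + b)) ^ 4 = 1 := by
  have hM2 : (a + b + a * b) * (a + b + a * b) = a * b + b * a + b * a * b := by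
    have e1 : (a + b + a * b) * (a + b + a * b) = a * a + a * b + a * a * b + b * a + b * b + b * a * b + a * b * a + a * (b * b) + a * b * a * b := by noncomm_ring
    rw [e1, ha, hb, hab]
    simp
  have hM3 : (a * b + b * a + b * a * b) * (a + b + a * b) = b * a * b := by
    have e1 : (a * b + b * a + b * a * b) * (a + b + a * b) = a * b * a + a * (b * b) + a * b * a * b + b * (a * a) + b * a * b + b * (a * a) * b +
      b * (a * b * a) + b * a * (b * b) + b * (a * b * a) * b := by noncomm_ring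
    rw [e1, ha, hb, hab]
    simp
  have hM4 : (b * a * b) * (a + b + a * b) = 0 := by
    have e1 : (b * a * b) * (a + b + a * b) = b * (a * b * a) + b * a * (b * b) + b * (a * b * a) * b := by noncomm_ring
    rw [e1, hb, hab]
    simp
  have hM : (a + b + a * b) ^ 4 = 0 := by
    rw [pow_succ, pow_succ, pow_succ, pow_one, hM2, hM3, hM4]
  have e2 : (1 + a) * (1 + b) = 1 + (a + b + a * b) := by noncomm_ring
  rw [e2]
  have e3 : (1 + (a + b + a * b)) ^ 4 = 1 + (a + b + a * b) ^ 4 + 2 * (2 * (a + b + a * b) + 3 * (a + b + a * b) ^ 2 + 2 * (a + b + a * b) ^ 3) := by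
    generalize a + b + a * b = c
    noncomm_ring
  rw [e3, hM, h2, zero_mul, add_zero, add_zero]

end ring

section pair

variable {F : Type*} [Field F] [Finite F] [CharP F 2] {V : Type*} [AddCommGroup V] [Module F V] [FiniteDimensional F V]
  {B : LinearMap.BilinForm F V} {N : V → F} {μ : F → F} {m M : ℕ} {ι : Type} [Fintype ι]

theorem pair_of_family (H : ISet B N μ m M) {e e' : ι → V} {τ : ι → ι} (g : IG B N) (he : LinearIndependent F e) (he' : LinearIndependent F e')
    (h0 : ∀ i j, B (e i) (e j) = 0) (h0' : ∀ i j, B (e' i) (e' j) = 0) (hN : ∀ i, N (e' i) = N (e i))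
    (hg : ∀ v, (g : V ≃ₗ[F] V) v - v = TT B e τ v)
    (hR1 : ∀ v, TT B e τ (TT B e' τ (TT B e τ v)) = 0) (hR2 : ∃ v, TT B e τ (TT B e' τ v) ≠ TT B e' τ (TT B e τ v)) :
    ∃ x : IG B N, (g * (x * g * x⁻¹)) ^ 4 = 1 ∧ (g * (x * g * x⁻¹)) ^ 2 ≠ 1 := by
  obtain ⟨x, hx, hxe⟩ := H.witt e e' he he' (fun i j => by rw [h0, h0']) hN
  have hgv : ∀ v, (g : V ≃ₗ[F] V) v = v + TT B e τ v := fun v => by rw [← hg]; abel
  obtain ⟨g', hg'⟩ : ∃ g' : IG B N, g' = ⟨x, hx⟩ * g * ⟨x, hx⟩⁻¹ := ⟨_, rfl⟩
  have hg'v : ∀ v, (g' : V ≃ₗ[F] V) v = v + TT B e' τ v := by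
    intro v
    rw [hg']
    show x ((g : V ≃ₗ[F] V) (x.symm v)) = _
    rw [hgv, map_add, TT_conj hx.1 hxe, LinearEquiv.apply_symm_apply]
  refine ⟨⟨x, hx⟩, ?_, ?_⟩
  · rw [← hg']
    have key : ((1 + TT B e τ) * (1 + TT B e' τ) : Module.End F V) ^ 4 = 1 := by
      apply ring_four
      · rw [← one_add_one_eq_two]
        apply LinearMap.ext
        intro v
        show v + v = 0
        rw [← two_smul F v, two_zero, zero_smul]
      · exact LinearMap.ext fun v => TT_sq h0 τ v
      · exact LinearMap.ext fun v => TT_sq h0' τ v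
      · exact LinearMap.ext fun v => hR1 v
    apply Subtype.ext
    apply LinearEquiv.ext
    intro v
    have e1 : ∀ (k : ℕ) (v : V), (((g * g') ^ k : IG B N) : V ≃ₗ[F] V) v = (((1 + TT B e τ) * (1 + TT B e' τ) : Module.End F V) ^ k) v := by
      intro k
      induction k with
      | zero => intro v; rfl
      | succ k ih =>
        intro v
        rw [pow_succ, pow_succ]
        show (((g * g') ^ k : IG B N) : V ≃ₗ[F] V) ((g : V ≃ₗ[F] V) ((g' : V ≃ₗ[F] V) v)) = (((1 + TT B e τ) * (1 + TT B e' τ) : Module.End F V) ^ k) _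
        rw [ih, hgv, hg'v]
        rfl
    rw [e1, key]
    rfl
  · rw [← hg']
    intro h
    obtain ⟨v, hv⟩ := hR2
    apply hv
    have hgg : g * g = 1 := by
      apply Subtype.ext
      apply LinearEquiv.ext
      intro v
      show (g : V ≃ₗ[F] V) ((g : V ≃ₗ[F] V) v) = v
      rw [hgv, hgv, map_add, TT_sq h0, add_zero, add_assoc, ← two_smul F (TT B e τ v), two_zero, zero_smul, add_zero]
    have hgg' : g' * g' = 1 := by
      apply Subtype.ext
      apply LinearEquiv.ext
      intro v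
      show (g' : V ≃ₗ[F] V) ((g' : V ≃ₗ[F] V) v) = v
      rw [hg'v, hg'v, map_add, TT_sq h0', add_zero, add_assoc, ← two_smul F (TT B e' τ v), two_zero, zero_smul, add_zero]
    have hcomm : g * g' = g' * g := by
      have h1 : g⁻¹ = g := inv_eq_of_mul_eq_one_left hgg
      have h2 : g'⁻¹ = g' := inv_eq_of_mul_eq_one_left hgg'
      have h3 : (g * g')⁻¹ = g * g' := by rw [pow_two] at h; exact inv_eq_of_mul_eq_one_left h
      rw [← h3, mul_inv_rev, h1, h2]
    have h4 := LinearEquiv.congr_fun (congrArg Subtype.val hcomm) v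
    have h5 : (g : V ≃ₗ[F] V) ((g' : V ≃ₗ[F] V) v) = (g' : V ≃ₗ[F] V) ((g : V ≃ₗ[F] V) v) := h4
    rw [hgv, hgv, hg'v, hg'v, map_add, map_add] at h5
    have h6 : TT B e τ (TT B e' τ v) = (v + TT B e' τ v + (TT B e τ v + TT B e τ (TT B e' τ v))) - v - TT B e' τ v - TT B e τ v := by abel
    rw [h6, h5]
    abel

theorem indep_update [DecidableEq ι] {e : ι → V} (he : LinearIndependent F e) (h0 : ∀ i j, B (e i) (e j) = 0) {f : V} {i0 : ι}
    (hf : ∀ j, B f (e j) = if j = i0 then 1 else 0) : LinearIndependent F (Function.update e i0 f) := by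
  rw [Fintype.linearIndependent_iff] at he ⊢
  intro g hg
  have h1 : g i0 = 0 := by
    have h2 := congrArg (fun x => B x (e i0)) hg
    simp only [map_sum, LinearMap.sum_apply, map_smul, LinearMap.smul_apply, smul_eq_mul, map_zero, LinearMap.zero_apply] at h2
    rw [Finset.sum_eq_single i0] at h2
    · rw [Function.update_self, hf, if_pos rfl, mul_one] at h2
      exact h2
    · intro j _ hj
      rw [Function.update_of_ne hj, h0, mul_zero]
    · intro h; exact absurd (Finset.mem_univ _) h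
  apply he
  rw [← hg]
  refine Finset.sum_congr rfl fun j _ => ?_
  by_cases hj : j = i0
  · subst hj
    rw [h1, zero_smul, zero_smul]
  · rw [Function.update_of_ne hj]

/-- several orthogonal transvections -/
theorem pair_c (H : ISet B N μ m M) (hN : ∀ v w, N v = N w) {t : ℕ} {e : Fin (t + 2) → V} (g : IG B N) (he : LinearIndependent F e)
    (h0 : ∀ i j, B (e i) (e j) = 0) (hg : ∀ v, (g : V ≃ₗ[F] V) v - v = TT B e id v) :
    ∃ x : IG B N, (g * (x * g * x⁻¹)) ^ 4 = 1 ∧ (g * (x * g * x⁻¹)) ^ 2 ≠ 1 := by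
  classical
  obtain ⟨f, hf⟩ := exists_dual_inv H.nd he (fun j => if j = 0 then 1 else 0)
  have h2 : (2 : F) = 0 := two_zero F
  have hf0 : B f (e 0) = 1 := by rw [hf, if_pos rfl]
  have hf1 : B f (e 1) = 0 := by rw [hf, if_neg (by simp)]
  have hfs : ∀ k : Fin t, B f (e k.succ.succ) = 0 := fun k => by rw [hf, if_neg (Fin.succ_ne_zero _)]
  have hff : B f f = 0 := H.alt f
  obtain ⟨e', he'0, he'1, he's⟩ : ∃ e' : Fin (t + 2) → V, e' 0 = f ∧ e' 1 = f + e 1 ∧ ∀ k : Fin t, e' k.succ.succ = e k.succ.succ :=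
    ⟨Fin.cons f (Fin.cons (f + e 1) (fun k => e k.succ.succ)), rfl, rfl, fun _ => rfl⟩
  have hone : (1 : Fin (t + 2)) = Fin.succ 0 := rfl
  have hind' : LinearIndependent F e' := by
    rw [Fintype.linearIndependent_iff] at he ⊢
    intro g hg
    rw [Fin.sum_univ_succ, Fin.sum_univ_succ, ← hone, he'0, he'1] at hg
    simp only [he's] at hg
    have h3 := congrArg (fun x => B x (e 0)) hg
    simp only [map_sum, LinearMap.sum_apply, map_smul, LinearMap.smul_apply, smul_eq_mul, map_zero, LinearMap.zero_apply, map_add, LinearMap.add_apply, hf0, h0,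
      mul_zero, Finset.sum_const_zero, add_zero, mul_one] at h3
    have h4 : g 1 • e 1 + ∑ k : Fin t, g k.succ.succ • e k.succ.succ = 0 := by
      have h5 : g 0 • f + (g 1 • (f + e 1) + ∑ i : Fin t, g i.succ.succ • e i.succ.succ) = (g 0 + g 1) • f + (g 1 • e 1 + ∑ k : Fin t, g k.succ.succ • e k.succ.succ) := by
        rw [smul_add, add_smul]; abel
      rw [h5, h3, zero_smul, zero_add] at hg
      exact hg
    have h6 := he (fun i => if i = 0 then 0 else g i) (by
      rw [Fin.sum_univ_succ, Fin.sum_univ_succ, ← hone]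
      simp only [if_true, zero_smul, zero_add, Fin.succ_ne_zero, if_false]
      rw [if_neg (by simp)]
      exact h4)
    have h7 : ∀ i, i ≠ 0 → g i = 0 := by
      intro i hi
      have := h6 i
      simpa [hi] using this
    intro i
    by_cases hi : i = 0
    · subst hi
      have h8 := h7 1 (by simp)
      rw [h8, add_zero] at h3
      exact h3
    · exact h7 i hi
  have hiso' : ∀ i j, B (e' i) (e' j) = 0 := by
    have hfr : ∀ y : V, B y f = B f y := fun y => H.sym y f
    intro i j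
    refine Fin.cases ?_ (fun i => Fin.cases ?_ (fun i => ?_) i) i <;> refine Fin.cases ?_ (fun j => Fin.cases ?_ (fun j => ?_) j) j <;>
      simp only [← hone, he'0, he'1, he's, map_add, LinearMap.add_apply, hff, hf1, hfs, h0, hfr, add_zero]
  have hNe : ∀ v, TT B e id v = B v (e 0) • e 0 + (B v (e 1) • e 1 + ∑ k : Fin t, B v (e k.succ.succ) • e k.succ.succ) := by
    intro v
    rw [TT_apply, Fin.sum_univ_succ, Fin.sum_univ_succ]
    rfl
  have hNe' : ∀ v, TT B e' id v = B v f • f + (B v (f + e 1) • (f + e 1) + ∑ k : Fin t, B v (e k.succ.succ) • e k.succ.succ) := by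
    intro v
    rw [TT_apply, Fin.sum_univ_succ, Fin.sum_univ_succ, ← hone]
    simp only [id, he'0, he'1, he's]
  have hN0 : ∀ j, TT B e id (e j) = 0 := by
    intro j
    rw [TT_apply]
    exact Finset.sum_eq_zero fun i _ => by rw [h0, zero_smul]
  have hNf : TT B e id f = e 0 := by
    rw [hNe, hf0, hf1]
    simp only [hfs, zero_smul, Finset.sum_const_zero, one_smul, add_zero]
  have k1 : ∀ v, TT B e id (TT B e' id v) = B v (e 1) • e 0 := by
    intro v
    rw [hNe']
    simp only [map_add, map_smul, map_sum, hN0, hNf, smul_zero, Finset.sum_const_zero, add_zero]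
    rw [← add_smul]
    congr 1
    linear_combination (B v f) * h2
  have k2 : ∀ j, j ≠ 0 → TT B e' id (e j) = 0 := by
    intro j hj
    have e1 : B (e j) f = 0 := by rw [H.sym, hf, if_neg hj]
    rw [hNe', map_add, e1, h0]
    simp only [h0, zero_smul, Finset.sum_const_zero, add_zero]
  have k3 : TT B e' id (e 0) = e 1 := by
    have e1 : B (e 0) f = 1 := by rw [H.sym, hf0]
    rw [hNe', map_add, e1, h0]
    simp only [h0, zero_smul, Finset.sum_const_zero, add_zero, one_smul]
    rw [← add_assoc, ← two_smul F f, h2, zero_smul, zero_add]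
  have k4 : ∀ v, TT B e' id (TT B e id v) = B v (e 0) • e 1 := by
    intro v
    rw [hNe, map_add, map_add, map_sum]
    simp only [map_smul, k3, k2 1 (by simp), k2 _ (Fin.succ_ne_zero _), smul_zero, Finset.sum_const_zero, add_zero]
  refine pair_of_family H g he hind' h0 hiso' (fun i => hN _ _) hg ?_ ?_
  · intro v
    rw [k1]
    have : B (TT B e id v) (e 1) = 0 := by
      rw [TT_apply, map_sum, LinearMap.sum_apply]
      refine Finset.sum_eq_zero fun i _ => ?_
      rw [map_smul, LinearMap.smul_apply]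
      simp only [id]
      rw [h0, smul_zero]
    rw [this, zero_smul]
  · obtain ⟨v, hv⟩ := exists_dual_inv H.nd he (fun j => if j = 0 then 1 else 0)
    refine ⟨v, ?_⟩
    rw [k1, k4, hv, hv, if_neg (by simp), if_pos rfl, zero_smul, one_smul]
    exact fun h => he.ne_zero 1 h.symm

/-- alternating case, abstract version -/
theorem pair_a (H : ISet B N μ m M) (hN : ∀ v w, N v = N w) {k : ℕ} {e e' : Fin k ⊕ Fin k → V} (i0 : Fin k) (g : IG B N) (he : LinearIndependent F e) (he' : LinearIndependent F e')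
    (h0 : ∀ i j, B (e i) (e j) = 0) (h0' : ∀ i j, B (e' i) (e' j) = 0) (hg : ∀ v, (g : V ≃ₗ[F] V) v - v = TT B e Sum.swap v)
    (h3 : ∀ i, i ≠ Sum.inr i0 → ∀ j, B (e' i) (e j) = 0) (h4 : ∀ j, B (e' (Sum.inr i0)) (e j) = if j = Sum.inr i0 then 1 else 0)
    (h5 : LinearIndependent F ![e (Sum.inl i0), e' (Sum.inl i0)]) :
    ∃ x : IG B N, (g * (x * g * x⁻¹)) ^ 4 = 1 ∧ (g * (x * g * x⁻¹)) ^ 2 ≠ 1 := by
  classical
  have n1 : ∀ i, i ≠ Sum.inr i0 → TT B e Sum.swap (e' i) = 0 := by
    intro i hi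
    rw [TT_apply]
    exact Finset.sum_eq_zero fun j _ => by rw [h3 i hi, zero_smul]
  have n2 : TT B e Sum.swap (e' (Sum.inr i0)) = e (Sum.inl i0) := by
    rw [TT_apply, Finset.sum_eq_single (Sum.inr i0)]
    · rw [h4, if_pos rfl, one_smul]
      rfl
    · intro j _ hj
      rw [h4, if_neg hj, zero_smul]
    · intro h; exact absurd (Finset.mem_univ _) h
  have n3 : ∀ i, i ≠ Sum.inr i0 → TT B e' Sum.swap (e i) = 0 := by
    intro i hi
    rw [TT_apply]
    refine Finset.sum_eq_zero fun j _ => ?_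
    by_cases hj : j = Sum.inr i0
    · rw [hj, H.sym, h4, if_neg hi, zero_smul]
    · rw [H.sym, h3 j hj, zero_smul]
  have n4 : TT B e' Sum.swap (e (Sum.inr i0)) = e' (Sum.inl i0) := by
    rw [TT_apply, Finset.sum_eq_single (Sum.inr i0)]
    · rw [H.sym, h4, if_pos rfl, one_smul]
      rfl
    · intro j _ hj
      rw [H.sym, h3 j hj, zero_smul]
    · intro h; exact absurd (Finset.mem_univ _) h
  have k1 : ∀ v, TT B e Sum.swap (TT B e' Sum.swap v) = B v (e' (Sum.inl i0)) • e (Sum.inl i0) := by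
    intro v
    rw [TT_apply B e' Sum.swap v, map_sum, Finset.sum_eq_single (Sum.inl i0)]
    · rw [map_smul]
      show _ • TT B e Sum.swap (e' (Sum.inr i0)) = _
      rw [n2]
    · intro j _ hj
      rw [map_smul, n1, smul_zero]
      intro h
      apply hj
      rw [← Sum.swap_swap j, h]
      rfl
    · intro h; exact absurd (Finset.mem_univ _) h
  have k4 : ∀ v, TT B e' Sum.swap (TT B e Sum.swap v) = B v (e (Sum.inl i0)) • e' (Sum.inl i0) := by
    intro v
    rw [TT_apply B e Sum.swap v, map_sum, Finset.sum_eq_single (Sum.inl i0)]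
    · rw [map_smul]
      show _ • TT B e' Sum.swap (e (Sum.inr i0)) = _
      rw [n4]
    · intro j _ hj
      rw [map_smul, n3, smul_zero]
      intro h
      apply hj
      rw [← Sum.swap_swap j, h]
      rfl
    · intro h; exact absurd (Finset.mem_univ _) h
  refine pair_of_family H g he he' h0 h0' (fun i => hN _ _) hg ?_ ?_
  · intro v
    rw [k1]
    have : B (TT B e Sum.swap v) (e' (Sum.inl i0)) = 0 := by
      rw [TT_apply, map_sum, LinearMap.sum_apply]
      refine Finset.sum_eq_zero fun i _ => ?_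
      rw [map_smul, LinearMap.smul_apply, H.sym (e i.swap) (e' (Sum.inl i0)), h3 (Sum.inl i0) (by simp), smul_zero]
    rw [this, zero_smul]
  · obtain ⟨v, hv⟩ := exists_dual_inv H.nd h5 ![1, 0]
    have hv0 : B v (e (Sum.inl i0)) = 1 := hv 0
    have hv1 : B v (e' (Sum.inl i0)) = 0 := hv 1
    refine ⟨v, ?_⟩
    rw [k1, k4, hv0, hv1, zero_smul, one_smul]
    exact fun h => h5.ne_zero 1 h.symm

theorem pair_a2 (H : ISet B N μ m M) (hN : ∀ v w, N v = N w) {t : ℕ} {e : Fin (t + 2) ⊕ Fin (t + 2) → V} (g : IG B N) (he : LinearIndependent F e)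
    (h0 : ∀ i j, B (e i) (e j) = 0) (hg : ∀ v, (g : V ≃ₗ[F] V) v - v = TT B e Sum.swap v) :
    ∃ x : IG B N, (g * (x * g * x⁻¹)) ^ 4 = 1 ∧ (g * (x * g * x⁻¹)) ^ 2 ≠ 1 := by
  classical
  obtain ⟨f, hf⟩ := exists_dual_inv H.nd he (fun j => if j = Sum.inr 0 then 1 else 0)
  have hu : ∀ i, i ≠ Sum.inr 0 → Function.update e (Sum.inr 0) f i = e i := fun i hi => Function.update_of_ne hi _ _
  have hu0 : Function.update e (Sum.inr 0) f (Sum.inr 0) = f := Function.update_self _ _ _
  have hπ : ∀ i : Fin (t + 2) ⊕ Fin (t + 2), Equiv.swap (Sum.inl (0 : Fin (t + 2))) (Sum.inl 1) i = Sum.inr 0 ↔ i = Sum.inr 0 := by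
    intro i
    constructor
    · intro h
      have h1 := congrArg (Equiv.swap (Sum.inl (0 : Fin (t + 2))) (Sum.inl (1 : Fin (t + 2)))) h
      rw [Equiv.swap_apply_self, Equiv.swap_apply_of_ne_of_ne (by simp) (by simp)] at h1
      exact h1
    · rintro rfl
      exact Equiv.swap_apply_of_ne_of_ne (by simp) (by simp)
  have hiso : ∀ i j, B (Function.update e (Sum.inr 0) f i) (Function.update e (Sum.inr 0) f j) = 0 := by
    intro i j
    by_cases hi : i = Sum.inr 0 <;> by_cases hj : j = Sum.inr 0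
    · rw [hi, hj, hu0]; exact H.alt f
    · rw [hi, hu0, hu j hj, hf, if_neg hj]
    · rw [hj, hu0, hu i hi, H.sym, hf, if_neg hi]
    · rw [hu i hi, hu j hj, h0]
  refine pair_a H hN (e' := Function.update e (Sum.inr 0) f ∘ Equiv.swap (Sum.inl 0) (Sum.inl 1)) 0 g he
    ((indep_update he h0 hf).comp _ (Equiv.injective _)) h0 (fun i j => hiso _ _) hg ?_ ?_ ?_
  · intro i hi j
    show B (Function.update e (Sum.inr 0) f (Equiv.swap (Sum.inl 0) (Sum.inl 1) i)) (e j) = 0
    rw [hu _ (fun h => hi ((hπ i).mp h)), h0]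
  · intro j
    show B (Function.update e (Sum.inr 0) f (Equiv.swap (Sum.inl 0) (Sum.inl 1) (Sum.inr 0))) (e j) = _
    rw [(hπ _).mpr rfl, hu0, hf]
  · have h1 : (Function.update e (Sum.inr 0) f ∘ Equiv.swap (Sum.inl 0) (Sum.inl 1)) (Sum.inl 0) = e (Sum.inl 1) := by
      show Function.update e (Sum.inr 0) f (Equiv.swap (Sum.inl 0) (Sum.inl 1) (Sum.inl 0)) = _
      rw [Equiv.swap_apply_left, hu _ (by simp)]
    rw [h1]
    have h2 := he.comp (![Sum.inl 0, Sum.inl 1] : Fin 2 → Fin (t + 2) ⊕ Fin (t + 2)) (by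
      intro i j hij
      fin_cases i <;> fin_cases j <;> simp_all)
    have h3 : e ∘ (![Sum.inl 0, Sum.inl 1] : Fin 2 → Fin (t + 2) ⊕ Fin (t + 2)) = ![e (Sum.inl 0), e (Sum.inl 1)] := by
      funext i
      fin_cases i <;> rfl
    rwa [h3] at h2

theorem pair_a1 (H : ISet B N μ m M) (hN : ∀ v w, N v = N w) (hm : 3 ≤ m) {e : Fin 1 ⊕ Fin 1 → V} (g : IG B N) (he : LinearIndependent F e)
    (h0 : ∀ i j, B (e i) (e j) = 0) (hg : ∀ v, (g : V ≃ₗ[F] V) v - v = TT B e Sum.swap v) :
    ∃ x : IG B N, (g * (x * g * x⁻¹)) ^ 4 = 1 ∧ (g * (x * g * x⁻¹)) ^ 2 ≠ 1 := by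
  classical
  obtain ⟨E, hE1, hE2, -⟩ := H.exc 3 hm
  have hE01 : LinearIndependent F (Sum.elim (fun _ => E 0) (fun _ => E 1) : Fin 1 ⊕ Fin 1 → V) := by
    have h2 := hE1.comp (Sum.elim (fun _ => 0) (fun _ => 1) : Fin 1 ⊕ Fin 1 → Fin 3) (by
      rintro (i | i) (j | j) hij
      · rw [Subsingleton.elim i j]
      · simp at hij
      · simp at hij
      · rw [Subsingleton.elim i j])
    have h3 : E ∘ (Sum.elim (fun _ => 0) (fun _ => 1) : Fin 1 ⊕ Fin 1 → Fin 3) = Sum.elim (fun _ => E 0) (fun _ => E 1) := by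
      funext i
      rcases i with i | i <;> rfl
    rwa [h3] at h2
  obtain ⟨x, hx, hxe⟩ := H.witt (Sum.elim (fun _ => E 0) (fun _ => E 1) : Fin 1 ⊕ Fin 1 → V) e hE01 he (by
    rintro (i | i) (j | j) <;> simp [h0, hE2]) (fun i => hN _ _)
  have hx0 : x (E 0) = e (Sum.inl 0) := hxe (Sum.inl 0)
  have hx1 : x (E 1) = e (Sum.inr 0) := hxe (Sum.inr 0)
  have hu0 : B (x (E 2)) (e (Sum.inl 0)) = 0 := by rw [← hx0, hx.1, hE2]
  have hu1 : B (x (E 2)) (e (Sum.inr 0)) = 0 := by rw [← hx1, hx.1, hE2]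
  have hxE : LinearIndependent F (fun i => x (E i)) := hE1.map' (x : V →ₗ[F] V) (LinearEquiv.ker x)
  -- dual vector
  obtain ⟨f, hf⟩ := exists_dual_inv H.nd hxE (fun j => if j = 1 then 1 else 0)
  have hf0 : B f (e (Sum.inl 0)) = 0 := by rw [← hx0, hf 0]; rfl
  have hf1 : B f (e (Sum.inr 0)) = 1 := by rw [← hx1, hf 1]; rfl
  have hf2 : B f (x (E 2)) = 0 := by rw [hf 2]; rfl
  have hff : B f f = 0 := H.alt f
  have huu : B (x (E 2)) (x (E 2)) = 0 := H.alt _
  have huf : B (x (E 2)) f = 0 := by rw [H.sym, hf2]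
  have hind' : LinearIndependent F (Sum.elim (fun _ => x (E 2)) (fun _ => f) : Fin 1 ⊕ Fin 1 → V) := by
    rw [Fintype.linearIndependent_iff]
    intro c hc
    rw [Fintype.sum_sum_type, Fin.sum_univ_one, Fin.sum_univ_one] at hc
    simp only [Sum.elim_inl, Sum.elim_inr] at hc
    have h1 := congrArg (fun y => B y (e (Sum.inr 0))) hc
    simp only [map_add, map_smul, LinearMap.add_apply, LinearMap.smul_apply, hu1, hf1, smul_eq_mul, mul_zero, mul_one, zero_add, map_zero, LinearMap.zero_apply] at h1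
    rw [h1, zero_smul, add_zero] at hc
    have h2 := (smul_eq_zero.mp hc).resolve_right (hxE.ne_zero 2)
    rintro (i | i)
    · rw [Subsingleton.elim i 0]; exact h2
    · rw [Subsingleton.elim i 0]; exact h1
  refine pair_a H hN (e' := Sum.elim (fun _ => x (E 2)) (fun _ => f)) 0 g he hind' h0 ?_ hg ?_ ?_ ?_
  · rintro (i | i) (j | j) <;> simp [hff, huu, huf, hf2]
  · rintro (i | i) hi (j | j)
    · rw [Subsingleton.elim j 0]; exact hu0
    · rw [Subsingleton.elim j 0]; exact hu1
    · exact absurd (by rw [Subsingleton.elim i 0]) hi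
    · exact absurd (by rw [Subsingleton.elim i 0]) hi
  · rintro (j | j)
    · rw [Subsingleton.elim j 0, if_neg (by simp)]; exact hf0
    · rw [Subsingleton.elim j 0, if_pos rfl]; exact hf1
  · have h2 := hxE.comp (![0, 2] : Fin 2 → Fin 3) (by
      intro i j hij
      fin_cases i <;> fin_cases j <;> simp_all)
    have h3 : (fun i => x (E i)) ∘ (![0, 2] : Fin 2 → Fin 3) = ![e (Sum.inl 0), x (E 2)] := by
      funext i
      fin_cases i
      · exact hx0
      · rfl
    rw [h3] at h2
    exact h2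

/-- the trichotomy for involutions -/
theorem invol_tri (H : ISet B N μ m M) (hN : ∀ v w, N v = N w) (g : IG B N) (hg : orderOf g = 2) :
    (∃ u : V, u ≠ 0 ∧ ∀ v, (g : V ≃ₗ[F] V) v = v + B v u • u) ∨
    (∃ x : IG B N, (g * (x * g * x⁻¹)) ^ 4 = 1 ∧ (g * (x * g * x⁻¹)) ^ 2 ≠ 1) ∨
    (m < 3 ∧ ∃ e : Fin 1 ⊕ Fin 1 → V, LinearIndependent F e ∧ (∀ i j, B (e i) (e j) = 0) ∧ ∀ v, (g : V ≃ₗ[F] V) v - v = TT B e Sum.swap v) := by
  have hg2 : ∀ v, (g : V ≃ₗ[F] V) ((g : V ≃ₗ[F] V) v) = v := by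
    intro v
    have h1 : g * g = 1 := by rw [← pow_two, ← hg, pow_orderOf_eq_one]
    exact LinearEquiv.congr_fun (congrArg Subtype.val h1) v
  rcases invol_cases H g.2 hg2 with ⟨s, e, h1, h2, h3, h4, h5⟩ | ⟨k, e, h1, h2, h3, h5⟩
  · rcases Nat.lt_or_ge s 2 with hs | hs
    · have hs1 : s = 1 := by omega
      subst hs1
      left
      refine ⟨e 0, h1.ne_zero 0, fun v => ?_⟩
      have h6 := h5 v
      rw [TT_apply, Fin.sum_univ_one] at h6
      simp only [id] at h6
      rw [← h6]; abel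
    · obtain ⟨t, rfl⟩ : ∃ t, s = t + 2 := ⟨s - 2, by omega⟩
      right; left
      exact pair_c H hN g h1 h2 h5
  · rcases Nat.lt_or_ge k 2 with hs | hs
    · rcases Nat.lt_or_ge k 1 with hk | hk
      · exfalso
        have hk0 : k = 0 := by omega
        subst hk0
        have h6 : g = 1 := by
          apply Subtype.ext
          apply LinearEquiv.ext
          intro v
          show (g : V ≃ₗ[F] V) v = v
          have := h5 v
          rw [TT_apply, Fintype.sum_empty] at this
          exact sub_eq_zero.mp this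
        rw [h6, orderOf_one] at hg
        omega
      · have hk1 : k = 1 := by omega
        subst hk1
        rcases Nat.lt_or_ge m 3 with hm | hm
        · right; right
          exact ⟨hm, e, h1, h2, h5⟩
        · right; left
          exact pair_a1 H hN hm g h1 h2 h5
    · obtain ⟨t, rfl⟩ : ∃ t, k = t + 2 := ⟨k - 2, by omega⟩
      right; left
      exact pair_a2 H hN g h1 h2 h5

end pair

end Cfsg.Agent.H17
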