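import Mathlib
import Cfsg.Agent.H17.PolT2
import Cfsg.Agent.H17.SpPair
import Cfsg.Agent.H17.SpAut2

set_option autoImplicit false

/-! Automorphisms of the symplectic groups in characteristic two. -/

namespace Cfsg.Agent.H17

open Module Cfsg Cfsg.Agent.H5
open scoped MatrixGroups Matrix

section four

variable {F V G PG : Type*} [Field F] [AddCommGroup V] [Module F V] [Group G] [Group PG] {O : Pol F V G PG}

/-- the product of two transvections does not have order four -/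
theorem Pol.TType.four (hC : O.TType) {e e' : V} {z z' : F} (h4 : (O.pr (O.X e 0 z) * O.pr (O.X e' 0 z')) ^ 4 = 1) :
    (O.pr (O.X e 0 z) * O.pr (O.X e' 0 z')) ^ 2 = 1 := by
  have hsq : ∀ (e : V) (z : F), O.pr (O.X e 0 z) * O.pr (O.X e 0 z) = 1 := by
    intro e z
    rw [← map_mul, Pol.X_mul (hC.ok z (O.br_zero e)) (hC.ok z (O.br_zero e)), add_zero, O.bl_zero, mul_zero, sub_zero]
    have : z + z = 0 := by linear_combination z * hC.two
    rw [this, hC.Z_zero]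
  by_cases hb : O.B e e' = 0
  · have h2 := Pol.X_conj (hC.ok z' (O.br_zero e')) (O.X e 0 z)
    have h3 : O.act (O.X e 0 z) e' = e' := by rw [hC.Z_act, hb]; module
    rw [h3, map_zero, mul_inv_eq_iff_eq_mul] at h2
    have h5 : O.pr (O.X e 0 z) * O.pr (O.X e' 0 z') = O.pr (O.X e' 0 z') * O.pr (O.X e 0 z) := by rw [← map_mul, ← map_mul, h2]
    calc (O.pr (O.X e 0 z) * O.pr (O.X e' 0 z')) ^ 2 = (O.pr (O.X e 0 z) * O.pr (O.X e' 0 z')) * (O.pr (O.X e' 0 z') * O.pr (O.X e 0 z)) := by rw [pow_two, ← h5]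
      _ = O.pr (O.X e 0 z) * (O.pr (O.X e' 0 z') * O.pr (O.X e' 0 z')) * O.pr (O.X e 0 z) := by group
      _ = 1 := by rw [hsq, mul_one, hsq]
  by_cases hz : z = 0
  · rw [hz, hC.Z_zero, one_mul, pow_two, hsq]
  by_cases hz' : z' = 0
  · rw [hz', hC.Z_zero, mul_one, pow_two, hsq]
  exfalso
  obtain ⟨b, hbd⟩ : ∃ b, b = O.B e e' := ⟨_, rfl⟩
  have hbs : O.B e' e = b := by rw [hC.sym, hbd]
  have hstep : ∀ a c : F, O.act (O.X e 0 z * O.X e' 0 z') (a • e + c • e') = (a * (1 + z * z' * b * b) + c * (b * z)) • e + (a * (b * z') + c) • e' := by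
    intro a c
    rw [Pol.act_mul, hC.Z_act, hC.Z_act]
    simp only [O.br_add, O.br_smul, hC.alt, hbs, ← hbd]
    module
  have h5 : O.pr ((O.X e 0 z * O.X e' 0 z') ^ 4) = O.pr 1 := by rw [map_pow, map_mul, map_one, h4]
  obtain ⟨c, hc⟩ := (O.pr_eq _ _).mp h5
  have h6 := hc e
  have h7 : O.act ((O.X e 0 z * O.X e' 0 z') ^ 4) e = O.act (O.X e 0 z * O.X e' 0 z') (O.act (O.X e 0 z * O.X e' 0 z') (O.act (O.X e 0 z * O.X e' 0 z')
      (O.act (O.X e 0 z * O.X e' 0 z') ((1 : F) • e + (0 : F) • e')))) := by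
    rw [one_smul, zero_smul, add_zero, pow_succ, pow_succ, pow_succ, pow_one, Pol.act_mul, Pol.act_mul, Pol.act_mul]
  rw [h7, hstep, hstep, hstep, hstep, Pol.act_one] at h6
  have h8 := congrArg (fun x => O.B e x) h6
  simp only [O.br_add, O.br_smul, hC.alt, ← hbd, mul_zero, zero_add] at h8
  have h9 := (mul_eq_zero.mp h8).resolve_right (by rw [hbd]; exact hb)
  have h10 : (z * z' * b * b) ^ 3 * (b * z') = 0 := by
    linear_combination h9 - (2 + 5 * (z * z' * b * b) + 3 * (z * z' * b * b) ^ 2) * (b * z') * hC.two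
  have hb' : b ≠ 0 := by rw [hbd]; exact hb
  exact (mul_ne_zero (pow_ne_zero 3 (mul_ne_zero (mul_ne_zero (mul_ne_zero hz hz') hb') hb')) (mul_ne_zero hb' hz')) h10

end four

variable {F : Type*} [Field F] {m : ℕ}

theorem ttype_Sp (hm : 1 ≤ m) (h2 : (2 : F) = 0) : (pspPol m F hm).TType := ⟨h2, fun _ => rfl, fun _ => rfl, fun _ => rfl⟩

theorem tri_Sp (hm : 2 ≤ m) (hm1 : 1 ≤ m) (hF : m = 2 → ∃ a : F, a ≠ 0 ∧ a ≠ 1) (h2 : (2 : F) = 0) (e f : Fin m ⊕ Fin m → F) (h : (pspPol m F hm1).Hyp e f) :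
    (pspPol m F hm1).Tri e f := by
  obtain ⟨w, hw, hw0⟩ := Pol.exists_w0 (big_Sp hm hm1) h
  obtain ⟨w', hw', hb⟩ := Pol.ndW h hw hw0
  have hC := ttype_Sp (F := F) hm1 h2
  have hw'0 : w' ≠ 0 := by
    rintro rfl
    exact hb ((pspPol m F hm1).br_zero _)
  have hne : w' ≠ w := by
    rintro rfl
    exact hb (hC.alt _)
  rcases Nat.lt_or_ge m 3 with hm3 | hm3
  · obtain ⟨a, ha0, ha1⟩ := hF (by omega)
    have hba : (pspPol m F hm1).B w (a • w) = 0 := by rw [(pspPol m F hm1).br_smul, hC.alt, mul_zero]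
    refine ⟨w, w', a • w, hw, hw', hw.smul a, hw0, hw'0, smul_ne_zero ha0 hw0, hne, ?_, ?_, ?_⟩
    · intro h1
      have h3 : (a - 1) • w = 0 := by rw [sub_smul, h1, one_smul, sub_self]
      rcases smul_eq_zero.mp h3 with h4 | h4
      · exact ha1 (sub_eq_zero.mp h4)
      · exact hw0 h4
    · intro h1
      apply hb
      rw [← h1]; exact hba
    · intro h1
      apply hb
      have h3 : (pspPol m F hm1).B w (a • w) = (pspPol m F hm1).B w (w + w') := by rw [h1]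
      rw [hba, (pspPol m F hm1).br_add, hC.alt, zero_add] at h3
      exact h3.symm
  · obtain ⟨x, hx, hx0⟩ : ∃ x : Fin m ⊕ Fin m → F, x ∈ LinearMap.ker (LinearMap.pi ![sympB m F e, sympB m F f, sympB m F w, sympB m F w'] :
        (Fin m ⊕ Fin m → F) →ₗ[F] (Fin 4 → F)) ∧ x ≠ 0 := by
      apply Submodule.exists_mem_ne_zero_of_ne_bot
      apply LinearMap.ker_ne_bot_of_finrank_lt
      rw [Module.finrank_fintype_fun_eq_card, Module.finrank_fintype_fun_eq_card, Fintype.card_sum, Fintype.card_fin, Fintype.card_fin]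
      omega
    rw [LinearMap.mem_ker] at hx
    have x0 : sympB m F e x = 0 := congrFun hx 0
    have x1 : sympB m F f x = 0 := congrFun hx 1
    have x2 : sympB m F w x = 0 := congrFun hx 2
    have x3 : sympB m F w' x = 0 := congrFun hx 3
    have hb' : sympB m F w w' ≠ 0 := hb
    refine ⟨w, w', x, hw, hw', ⟨x0, x1⟩, hw0, hw'0, hx0, hne, ?_, ?_, ?_⟩
    · rintro rfl
      rw [← neg_eq_zero, ← sympB_neg] at x3
      exact hb' x3
    · rintro rfl
      exact hb' x2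
    · rintro rfl
      rw [map_add, sympB_isAlt w, zero_add] at x2
      exact hb' x2

theorem goodT_Sp (hm : 2 ≤ m) (hm1 : 1 ≤ m) (hF : m = 2 → ∃ a : F, a ≠ 0 ∧ a ≠ 1) (h2 : (2 : F) = 0) : (pspPol m F hm1).GoodT := by
  refine ⟨big_Sp hm hm1, ttype_Sp hm1 h2, comm_Sp hm1, irr_Sp hm1, fun e f h => tri_Sp hm hm1 hF h2 e f h, gen_Sp hm1, ?_⟩
  intro S
  obtain ⟨g, hg⟩ := induced_Sp hm1 S
  exact ⟨_, (hg _).mpr rfl⟩

theorem psp_inj (hm1 : 1 ≤ m) (h2 : (2 : F) = 0) {g h : Matrix.symplecticGroup (Fin m) F} (hgh : (pspPol m F hm1).pr g = (pspPol m F hm1).pr h) : g = h := by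
  obtain ⟨c, hc⟩ := ((pspPol m F hm1).pr_eq g h).mp hgh
  obtain ⟨e, f, hef⟩ := exists_hyp_Sp (F := F) hm1
  have h1 : sympB m F (pv g e) (pv g f) = sympB m F e f := pv_isom g e f
  have hc' : ∀ x, pv g x = c • pv h x := hc
  have hef' : sympB m F e f = 1 := hef.ef
  rw [hc', hc', map_smul, map_smul, LinearMap.smul_apply, pv_isom, hef'] at h1
  have h3 : c = 1 := by
    have h4 : (c - 1) ^ 2 = 0 := by
      have h5 : c * (c * 1) = 1 := h1
      linear_combination h5 + (1 - c) * h2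
    exact sub_eq_zero.mp (pow_eq_zero_iff two_ne_zero |>.mp h4)
  apply pv_ext
  intro x
  rw [hc', h3, one_smul]

theorem spIG_apply (A : Matrix.symplecticGroup (Fin m) F) (v : Fin m ⊕ Fin m → F) :
    ((spIG m F A : IG (sympB m F) (fun _ => (0 : F))) : (Fin m ⊕ Fin m → F) ≃ₗ[F] (Fin m ⊕ Fin m → F)) v = pv A v := mkE_apply (mem_Sp_sJ.mp A.2) v

/-- images of transvections under automorphisms -/
theorem tp_alt [Finite F] [CharP F 2] (hm1 : 1 ≤ m) (α : MulAut (PSp m F)) {e : Fin m ⊕ Fin m → F} {y : PSp m F} (hy : y ∈ (pspPol m F hm1).Zs e) (hy1 : y ≠ 1) :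
    (∃ e' : Fin m ⊕ Fin m → F, e' ≠ 0 ∧ α y ∈ (pspPol m F hm1).Zs e') ∨
    (m < 3 ∧ ∃ h : Matrix.symplecticGroup (Fin m) F, (pspPol m F hm1).pr h = α y ∧ ∃ e' : Fin 1 ⊕ Fin 1 → (Fin m ⊕ Fin m → F), LinearIndependent F e' ∧
      (∀ i j, sympB m F (e' i) (e' j) = 0) ∧ ∀ v, pv h v - v = TT (sympB m F) e' Sum.swap v) := by
  have h2 : (2 : F) = 0 := two_zero F
  have hC := ttype_Sp (F := F) hm1 h2
  set O := pspPol m F hm1 with hO
  obtain ⟨z, rfl⟩ := hC.mem_Zs'.mp hy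
  obtain ⟨h, hh⟩ := O.pr_surj (α (O.pr (O.X e 0 z)))
  have hsq : O.X e 0 z * O.X e 0 z = 1 := by
    rw [Pol.X_mul (hC.ok z (O.br_zero e)) (hC.ok z (O.br_zero e)), add_zero, O.bl_zero, mul_zero, sub_zero]
    have : z + z = 0 := by linear_combination z * h2
    rw [this, Pol.X_zero (hC.N0 e)]
  have hhh : h * h = 1 := by
    apply psp_inj hm1 h2
    show O.pr (h * h) = O.pr 1
    rw [map_mul, hh, ← map_mul, ← map_mul, hsq, map_one, map_one]
  have hne : h ≠ 1 := by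
    rintro rfl
    rw [map_one] at hh
    exact hy1 ((MulEquiv.map_eq_one_iff α).mp hh.symm)
  have hord : orderOf (spIG m F h) = 2 := by
    haveI : Fact (Nat.Prime 2) := ⟨Nat.prime_two⟩
    rw [MulEquiv.orderOf_eq]
    exact orderOf_eq_prime (by rw [pow_two, hhh]) hne
  rcases invol_tri (iset_sp m) (fun _ _ => rfl) (spIG m F h) hord with ⟨u, hu, hv⟩ | ⟨x, hx4, hx2⟩ | ⟨hm3, e', h1, h3, h5⟩
  · left
    refine ⟨u, hu, ?_⟩
    rw [← hh]
    have : h = O.X u 0 1 := by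
      apply pv_ext
      intro v
      have h3 := hC.Z_act u 1 v
      have h4 : O.act (O.X u 0 1) v = pv (O.X u 0 1) v := rfl
      rw [← h4, h3, ← spIG_apply, hv]
      have h5 : sympB m F v u = O.B u v := hC.sym v u
      rw [h5, mul_one]
    rw [this]
    exact hC.mem_Zs'.mpr ⟨1, rfl⟩
  · exfalso
    obtain ⟨x0, rfl⟩ := (spIG m F).surjective x
    rw [← map_inv, ← map_mul, ← map_mul, ← map_mul, ← map_pow, MulEquiv.map_eq_one_iff] at hx4
    rw [← map_inv, ← map_mul, ← map_mul, ← map_mul, ← map_pow, ne_eq, MulEquiv.map_eq_one_iff] at hx2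
    obtain ⟨x', hx'⟩ := O.pr_surj (α⁻¹ (O.pr x0))
    have hαα : ∀ w, α (α⁻¹ w) = w := fun w => by rw [← MulAut.mul_apply, mul_inv_cancel, MulAut.one_apply]
    have hy' : α (O.pr (O.X (O.act x' e) 0 z)) = O.pr (x0 * h * x0⁻¹) := by
      have h3 := Pol.X_conj (hC.ok z (O.br_zero e)) x'
      rw [map_zero] at h3
      rw [← h3, map_mul, map_mul, map_mul, map_mul, map_inv, map_inv, hx', hαα, ← hh, ← map_inv, ← map_mul, ← map_mul]
    have h4 : (O.pr (O.X e 0 z) * O.pr (O.X (O.act x' e) 0 z)) ^ 4 = 1 := by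
      apply α.injective
      rw [map_pow, map_mul, hy', ← hh, ← map_mul, ← map_pow, hx4, map_one, map_one]
    have h5 := hC.four h4
    apply hx2
    apply psp_inj hm1 h2
    show O.pr _ = O.pr 1
    rw [map_pow, map_mul, hh, ← hy', ← map_mul, ← map_pow, h5, map_one, map_one]
  · right
    refine ⟨hm3, h, hh, e', h1, h3, fun v => ?_⟩
    rw [← h5, spIG_apply]

theorem tp_Sp [Finite F] [CharP F 2] (hm : 3 ≤ m) (hm1 : 1 ≤ m) (α : MulAut (PSp m F)) : (pspPol m F hm1).TP α := by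
  intro e _ y hy hy1
  rcases tp_alt hm1 α hy hy1 with h | ⟨h, -⟩
  · exact h
  · omega

/-- automorphisms preserving transvections are semilinear -/
theorem aut_of_tp [Finite F] (hm : 2 ≤ m) (hm1 : 1 ≤ m) (hF : m = 2 → ∃ a : F, a ≠ 0 ∧ a ≠ 1) (h2 : (2 : F) = 0) {α : MulAut (PSp m F)}
    (ht : (pspPol m F hm1).TP α) (ht' : (pspPol m F hm1).TP α⁻¹) : ∃ (g : GSp m F) (τ : F ≃+* F), α = cS m F g * fS m F τ := by
  obtain ⟨p, hp⟩ := CharP.exists F
  haveI : Fact p.Prime := ⟨CharP.char_is_prime F p⟩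
  obtain ⟨e, f, h⟩ := exists_hyp_Sp (F := F) hm1
  haveI : Finite (Matrix.symplecticGroup (Fin m) F) := inferInstance
  obtain ⟨S, hS⟩ := (goodT_Sp hm hm1 hF h2).all_induced p h ht ht'
  obtain ⟨g, hg⟩ := induced_Sp hm1 S
  exact ⟨g, S.σ, (hg α).mp hS⟩

theorem aut_PSp_all [Finite F] (hm : 2 ≤ m) (h4 : m = 2 → (2 : F) ≠ 0) (α : MulAut (PSp m F)) :
    ∃ (g : GSp m F) (τ : F ≃+* F), α = cS m F g * fS m F τ := by
  by_cases h2 : (2 : F) = 0
  · have hm3 : 3 ≤ m := by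
      by_contra h
      exact h4 (by omega) h2
    haveI : CharP F 2 := CharTwo.of_one_ne_zero_of_two_eq_zero one_ne_zero h2
    exact aut_of_tp hm (by omega) (fun h => absurd h (by omega)) h2 (tp_Sp hm3 _ α) (tp_Sp hm3 _ α⁻¹)
  · exact aut_PSp hm h2 α

end Cfsg.Agent.H17
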