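import Mathlib
import Cfsg.Agent.H17.SpTwo
import Cfsg.Agent.H17.SpField2
import Cfsg.Agent.H17.LBal
import Cfsg.Agent.H17.Desc
import Cfsg.Agent.H5.SpPrim
import Cfsg.Agent.H5.SpOrder

set_option autoImplicit false

/-! Local balance for symplectic groups: field automorphisms. -/

namespace Cfsg.Agent.H17

open Module Cfsg Cfsg.Agent.H5
open scoped MatrixGroups Matrix

section abs

variable {X : Type*} [Group X]

/-- data on the centralizer of `x` -/
def LB2 (p : ℕ) (I : Subgroup X) (x : X) : Prop :=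
  ∃ L₀ : Subgroup X, L₀ ≠ ⊥ ∧ L₀ ≤ I ⊓ Subgroup.centralizer {x} ∧
    (∀ c ∈ Subgroup.centralizer {x}, ∀ l ∈ L₀, c * l * c⁻¹ ∈ L₀) ∧
    (∀ c ∈ Subgroup.centralizer {x}, (∀ l ∈ L₀, c * l = l * c) → c ∈ Subgroup.zpowers x) ∧
    (p ∣ Nat.card ↥(I ⊓ Subgroup.centralizer {x}) → ∀ M : Subgroup X, M ≤ L₀ → (∀ l ∈ L₀, ∀ k ∈ M, l * k * l⁻¹ ∈ M) → M ≠ ⊥ → p ∣ Nat.card M)

theorem LB2.main [Finite X] {p : ℕ} [hp : Fact p.Prime] {I : Subgroup X} [hI : I.Normal] {x : X} (h : LB2 p I x) (A : Subgroup X)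
    (hIA : I ≤ A) (hord : orderOf x = p) :
    pPrimeCore p ↥(A ⊓ Subgroup.centralizer {x}) ≠ ⊥ ↔ Nat.Coprime p (Nat.card ↥(I ⊓ Subgroup.centralizer {x})) := by
  obtain ⟨L₀, hs, hL₀, hnorm, hcent, hdiv⟩ := h
  obtain ⟨C, hC⟩ : ∃ C : Subgroup X, C = A ⊓ Subgroup.centralizer {x} := ⟨_, rfl⟩
  rw [← hC]
  have hLC : I ⊓ Subgroup.centralizer {x} ≤ C := by rw [hC]; exact inf_le_inf_right _ hIA
  have hL₀C : L₀ ≤ C := hL₀.trans hLC
  have hCx : C ≤ Subgroup.centralizer {x} := by rw [hC]; exact inf_le_right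
  constructor
  · intro hne
    by_contra hcop
    have hpd : p ∣ Nat.card ↥(I ⊓ Subgroup.centralizer {x}) := by
      by_contra hnd
      exact hcop ((Nat.Prime.coprime_iff_not_dvd hp.out).mpr hnd)
    have hp0 := hdiv hpd
    apply hne
    unfold pPrimeCore
    rw [sSup_eq_bot]
    rintro N ⟨hN, hNc⟩
    -- `N ∩ L₀` is trivial
    have h1 : (N.map C.subtype) ⊓ L₀ = ⊥ := by
      by_contra hbot
      have h3 := hp0 _ inf_le_right (by
        rintro l hl k ⟨⟨⟨n', hn'C⟩, hn', he⟩, hk⟩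
        refine ⟨⟨⟨l, hL₀C hl⟩ * ⟨n', hn'C⟩ * ⟨l, hL₀C hl⟩⁻¹, hN.conj_mem _ hn' _, ?_⟩, L₀.mul_mem (L₀.mul_mem hl hk) (L₀.inv_mem hl)⟩
        rw [map_mul, map_mul, map_inv, he]
        rfl) hbot
      have h4 : Nat.card ↥((N.map C.subtype) ⊓ L₀) ∣ Nat.card (N.map C.subtype) := Subgroup.card_dvd_of_le inf_le_left
      have h5 : Nat.card (N.map C.subtype) = Nat.card N :=
        Nat.card_congr (N.equivMapOfInjective _ C.subtype_injective).toEquiv.symm
      rw [h5] at h4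
      have h6 := h3.trans h4
      have h7 := Nat.dvd_gcd h6 (dvd_refl p)
      rw [hNc] at h7
      exact hp.out.one_lt.ne' (Nat.dvd_one.mp h7)
    -- they commute
    have h2 : ∀ n ∈ N, ((n : C) : X) ∈ Subgroup.zpowers x := by
      intro n hn
      apply hcent _ (hCx n.2)
      intro l hl
      have h3 : (n : X) * l * (n : X)⁻¹ * l⁻¹ ∈ (N.map C.subtype) ⊓ L₀ := by
        refine ⟨?_, L₀.mul_mem (hnorm _ (hCx n.2) l hl) (L₀.inv_mem hl)⟩
        refine ⟨n * (⟨l, hL₀C hl⟩ * n⁻¹ * ⟨l, hL₀C hl⟩⁻¹), N.mul_mem hn (hN.conj_mem _ (N.inv_mem hn) _), ?_⟩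
        simp only [Subgroup.subtype_apply, Subgroup.coe_mul, Subgroup.coe_inv, mul_assoc]
      rw [h1, Subgroup.mem_bot, mul_inv_eq_one, mul_inv_eq_iff_eq_mul] at h3
      exact h3
    have h3 : N.map C.subtype ≤ Subgroup.zpowers x := by
      rintro _ ⟨n, hn, rfl⟩
      exact h2 n hn
    have h4 := Subgroup.card_dvd_of_le h3
    rw [Nat.card_zpowers, hord, Nat.card_congr (N.equivMapOfInjective _ C.subtype_injective).toEquiv.symm] at h4
    rw [Subgroup.eq_bot_iff_card]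
    rcases (Nat.dvd_prime hp.out).mp h4 with h5 | h5
    · exact h5
    · exfalso
      rw [h5] at hNc
      exact hp.out.one_lt.ne' ((Nat.coprime_self p).mp hNc)
  · intro hcop hbot
    have h1 : (I ⊓ Subgroup.centralizer {x}).subgroupOf C ≤ pPrimeCore p C := by
      apply le_sSup
      refine ⟨⟨fun n hn g => ?_⟩, ?_⟩
      · rw [Subgroup.mem_subgroupOf] at hn ⊢
        rw [Subgroup.coe_mul, Subgroup.coe_mul, Subgroup.coe_inv]
        refine ⟨hI.conj_mem _ hn.1 _, ?_⟩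
        exact (Subgroup.centralizer {x}).mul_mem ((Subgroup.centralizer {x}).mul_mem (hCx g.2) hn.2)
          ((Subgroup.centralizer {x}).inv_mem (hCx g.2))
      · rw [Nat.card_congr (Subgroup.subgroupOfEquivOfLe hLC).toEquiv]
        exact hcop.symm
    rw [hbot, le_bot_iff, Subgroup.subgroupOf_eq_bot] at h1
    have h2 : I ⊓ Subgroup.centralizer {x} = ⊥ := by
      have := disjoint_iff.mp h1
      rwa [inf_eq_left.mpr hLC] at this
    rw [h2, le_bot_iff] at hL₀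
    exact hs hL₀

theorem LB2.conj {p : ℕ} {I : Subgroup X} [hI : I.Normal] {x β : X} (h : LB2 p I (β * x * β⁻¹)) : LB2 p I x := by
  obtain ⟨L₀, hs, hL₀, hnorm, hcent, hdiv⟩ := h
  have hce : ∀ c, c ∈ Subgroup.centralizer {x} ↔ β * c * β⁻¹ ∈ Subgroup.centralizer {β * x * β⁻¹} := by
    intro c
    rw [Subgroup.mem_centralizer_singleton_iff, Subgroup.mem_centralizer_singleton_iff]
    constructor
    · intro h
      calc β * c * β⁻¹ * (β * x * β⁻¹) = β * (c * x) * β⁻¹ := by group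
        _ = _ := by rw [h]; group
    · intro h
      have h1 : β * (c * x) * β⁻¹ = β * (x * c) * β⁻¹ := by
        calc β * (c * x) * β⁻¹ = β * c * β⁻¹ * (β * x * β⁻¹) := by group
          _ = _ := by rw [h]; group
      exact mul_left_cancel (mul_right_cancel h1)
  have hmem : ∀ (K : Subgroup X) (y : X), y ∈ K.comap (MulAut.conj β).toMonoidHom ↔ β * y * β⁻¹ ∈ K := fun K y => Iff.rfl
  have hcard : ∀ K : Subgroup X, Nat.card ↥(K.comap (MulAut.conj β).toMonoidHom) = Nat.card K := fun K =>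
    Nat.card_congr ((MulAut.conj β).toEquiv.subtypeEquiv (fun y => Iff.rfl))
  have hβ : ∀ y, β * (β⁻¹ * y * β) * β⁻¹ = y := fun y => by group
  refine ⟨L₀.comap (MulAut.conj β).toMonoidHom, ?_, ?_, ?_, ?_, ?_⟩
  · intro h
    apply hs
    rw [eq_bot_iff]
    intro l hl
    have h1 : β⁻¹ * l * β ∈ L₀.comap (MulAut.conj β).toMonoidHom := by rw [hmem, hβ]; exact hl
    rw [h, Subgroup.mem_bot] at h1
    have h2 := hβ l
    rw [h1, mul_one, mul_inv_cancel] at h2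
    rw [← h2]; exact one_mem _
  · intro l hl
    obtain ⟨h1, h2⟩ := hL₀ ((hmem _ _).mp hl)
    refine ⟨?_, (hce l).mpr h2⟩
    have h3 := hI.conj_mem _ h1 β⁻¹
    have h4 : β⁻¹ * (β * l * β⁻¹) * β⁻¹⁻¹ = l := by group
    rwa [h4] at h3
  · intro c hc l hl
    rw [hmem] at hl ⊢
    have := hnorm _ ((hce c).mp hc) _ hl
    have h4 : β * c * β⁻¹ * (β * l * β⁻¹) * (β * c * β⁻¹)⁻¹ = β * (c * l * c⁻¹) * β⁻¹ := by group
    rwa [h4] at this
  · intro c hc hcl
    have h1 := hcent _ ((hce c).mp hc) (fun l hl => by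
      have h2 := hcl (β⁻¹ * l * β) (by rw [hmem, hβ]; exact hl)
      calc β * c * β⁻¹ * l = β * (c * (β⁻¹ * l * β)) * β⁻¹ := by group
        _ = _ := by rw [h2]; group)
    obtain ⟨k, hk⟩ := h1
    refine ⟨k, ?_⟩
    have hk' : (β * x * β⁻¹) ^ k = β * c * β⁻¹ := hk
    have h5 : (β * x * β⁻¹) ^ k = β * x ^ k * β⁻¹ := by
      rw [← MulAut.conj_apply, ← map_zpow, MulAut.conj_apply]
    rw [h5] at hk'
    exact mul_left_cancel (mul_right_cancel hk')
  · intro h1 M hM hMn hMb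
    have h2 : (I ⊓ Subgroup.centralizer {β * x * β⁻¹}).comap (MulAut.conj β).toMonoidHom = I ⊓ Subgroup.centralizer {x} := by
      ext y
      constructor
      · rintro ⟨a1, a2⟩
        have a1' : β * y * β⁻¹ ∈ I := a1
        have h3 := hI.conj_mem _ a1' β⁻¹
        have h4 : β⁻¹ * (β * y * β⁻¹) * β⁻¹⁻¹ = y := by group
        rw [h4] at h3
        exact ⟨h3, (hce y).mpr a2⟩
      · rintro ⟨a1, a2⟩
        exact ⟨hI.conj_mem _ a1 β, (hce y).mp a2⟩
    rw [← h2, hcard] at h1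
    obtain ⟨M', hM'⟩ : ∃ M', M' = M.comap (MulAut.conj β⁻¹).toMonoidHom := ⟨_, rfl⟩
    have hm' : ∀ y, y ∈ M' ↔ β⁻¹ * y * β ∈ M := by
      intro y
      rw [hM']
      show β⁻¹ * y * β⁻¹⁻¹ ∈ M ↔ _
      rw [inv_inv]
    have h6 : M = M'.comap (MulAut.conj β).toMonoidHom := by
      ext y
      rw [hmem, hm']
      have : β⁻¹ * (β * y * β⁻¹) * β = y := by group
      rw [this]
    rw [h6, hcard]
    refine hdiv h1 M' ?_ ?_ ?_
    · intro y hy
      have := hM ((hm' y).mp hy)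
      rwa [hmem, hβ] at this
    · intro l hl k hk
      rw [hm'] at hk ⊢
      have h7 := hMn (β⁻¹ * l * β) (by rw [hmem, hβ]; exact hl) _ hk
      have h8 : β⁻¹ * l * β * (β⁻¹ * k * β) * (β⁻¹ * l * β)⁻¹ = β⁻¹ * (l * k * l⁻¹) * β := by group
      rwa [h8] at h7
    · intro h
      apply hMb
      rw [h6, h, eq_bot_iff]
      intro y hy
      have : β * y * β⁻¹ = 1 := hy
      rw [mul_inv_eq_one, mul_eq_left] at this
      exact this

end abs

variable {F : Type*} [Field F] {m : ℕ}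

theorem eig_of_fix (hm : 2 ≤ m) (g : GSp m F) (σ : F ≃+* F) {w : Fin m ⊕ Fin m → F} (hw : w ≠ 0)
    (h : (cS m F g * fS m F σ) (QuotientGroup.mk (spT w 1)) = QuotientGroup.mk (spT w 1)) :
    ∃ a : F, ((g : GL (Fin m ⊕ Fin m) F) : Matrix _ _ F) *ᵥ svI σ w = a • w := by
  have hfr : 3 ≤ Module.finrank F (Fin m ⊕ Fin m → F) := by
    rw [Module.finrank_fintype_fun_eq_card]; simp; omega
  obtain ⟨M, hM⟩ : ∃ M : Matrix (Fin m ⊕ Fin m) (Fin m ⊕ Fin m) F, M = ((g : GL (Fin m ⊕ Fin m) F) : Matrix _ _ F) := ⟨_, rfl⟩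
  obtain ⟨N, hN⟩ : ∃ N : Matrix (Fin m ⊕ Fin m) (Fin m ⊕ Fin m) F, N = (((g : GL (Fin m ⊕ Fin m) F)⁻¹ : GL (Fin m ⊕ Fin m) F) : Matrix _ _ F) := ⟨_, rfl⟩
  have hMN : ∀ x, M *ᵥ (N *ᵥ x) = x := by
    intro x
    rw [Matrix.mulVec_mulVec, hM, hN, ← Units.val_mul, mul_inv_cancel, Units.val_one, Matrix.one_mulVec]
  have h1 : (QuotientGroup.mk (conjSp m F g (fieldSp m F σ (spT w 1))) : PSp m F) = QuotientGroup.mk (spT w 1) := h
  obtain ⟨c, hc⟩ := (pr_eq_Sp (by omega) _ _).mp h1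
  have h2 : ∀ x, pv (conjSp m F g (fieldSp m F σ (spT w 1))) x = x + (sympB m F (N *ᵥ x) (svI σ w)) • (M *ᵥ svI σ w) := by
    intro x
    unfold pv
    rw [coe_conjSp, coe_fieldSp, ← hM, ← hN, ← Matrix.mulVec_mulVec, ← Matrix.mulVec_mulVec]
    conv_lhs => rw [← svI_inv σ (N *ᵥ x)]
    rw [← svI_mulVec', spT_mulVec, one_mul, svI_add, svI_smul, svI_inv, Matrix.mulVec_add, hMN, Matrix.mulVec_smul]
    congr 2
    rw [← sympB_svI, svI_inv]
  have h3 : ∀ x, x + (sympB m F (N *ᵥ x) (svI σ w)) • (M *ᵥ svI σ w) = c • (x + (sympB m F x w) • w) := by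
    intro x
    rw [← h2, hc]
    unfold pv
    rw [spT_mulVec, one_mul]
  obtain ⟨x, hx0, hx1, hx2⟩ := exists_two_ker hfr ((sympB m F).flip w) (((sympB m F).flip (svI σ w)).comp N.mulVecLin)
  have hx1' : sympB m F x w = 0 := hx1
  have hx2' : sympB m F (N *ᵥ x) (svI σ w) = 0 := hx2
  have h4 := h3 x
  rw [hx1', hx2', zero_smul, zero_smul, add_zero] at h4
  have hc1 : c = 1 := by
    have h5 : (1 - c) • x = 0 := by rw [sub_smul, one_smul, sub_eq_zero]; exact h4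
    exact (sub_eq_zero.mp ((smul_eq_zero.mp h5).resolve_right hx0)).symm
  obtain ⟨z, hz⟩ := sp_exists_one hw
  have hz' : sympB m F (-z) w = 1 := by rw [map_neg, LinearMap.neg_apply, sympB_neg, hz, neg_neg]
  have h6 := h3 (-z)
  rw [hc1, one_smul, hz', one_smul] at h6
  have h7 := add_left_cancel h6
  have h8 : sympB m F (N *ᵥ (-z)) (svI σ w) ≠ 0 := by
    intro h0
    rw [h0, zero_smul] at h7
    exact hw h7.symm
  refine ⟨(sympB m F (N *ᵥ (-z)) (svI σ w))⁻¹, ?_⟩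
  rw [← hM, eq_inv_smul_iff₀ h8]
  exact h7

theorem eig_rat {F₀ : Type*} [Field F₀] {j : F₀ →+* F} {ι : Type*} [Fintype ι] [DecidableEq ι] [Nontrivial ι] (g : GL ι F) (σ : F ≃+* F)
    (h : ∀ w : ι → F₀, ∃ a : F, (g : Matrix ι ι F) *ᵥ svI σ (jV j w) = a • jV j w) : (∀ y, σ (j y) = j y) ∧ ∃ c : Fˣ, g = sI ι c := by
  have hsv : ∀ i, svI σ (Pi.single i (1 : F) : ι → F) = Pi.single i 1 := by
    intro i
    ext j
    by_cases hj : j = i
    · subst hj; simp [svI]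
    · simp [svI, Pi.single_eq_of_ne hj]
  have h1 : ∀ i, ∃ a : F, (g : Matrix ι ι F) *ᵥ Pi.single i 1 = a • Pi.single i 1 := by
    intro i
    obtain ⟨a, ha⟩ := h (Pi.single i 1)
    rw [jV_single, hsv] at ha
    exact ⟨a, ha⟩
  choose c hc using h1
  have hjs : ∀ (t : F₀) (v : ι → F₀), jV j (t • v) = j t • jV j v := by
    intro t v
    ext i
    simp [jV]
  have hc2 : ∀ i k, i ≠ k → ∀ t : F₀, σ (j t) * c k = c i * j t := by
    intro i k hij t
    obtain ⟨a, ha⟩ := h (Pi.single i 1 + t • Pi.single k 1)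
    rw [jV_add, hjs, jV_single, jV_single, svI_add, svI_smul, hsv, hsv, Matrix.mulVec_add, Matrix.mulVec_smul, hc, hc] at ha
    have e1 := congrFun ha i
    have e2 := congrFun ha k
    simp only [Pi.add_apply, Pi.smul_apply, Pi.single_eq_same, smul_eq_mul, mul_one, Pi.single_eq_of_ne hij,
      Pi.single_eq_of_ne (Ne.symm hij), mul_zero, add_zero, zero_add] at e1 e2
    rw [e1, e2]
  obtain ⟨i0, j0, hij0⟩ := exists_pair_ne ι
  have hcc : ∀ i j, c i = c j := by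
    intro i j
    by_cases hij : i = j
    · rw [hij]
    · have := hc2 i j hij 1
      rw [map_one, map_one, one_mul, mul_one] at this
      exact this.symm
  have hg : (g : Matrix ι ι F) = c i0 • (1 : Matrix ι ι F) := by
    apply Matrix.ext_of_mulVec_single
    intro i
    rw [hc, hcc i i0, Matrix.smul_mulVec, Matrix.one_mulVec]
  have hc0 : c i0 ≠ 0 := by
    intro h0
    rw [h0, zero_smul] at hg
    have h2 := congrArg Matrix.det hg
    rw [Matrix.det_zero] at h2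
    have h3 := Matrix.isUnits_det_units g
    rw [h2] at h3
    exact not_isUnit_zero h3
  refine ⟨?_, Units.mk0 _ hc0, ?_⟩
  · intro t
    have := hc2 i0 j0 hij0 t
    rw [hcc j0 i0, mul_comm] at this
    exact mul_left_cancel₀ hc0 this
  · apply Units.ext
    rw [hg]
    ext a b
    rw [coe_sI']
    rfl

end Cfsg.Agent.H17
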