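import Mathlib
import Cfsg.Agent.H17.SpBal

set_option autoImplicit false

/-! Local balance for symplectic groups: field automorphisms (centralizers). -/

namespace Cfsg.Agent.H17

open Module Cfsg Cfsg.Agent.H5
open scoped MatrixGroups Matrix

variable {F F₀ : Type*} [Field F] [Field F₀] {m : ℕ}

theorem gspMap_jS {τ : F ≃+* F} {j : F₀ →+* F} (hj : ∀ y, τ (j y) = j y) (h : GSp m F₀) : gspMap m τ (jS m j h) = jS m j h :=
  Subtype.ext (glI_jI hj _)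

theorem sympB_jV (j : F₀ →+* F) (u v : Fin m ⊕ Fin m → F₀) : sympB m F (jV j u) (jV j v) = j (sympB m F₀ u v) := by
  rw [sympB_apply, sympB_apply, sympForm_eq, sympForm_eq, map_sum]
  apply Finset.sum_congr rfl
  intro i _
  rw [map_sub, map_mul, map_mul]
  rfl

theorem muS_jS (hm : 1 ≤ m) (j : F₀ →+* F) (h : GSp m F₀) : muS hm (jS m j h) = Units.map (j : F₀ →* F) (muS hm h) := by
  obtain ⟨e, f, he⟩ := exists_hyp_Sp (F := F₀) hm
  have he1 : sympB m F₀ e f = 1 := he.ef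
  have h1 := muS_spec hm (jS m j h) (jV j e) (jV j f)
  have h2 : (((jS m j h : GL (Fin m ⊕ Fin m) F)) : Matrix (Fin m ⊕ Fin m) (Fin m ⊕ Fin m) F) = (jI _ j (h : GL (Fin m ⊕ Fin m) F₀) : Matrix (Fin m ⊕ Fin m) (Fin m ⊕ Fin m) F) := rfl
  rw [h2, jI_mulVec, jI_mulVec, sympB_jV, sympB_jV, muS_spec hm, he1, mul_one, map_one, mul_one] at h1
  exact Units.ext h1.symm

theorem muS_sI (hm : 1 ≤ m) (c : Fˣ) : muS hm ⟨sI _ c, sI_mem_GSp c⟩ = c ^ 2 := by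
  have key : ∀ u v, sympB m F ((sI (Fin m ⊕ Fin m) c : Matrix (Fin m ⊕ Fin m) (Fin m ⊕ Fin m) F) *ᵥ u)
      ((sI (Fin m ⊕ Fin m) c : Matrix (Fin m ⊕ Fin m) (Fin m ⊕ Fin m) F) *ᵥ v) = ((c ^ 2 : Fˣ) : F) * sympB m F u v := by
    intro u v
    rw [sI_mulVec, sI_mulVec, map_smul, map_smul, LinearMap.smul_apply, smul_eq_mul, smul_eq_mul, Units.val_pow_eq_pow_val]
    ring
  exact Units.ext (muS_unique hm ⟨sI _ c, sI_mem_GSp c⟩ ((c ^ 2 : Fˣ) : F) key)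

/-- the rational symplectic group inside the automorphism group -/
noncomputable def Lz (hm : 1 ≤ m) (j : F₀ →+* F) : Subgroup (MulAut (PSp m F)) := ((muS (F := F₀) hm).ker).map ((cS m F).comp (jS m j))

theorem jS_sI (j : F₀ →+* F) (c : F₀ˣ) : jS m j ⟨sI _ c, sI_mem_GSp c⟩ = ⟨sI _ (Units.map (j : F₀ →* F) c), sI_mem_GSp _⟩ :=
  Subtype.ext (jI_sI j c)

theorem mem_Lz_of_sq (hm : 2 ≤ m) (hm1 : 1 ≤ m) (j : F₀ →+* F) (h : GSp m F₀) (c : F₀ˣ) (hc : muS hm1 h = c ^ 2) : cS m F (jS m j h) ∈ Lz hm1 j := by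
  refine ⟨⟨sI _ c⁻¹, sI_mem_GSp _⟩ * h, ?_, ?_⟩
  · show muS hm1 _ = 1
    rw [map_mul, muS_sI, hc, ← mul_pow, inv_mul_cancel, one_pow]
  · rw [map_mul, MonoidHom.comp_apply, MonoidHom.comp_apply, jS_sI, cS_sI hm, one_mul]

theorem cent_form (hm : 2 ≤ m) {τ : F ≃+* F} {r : ℕ} (hτ : orderOf τ = r) (hr : 0 < r) {j : F₀ →+* F}
    (hj : ∀ x, τ x = x ↔ ∃ y, j y = x) {g : GSp m F} (h : fS m F τ * cS m F g = cS m F g * fS m F τ) :
    ∃ h0 : GSp m F₀, cS m F g = cS m F (jS m j h0) ∧ ∃ c : Fˣ, g = ⟨sI _ c, sI_mem_GSp c⟩ * jS m j h0 := by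
  obtain ⟨c, k, hk, hgk⟩ := (comm_fS_iff hm hτ hr g).mp h
  obtain ⟨k0, hk0⟩ := exists_descendI hj hk
  have hk1 : k0 ∈ GSp m F₀ := mem_GSp_of_jI (by omega) (hk0 ▸ k.2)
  have e : jS m j ⟨k0, hk1⟩ = k := Subtype.ext hk0
  refine ⟨⟨k0, hk1⟩, ?_, c, ?_⟩
  · rw [e, hgk, map_mul, cS_sI hm, one_mul]
  · rw [e, hgk]

theorem comm_jS {τ : F ≃+* F} {j : F₀ →+* F} (hj : ∀ y, τ (j y) = j y) (h : GSp m F₀) :
    fS m F τ * cS m F (jS m j h) = cS m F (jS m j h) * fS m F τ := by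
  rw [fS_cS, gspMap_jS hj]

theorem Lz_le (hm : 2 ≤ m) (hm1 : 1 ≤ m) {τ : F ≃+* F} {j : F₀ →+* F} (hj : ∀ y, τ (j y) = j y) :
    Lz hm1 j ≤ Inn (PSp m F) ⊓ Subgroup.centralizer {fS m F τ} := by
  rintro _ ⟨h, hh, rfl⟩
  have hh' : muS hm1 h = 1 := hh
  refine ⟨?_, ?_⟩
  · rw [MonoidHom.comp_apply]
    show cS m F (jS m j h) ∈ Inn (PSp m F)
    rw [cS_mem_Inn_iff hm hm1, muS_jS, hh', map_one]
    exact one_mem _
  · show _ ∈ Subgroup.centralizer _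
    rw [Subgroup.mem_centralizer_singleton_iff]
    exact (comm_jS hj h).symm

theorem Lz_eq_two [Finite F₀] (hm : 2 ≤ m) (hm1 : 1 ≤ m) (h2 : (2 : F₀) = 0) {τ : F ≃+* F} {r : ℕ} (hτ : orderOf τ = r) (hr : 0 < r) {j : F₀ →+* F}
    (hj : ∀ x, τ x = x ↔ ∃ y, j y = x) : Lz hm1 j = Inn (PSp m F) ⊓ Subgroup.centralizer {fS m F τ} := by
  apply le_antisymm (Lz_le hm hm1 (fun y => (hj _).mpr ⟨y, rfl⟩))
  rintro y ⟨hy1, hy2⟩
  obtain ⟨g, rfl⟩ := Inn_le_rangeSp hy1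
  have hy2 : cS m F g ∈ Subgroup.centralizer {fS m F τ} := hy2
  rw [Subgroup.mem_centralizer_singleton_iff] at hy2
  obtain ⟨h0, e, -⟩ := cent_form hm hτ hr hj hy2.symm
  rw [e]
  obtain ⟨c, hc⟩ : IsSquare ((muS hm1 h0 : F₀ˣ) : F₀) := by
    haveI := Fintype.ofFinite F₀
    haveI : CharP F₀ 2 := CharTwo.of_one_ne_zero_of_two_eq_zero one_ne_zero h2
    exact FiniteField.isSquare_of_char_two (ringChar.eq F₀ 2) _
  have hc0 : c ≠ 0 := by
    rintro rfl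
    rw [mul_zero] at hc
    exact (muS hm1 h0).ne_zero hc
  apply mem_Lz_of_sq hm hm1 j h0 (Units.mk0 c hc0)
  apply Units.ext
  rw [hc, Units.val_pow_eq_pow_val, Units.val_mk0, pow_two]

theorem Lz_norm [Finite F] [Finite F₀] (hm : 2 ≤ m) (hm1 : 1 ≤ m) {τ : F ≃+* F} {r : ℕ} (hτ : orderOf τ = r) (hr : 0 < r) {j : F₀ →+* F}
    (hj : ∀ x, τ x = x ↔ ∃ y, j y = x) {c l : MulAut (PSp m F)} (hc : c ∈ Subgroup.centralizer {fS m F τ}) (hl : l ∈ Lz hm1 j) :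
    c * l * c⁻¹ ∈ Lz hm1 j := by
  by_cases h2 : (2 : F) = 0
  · have h20 : (2 : F₀) = 0 := by
      apply j.injective
      rw [map_ofNat, map_zero, h2]
    rw [Lz_eq_two hm hm1 h20 hτ hr hj] at hl ⊢
    haveI : (Inn (PSp m F)).Normal := by unfold Inn; infer_instance
    exact ⟨Subgroup.Normal.conj_mem inferInstance _ hl.1 _,
      (Subgroup.centralizer _).mul_mem ((Subgroup.centralizer _).mul_mem hc hl.2) ((Subgroup.centralizer _).inv_mem hc)⟩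
  · obtain ⟨g, σ, rfl⟩ := aut_PSp hm h2 c
    obtain ⟨s0, hs0, rfl⟩ := hl
    have hs0' : muS hm1 s0 = 1 := hs0
    rw [Subgroup.mem_centralizer_singleton_iff] at hc
    have hστ : σ * τ = τ * σ := by
      obtain ⟨p, hp⟩ := CharP.exists F
      haveI := Fintype.ofFinite F
      haveI : Fact p.Prime := ⟨CharP.char_is_prime F p⟩
      obtain ⟨⟨f, hf0⟩, -, hF⟩ := FiniteField.card F p
      simp only [PNat.mk_coe] at hF
      have := (ringAut_cyclic (F := F) p f (by omega) (by rw [Nat.card_eq_fintype_card, hF])).1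
      letI := IsCyclic.commGroup (α := F ≃+* F)
      exact mul_comm _ _
    have h1 : fS m F τ * cS m F g = cS m F g * fS m F τ := by
      have h3 : cS m F g * fS m F σ * fS m F τ = fS m F τ * cS m F g * fS m F σ := by rw [hc, mul_assoc]
      have h4 : cS m F g * fS m F τ * fS m F σ = fS m F τ * cS m F g * fS m F σ := by
        rw [← h3, mul_assoc, mul_assoc, ← map_mul, ← map_mul, hστ]
      exact (mul_right_cancel h4).symm
    obtain ⟨h0, e, -⟩ := cent_form hm hτ hr hj h1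
    have h5 : glI τ (gspMap m σ (jS m j s0) : GL (Fin m ⊕ Fin m) F) = gspMap m σ (jS m j s0) := by
      show glI τ (glI σ (jI _ j (s0 : GL (Fin m ⊕ Fin m) F₀))) = glI σ (jI _ j (s0 : GL (Fin m ⊕ Fin m) F₀))
      rw [← glI_mul, ← hστ, glI_mul, glI_jI (fun y => (hj _).mpr ⟨y, rfl⟩)]
    obtain ⟨k0, hk0⟩ := exists_descendI hj h5
    have hk1 : k0 ∈ GSp m F₀ := mem_GSp_of_jI hm1 (hk0 ▸ (gspMap m σ (jS m j s0)).2)
    have e2 : jS m j ⟨k0, hk1⟩ = gspMap m σ (jS m j s0) := Subtype.ext hk0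
    have hmu : muS hm1 (⟨k0, hk1⟩ : GSp m F₀) = 1 := by
      have h6 := muS_jS hm1 j ⟨k0, hk1⟩
      rw [e2, muS_gspMap, muS_jS, hs0', map_one, map_one] at h6
      exact (Units.map_injective j.injective (h6.symm.trans (map_one _).symm))
    refine ⟨h0 * ⟨k0, hk1⟩ * h0⁻¹, ?_, ?_⟩
    · show muS hm1 _ = 1
      rw [map_mul, map_mul, hmu, mul_one, map_inv, mul_inv_cancel]
    · rw [MonoidHom.comp_apply, map_mul, map_mul, map_inv, map_mul, map_mul, map_inv, e2, ← fS_cS_inv, ← e, MonoidHom.comp_apply, mul_inv_rev]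
      simp only [mul_assoc]

end Cfsg.Agent.H17
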