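import Mathlib
import Cfsg.Agent.H17.SpBal2

set_option autoImplicit false

/-! Local balance for symplectic groups: centralizer of the rational subgroup. -/

namespace Cfsg.Agent.H17

open Module Cfsg Cfsg.Agent.H5
open scoped MatrixGroups Matrix

variable {F F₀ : Type*} [Field F] [Field F₀] {m : ℕ}

theorem jV_ne_zero {ι : Type*} (j : F₀ →+* F) {v : ι → F₀} (hv : v ≠ 0) : jV j v ≠ 0 := by
  intro h
  apply hv
  ext i
  have := congrFun h i
  exact j.injective (this.trans (map_zero j).symm)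

theorem conj_eq_one_PSp (hm : 2 ≤ m) {y : PSp m F} (h : MulAut.conj y = 1) : y = 1 := by
  obtain ⟨s, rfl⟩ := QuotientGroup.mk_surjective y
  rw [conj_mkSp] at h
  obtain ⟨c, hc⟩ := (cS_eq_one_iff hm _).mp h
  refine (QuotientGroup.eq_one_iff s).mpr (Subgroup.mem_center_iff.mpr (fun g => Subtype.ext ?_))
  have h1 : (s : Matrix (Fin m ⊕ Fin m) (Fin m ⊕ Fin m) F) = (c : F) • 1 := by
    rw [← coe_spGSp, hc, coe_sI']
  show (g : Matrix (Fin m ⊕ Fin m) (Fin m ⊕ Fin m) F) * s = s * g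
  rw [h1, Matrix.mul_smul, Matrix.smul_mul, Matrix.mul_one, Matrix.one_mul]

theorem center_PSp (hm : 2 ≤ m) : Subgroup.center (PSp m F) = ⊥ := by
  rw [eq_bot_iff]
  intro y hy
  apply conj_eq_one_PSp hm
  ext z
  rw [MulAut.conj_apply, MulAut.one_apply, Subgroup.mem_center_iff.mp hy z |>.symm, mul_inv_cancel_right]

theorem jS_spT (j : F₀ →+* F) (u : Fin m ⊕ Fin m → F₀) : jS m j (spGSp m F₀ (spT u 1)) = spGSp m F (spT (jV j u) 1) := by
  apply Subtype.ext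
  apply Units.ext
  apply Matrix.ext_of_mulVec_single
  intro i
  show (jI _ j (spGSp m F₀ (spT u 1) : GL (Fin m ⊕ Fin m) F₀) : Matrix (Fin m ⊕ Fin m) (Fin m ⊕ Fin m) F) *ᵥ Pi.single i 1 = (spT (jV j u) 1 : Matrix (Fin m ⊕ Fin m) (Fin m ⊕ Fin m) F) *ᵥ Pi.single i 1
  rw [← jV_single j i, jI_mulVec, coe_spGSp, spT_mulVec, spT_mulVec, jV_add, jV_smul, sympB_jV, one_mul, one_mul]

theorem muS_spGSp (hm : 1 ≤ m) (s : Matrix.symplecticGroup (Fin m) F) : muS hm (spGSp m F s) = 1 := by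
  apply Units.ext
  exact muS_unique hm _ _ (fun u v => by
    rw [Units.val_one, one_mul]
    exact mem_Sp_iff.mp s.2 u v)

theorem fix_spT (hm : 2 ≤ m) (hm1 : 1 ≤ m) {j : F₀ →+* F} {c : MulAut (PSp m F)} (hc : ∀ l ∈ Lz hm1 j, c * l = l * c) (u : Fin m ⊕ Fin m → F₀) :
    c (QuotientGroup.mk (spT (jV j u) 1)) = QuotientGroup.mk (spT (jV j u) 1) := by
  have h1 : MulAut.conj (QuotientGroup.mk (spT (jV j u) 1) : PSp m F) ∈ Lz hm1 j := by
    refine ⟨spGSp m F₀ (spT u 1), muS_spGSp hm1 _, ?_⟩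
    rw [MonoidHom.comp_apply, jS_spT, conj_mkSp]
  have h2 := hc _ h1
  have h3 : MulAut.conj (c (QuotientGroup.mk (spT (jV j u) 1) : PSp m F)) = MulAut.conj (QuotientGroup.mk (spT (jV j u) 1) : PSp m F) := by
    have h4 : ∀ k : PSp m F, MulAut.conj (c k) = c * MulAut.conj k * c⁻¹ := by
      intro k
      ext x
      rw [MulAut.mul_apply, MulAut.mul_apply, MulAut.conj_apply, MulAut.conj_apply, map_mul, map_mul, map_inv]
      congr 2
      rw [← MulAut.mul_apply, mul_inv_cancel, MulAut.one_apply]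
    rw [h4, h2, mul_inv_cancel_right]
  have h5 : MulAut.conj (c (QuotientGroup.mk (spT (jV j u) 1) : PSp m F) * (QuotientGroup.mk (spT (jV j u) 1) : PSp m F)⁻¹) = 1 := by
    rw [map_mul, h3, map_inv, mul_inv_cancel]
  exact mul_inv_eq_one.mp (conj_eq_one_PSp hm h5)

/-- an automorphism fixing one transvection is transvection preserving (char 2) -/
theorem tp_of_fix [Finite F] (hm1 : 1 ≤ m) (h2 : (2 : F) = 0) {c : MulAut (PSp m F)} {u : Fin m ⊕ Fin m → F} (hu : u ≠ 0)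
    {w : Fin m ⊕ Fin m → F} (hw : w ≠ 0) {b : F}
    (h : c (QuotientGroup.mk (spT u 1)) = QuotientGroup.mk (spT w b)) : (pspPol m F hm1).TP c := by
  have hC := ttype_Sp (F := F) hm1 h2
  have hX : ∀ (e : Fin m ⊕ Fin m → F) (z : F), (pspPol m F hm1).X e 0 z = spT e z := by
    intro e z
    apply pv_ext
    intro v
    have h3 := hC.Z_act e z v
    have h4 : (pspPol m F hm1).act ((pspPol m F hm1).X e 0 z) v = pv ((pspPol m F hm1).X e 0 z) v := rfl
    rw [← h4, h3]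
    unfold pv
    rw [spT_mulVec, mul_comm]
    congr 3
    exact hC.sym e v
  intro e he y hy hy1
  obtain ⟨z, rfl⟩ := hC.mem_Zs'.mp hy
  rw [hX] at hy1 ⊢
  obtain ⟨d, hd⟩ : IsSquare z := by
    haveI := Fintype.ofFinite F
    haveI : CharP F 2 := CharTwo.of_one_ne_zero_of_two_eq_zero one_ne_zero h2
    exact FiniteField.isSquare_of_char_two (ringChar.eq F 2) _
  have hz : z = d ^ 2 * 1 := by rw [hd]; ring
  have hd0 : d ≠ 0 := by
    rintro rfl
    rw [hd, mul_zero, spT_zero, map_one] at hy1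
    exact hy1 rfl
  rw [hz, ← spT_smul]
  obtain ⟨k, hk⟩ := sp_trans hu (smul_ne_zero hd0 he)
  obtain ⟨k', hk'⟩ := QuotientGroup.mk_surjective (c (QuotientGroup.mk k))
  refine ⟨(k' : Matrix (Fin m ⊕ Fin m) (Fin m ⊕ Fin m) F) *ᵥ w, sp_mulVec_ne_zero k' hw, ?_⟩
  refine hC.mem_Zs'.mpr ⟨b, ?_⟩
  rw [hX, ← hk, ← spT_conj, ← spT_conj]
  show c (QuotientGroup.mk (k * spT u 1 * k⁻¹)) = QuotientGroup.mk (k' * spT w b * k'⁻¹)
  rw [QuotientGroup.mk_mul, QuotientGroup.mk_mul, QuotientGroup.mk_inv, QuotientGroup.mk_mul, QuotientGroup.mk_mul, QuotientGroup.mk_inv,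
    map_mul, map_mul, map_inv, ← hk', h]

theorem Lz_cent [Finite F] (hm : 2 ≤ m) (hm1 : 1 ≤ m) (hs : m = 2 → ∃ a : F, a ≠ 0 ∧ a ≠ 1) {τ : F ≃+* F} {j : F₀ →+* F}
    (hj : ∀ x, τ x = x ↔ ∃ y, j y = x) {c : MulAut (PSp m F)} (hc : ∀ l ∈ Lz hm1 j, c * l = l * c) :
    c ∈ Subgroup.zpowers (fS m F τ) := by
  haveI : Nontrivial (Fin m ⊕ Fin m) := by
    refine ⟨Sum.inl ⟨0, by omega⟩, Sum.inr ⟨0, by omega⟩, by simp⟩
  obtain ⟨u0, hu0⟩ : ∃ u0 : Fin m ⊕ Fin m → F₀, u0 ≠ 0 := ⟨Pi.single (Sum.inl ⟨0, by omega⟩) 1, by simp⟩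
  obtain ⟨g, σ, rfl⟩ : ∃ (g : GSp m F) (σ : F ≃+* F), c = cS m F g * fS m F σ := by
    by_cases h2 : (2 : F) = 0
    · have h1 := fix_spT hm hm1 hc u0
      apply aut_of_tp hm hm1 hs h2
      · exact tp_of_fix hm1 h2 (jV_ne_zero j hu0) (jV_ne_zero j hu0) h1
      · apply tp_of_fix hm1 h2 (jV_ne_zero j hu0) (jV_ne_zero j hu0) (b := 1)
        apply c.injective
        rw [h1, ← MulAut.mul_apply, mul_inv_cancel, MulAut.one_apply]
    · exact aut_PSp hm h2 c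
  obtain ⟨h1, d, h2⟩ := eig_rat (j := j) (g : GL (Fin m ⊕ Fin m) F) σ (by
    intro w
    by_cases hw : w = 0
    · refine ⟨0, ?_⟩
      rw [hw, jV_zero, smul_zero]
      have : svI σ (0 : Fin m ⊕ Fin m → F) = 0 := by ext i; simp [svI]
      rw [this, Matrix.mulVec_zero]
    · exact eig_of_fix hm g σ (jV_ne_zero j hw) (fix_spT hm hm1 hc w))
  have h3 : cS m F g = 1 := (cS_eq_one_iff hm g).mpr ⟨d, h2⟩
  rw [h3, one_mul]
  obtain ⟨k, hk⟩ := mem_zpowers_of_fix (τ := τ) (σ := σ) (by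
    intro x hx
    obtain ⟨y, rfl⟩ := (hj x).mp hx
    exact h1 y)
  refine ⟨k, ?_⟩
  show (fS m F τ) ^ k = _
  have hk' : τ ^ k = σ := hk
  rw [← map_zpow, hk']

end Cfsg.Agent.H17
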