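import Mathlib
import Cfsg.Agent.H17.SpBal3

set_option autoImplicit false

/-! Local balance for symplectic groups: divisibility. -/

namespace Cfsg.Agent.H17

open Module Cfsg Cfsg.Agent.H5
open scoped MatrixGroups Matrix LinearAlgebra.Projectivization

variable {F F₀ : Type*} [Field F] [Field F₀] {m : ℕ}

/-- `Sp → GSp` as a homomorphism -/
def spH (m : ℕ) (F : Type*) [Field F] : Matrix.symplecticGroup (Fin m) F →* GSp m F where
  toFun := spGSp m F
  map_one' := Subtype.ext (Units.ext rfl)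
  map_mul' _ _ := Subtype.ext (Units.ext rfl)

theorem exists_spH_of_mu (hm : 1 ≤ m) {h : GSp m F} (hh : muS hm h = 1) : ∃ s, spH m F s = h := by
  refine ⟨⟨((h : GL (Fin m ⊕ Fin m) F) : Matrix _ _ F), mem_Sp_iff.mpr (fun u v => ?_)⟩, Subtype.ext (Units.ext rfl)⟩
  rw [muS_spec hm, hh, Units.val_one, one_mul]

theorem mk_eq_one_iff_Sp (hm : 2 ≤ m) (s : Matrix.symplecticGroup (Fin m) F) :
    (QuotientGroup.mk s : PSp m F) = 1 ↔ ∃ c : Fˣ, (spGSp m F s : GL (Fin m ⊕ Fin m) F) = sI _ c := by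
  rw [← cS_eq_one_iff hm, ← conj_mkSp]
  constructor
  · intro h; rw [h, map_one]
  · exact conj_eq_one_PSp hm

/-- the embedding `PSp(F₀) → Aut PSp(F)` -/
theorem exists_psi (hm : 2 ≤ m) (hm1 : 1 ≤ m) (j : F₀ →+* F) :
    ∃ ψ : PSp m F₀ →* MulAut (PSp m F), (∀ s, ψ (QuotientGroup.mk s) = cS m F (jS m j (spGSp m F₀ s))) ∧ Function.Injective ψ ∧ ψ.range = Lz hm1 j := by
  have hker : ∀ s : Matrix.symplecticGroup (Fin m) F₀, (cS m F).comp ((jS m j).comp (spH m F₀)) s = 1 ↔ (QuotientGroup.mk s : PSp m F₀) = 1 := by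
    intro s
    rw [mk_eq_one_iff_Sp hm, MonoidHom.comp_apply, MonoidHom.comp_apply, cS_eq_one_iff hm]
    constructor
    · rintro ⟨c, hc⟩
      haveI : Nonempty (Fin m ⊕ Fin m) := ⟨Sum.inl ⟨0, by omega⟩⟩
      exact jI_eq_sI (j := j) (h := (spGSp m F₀ s : GL (Fin m ⊕ Fin m) F₀)) hc
    · rintro ⟨c, hc⟩
      refine ⟨Units.map (j : F₀ →* F) c, ?_⟩
      show jI _ j (spGSp m F₀ s : GL (Fin m ⊕ Fin m) F₀) = _
      rw [hc, jI_sI]
  refine ⟨QuotientGroup.lift _ ((cS m F).comp ((jS m j).comp (spH m F₀))) (fun s hs => (hker s).mpr ((QuotientGroup.eq_one_iff s).mpr hs)),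
    fun s => rfl, ?_, ?_⟩
  · rw [injective_iff_map_eq_one]
    intro y hy
    obtain ⟨s, rfl⟩ := QuotientGroup.mk_surjective y
    exact (hker s).mp hy
  · ext y
    constructor
    · rintro ⟨x, rfl⟩
      obtain ⟨s, rfl⟩ := QuotientGroup.mk_surjective x
      exact ⟨spGSp m F₀ s, muS_spGSp hm1 s, rfl⟩
    · rintro ⟨h, hh, rfl⟩
      obtain ⟨s, rfl⟩ := exists_spH_of_mu hm1 (h := h) hh
      exact ⟨QuotientGroup.mk s, rfl⟩

theorem two_dvd_PSp [Finite F] (hm : 2 ≤ m) : 2 ∣ Nat.card (PSp m F) := by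
  have h1 : (QuotientGroup.mk (SymplecticGroup.symJ (Fin m) F) : PSp m F) ≠ 1 := by
    rw [ne_eq, mk_eq_one_iff_Sp hm]
    rintro ⟨c, hc⟩
    have h2 := congrArg (fun g : GL (Fin m ⊕ Fin m) F => (g : Matrix (Fin m ⊕ Fin m) (Fin m ⊕ Fin m) F)) hc
    have h2' : ((spGSp m F (SymplecticGroup.symJ (Fin m) F) : GL (Fin m ⊕ Fin m) F) : Matrix (Fin m ⊕ Fin m) (Fin m ⊕ Fin m) F) = (sI _ c : GL (Fin m ⊕ Fin m) F) := h2
    rw [coe_spGSp, coe_sI'] at h2'
    replace h2 := h2'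
    have h3 := congrFun (congrFun h2 (Sum.inr ⟨0, by omega⟩)) (Sum.inl ⟨0, by omega⟩)
    simp [SymplecticGroup.symJ, Matrix.J] at h3
  have h2 : (QuotientGroup.mk (SymplecticGroup.symJ (Fin m) F) : PSp m F) ^ 2 = 1 := by
    rw [pow_two, ← QuotientGroup.mk_mul, QuotientGroup.eq_one_iff, Subgroup.mem_center_iff]
    intro g
    apply Subtype.ext
    show (g : Matrix (Fin m ⊕ Fin m) (Fin m ⊕ Fin m) F) * (Matrix.J (Fin m) F * Matrix.J (Fin m) F) = (Matrix.J (Fin m) F * Matrix.J (Fin m) F) * g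
    rw [Matrix.J_squared, mul_neg, neg_mul, mul_one, one_mul]
  haveI : Fact (Nat.Prime 2) := ⟨Nat.prime_two⟩
  rw [← orderOf_eq_prime h2 h1]
  exact orderOf_dvd_natCard _

/-- normal subgroups of `Sp_{2m}(2)` are transitive on points -/
theorem fifteen_dvd [Finite F] (hm : 1 ≤ m) (hF : Nat.card F = 2) (N : Subgroup (Matrix.symplecticGroup (Fin m) F)) [N.Normal] (hN : N ≠ ⊥) :
    (2 ^ (2 * m) - 1) ∣ Nat.card N := by
  letI := spAct m F
  haveI := sp_isPreprimitive (F := F) hm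
  haveI : Nontrivial (Fin m ⊕ Fin m) := ⟨Sum.inl ⟨0, by omega⟩, Sum.inr ⟨0, by omega⟩, by simp⟩
  have hcardP : Nat.card (ℙ F (Fin m ⊕ Fin m → F)) = 2 ^ (2 * m) - 1 := by
    have h1 := Projectivization.card'' F (Fin m ⊕ Fin m → F)
    rw [h1, hF, Nat.card_fun, hF]
    simp [two_mul]
  have hfix : MulAction.fixedPoints N (ℙ F (Fin m ⊕ Fin m → F)) ≠ .univ := by
    intro h
    apply hN
    rw [eq_bot_iff]
    intro n hn
    rw [Subgroup.mem_bot]
    apply Subtype.ext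
    apply Matrix.ext_of_mulVec_single
    intro i
    have hne : (Pi.single i (1 : F) : Fin m ⊕ Fin m → F) ≠ 0 := by simp
    have h1 : Projectivization.mk F _ hne ∈ MulAction.fixedPoints N (ℙ F (Fin m ⊕ Fin m → F)) := by rw [h]; trivial
    have h2 := MulAction.mem_fixedPoints.mp h1 ⟨n, hn⟩
    have h3 : n • Projectivization.mk F _ hne = Projectivization.mk F _ hne := h2
    rw [spAct_mk n hne (sp_mulVec_ne_zero n hne), Projectivization.mk_eq_mk_iff] at h3
    obtain ⟨a, ha⟩ := h3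
    have ha1 : a = 1 := by
      have h4 : Nat.card Fˣ = 1 := by
        haveI := Fintype.ofFinite F
        rw [Nat.card_units, hF]
      haveI : Subsingleton Fˣ := (Nat.card_eq_one_iff_unique.mp h4).1
      exact Subsingleton.elim _ _
    rw [ha1, one_smul] at ha
    rw [← ha]
    exact (Matrix.one_mulVec _).symm
  haveI := MulAction.IsQuasiPreprimitive.isPretransitive_of_normal hfix
  obtain ⟨x⟩ : Nonempty (ℙ F (Fin m ⊕ Fin m → F)) := by
    have hne : (Pi.single (Sum.inl ⟨0, by omega⟩) (1 : F) : Fin m ⊕ Fin m → F) ≠ 0 := by simp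
    exact ⟨Projectivization.mk F _ hne⟩
  have h1 := MulAction.index_stabilizer_of_transitive (G := N) x
  rw [hcardP] at h1
  rw [← h1]
  exact Subgroup.index_dvd_card _

end Cfsg.Agent.H17
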