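import Mathlib
import Cfsg.Agent.H17.Tri4
import Cfsg.Agent.H17.PolO4

set_option autoImplicit false

/-! Images of root groups in dimension eight. -/

namespace Cfsg.Agent.H17.Pol

variable {F V G PG : Type*} [Field F] [AddCommGroup V] [Module F V] [Group G] [Group PG]
  {O : Pol F V G PG} {e f : V}

theorem exists_image_O' [Finite V] [Finite G] (p : ℕ) [Fact p.Prime] [CharP F p] (hb : O.Big) (hO : O.OType) (h4 : O.Big4)
    (hs : O.SingW) (h : O.Hyp e f) (α : MulAut PG) :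
    ∃ g0 : G, im (MulAut.conj (O.pr g0)⁻¹ * α) (O.Qs e) = O.Qs e ∨ ∃ R : Submodule F V, (∀ x ∈ R, O.N x = 0) ∧
      (∀ u v, (∀ r ∈ R, O.B r u = 0) → (∀ r ∈ R, O.B r v = 0) → O.B u v = 0) ∧ im (MulAut.conj (O.pr g0)⁻¹ * α) (O.Qs e) = (O.ZG R).map O.pr := by
  have : Finite PG := Finite.of_surjective _ O.pr_surj
  obtain ⟨P, hP⟩ := (isPGroup_QG (O := O) p h.e0).exists_le_sylow
  have hPe : ∀ g ∈ (P : Subgroup G), O.act g e = e := fun g hg => fixes_e p hb h.ept P.2 hP hg
  let P1 : Sylow p PG := P.mapSurjective O.pr_surj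
  have hP1 : (P1 : Subgroup PG) = (P : Subgroup G).map O.pr := Sylow.coe_mapSurjective _ _
  obtain ⟨y, hy⟩ := MulAction.exists_smul_eq PG P1 (α • P1)
  have hy' : cj y (P1 : Subgroup PG) = im α (P1 : Subgroup PG) := by
    have h1 := congrArg (fun S : Sylow p PG => (S : Subgroup PG)) hy
    exact h1
  obtain ⟨g0, rfl⟩ := O.pr_surj y
  obtain ⟨α', hα'⟩ : ∃ α' : MulAut PG, α' = MulAut.conj (O.pr g0)⁻¹ * α := ⟨_, rfl⟩
  have himP : im α' (P1 : Subgroup PG) = P1 := by
    rw [hα', im_mul, ← hy', im_conj, ← cj_mul, inv_mul_cancel, cj_one]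
  refine ⟨g0, ?_⟩
  rw [← hα']
  clear_value P1
  have hQP : O.Qs e ≤ P1 := by
    rw [hP1, ← map_QG h.e0]
    exact Subgroup.map_mono hP
  have hlift : ∀ y ∈ (P1 : Subgroup PG), ∃ g ∈ (P : Subgroup G), O.pr g = y := by
    intro y hy
    rw [hP1] at hy
    exact hy
  obtain ⟨K, hK⟩ : ∃ K, K = im α' (O.Qs e) := ⟨_, rfl⟩
  rw [← hK]
  have hKP : K ≤ P1 := by
    rw [hK, ← himP]
    exact Subgroup.map_mono hQP
  have hPQ : ∀ y ∈ (P1 : Subgroup PG), cj y (O.Qs e) = O.Qs e := by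
    intro y hy
    obtain ⟨g, hg, rfl⟩ := hlift y hy
    exact (cj_Qs_iff hb h.ept g).mpr ⟨1, by rw [one_smul]; exact hPe g hg⟩
  have hPK : ∀ y ∈ (P1 : Subgroup PG), cj y K = K := by
    intro y hy
    rw [← himP] at hy
    obtain ⟨x, hx, rfl⟩ := hy
    rw [hK]
    change cj (α' x) (im α' (O.Qs e)) = _
    rw [← im_cj, hPQ x hx]
  have hcent : ∀ y, (∀ x ∈ K, y * x = x * y) → y ∈ K := by
    intro y hy
    obtain ⟨z, rfl⟩ := α'.surjective y
    rw [hK]
    refine ⟨z, cent_Qs hb hO h (fun x hx => ?_), rfl⟩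
    have h1 := hy (α' x) (by rw [hK]; exact ⟨x, hx, rfl⟩)
    rw [← map_mul, ← map_mul] at h1
    exact α'.injective h1
  have hmin : ∀ K1 : Subgroup PG, K1 ≤ K → (∀ y, cj y K = K → cj y K1 ≤ K1) → K1 ≠ ⊥ → K1 = K := by
    intro K1 hK1 hN hne
    have h1 : ∀ L : Subgroup PG, im α' (im α'⁻¹ L) = L := fun L => by rw [← im_mul, mul_inv_cancel, im_one]
    have h2 : im α'⁻¹ K1 = O.Qs e := by
      apply Qs_min hO h4 hs h
      · have h3 : im α'⁻¹ K1 ≤ im α'⁻¹ K := Subgroup.map_mono hK1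
        rw [hK, ← im_mul, inv_mul_cancel, im_one] at h3
        exact h3
      · intro g hg
        have h3 := (cj_Qs_iff hb h.ept g).mpr hg
        have h4 : cj (α' (O.pr g)) K = K := by rw [hK, ← im_cj, h3]
        have h5 := hN _ h4
        have h6 : im α'⁻¹ (cj (α' (O.pr g)) K1) ≤ im α'⁻¹ K1 := Subgroup.map_mono h5
        rw [im_cj] at h6
        have h7 : α'⁻¹ (α' (O.pr g)) = O.pr g := by rw [← MulAut.mul_apply, inv_mul_cancel, MulAut.one_apply]
        rwa [h7] at h6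
      · intro h0
        apply hne
        rw [← h1 K1, h0]
        exact Subgroup.map_bot _
    rw [← h1 K1, h2, hK]
  have hcard : Nat.card K = Nat.card (O.Qs e) := by
    rw [hK]
    exact (Nat.card_congr (Subgroup.equivMapOfInjective (O.Qs e) _ α'.injective).toEquiv).symm
  have hQne : O.Qs e ≠ ⊥ := by
    intro h0
    obtain ⟨y, hy, hy1⟩ := exists_Qs_ne_one hb h.ept
    rw [h0, Subgroup.mem_bot] at hy
    exact hy1 hy
  have hKne : K ≠ ⊥ := by
    intro h0
    rw [h0, Subgroup.card_bot] at hcard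
    exact hQne (Subgroup.card_eq_one.mp hcard.symm)
  -- fixed space of the lift of `K`
  let V0 : Submodule F V :=
    { carrier := {v | ∀ g ∈ (P : Subgroup G), O.pr g ∈ K → O.act g v = v}
      zero_mem' := fun g _ _ => map_zero _
      add_mem' := fun {a b} ha hb g hg hgK => by rw [map_add, ha g hg hgK, hb g hg hgK]
      smul_mem' := fun c v hv g hg hgK => by rw [map_smul, hv g hg hgK] }
  have hV0 : ∀ v, v ∈ V0 ↔ ∀ g ∈ (P : Subgroup G), O.pr g ∈ K → O.act g v = v := fun v => Iff.rfl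
  have heV : e ∈ V0 := fun g hg _ => hPe g hg
  have hNV : ∀ g, cj (O.pr g) K = K → ∀ v ∈ V0, O.act g v ∈ V0 := by
    intro g hg v hv k hk hkK
    have h1 : O.pr (g⁻¹ * k * g) ∈ K := by
      have h2 := conj_mem_of_cj (cj_inv_eq hg) hkK
      rw [map_mul, map_mul, map_inv]
      rwa [inv_inv] at h2
    obtain ⟨k', hk', hpk⟩ := hlift _ (hKP h1)
    have hk'v : O.act k' v = v := hv k' hk' (by rw [hpk]; exact h1)
    obtain ⟨c, hc⟩ := (O.pr_eq _ _).mp hpk.symm
    have hcn : ∀ n : ℕ, ∀ x, O.act ((g⁻¹ * k * g) ^ n) x = c ^ n • O.act (k' ^ n) x := by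
      intro n
      induction n with
      | zero => intro x; rw [pow_zero, pow_zero, pow_zero, one_smul]
      | succ n ih =>
        intro x
        rw [pow_succ, act_mul, hc, act_smul', ih, smul_smul, pow_succ k', act_mul, ← pow_succ']
    obtain ⟨a, ha⟩ := P.2 ⟨k, hk⟩
    obtain ⟨b, hb⟩ := P.2 ⟨k', hk'⟩
    have ha' : k ^ (p ^ a) = 1 := congrArg Subtype.val ha
    have hb' : k' ^ (p ^ b) = 1 := congrArg Subtype.val hb
    have hc1 : c ^ (p ^ (a + b)) = 1 := by
      have h2 := hcn (p ^ (a + b)) e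
      have h3 : (g⁻¹ * k * g) ^ (p ^ (a + b)) = 1 := by
        rw [pow_add, pow_mul]
        have h4 : (g⁻¹ * k * g) ^ (p ^ a) = 1 := by
          have h5 : g⁻¹ * k * g = g⁻¹ * k * (g⁻¹)⁻¹ := by rw [inv_inv]
          rw [h5, conj_pow, ha', mul_one, mul_inv_cancel]
        rw [h4, one_pow]
      have h4 : k' ^ (p ^ (a + b)) = 1 := by rw [add_comm, pow_add, pow_mul, hb', one_pow]
      rw [h3, h4, act_one] at h2
      have h5 : (1 - c ^ (p ^ (a + b))) • e = 0 := by rw [sub_smul, one_smul, sub_eq_zero]; exact h2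
      exact (sub_eq_zero.mp ((smul_eq_zero.mp h5).resolve_right h.ene)).symm
    have hc2 : c = 1 := by
      have h2 := sub_pow_char_pow (R := F) (p := p) c 1 (n := a + b)
      rw [hc1, one_pow, sub_self] at h2
      exact sub_eq_zero.mp (pow_eq_zero_iff (pow_ne_zero _ (Fact.out : p.Prime).ne_zero) |>.mp h2)
    have h2 := hc v
    rw [hc2, one_smul, hk'v, act_mul, act_mul] at h2
    have h3 := congrArg (O.act g) h2
    rw [act_act_inv] at h3
    exact h3
  let U : Submodule F V :=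
    { carrier := {v | ∀ u ∈ V0, O.B v u = 0}
      zero_mem' := fun u _ => O.bl_zero u
      add_mem' := fun {a b} ha hb u hu => by rw [O.bl_add, ha u hu, hb u hu, add_zero]
      smul_mem' := fun c v hv u hu => by rw [O.bl_smul, hv u hu, mul_zero] }
  have hNU : ∀ g, cj (O.pr g) K = K → ∀ v ∈ U, O.act g v ∈ U := by
    intro g hg v hv u hu
    rw [O.B_act_left]
    refine hv _ (hNV g⁻¹ ?_ u hu)
    rw [map_inv]
    exact cj_inv_eq hg
  have hPcj : ∀ g ∈ (P : Subgroup G), cj (O.pr g) K = K := by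
    intro g hg
    apply hPK
    rw [hP1]
    exact ⟨g, hg, rfl⟩
  have heU : e ∈ U := by
    obtain ⟨⟨y, hy⟩, hy1'⟩ := Subgroup.ne_bot_iff_exists_ne_one.mp hKne
    have hy1 : y ≠ 1 := fun h0 => hy1' (Subtype.ext h0)
    obtain ⟨k, hk, rfl⟩ := hlift y (hKP hy)
    obtain ⟨v, hv⟩ : ∃ v, O.act k v ≠ v := by
      by_contra hcon
      push Not at hcon
      apply hy1
      have : k = 1 := O.act_inj _ _ (fun x => by rw [hcon x, act_one])
      rw [this, map_one]
    have hvU : O.act k v - v ∈ U := by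
      intro u hu
      have hku : O.act k u = u := hu k hk hy
      rw [O.bl_sub, sub_eq_zero]
      conv_lhs => rw [← hku]
      rw [O.act_B]
    have hvn : (⟨_, hvU⟩ : U) ≠ 0 := fun h0 => hv (sub_eq_zero.mp (congrArg Subtype.val h0))
    letI : MulAction P U :=
      { smul := fun g x => ⟨O.act (g : G) x, hNU g (hPcj g g.2) x x.2⟩
        one_smul := fun x => Subtype.ext (act_one (x : V))
        mul_smul := fun g k x => by
          apply Subtype.ext
          change O.act ((g : G) * (k : G)) (x : V) = O.act (g : G) (O.act (k : G) (x : V))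
          exact act_mul _ _ _ }
    have h0 : (0 : U) ∈ MulAction.fixedPoints P U := fun g => Subtype.ext (map_zero (O.act (g : G)))
    obtain ⟨x, hx, hx0⟩ := P.2.exists_fixed_point_of_prime_dvd_card_of_fixed_point U (dvd_card (F := F) p hvn) h0
    obtain ⟨c, hc⟩ := fixed_mem hb h.ept (v := (x : V)) (fun g hg => congrArg Subtype.val (hx ⟨g, hP hg⟩))
    have hc0 : c ≠ 0 := by
      rintro rfl
      rw [zero_smul] at hc
      exact hx0 (Subtype.ext hc.symm)
    have h1 : e = c⁻¹ • (x : V) := by rw [hc, smul_smul, inv_mul_cancel₀ hc0, one_smul]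
    rw [h1]
    exact U.smul_mem _ x.2
  let R : Submodule F V :=
    { carrier := {v | v ∈ V0 ∧ v ∈ U ∧ O.N v = 0}
      zero_mem' := ⟨V0.zero_mem, U.zero_mem, O.N_zero⟩
      add_mem' := fun {a b} ha hb => ⟨V0.add_mem ha.1 hb.1, U.add_mem ha.2.1 hb.2.1, by
        rw [hO.add, ha.2.2, hb.2.2, ha.2.1 b hb.1]; ring⟩
      smul_mem' := fun c v hv => ⟨V0.smul_mem c hv.1, U.smul_mem c hv.2.1, O.N_smul_zero c hv.2.2⟩ }
  have hRs : ∀ x ∈ R, O.N x = 0 := fun x hx => hx.2.2
  have heR : e ∈ R := ⟨heV, heU, h.e0⟩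
  have hNR : ∀ g, cj (O.pr g) K = K → ∀ v ∈ R, O.act g v ∈ R := fun g hg v hv =>
    ⟨hNV g hg v hv.1, hNU g hg v hv.2.1, by rw [O.act_N]; exact hv.2.2⟩
  clear_value R
  by_cases hcase : ∃ x ∈ R, ¬ ∃ c : F, x = c • e
  · right
    obtain ⟨x, hx, hxe⟩ := hcase
    obtain ⟨ZR, hZR⟩ : ∃ ZR, ZR = (O.ZG R).map O.pr := ⟨_, rfl⟩
    have hZp : IsPGroup p ZR := by rw [hZR]; exact (ZG_isPGroup hO p hRs).map _
    have hcjZ : ∀ y, cj y K = K → cj y ZR ≤ ZR := by
      intro y hy
      obtain ⟨g, rfl⟩ := O.pr_surj y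
      rintro _ ⟨z, hz, rfl⟩
      have hz' : z ∈ ZR := hz
      rw [hZR] at hz'
      obtain ⟨k, hk, rfl⟩ := hz'
      rw [hZR]
      exact ⟨_, ZG_conj (hNR g hy) hk, by rw [map_mul, map_mul, map_inv]; rfl⟩
    have hcjZ' : ∀ y, cj y K = K → cj y ZR = ZR := by
      intro y hy
      apply le_antisymm (hcjZ y hy)
      have h1 := cj_mono (y := y) (hcjZ y⁻¹ (cj_inv_eq hy))
      rwa [← cj_mul, mul_inv_cancel, cj_one] at h1
    have hZP : ZR ≤ P1 := by
      have h1 : IsPGroup p ((P1 : Subgroup PG) ⊔ ZR : Subgroup PG) := by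
        apply IsPGroup.to_sup_of_normal_right' P1.2 hZp
        intro y hy
        rw [Subgroup.mem_normalizer_iff]
        intro z
        have h2 := hcjZ' y (hPK y hy)
        constructor
        · exact conj_mem_of_cj h2
        · intro hz
          have h3 := conj_mem_of_cj (cj_inv_eq h2) hz
          have h4 : y⁻¹ * (y * z * y⁻¹) * y⁻¹⁻¹ = z := by group
          rwa [h4] at h3
      have h2 := P1.3 h1 le_sup_left
      exact le_sup_right.trans_eq h2
    have hZne : ZR ≠ ⊥ := by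
      intro h0
      have h1 : O.pr (O.E e x) ∈ ZR := by rw [hZR]; exact ⟨_, E_mem_ZG hO hRs heR hx, rfl⟩
      rw [h0, Subgroup.mem_bot] at h1
      have hok := ok_E hO h.e0 (ts_B hO hRs heR hx)
      exact hxe (X_one_mem hok h.ene (pr_X_eq_one hok h.ene h1))
    have hZcomm : ∀ a ∈ ZR, ∀ b ∈ ZR, a * b = b * a := by
      intro a ha b hb
      rw [hZR] at ha hb
      obtain ⟨a', ha', rfl⟩ := ha
      obtain ⟨b', hb', rfl⟩ := hb
      rw [← map_mul, ← map_mul, ZG_comm hO hRs ha' hb']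
    have hKZ : K ≤ ZR := by
      by_cases hbot : K ⊓ ZR = ⊥
      · exfalso
        apply hZne
        rw [eq_bot_iff, ← hbot]
        intro z hz
        refine ⟨hcent z (fun x hx => ?_), hz⟩
        exact commute_of_inf_bot (fun y hy => hPK y (hZP hy)) (fun y hy => hcjZ' y (hPK y (hKP hy))) hbot hx hz
      · have h1 := hmin (K ⊓ ZR) inf_le_left (by
          intro y hy z hz
          obtain ⟨w, hw, rfl⟩ := hz
          exact ⟨conj_mem_of_cj hy hw.1, conj_mem_of_cj (hcjZ' y hy) hw.2⟩) hbot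
        rw [← h1]
        exact inf_le_right
    have hZK : ZR ≤ K := fun z hz => hcent z (fun x hx => hZcomm z hz x (hKZ hx))
    have hKeq : K = ZR := le_antisymm hKZ hZK
    have hke : ∀ k ∈ O.ZG R, O.act k e = e := fun k hk => hk.2 e (fun r hr => ts_B hO hRs hr heR)
    have hB : ∀ u v, (∀ r ∈ R, O.B r u = 0) → (∀ r ∈ R, O.B r v = 0) → O.B u v = 0 := by
      intro u v hu hv
      have heu := hu e heR
      have h1 : O.pr (O.E e u) ∈ K := by
        apply hcent
        intro z hz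
        rw [hKeq, hZR] at hz
        obtain ⟨k, hk, rfl⟩ := hz
        rw [← map_mul, ← map_mul]
        congr 1
        have h2 := E_conj hO h.e0 heu k
        rw [hke k hk, hk.2 u hu, mul_inv_eq_iff_eq_mul] at h2
        exact h2.symm
      rw [hKeq, hZR] at h1
      obtain ⟨k, hk, hkE⟩ := h1
      have hEe : O.act (O.E e u) e = e := by
        rw [E_act hO h.e0 heu, h.ee, hO.sy e u, heu]; module
      have h2 := pr_inj_St h.ene (hke k hk) hEe hkE
      have h3 := hk.2 v hv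
      rw [h2, E_act hO h.e0 heu, hv e heR] at h3
      have h4 : O.B u v • e = 0 := by
        have h5 : v + (0 : F) • u - (O.N u * 0 + O.B u v) • e = v - O.B u v • e := by module
        rw [h5] at h3
        exact sub_eq_self.mp h3
      exact (smul_eq_zero.mp h4).resolve_right h.ene
    exact ⟨R, hRs, hB, hKeq.trans hZR⟩
  · left
    push Not at hcase
    have hNQ : ∀ y, cj y K = K → cj y (O.Qs e) = O.Qs e := by
      intro y hy
      obtain ⟨g, rfl⟩ := O.pr_surj y
      exact (cj_Qs_iff hb h.ept g).mpr (hcase _ (hNR g hy e heR))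
    have hle : K ≤ O.Qs e := by
      by_cases hbot : K ⊓ O.Qs e = ⊥
      · exfalso
        apply hQne
        rw [eq_bot_iff, ← hbot]
        intro z hz
        refine ⟨hcent z (fun x hx => ?_), hz⟩
        exact commute_of_inf_bot (fun y hy => hPK y (hQP hy)) (fun y hy => hPQ y (hKP hy)) hbot hx hz
      · have h1 := hmin (K ⊓ O.Qs e) inf_le_left (by
          intro y hy z hz
          obtain ⟨w, hw, rfl⟩ := hz
          exact ⟨conj_mem_of_cj hy hw.1, conj_mem_of_cj (hNQ y hy) hw.2⟩) hbot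
        rw [← h1]
        exact inf_le_right
    exact Subgroup.eq_of_le_of_card_ge hle (le_of_eq hcard.symm)


theorem all_induced_of_Qs [Finite V] [Finite G] [Finite F] (p : ℕ) [Fact p.Prime] [CharP F p] (hb : O.Big) (hot : O.OType) (h4 : O.Big4) (hs : O.SingW)
    (hgen : ∀ e f, O.Hyp e f → Subgroup.closure ((O.Qs e : Set PG) ∪ (O.Qs f : Set PG)) = ⊤) (hind : Ind O) (h : O.Hyp e f)
    (α : MulAut PG) (hα : im α (O.Qs e) = O.Qs e) : ∃ S : SemiSim O, Induced S α := by
  have hfe : O.B f e ≠ 0 := by rw [h.fe, hot.eps]; exact one_ne_zero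
  have hpe : O.Pt e := h.ept
  obtain ⟨k, a, b, ha, hb', hka, hkb⟩ := O.trans _ _ _ _ h.ept.sing h.fpt.sing (by rw [h.ef]; exact one_ne_zero) h.f0 h.e0 hfe
  -- `act k e = a • f`
  obtain ⟨k', hk'⟩ := O.pr_surj (α (O.pr k))
  have hQ2 : im α (O.Qs f) = O.Qs (O.act k' e) := by
    have h1 : O.Qs f = cj (O.pr k) (O.Qs e) := by rw [Qs_conj, hka, Qs_smul _ ha]
    rw [h1, im_cj, hα, ← hk', Qs_conj]
  have hpt2 : O.Pt (O.act k' e) := h.ept.act k'
  have hne : O.B e (O.act k' e) ≠ 0 := by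
    intro h0
    obtain ⟨y, hy, hy1, hyf⟩ := (perp_iff hb h.ept hpt2).mp h0
    rw [← hα] at hy
    rw [← hQ2] at hyf
    obtain ⟨x, hx, rfl⟩ := hy
    have h1 : O.B e f = 0 := by
      rw [perp_iff hb h.ept h.fpt]
      refine ⟨x, hx, ?_, ?_⟩
      · rintro rfl
        exact hy1 (map_one _)
      · have h2 : im α (cj x (O.Qs f)) = im α (O.Qs f) := by
          rw [im_cj]; exact hyf
        have h3 : im α⁻¹ (im α (cj x (O.Qs f))) = im α⁻¹ (im α (O.Qs f)) := by rw [h2]
        have h4 : ∀ L : Subgroup PG, im α⁻¹ (im α L) = L := by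
          intro L
          rw [← im_mul, inv_mul_cancel, im_one]
        rwa [h4, h4] at h3
    rw [h.ef] at h1
    exact one_ne_zero h1
  obtain ⟨g, a', b'', ha', hb'', hga, hgb⟩ := O.trans _ _ _ _ h.ept.sing hpt2.sing hne h.e0 h.f0
    (by rw [h.ef]; exact one_ne_zero)
  have hFP : O.FP e f (MulAut.conj (O.pr g) * α) := by
    apply fp_of hot h
    · rw [im_mul, hα, im_conj, Qs_conj, hga, Qs_smul _ ha']
    · rw [im_mul, hQ2, im_conj, Qs_conj, hgb, Qs_smul _ hb'']
  obtain ⟨S, hS⟩ := exists_induced_O p hb hot h4 hs h hind (hgen e f h) hFP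
  refine ⟨S.comp g⁻¹, ?_⟩
  intro k k' hk
  have h1 : ∀ x, O.act (g * k' * g⁻¹) (S.T x) = S.T (O.act k x) := by
    intro x
    have h2 : O.act k' (O.act g⁻¹ (S.T x)) = O.act g⁻¹ (S.T (O.act k x)) := hk x
    rw [act_mul, act_mul, h2, act_act_inv]
  have h3 := hS _ _ h1
  rw [MulAut.mul_apply, MulAut.conj_apply, map_mul, map_mul, map_inv] at h3
  have h4 : O.pr g * α (O.pr k) * (O.pr g)⁻¹ = O.pr g * O.pr k' * (O.pr g)⁻¹ := h3
  exact mul_left_cancel (mul_right_cancel h4)

end Cfsg.Agent.H17.Pol
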